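import Groth.Agent.Lib.Helper29.FlatAscent2
import Groth.Agent.Lib.Helper28.RegularCM
import Mathlib.RingTheory.RegularLocalRing.Polynomial
import Mathlib.RingTheory.TensorProduct.MvPolynomial

/-!
# Polynomial rings over Cohen–Macaulay rings are Cohen–Macaulay
-/

set_option autoImplicit false

namespace Groth.Agent.Lib.Helper82.CMPoly

open Groth.Agent.Lib.Helper29 TensorProduct

universe u

/-- Cohen–Macaulay rings transfer along ring isomorphisms. -/
theorem isCohenMacaulayRing_of_ringEquiv {F G : Type u} [CommRing F] [CommRing G]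
    (e : F ≃+* G) (h : LocCoh.IsCohenMacaulayRing F) : LocCoh.IsCohenMacaulayRing G := by
  have hN : IsNoetherianRing G := isNoetherianRing_of_ringEquiv F e
  refine { isCohenMacaulayLocalRing_localization := fun p hp => ?_ }
  have h1 := h.isCohenMacaulayLocalRing_localization (p.comap e)
  exact isCohenMacaulayLocalRing_of_ringEquiv (IsLocalization.ringEquivOfRingEquiv
    (Localization.AtPrime (p.comap e)) (Localization.AtPrime p) e
    (e.map_primeCompl_comap_eq p)) h1

/-- Regular rings are Cohen–Macaulay. -/
theorem isCohenMacaulayRing_of_isRegularRing (F : Type u) [CommRing F] [IsRegularRing F] :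
    LocCoh.IsCohenMacaulayRing F := by
  refine { isCohenMacaulayLocalRing_localization := fun p hp => ?_ }
  exact Groth.Agent.Lib.Helper28.isCohenMacaulayLocalRing_of_isRegularLocalRing _

theorem isCohenMacaulayRing_mvPolynomial {R : Type u} [CommRing R] [hR : LocCoh.IsCohenMacaulayRing R]
    (n : ℕ) : LocCoh.IsCohenMacaulayRing (MvPolynomial (Fin n) R) := by
  refine isCohenMacaulayRing_of_flat_of_fibers (R := R) hR ?_
  intro p hp
  have hreg : IsRegularRing (MvPolynomial (Fin n) p.ResidueField) :=
    MvPolynomial.isRegularRing_of_isRegularRing _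
  exact isCohenMacaulayRing_of_ringEquiv
    (MvPolynomial.algebraTensorAlgEquiv R p.ResidueField (σ := Fin n)).toRingEquiv.symm
    (isCohenMacaulayRing_of_isRegularRing _)

end Groth.Agent.Lib.Helper82.CMPoly
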