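import Groth.Agent.Lib.Helper93.DepthHom

set_option autoImplicit false
universe u

namespace Groth.Agent.Lib.Helper82.AusBuch

open LocCoh CategoryTheory Abelian IsLocalRing Groth.Agent.Lib.Helper93.Depth

variable {R : Type u} [CommRing R]

section ExtLemmas

/-- Vanishing of `Ext` passes to retracts in the second variable. -/
lemma subsingleton_ext_of_retract {X A B : ModuleCat.{u} R} (s : A ⟶ B) (r : B ⟶ A)
    (h : s ≫ r = 𝟙 A) (i : ℕ) (hB : Subsingleton (Ext X B i)) : Subsingleton (Ext X A i) := by
  have key : ∀ e : Ext X A i,
      e = (e.comp (Ext.mk₀ s) (add_zero i)).comp (Ext.mk₀ r) (add_zero i) := by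
    intro e
    rw [Ext.comp_assoc_of_third_deg_zero, Ext.mk₀_comp_mk₀, h, Ext.comp_mk₀_id]
  refine ⟨fun a b => ?_⟩
  rw [key a, key b, Subsingleton.elim (a.comp (Ext.mk₀ s) (add_zero i))
    (b.comp (Ext.mk₀ s) (add_zero i))]

variable (I : Ideal R)

/-- Maps `R → F` hitting `I F` act as zero on `Ext(R/I, -)`. -/
lemma ext_comp_toSpanSingleton_eq_zero {F : Type u} [AddCommGroup F] [Module R F] (v : F)
    (hv : v ∈ (I • ⊤ : Submodule R F)) {i : ℕ}
    (e : Ext (ModuleCat.of R (R ⧸ I)) (ModuleCat.of R R) i) :
    e.comp (Ext.mk₀ (ModuleCat.ofHom (LinearMap.toSpanSingleton R F v))) (add_zero i) = 0 := by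
  refine Submodule.smul_induction_on hv ?_ ?_
  · intro a ha w _
    have h1 : ModuleCat.ofHom (LinearMap.toSpanSingleton R F (a • w)) =
        a • ModuleCat.ofHom (LinearMap.toSpanSingleton R F w) := by
      ext
      simp [smul_comm]
    rw [h1, Ext.mk₀_smul, Ext.comp_smul]
    apply ext_smul_eq_zero_of_ann_left
    intro z
    obtain ⟨c, rfl⟩ := Ideal.Quotient.mk_surjective z
    change a • (Ideal.Quotient.mk I c) = 0
    rw [Algebra.smul_def, Ideal.Quotient.algebraMap_eq, ← map_mul, Ideal.Quotient.eq_zero_iff_mem]
    exact Ideal.mul_mem_right _ _ ha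
  · intro x y hx hy
    have h1 : ModuleCat.ofHom (LinearMap.toSpanSingleton R F (x + y)) =
        ModuleCat.ofHom (LinearMap.toSpanSingleton R F x) +
          ModuleCat.ofHom (LinearMap.toSpanSingleton R F y) := by
      ext
      simp
    rw [h1, Ext.mk₀_add, Ext.comp_add, hx, hy, add_zero]

/-- A map from a finite free module into `I F` acts as zero on `Ext(R/I, -)`. -/
lemma ext_comp_eq_zero_of_forall_mem {K F : Type u} [AddCommGroup K] [Module R K]
    [Module.Free R K] [Module.Finite R K] [AddCommGroup F] [Module R F] (ι : K →ₗ[R] F)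
    (hι : ∀ x, ι x ∈ (I • ⊤ : Submodule R F)) {i : ℕ}
    (e : Ext (ModuleCat.of R (R ⧸ I)) (ModuleCat.of R K) i) :
    e.comp (Ext.mk₀ (ModuleCat.ofHom ι)) (add_zero i) = 0 := by
  let b := Module.Free.chooseBasis R K
  have : Fintype (Module.Free.ChooseBasisIndex R K) := Module.Free.ChooseBasisIndex.fintype R K
  have hsum : ModuleCat.ofHom ι = ∑ l, ModuleCat.ofHom (b.coord l) ≫
      ModuleCat.ofHom (LinearMap.toSpanSingleton R F (ι (b l))) := by
    ext x
    simp only [ModuleCat.hom_ofHom, ModuleCat.hom_sum, ModuleCat.hom_comp, LinearMap.sum_apply,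
      LinearMap.comp_apply, LinearMap.toSpanSingleton_apply, Module.Basis.coord_apply]
    conv_lhs => rw [← b.sum_repr x, map_sum]
    simp only [map_smul]
  rw [hsum, Ext.mk₀_sum, Ext.comp_sum]
  apply Finset.sum_eq_zero
  intro l _
  rw [← Ext.mk₀_comp_mk₀, ← Ext.comp_assoc_of_third_deg_zero]
  exact ext_comp_toSpanSingleton_eq_zero I _ (hι _) _

end ExtLemmas

section FreeDepth

variable [IsNoetherianRing R] (I : Ideal R)

/-- Depth of a finite free module of positive rank. -/
lemma idealDepth_pi_fin_self (n : ℕ) (hn : 0 < n) :
    idealDepth I (Fin n → R) = idealDepth I R := by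
  apply le_antisymm
  · rw [← ENat.forall_natCast_le_iff_le]
    intro m hm
    rw [natCast_le_idealDepth_iff_ext_quotient] at hm ⊢
    intro i hi
    let j : Fin n := ⟨0, hn⟩
    refine subsingleton_ext_of_retract
      (ModuleCat.ofHom (LinearMap.single R (fun _ : Fin n => R) j))
      (ModuleCat.ofHom (LinearMap.proj j)) ?_ i (hm i hi)
    ext
    simp
  · exact idealDepth_le_pi_fin I R n

lemma idealDepth_of_free (M : Type u) [AddCommGroup M] [Module R M] [Module.Finite R M]
    [Module.Free R M] [Nontrivial M] : idealDepth I M = idealDepth I R := by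
  have : Nontrivial R := Module.nontrivial R M
  let b := Module.finBasis R M
  have hn : 0 < Module.finrank R M := (Module.finrank_pos_iff_of_free R M).2 inferInstance
  rw [idealDepth_congr (I := I) b.equivFun]
  exact idealDepth_pi_fin_self I _ hn

end FreeDepth

section MinPres

variable [IsLocalRing R]

/-- A minimal presentation of a finite module over a local ring. -/
lemma exists_minimal_presentation (M : Type u) [AddCommGroup M] [Module R M] [Module.Finite R M] :
    ∃ (n : ℕ) (π : (Fin n → R) →ₗ[R] M), Function.Surjective π ∧
      LinearMap.ker π ≤ (maximalIdeal R • ⊤ : Submodule R (Fin n → R)) := by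
  let k := ResidueField R
  let V := TensorProduct R k M
  let w := Module.finBasis k V
  have hsurj : Function.Surjective (TensorProduct.mk R k M 1) :=
    TensorProduct.mk_surjective R M k Ideal.Quotient.mk_surjective
  choose v hv using fun i => hsurj (w i)
  have hspan : Submodule.span R (Set.range v) = ⊤ :=
    IsLocalRing.span_eq_top_of_tmul_eq_basis v w hv
  refine ⟨Module.finrank k V, Fintype.linearCombination R v, ?_, ?_⟩
  · rw [← LinearMap.range_eq_top, Fintype.range_linearCombination, hspan]
  · intro a ha
    rw [LinearMap.mem_ker, Fintype.linearCombination_apply] at ha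
    have h1 : ∑ i, (residue R (a i)) • w i = 0 := by
      have h2 := congrArg (TensorProduct.mk R k M 1) ha
      rw [map_sum, map_zero] at h2
      rw [← h2]
      refine Finset.sum_congr rfl fun i _ => ?_
      rw [map_smul, hv i]
      rfl
    have h3 := Fintype.linearIndependent_iff.1 w.linearIndependent _ h1
    have hmem : ∀ i, a i ∈ maximalIdeal R := fun i => by
      have := h3 i
      rwa [residue_eq_zero_iff] at this
    rw [pi_eq_sum_univ' a]
    apply Submodule.sum_mem
    intro i _
    exact Submodule.smul_mem_smul (hmem i) Submodule.mem_top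

end MinPres

section Arith

lemma eq_top_of_top_le_add_one (a : ℕ∞) (h : ⊤ ≤ a + 1) : a = ⊤ := by
  induction a using ENat.recTopCoe with
  | top => rfl
  | coe a =>
    exfalso
    have h1 : ((a + 1 : ℕ) : ℕ∞) = ⊤ := top_le_iff.1 (by exact_mod_cast h)
    exact ENat.natCast_ne_top _ h1

lemma arith_succ (e : ℕ) (he : 1 ≤ e) (a c d : ℕ∞) (h : d = e + c) (hl : min d (a + 1) ≤ c)
    (hr : min (d + 1) c ≤ a + 1) : d = ((e + 1 : ℕ) : ℕ∞) + a := by
  rw [min_le_iff] at hl hr
  induction d using ENat.recTopCoe with
  | top =>
    induction c using ENat.recTopCoe with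
    | top =>
      have : a = ⊤ := by
        rcases hr with hr | hr
        · rw [top_add] at hr
          exact eq_top_of_top_le_add_one a hr
        · exact eq_top_of_top_le_add_one a hr
      rw [this, add_top]
    | coe c =>
      exfalso
      have : ((e + c : ℕ) : ℕ∞) = ⊤ := by rw [h]; push_cast; rfl
      exact ENat.natCast_ne_top _ this
  | coe d =>
    induction c using ENat.recTopCoe with
    | top => rw [add_top] at h; exact absurd h (ENat.natCast_ne_top d)
    | coe c =>
      have h1 : d = e + c := by exact_mod_cast h
      induction a using ENat.recTopCoe with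
      | top =>
        exfalso
        rcases hl with hl | hl
        · have h2 : d ≤ c := by exact_mod_cast hl
          omega
        · rw [top_add, top_le_iff] at hl
          exact ENat.natCast_ne_top _ hl
      | coe a =>
        have h2 : d ≤ c ∨ a + 1 ≤ c := by
          rcases hl with hl | hl
          · left; exact_mod_cast hl
          · right; exact_mod_cast hl
        have h3 : d + 1 ≤ a + 1 ∨ c ≤ a + 1 := by
          rcases hr with hr | hr
          · left; exact_mod_cast hr
          · right; exact_mod_cast hr
        have : d = e + 1 + a := by omega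
        exact_mod_cast this

lemma arith_zero (a d : ℕ∞) (hr : min (d + 1) d ≤ a + 1) (hn : d ≠ ⊤ → ¬ d ≤ a) :
    d = ((0 + 1 : ℕ) : ℕ∞) + a := by
  rw [min_le_iff] at hr
  induction d using ENat.recTopCoe with
  | top =>
    have : a = ⊤ := by
      rcases hr with hr | hr
      · rw [top_add] at hr
        exact eq_top_of_top_le_add_one a hr
      · exact eq_top_of_top_le_add_one a hr
    rw [this, add_top]
  | coe d =>
    have hn' := hn (ENat.natCast_ne_top d)
    induction a using ENat.recTopCoe with
    | top => exact absurd le_top hn'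
    | coe a =>
      have h1 : ¬ d ≤ a := by exact_mod_cast hn'
      have h3 : d + 1 ≤ a + 1 ∨ d ≤ a + 1 := by
        rcases hr with hr | hr
        · left; exact_mod_cast hr
        · right; exact_mod_cast hr
      have : d = 0 + 1 + a := by omega
      exact_mod_cast this

end Arith

section Main

variable [IsLocalRing R] [IsNoetherianRing R]

/-- Key step for projective dimension one. -/
lemma not_le_depth_of_minimal {n : ℕ} {M : Type u} [AddCommGroup M] [Module R M]
    [Module.Finite R M] (π : (Fin n → R) →ₗ[R] M) (hsurj : Function.Surjective π)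
    (hker : LinearMap.ker π ≤ (maximalIdeal R • ⊤ : Submodule R (Fin n → R)))
    [Module.Free R (LinearMap.ker π)] (d : ℕ)
    (hK : depth R (LinearMap.ker π) = d) : ¬ ((d : ℕ∞) ≤ depth R M) := by
  intro hM
  have hS := LinearMap.shortExact_shortComplexKer hsurj
  have hK1 : ((d : ℕ) : ℕ∞) ≤ depth R (LinearMap.ker π) := hK.ge
  have hK2 : ¬ (((d + 1 : ℕ) : ℕ∞) ≤ depth R (LinearMap.ker π)) := by
    rw [hK]
    intro h
    have : d + 1 ≤ d := by exact_mod_cast h
    omega
  unfold depth at hK1 hK2 hM
  rw [natCast_le_idealDepth_iff_ext_quotient] at hK1 hK2 hM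
  -- a nonzero class in degree d
  have hne : ¬ Subsingleton (Ext (ModuleCat.of R (R ⧸ maximalIdeal R))
      (ModuleCat.of R (LinearMap.ker π)) d) := by
    intro hsub
    apply hK2
    intro i hi
    rcases Nat.lt_succ_iff_lt_or_eq.1 hi with h | h
    · exact hK1 i h
    · rw [h]; exact hsub
  rw [not_subsingleton_iff_nontrivial] at hne
  obtain ⟨e₀, he₀⟩ := exists_ne (0 : Ext (ModuleCat.of R (R ⧸ maximalIdeal R))
      (ModuleCat.of R (LinearMap.ker π)) d)
  have hzero : e₀.comp (Ext.mk₀ (π.shortComplexKer).f) (add_zero d) = 0 :=
    ext_comp_eq_zero_of_forall_mem (maximalIdeal R) (LinearMap.ker π).subtype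
      (fun x => hker x.2) e₀
  apply he₀
  cases d with
  | zero =>
    have := hS.mono_f
    apply Ext.postcomp_mk₀_injective_of_mono (ModuleCat.of R (R ⧸ maximalIdeal R))
      (π.shortComplexKer).f
    rw [map_zero]
    exact hzero
  | succ d' =>
    obtain ⟨x₃, hx₃⟩ := Ext.covariant_sequence_exact₁ (ModuleCat.of R (R ⧸ maximalIdeal R)) hS e₀
      hzero rfl
    have hsub := hM d' (Nat.lt_succ_self d')
    have hx0 : x₃ = 0 := Subsingleton.elim _ _
    rw [← hx₃, hx0, Ext.zero_comp]

end Main

section Main2

variable [IsLocalRing R] [IsNoetherianRing R]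

lemma free_of_hasProjectiveDimensionLT_one (M : Type u) [AddCommGroup M] [Module R M]
    [Module.Finite R M] (h : HasProjectiveDimensionLT (ModuleCat.of R M) 1) : Module.Free R M := by
  have hp : Projective (ModuleCat.of R M) := inferInstance
  have : Module.Projective R M := (IsProjective.iff_projective (R := R) M).2 hp
  exact Module.free_of_flat_of_isLocalRing

lemma hasProjectiveDimensionLT_of_subsingleton (M : Type u) [AddCommGroup M] [Module R M]
    [Subsingleton M] (n : ℕ) : HasProjectiveDimensionLT (ModuleCat.of R M) n := by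
  have hz : Limits.IsZero (ModuleCat.of R M) := ModuleCat.isZero_of_subsingleton _
  have := hz.hasProjectiveDimensionLT_zero
  exact hasProjectiveDimensionLT_of_ge _ 0 n (Nat.zero_le n)

theorem auslander_buchsbaum_aux (e : ℕ) : ∀ (M : Type u) [AddCommGroup M] [Module R M]
    [Module.Finite R M] [Nontrivial M],
    HasProjectiveDimensionLT (ModuleCat.of R M) (e + 1) →
    ¬ HasProjectiveDimensionLT (ModuleCat.of R M) e →
    depth R R = (e : ℕ∞) + depth R M := by
  induction e with
  | zero =>
    intro M _ _ _ _ h1 _
    have := free_of_hasProjectiveDimensionLT_one M h1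
    rw [Nat.cast_zero, zero_add]
    exact (idealDepth_of_free (maximalIdeal R) M).symm
  | succ e ih =>
    intro M _ _ _ _ hM1 hM2
    obtain ⟨n, π, hsurj, hker⟩ := exists_minimal_presentation (R := R) M
    have hS := LinearMap.shortExact_shortComplexKer hsurj
    have hproj : Projective (π.shortComplexKer).X₂ := by
      change Projective (ModuleCat.of R (Fin n → R))
      exact (IsProjective.iff_projective (R := R) (Fin n → R)).1 inferInstance
    have hn : 0 < n := by
      rcases Nat.eq_zero_or_pos n with rfl | h
      · exfalso
        have : Subsingleton M := ⟨fun a b => by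
          obtain ⟨x, rfl⟩ := hsurj a
          obtain ⟨y, rfl⟩ := hsurj b
          rw [Subsingleton.elim x y]⟩
        exact not_subsingleton M this
      · exact h
    -- projective dimension of the kernel
    have hK1 : HasProjectiveDimensionLT (ModuleCat.of R (LinearMap.ker π)) (e + 1) :=
      (hS.hasProjectiveDimensionLT_X₃_iff e hproj).1 hM1
    have hK2 : ¬ HasProjectiveDimensionLT (ModuleCat.of R (LinearMap.ker π)) e := by
      intro hK
      cases e with
      | zero =>
        have hz : Limits.IsZero (ModuleCat.of R (LinearMap.ker π)) :=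
          isZero_of_hasProjectiveDimensionLT_zero _
        have hsub : Subsingleton (LinearMap.ker π) := ModuleCat.subsingleton_of_isZero hz
        have hinj : Function.Injective π := by
          rw [← LinearMap.ker_eq_bot]
          exact (Submodule.subsingleton_iff_eq_bot).1 hsub
        apply hM2
        have eq : (Fin n → R) ≃ₗ[R] M := LinearEquiv.ofBijective π ⟨hinj, hsurj⟩
        have : Module.Projective R M := Module.Projective.of_equiv eq
        have : Projective (ModuleCat.of R M) := (IsProjective.iff_projective (R := R) M).1 this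
        infer_instance
      | succ e' =>
        exact hM2 ((hS.hasProjectiveDimensionLT_X₃_iff e' hproj).2 hK)
    have hKnt : Nontrivial (LinearMap.ker π) := by
      by_contra hnt
      rw [not_nontrivial_iff_subsingleton] at hnt
      exact hK2 (hasProjectiveDimensionLT_of_subsingleton _ e)
    have hIH := ih (LinearMap.ker π) hK1 hK2
    have hF : depth R (Fin n → R) = depth R R := idealDepth_pi_fin_self (maximalIdeal R) n hn
    have hex : Function.Exact (LinearMap.ker π).subtype π := LinearMap.exact_subtype_ker_map π
    have hl := min_le_idealDepth_left (maximalIdeal R) (LinearMap.ker π).subtype π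
      (Submodule.subtype_injective _) hex hsurj
    have hr := min_le_idealDepth_right (maximalIdeal R) (LinearMap.ker π).subtype π
      (Submodule.subtype_injective _) hex hsurj
    change min (depth R (Fin n → R)) (depth R M + 1) ≤ depth R (LinearMap.ker π) at hl
    change min (depth R (Fin n → R) + 1) (depth R (LinearMap.ker π)) ≤ depth R M + 1 at hr
    rw [hF] at hl hr
    rcases Nat.eq_zero_or_pos e with rfl | hepos
    · -- projective dimension one
      rw [Nat.cast_zero, zero_add] at hIH
      have hfree : Module.Free R (LinearMap.ker π) := free_of_hasProjectiveDimensionLT_one _ hK1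
      rw [← hIH] at hr
      refine arith_zero (depth R M) (depth R R) hr ?_
      intro hd
      obtain ⟨d, hd'⟩ := ENat.ne_top_iff_exists.1 hd
      rw [← hd']
      exact not_le_depth_of_minimal π hsurj hker d (by rw [← hIH, hd'])
    · exact arith_succ e hepos (depth R M) (depth R (LinearMap.ker π)) (depth R R) hIH hl hr

theorem auslander_buchsbaum (M : Type u) [AddCommGroup M] [Module R M] [Module.Finite R M]
    [Nontrivial M] (e : ℕ) (he : projectiveDimension (ModuleCat.of R M) = e) :
    depth R R = e + depth R M := by
  apply auslander_buchsbaum_aux e M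
  · have : HasProjectiveDimensionLE (ModuleCat.of R M) e := by
      rw [← projectiveDimension_le_iff, he]
    exact this
  · intro h
    rw [← projectiveDimension_lt_iff, he] at h
    exact lt_irrefl _ h

end Main2

end Groth.Agent.Lib.Helper82.AusBuch
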