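import Groth.Agent.Lib.Helper82.DepthGens
import Groth.Agent.Lib.Helper28.RegularCM
import Groth.Agent.Lib.Helper29.DepthCM

/-!
# Height and regular sequences in Cohen–Macaulay local rings

* `height_add_ringKrullDim_quotient_le` : `ht I + dim A/I ≤ dim A`.
* `isWeaklyRegular_of_length_le_height` : in a CM local ring, `n` elements of the maximal ideal
  generating an ideal of height `≥ n` form a regular sequence.
-/

set_option autoImplicit false

namespace Groth.Agent.Lib.Helper82.CMHeight

open LocCoh RingTheory.Sequence Groth.Agent.Lib.Helper29

universe u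

section Height

variable {A : Type u} [CommRing A]

theorem height_add_ringKrullDim_quotient_le (I : Ideal A) :
    ((I.height : ℕ∞) : WithBot ℕ∞) + ringKrullDim (A ⧸ I) ≤ ringKrullDim A := by
  rw [ringKrullDim_quotient]
  by_cases hne : Nonempty (PrimeSpectrum.zeroLocus (I : Set A))
  · rw [Order.krullDim_eq_iSup_coheight_of_nonempty]
    have hne' : Nonempty (PrimeSpectrum A) := ⟨hne.some.1⟩
    have key : ∀ a : PrimeSpectrum.zeroLocus (I : Set A),
        I.height + Order.coheight a ≤ ⨆ b : PrimeSpectrum A, Order.height b + Order.coheight b := by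
      intro a
      have h1 : I.height ≤ Order.height a.1 := by
        rw [← PrimeSpectrum.height_eq_orderHeight]
        exact Ideal.height_mono a.2
      have h2 : Order.coheight a ≤ Order.coheight a.1 :=
        Order.coheight_le_coheight_apply_of_strictMono
          (Subtype.val : PrimeSpectrum.zeroLocus (I : Set A) → PrimeSpectrum A)
          (Subtype.strictMono_coe _) a
      exact le_trans (add_le_add h1 h2) (le_iSup (fun b : PrimeSpectrum A =>
        Order.height b + Order.coheight b) a.1)
    rw [ringKrullDim, Order.krullDim_eq_iSup_height_add_coheight_of_nonempty]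
    rw [← WithBot.coe_add, WithBot.coe_le_coe, ENat.add_iSup]
    exact iSup_le key
  · rw [not_nonempty_iff] at hne
    rw [Order.krullDim_eq_bot, WithBot.add_bot]
    exact bot_le

end Height

section CM

variable {A : Type u} [CommRing A] [IsLocalRing A] [IsNoetherianRing A]

theorem encard_setOf_mem_le_length (xs : List A) : ({x | x ∈ xs} : Set A).encard ≤ xs.length := by
  classical
  have h : ({x | x ∈ xs} : Set A) = (xs.toFinset : Set A) := by
    ext x; simp
  rw [h, Set.encard_coe_eq_coe_finsetCard]
  exact_mod_cast List.toFinset_card_le xs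

/-- In a Cohen–Macaulay local ring, `n` elements of the maximal ideal generating an ideal of height
at least `n` form a regular sequence. -/
theorem isWeaklyRegular_of_length_le_height (hCM : IsCohenMacaulayModule A A) (xs : List A)
    (hxs : ∀ x ∈ xs, x ∈ IsLocalRing.maximalIdeal A)
    (hht : (xs.length : ℕ∞) ≤ (Ideal.ofList xs).height) : IsWeaklyRegular A xs := by
  rw [isWeaklyRegular_iff_supportDim_of_isCohenMacaulayModule A A hCM xs hxs]
  have hI : (Ideal.ofList xs • (⊤ : Submodule A A)) = Ideal.ofList xs := by
    rw [smul_eq_mul, Ideal.mul_top]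
  rw [Module.supportDim_eq_of_equiv (Submodule.quotEquivOfEq _ _ hI),
    Module.supportDim_quotient_eq_ringKrullDim, Module.supportDim_self_eq_ringKrullDim]
  apply le_antisymm
  · have h1 := height_add_ringKrullDim_quotient_le (Ideal.ofList xs)
    refine le_trans ?_ h1
    rw [add_comm]
    gcongr
    exact_mod_cast hht
  · have h2 := ringKrullDim_le_ringKrullDim_quotient_add_encard ({x | x ∈ xs} : Set A) (by
      rw [IsLocalRing.ringJacobson_eq_maximalIdeal]
      exact fun x hx => hxs x hx)
    refine le_trans h2 ?_
    gcongr
    exact_mod_cast encard_setOf_mem_le_length xs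

end CM

end Groth.Agent.Lib.Helper82.CMHeight
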