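import Groth.Agent.Lib.Helper82.CMDim
import Groth.Agent.Lib.Helper28.RegularCM

/-!
# Regular sequences generating the extension of an ideal to a local ring of a polynomial ring
-/

set_option autoImplicit false

namespace Groth.Agent.Lib.Helper82.CIPoly

open LocCoh RingTheory.Sequence Groth.Agent.Lib.Helper29 Groth.Agent.Lib.Helper82.CMDim

universe u

section Loc

variable {P : Type u} [CommRing P] (I : Ideal P) (q : Ideal (P ⧸ I)) [q.IsPrime]

theorem algebraMapSubmonoid_primeCompl_comap :
    Algebra.algebraMapSubmonoid (P ⧸ I) (q.comap (Ideal.Quotient.mk I)).primeCompl =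
      q.primeCompl := by
  ext y
  constructor
  · rintro ⟨a, ha, rfl⟩
    exact ha
  · intro hy
    obtain ⟨b, rfl⟩ := Ideal.Quotient.mk_surjective y
    exact ⟨b, hy, rfl⟩

/-- `P_{q'} / I P_{q'}` is the localization of `P/I` at `q`. -/
theorem isLocalization_atPrime_quotient :
    IsLocalization.AtPrime (Localization.AtPrime (q.comap (Ideal.Quotient.mk I)) ⧸
      I.map (algebraMap P (Localization.AtPrime (q.comap (Ideal.Quotient.mk I))))) q := by
  have h : IsLocalization (Algebra.algebraMapSubmonoid (P ⧸ I)
      (q.comap (Ideal.Quotient.mk I)).primeCompl)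
      (Localization.AtPrime (q.comap (Ideal.Quotient.mk I)) ⧸
        I.map (algebraMap P (Localization.AtPrime (q.comap (Ideal.Quotient.mk I))))) :=
    inferInstance
  rw [algebraMapSubmonoid_primeCompl_comap] at h
  exact h

theorem ringKrullDim_quotient_map_eq_height :
    ringKrullDim (Localization.AtPrime (q.comap (Ideal.Quotient.mk I)) ⧸
      I.map (algebraMap P (Localization.AtPrime (q.comap (Ideal.Quotient.mk I))))) = q.height := by
  have := isLocalization_atPrime_quotient I q
  exact IsLocalization.AtPrime.ringKrullDim_eq_height q _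

theorem map_le_maximalIdeal :
    I.map (algebraMap P (Localization.AtPrime (q.comap (Ideal.Quotient.mk I)))) ≤
      IsLocalRing.maximalIdeal (Localization.AtPrime (q.comap (Ideal.Quotient.mk I))) := by
  rw [Ideal.map_le_iff_le_comap]
  intro x hx
  rw [Ideal.mem_comap, IsLocalization.AtPrime.to_map_mem_maximal_iff _
    (q.comap (Ideal.Quotient.mk I)), Ideal.mem_comap, Ideal.Quotient.eq_zero_iff_mem.mpr hx]
  exact zero_mem _

end Loc

section Gens

variable {R : Type u} [CommRing R] [IsLocalRing R] [IsNoetherianRing R]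

/-- Nakayama: elements of `J` generating `J` modulo `𝔪 J` generate `J`. -/
theorem span_eq_of_sup_mul_eq {ι : Type*} (J : Ideal R) (f : ι → R) (hf : ∀ i, f i ∈ J)
    (hgen : Ideal.span (Set.range f) ⊔ IsLocalRing.maximalIdeal R * J = J) :
    Ideal.span (Set.range f) = J := by
  apply le_antisymm
  · rw [Ideal.span_le]
    rintro _ ⟨i, rfl⟩
    exact hf i
  · refine Submodule.le_of_le_smul_of_le_jacobson_bot (IsNoetherian.noetherian J)
      (IsLocalRing.maximalIdeal_le_jacobson ⊥) ?_
    rw [smul_eq_mul, hgen]

omit [IsLocalRing R] [IsNoetherianRing R] in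
theorem ofList_ofFn {c : ℕ} (f : Fin c → R) :
    Ideal.ofList (List.ofFn f) = Ideal.span (Set.range f) := by
  have : ({x | x ∈ List.ofFn f} : Set R) = Set.range f := by
    ext x
    simp [List.mem_ofFn']
  rw [← this]

end Gens

section Main

variable (k : Type u) [Field k] (n : ℕ)

theorem isRegular_of_generators (I : Ideal (MvPolynomial (Fin n) k))
    (q : Ideal (MvPolynomial (Fin n) k ⧸ I)) [q.IsPrime] (c : ℕ)
    (hc : (c : ℕ∞) + q.height = (q.comap (Ideal.Quotient.mk I)).height)
    (f : Fin c → Localization.AtPrime (q.comap (Ideal.Quotient.mk I)))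
    (hf : ∀ i, f i ∈ I.map (algebraMap _ (Localization.AtPrime (q.comap (Ideal.Quotient.mk I)))))
    (hgen : Ideal.span (Set.range f) ⊔
        IsLocalRing.maximalIdeal (Localization.AtPrime (q.comap (Ideal.Quotient.mk I))) *
          I.map (algebraMap _ (Localization.AtPrime (q.comap (Ideal.Quotient.mk I)))) =
      I.map (algebraMap _ (Localization.AtPrime (q.comap (Ideal.Quotient.mk I))))) :
    RingTheory.Sequence.IsRegular (Localization.AtPrime (q.comap (Ideal.Quotient.mk I)))
      (List.ofFn f) := by
  have hRR : IsRegularRing (MvPolynomial (Fin n) k) :=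
    MvPolynomial.isRegularRing_of_isRegularRing k
  have hRLR : IsRegularLocalRing (Localization.AtPrime (q.comap (Ideal.Quotient.mk I))) :=
    IsRegularRing.isRegularLocalRing_localization _
  have hCM := Groth.Agent.Lib.Helper28.isCohenMacaulayModule_self_of_isRegularLocalRing
    (Localization.AtPrime (q.comap (Ideal.Quotient.mk I)))
  have hspan := span_eq_of_sup_mul_eq _ f hf hgen
  apply isRegular_of_ringKrullDim_quotient_add_le hCM
  · intro x hx
    obtain ⟨i, rfl⟩ := (List.mem_ofFn' f x).mp hx
    exact map_le_maximalIdeal I q (hf i)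
  · rw [ofList_ofFn, hspan, ringKrullDim_quotient_map_eq_height, List.length_ofFn,
      IsLocalization.AtPrime.ringKrullDim_eq_height (q.comap (Ideal.Quotient.mk I)), ← hc,
      add_comm]
    exact le_of_eq (by push_cast; rfl)

end Main

end Groth.Agent.Lib.Helper82.CIPoly
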