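import Groth.Agent.Lib.Helper82.CISpreadA
import Groth.Agent.Lib.Helper82.CIPoly
import Groth.Agent.H46.GCILocalize

/-!
# Spreading out: a criterion for `(P/J)_{g'}` to be a global complete intersection
-/

set_option autoImplicit false

namespace Groth.Agent.Lib.Helper82.CISpreadB

open MvPolynomial

universe u

section General

variable {P : Type u} [CommRing P] (J : Ideal P) (𝔮 : Ideal (P ⧸ J)) [𝔮.IsPrime]

/-- `ht (J P_𝔐) + ht 𝔮 ≤ ht 𝔐`, where `𝔐` is the preimage of `𝔮`. -/
theorem height_map_add_height_le :
    ((J.map (algebraMap P (Localization.AtPrime (𝔮.comap (Ideal.Quotient.mk J))))).height :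
      WithBot ℕ∞) + (𝔮.height : WithBot ℕ∞) ≤
      ((𝔮.comap (Ideal.Quotient.mk J)).height : WithBot ℕ∞) := by
  have h1 := Groth.Agent.Lib.Helper82.CMHeight.height_add_ringKrullDim_quotient_le
    (J.map (algebraMap P (Localization.AtPrime (𝔮.comap (Ideal.Quotient.mk J)))))
  rw [Groth.Agent.Lib.Helper82.CIPoly.ringKrullDim_quotient_map_eq_height J 𝔮,
    IsLocalization.AtPrime.ringKrullDim_eq_height (𝔮.comap (Ideal.Quotient.mk J))
      (Localization.AtPrime (𝔮.comap (Ideal.Quotient.mk J)))] at h1
  exact h1

end General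

section Poly

variable (k : Type u) [Field k] (n : ℕ)

theorem ringKrullDim_mvPolynomial : ringKrullDim (MvPolynomial (Fin n) k) = n := by
  rw [MvPolynomial.ringKrullDim_of_isNoetherianRing, ringKrullDim_eq_zero_of_field]
  simp

theorem height_le (𝔐 : Ideal (MvPolynomial (Fin n) k)) [𝔐.IsPrime] : 𝔐.height ≤ n := by
  have h := Ideal.height_le_ringKrullDim_of_ne_top (Ideal.IsPrime.ne_top (I := 𝔐) ‹_›)
  rw [ringKrullDim_mvPolynomial] at h
  exact_mod_cast h

variable {k n}

/-- If every prime of `P/J` not containing `g'` has height at most `n - c`, where `J` is generated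
by `c` polynomials, then `(P/J)_{g'}` is a global complete intersection. -/
theorem isGlobalCI_away_of_forall_height_le (c : ℕ) (hcn : c ≤ n)
    (F : Fin c → MvPolynomial (Fin n) k)
    (g' : MvPolynomial (Fin n) k ⧸ Ideal.span (Set.range F))
    [Nontrivial (Localization.Away g')]
    (hht : ∀ 𝔮 : Ideal (MvPolynomial (Fin n) k ⧸ Ideal.span (Set.range F)), 𝔮.IsPrime → g' ∉ 𝔮 →
      (c : ℕ∞) + 𝔮.height ≤ n) :
    Synt.IsGlobalCI k (Localization.Away g') := by
  have hsurj : Function.Surjective (Ideal.Quotient.mkₐ k (Ideal.span (Set.range F))) :=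
    Ideal.Quotient.mkₐ_surjective k _
  have hker : RingHom.ker (Ideal.Quotient.mkₐ k (Ideal.span (Set.range F))).toRingHom =
      Ideal.span (Set.range F) := by
    rw [Ideal.Quotient.mkₐ_toRingHom, Ideal.mk_ker]
  obtain ⟨φ', r', hφ', hker'⟩ := Groth.Agent.H46.GCILocalize.exists_presentation_away g'
    (Ideal.Quotient.mkₐ k (Ideal.span (Set.range F))) F hsurj hker
  refine Or.inr ⟨n + 1, c + 1, by omega, φ', r', hφ', hker', ?_⟩
  have hnc : n + 1 - (c + 1) = n - c := by omega
  rw [hnc]
  apply le_antisymm
  · rw [ringKrullDim_le_iff_height_le]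
    intro M hM
    have hq : (M.under (MvPolynomial (Fin n) k ⧸ Ideal.span (Set.range F))).IsPrime :=
      Ideal.comap_isPrime _ M
    have hg' : g' ∉ M.under (MvPolynomial (Fin n) k ⧸ Ideal.span (Set.range F)) := by
      intro hmem
      apply hM.ne_top
      exact Ideal.eq_top_of_isUnit_mem _ hmem (IsLocalization.Away.algebraMap_isUnit g')
    have h1 := hht _ hq hg'
    rw [IsLocalization.height_under (Submonoid.powers g') M] at h1
    generalize M.height = y at h1
    induction y using ENat.recTopCoe with
    | top =>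
      exfalso
      rw [add_top] at h1
      exact (ENat.natCast_ne_top n) (top_le_iff.mp h1)
    | coe y =>
      have h2 : c + y ≤ n := by exact_mod_cast h1
      have h3 : y ≤ n - c := by omega
      have h5 : ((y : ℕ) : ℕ∞) ≤ ((n - c : ℕ) : ℕ∞) := by exact_mod_cast h3
      exact WithBot.coe_le_coe.mpr h5
  · -- lower bound
    have hne : Ideal.span (Set.range r') ≠ ⊤ := by
      rw [← hker']
      exact RingHom.ker_ne_top _
    have h1 := Groth.Agent.H46.GCILocalize.le_ringKrullDim_quotient_span (n + 1) (c + 1) r' hne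
    have e : (MvPolynomial (Fin (n + 1)) k ⧸ Ideal.span (Set.range r')) ≃+*
        Localization.Away g' := by
      rw [← hker']
      exact RingHom.quotientKerEquivOfSurjective hφ'
    rw [ringKrullDim_eq_of_ringEquiv e] at h1
    generalize ringKrullDim (Localization.Away g') = D at h1 ⊢
    induction D using WithBot.recBotCoe with
    | bot =>
      exfalso
      rw [WithBot.bot_add] at h1
      exact (WithBot.coe_ne_bot (le_bot_iff.mp h1))
    | coe x =>
      induction x using ENat.recTopCoe with
      | top => exact le_top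
      | coe y =>
        have h2 : ((n + 1 : ℕ) : WithBot ℕ∞) ≤ ((y + (c + 1) : ℕ) : WithBot ℕ∞) := by
          refine h1.trans (le_of_eq ?_)
          push_cast
          rfl
        have h3 : n + 1 ≤ y + (c + 1) := by exact_mod_cast h2
        have h4 : n - c ≤ y := by omega
        have h5 : ((n - c : ℕ) : ℕ∞) ≤ (y : ℕ∞) := by exact_mod_cast h4
        exact WithBot.coe_le_coe.mpr h5

end Poly

end Groth.Agent.Lib.Helper82.CISpreadB
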