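import Groth.Agent.Lib.Helper82.CMEquidim
import Groth.Agent.Lib.Helper89.CMCatenary
import Groth.Agent.Lib.Helper82.CISpreadB

/-!
# Decomposition of a Cohen–Macaulay algebra of finite type over a field by dimension

* `height_comap_le`: for a minimal prime `𝔮` of a Cohen–Macaulay ring `S` and a prime `Q` of
  `S/𝔮`, `ht (Q ∩ S) ≤ ht Q`.
* `height_eq_ringKrullDim_quotient`: in a Cohen–Macaulay finite type algebra over a field,
  `ht 𝔪 = dim S/𝔮` for every maximal ideal `𝔪` and every minimal prime `𝔮 ⊆ 𝔪`.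
* `exists_idempotents`: the induced decomposition of `Spec S` into clopen equidimensional pieces.
-/

set_option autoImplicit false

namespace Groth.Agent.Lib.Helper82.CMDecomp

open LocCoh

universe u

section Height

theorem height_comap_le {S : Type u} [CommRing S] [hCMS : IsCohenMacaulayRing S] (𝔮 : Ideal S)
    (h𝔮 : 𝔮 ∈ minimalPrimes S) (Q : Ideal (S ⧸ 𝔮)) [Q.IsPrime] :
    ((Q.comap (Ideal.Quotient.mk 𝔮)).height : WithBot ℕ∞) ≤ (Q.height : WithBot ℕ∞) := by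
  have h𝔮p : 𝔮.IsPrime := h𝔮.1.1
  have hle : 𝔮 ≤ Q.comap (Ideal.Quotient.mk 𝔮) := by
    intro x hx
    rw [Ideal.mem_comap, Ideal.Quotient.eq_zero_iff_mem.mpr hx]
    exact zero_mem _
  have hCMA := hCMS.isCohenMacaulayLocalRing_localization (Q.comap (Ideal.Quotient.mk 𝔮))
  have hCM : IsCohenMacaulayModule (Localization.AtPrime (Q.comap (Ideal.Quotient.mk 𝔮)))
      (Localization.AtPrime (Q.comap (Ideal.Quotient.mk 𝔮))) := hCMA.supportDim_eq_depth
  have hdisj : Disjoint ((Q.comap (Ideal.Quotient.mk 𝔮)).primeCompl : Set S) (𝔮 : Set S) := by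
    rw [Set.disjoint_left]
    intro x hx hx'
    exact hx (hle hx')
  have hP : (𝔮.map (algebraMap S (Localization.AtPrime (Q.comap (Ideal.Quotient.mk 𝔮))))).IsPrime :=
    IsLocalization.isPrime_of_isPrime_disjoint (Q.comap (Ideal.Quotient.mk 𝔮)).primeCompl _ 𝔮
      h𝔮p hdisj
  have hht : (𝔮.map (algebraMap S
      (Localization.AtPrime (Q.comap (Ideal.Quotient.mk 𝔮))))).height = 𝔮.height :=
    IsLocalization.height_map_of_disjoint (Q.comap (Ideal.Quotient.mk 𝔮)).primeCompl 𝔮 hdisj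
  have h0 : 𝔮.height = 0 := Ideal.height_eq_zero_iff.mpr h𝔮
  have hsupp : Module.support (Localization.AtPrime (Q.comap (Ideal.Quotient.mk 𝔮)))
      (Localization.AtPrime (Q.comap (Ideal.Quotient.mk 𝔮))) = Set.univ := by
    rw [Set.eq_univ_iff_forall]
    intro p
    rw [Module.mem_support_iff']
    refine ⟨1, fun r hr h => hr ?_⟩
    rw [smul_eq_mul, mul_one] at h
    rw [h]
    exact zero_mem _
  have h1 := Groth.Agent.Lib.Helper89.CMCatenary.ringKrullDim_quotient_add_height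
    (Localization.AtPrime (Q.comap (Ideal.Quotient.mk 𝔮)))
    (Localization.AtPrime (Q.comap (Ideal.Quotient.mk 𝔮))) hCM hsupp ⟨_, hP⟩
  simp only at h1
  rw [hht, h0] at h1
  rw [Groth.Agent.Lib.Helper82.CIPoly.ringKrullDim_quotient_map_eq_height 𝔮 Q,
    IsLocalization.AtPrime.ringKrullDim_eq_height (Q.comap (Ideal.Quotient.mk 𝔮))] at h1
  rw [← h1]
  simp

variable (k : Type u) [Field k] {S : Type u} [CommRing S] [Algebra k S] [Algebra.FiniteType k S]
  [hCMS : IsCohenMacaulayRing S]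

include k in
/-- In a Cohen–Macaulay algebra of finite type over a field, the height of a maximal ideal is the
dimension of every irreducible component through it. -/
theorem height_eq_ringKrullDim_quotient (𝔪 : Ideal S) (h𝔪 : 𝔪.IsMaximal) (𝔮 : Ideal S)
    (h𝔮 : 𝔮 ∈ minimalPrimes S) (hle : 𝔮 ≤ 𝔪) :
    (𝔪.height : WithBot ℕ∞) = ringKrullDim (S ⧸ 𝔮) := by
  have h𝔪p : 𝔪.IsPrime := h𝔪.isPrime
  have h𝔮p : 𝔮.IsPrime := h𝔮.1.1
  apply le_antisymm
  · have hQ : (𝔪.map (Ideal.Quotient.mk 𝔮)).IsPrime :=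
      Ideal.map_isPrime_of_surjective Ideal.Quotient.mk_surjective (by rwa [Ideal.mk_ker])
    have hcomap : (𝔪.map (Ideal.Quotient.mk 𝔮)).comap (Ideal.Quotient.mk 𝔮) = 𝔪 :=
      Ideal.comap_map_mk hle
    have h1 := height_comap_le 𝔮 h𝔮 (𝔪.map (Ideal.Quotient.mk 𝔮))
    rw [hcomap] at h1
    exact h1.trans Ideal.height_le_ringKrullDim_of_isPrime
  · have h1 := Groth.Agent.Lib.Helper82.CMEquidim.ringKrullDim_quotient_le_height_add k 𝔮 𝔪 hle
    let _ := Ideal.Quotient.field 𝔪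
    rw [ringKrullDim_eq_zero_of_field, add_zero] at h1
    exact h1

end Height

section Partition

variable {R : Type u} [CommRing R]

theorem eq_zero_of_forall_mem (x : R) (hx : IsIdempotentElem x)
    (hp : ∀ p : PrimeSpectrum R, x ∈ p.asIdeal) : x = 0 := by
  apply hx.eq_zero_of_isNilpotent
  rw [← mem_nilradical, nilradical_eq_sInf, Ideal.mem_sInf]
  intro P hP
  exact hp ⟨P, hP⟩

/-- A finite partition of the prime spectrum into closed subsets is given by a complete family of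
orthogonal idempotents. -/
theorem exists_completeOrthogonalIdempotents {ι : Type*} [Fintype ι] [DecidableEq ι]
    (Z : ι → Set (PrimeSpectrum R)) (hclosed : ∀ i, IsClosed (Z i))
    (hdisj : ∀ i j, i ≠ j → ∀ p, p ∈ Z i → p ∉ Z j) (hcover : ∀ p, ∃ i, p ∈ Z i) :
    ∃ e : ι → R, CompleteOrthogonalIdempotents e ∧
      ∀ i, Z i = (PrimeSpectrum.basicOpen (e i) : Set (PrimeSpectrum R)) := by
  have hopen : ∀ i, IsOpen (Z i) := by
    intro i
    have h1 : Z i = (⋃ j ∈ (Finset.univ.erase i : Finset ι), Z j)ᶜ := by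
      ext p
      simp only [Set.mem_compl_iff, Set.mem_iUnion, Finset.mem_erase, Finset.mem_univ, and_true,
        not_exists]
      constructor
      · intro hp j hj hpj
        exact hdisj i j (Ne.symm hj) p hp hpj
      · intro hp
        obtain ⟨j, hj⟩ := hcover p
        by_cases hji : j = i
        · exact hji ▸ hj
        · exact absurd hj (hp j hji)
    rw [h1]
    exact (isClosed_biUnion_finset (fun j _ => hclosed j)).isOpen_compl
  choose e he hZ using fun i => PrimeSpectrum.isClopen_iff.mp ⟨hclosed i, hopen i⟩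
  have hmem : ∀ i (p : PrimeSpectrum R), p ∈ Z i ↔ e i ∉ p.asIdeal := by
    intro i p
    rw [hZ i]
    exact PrimeSpectrum.mem_basicOpen _ _
  have hortho : OrthogonalIdempotents e := by
    refine ⟨he, fun i j hij => eq_zero_of_forall_mem _ ((he i).mul (he j)) (fun p => ?_)⟩
    by_contra hcon
    have hi : e i ∉ p.asIdeal := fun h => hcon (Ideal.mul_mem_right _ _ h)
    have hj : e j ∉ p.asIdeal := fun h => hcon (Ideal.mul_mem_left _ _ h)
    exact hdisj i j hij p ((hmem i p).mpr hi) ((hmem j p).mpr hj)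
  refine ⟨e, CompleteOrthogonalIdempotents.of_prod_one_sub hortho
    (eq_zero_of_forall_mem _ ?_ (fun p => ?_)), hZ⟩
  · rw [hortho.prod_one_sub]
    exact hortho.isIdempotentElem_sum.one_sub
  · obtain ⟨i, hi⟩ := hcover p
    rw [hmem i p] at hi
    refine Ideal.prod_mem _ (Finset.mem_univ i) ?_
    have h0 : e i * (1 - e i) ∈ p.asIdeal := by
      rw [mul_sub, mul_one, (he i).eq, sub_self]
      exact zero_mem _
    exact (p.isPrime.mem_or_mem h0).resolve_left hi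

end Partition

section Main

variable (k : Type u) [Field k] (S : Type u) [CommRing S] [Algebra k S] [Algebra.FiniteType k S]
  [hCMS : IsCohenMacaulayRing S]

include k in
omit hCMS in
theorem exists_ringKrullDim_le : ∃ N : ℕ, ringKrullDim S ≤ (N : WithBot ℕ∞) := by
  obtain ⟨n, f, hf⟩ := Algebra.FiniteType.iff_quotient_mvPolynomial''.mp
    (inferInstance : Algebra.FiniteType k S)
  refine ⟨n, ?_⟩
  have h1 := ringKrullDim_le_of_surjective (f : MvPolynomial (Fin n) k →+* S) hf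
  rwa [Groth.Agent.Lib.Helper82.CISpreadB.ringKrullDim_mvPolynomial] at h1

include k in
/-- The equidimensional decomposition of the spectrum of a Cohen–Macaulay algebra of finite type
over a field. -/
theorem exists_idempotents :
    ∃ (N : ℕ) (e : Fin (N + 1) → S), CompleteOrthogonalIdempotents e ∧
      ∀ (d : Fin (N + 1)) (𝔪 : Ideal S), 𝔪.IsMaximal → e d ∉ 𝔪 → 𝔪.height = (d : ℕ) := by
  classical
  have hN : IsNoetherianRing S := Algebra.FiniteType.isNoetherianRing k S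
  obtain ⟨N, hNle⟩ := exists_ringKrullDim_le k S
  have hfin : (minimalPrimes S).Finite := minimalPrimes.finite_of_isNoetherianRing S
  let Z : Fin (N + 1) → Set (PrimeSpectrum S) := fun d =>
    ⋃ 𝔮 ∈ {𝔮 ∈ minimalPrimes S | ringKrullDim (S ⧸ 𝔮) = ((d : ℕ) : WithBot ℕ∞)},
      PrimeSpectrum.zeroLocus (𝔮 : Set S)
  have hZmem : ∀ d (p : PrimeSpectrum S), p ∈ Z d ↔ ∃ 𝔮 ∈ minimalPrimes S,
      ringKrullDim (S ⧸ 𝔮) = ((d : ℕ) : WithBot ℕ∞) ∧ 𝔮 ≤ p.asIdeal := by
    intro d p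
    simp only [Z, Set.mem_iUnion, Set.mem_ofPred_eq, PrimeSpectrum.mem_zeroLocus,
      SetLike.coe_subset_coe, exists_prop, and_assoc]
  have hclosed : ∀ d, IsClosed (Z d) := by
    intro d
    exact Set.Finite.isClosed_biUnion (hfin.subset (fun 𝔮 h𝔮 => h𝔮.1))
      (fun 𝔮 _ => PrimeSpectrum.isClosed_zeroLocus _)
  -- the key: dimensions of components through a common point agree with the height of a
  -- maximal ideal
  have hkey : ∀ (p : PrimeSpectrum S) (𝔮 : Ideal S), 𝔮 ∈ minimalPrimes S → 𝔮 ≤ p.asIdeal →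
      ∀ (𝔪 : Ideal S), 𝔪.IsMaximal → p.asIdeal ≤ 𝔪 →
        (𝔪.height : WithBot ℕ∞) = ringKrullDim (S ⧸ 𝔮) :=
    fun p 𝔮 h𝔮 hle 𝔪 h𝔪 hp𝔪 => height_eq_ringKrullDim_quotient k 𝔪 h𝔪 𝔮 h𝔮 (hle.trans hp𝔪)
  have hdisj : ∀ i j, i ≠ j → ∀ p, p ∈ Z i → p ∉ Z j := by
    intro i j hij p hi hj
    rw [hZmem] at hi hj
    obtain ⟨𝔮, h𝔮, hd, hle⟩ := hi
    obtain ⟨𝔮', h𝔮', hd', hle'⟩ := hj
    obtain ⟨𝔪, h𝔪, hp𝔪⟩ := Ideal.exists_le_maximal p.asIdeal p.isPrime.ne_top
    have h1 := hkey p 𝔮 h𝔮 hle 𝔪 h𝔪 hp𝔪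
    have h2 := hkey p 𝔮' h𝔮' hle' 𝔪 h𝔪 hp𝔪
    rw [hd] at h1
    rw [hd', h1] at h2
    have h3 : ((i : ℕ) : ℕ∞) = ((j : ℕ) : ℕ∞) := WithBot.coe_injective h2
    exact hij (Fin.ext (by exact_mod_cast h3))
  have hcover : ∀ p : PrimeSpectrum S, ∃ d, p ∈ Z d := by
    intro p
    obtain ⟨𝔮, h𝔮, hle⟩ := Ideal.exists_minimalPrimes_le (bot_le : ⊥ ≤ p.asIdeal)
    obtain ⟨𝔪, h𝔪, hp𝔪⟩ := Ideal.exists_le_maximal p.asIdeal p.isPrime.ne_top
    have h𝔪p : 𝔪.IsPrime := h𝔪.isPrime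
    have h1 := hkey p 𝔮 h𝔮 hle 𝔪 h𝔪 hp𝔪
    have h2 : (𝔪.height : WithBot ℕ∞) ≤ (N : WithBot ℕ∞) :=
      Ideal.height_le_ringKrullDim_of_isPrime.trans hNle
    have h3 : 𝔪.height ≤ (N : ℕ∞) := WithBot.coe_le_coe.mp h2
    obtain ⟨m, hm⟩ := ENat.ne_top_iff_exists.mp (ne_top_of_le_ne_top (ENat.natCast_ne_top N) h3)
    rw [← hm] at h3
    have hmN : m ≤ N := by exact_mod_cast h3
    refine ⟨⟨m, by omega⟩, (hZmem _ p).mpr ⟨𝔮, h𝔮, ?_, hle⟩⟩
    rw [← h1, ← hm]
    rfl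
  obtain ⟨e, he, hZe⟩ := exists_completeOrthogonalIdempotents Z hclosed hdisj hcover
  refine ⟨N, e, he, fun d 𝔪 h𝔪 hed => ?_⟩
  have h𝔪p : 𝔪.IsPrime := h𝔪.isPrime
  have hmem : (⟨𝔪, h𝔪p⟩ : PrimeSpectrum S) ∈ Z d := by
    rw [hZe d]
    exact (PrimeSpectrum.mem_basicOpen _ _).mpr hed
  rw [hZmem] at hmem
  obtain ⟨𝔮, h𝔮, hd, hle⟩ := hmem
  have h1 := hkey ⟨𝔪, h𝔪p⟩ 𝔮 h𝔮 hle 𝔪 h𝔪 le_rfl
  rw [hd] at h1
  exact WithBot.coe_injective h1

end Main

end Groth.Agent.Lib.Helper82.CMDecomp
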