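import Groth.Agent.Lib.Helper82.GCICM

/-!
# Regular sequences in equidimensional Cohen–Macaulay algebras of finite type over a field
-/

set_option autoImplicit false

namespace Groth.Agent.Lib.Helper82.CMEquidim

open LocCoh RingTheory.Sequence Groth.Agent.Lib.Helper29 Groth.Agent.Lib.Helper82.CMDim
open Groth.Agent.Lib.Helper82.CIPoly Groth.Agent.Lib.Helper82.CMHeight
open Groth.Agent.Lib.Helper82.GCICM

universe u

section Height

theorem height_le_height_comap_of_surjective {R S : Type*} [CommRing R] [CommRing S]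
    (f : R →+* S) (hf : Function.Surjective f) (Q : Ideal S) [Q.IsPrime] :
    Q.height ≤ (Q.comap f).height := by
  let e := Ideal.primeSpectrumOrderIsoZeroLocusOfSurj f hf rfl
  have hmono : StrictMono (fun p : PrimeSpectrum S => ((e p : PrimeSpectrum.zeroLocus _) :
      PrimeSpectrum R)) := (Subtype.strictMono_coe _).comp e.strictMono
  have h := Order.height_le_height_apply_of_strictMono _ hmono ⟨Q, inferInstance⟩
  rw [← PrimeSpectrum.height_eq_orderHeight, ← PrimeSpectrum.height_eq_orderHeight] at h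
  exact h

end Height

section Arith

theorem arith2 {a b : ℕ∞} {t : WithBot ℕ∞} {d i : ℕ}
    (h3 : (d : WithBot ℕ∞) ≤ (b : WithBot ℕ∞) + t)
    (h4 : (a : WithBot ℕ∞) + t ≤ ((d - i : ℕ) : WithBot ℕ∞)) (hid : i ≤ d) :
    (a : WithBot ℕ∞) + (i : WithBot ℕ∞) ≤ (b : WithBot ℕ∞) := by
  induction t with
  | bot => simp at h3
  | coe t =>
    have h3' : (d : ℕ∞) ≤ b + t := by
      have h5 : (((d : ℕ) : ℕ∞) : WithBot ℕ∞) ≤ ((b + t : ℕ∞) : WithBot ℕ∞) := h3
      exact WithBot.coe_le_coe.mp h5
    have h4' : a + t ≤ ((d - i : ℕ) : ℕ∞) := by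
      have h5 : ((a + t : ℕ∞) : WithBot ℕ∞) ≤ (((d - i : ℕ) : ℕ∞) : WithBot ℕ∞) := h4
      exact WithBot.coe_le_coe.mp h5
    have ht : t ≠ ⊤ := fun h => by simp [h] at h4'
    have ha : a ≠ ⊤ := fun h => by simp [h] at h4'
    have hgoal : a + (i : ℕ∞) ≤ b := by
      induction b with
      | top => exact le_top
      | coe b =>
        lift t to ℕ using ht
        lift a to ℕ using ha
        have h3'' : d ≤ b + t := by exact_mod_cast h3'
        have h4'' : a + t ≤ d - i := by exact_mod_cast h4'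
        have : a + i ≤ b := by omega
        exact_mod_cast this
    have h6 : ((a + (i : ℕ∞) : ℕ∞) : WithBot ℕ∞) ≤ (b : WithBot ℕ∞) := WithBot.coe_le_coe.mpr hgoal
    exact h6

theorem arith3 {a : ℕ∞} {d i : ℕ} (h : (d : WithBot ℕ∞) ≤ (a : WithBot ℕ∞) + (i : WithBot ℕ∞)) :
    ((d - i : ℕ) : WithBot ℕ∞) ≤ (a : WithBot ℕ∞) := by
  have h5 : (((d : ℕ) : ℕ∞) : WithBot ℕ∞) ≤ ((a + (i : ℕ∞) : ℕ∞) : WithBot ℕ∞) := h
  have h' : (d : ℕ∞) ≤ a + i := WithBot.coe_le_coe.mp h5
  have hgoal : ((d - i : ℕ) : ℕ∞) ≤ a := by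
    induction a with
    | top => exact le_top
    | coe a =>
      have h'' : d ≤ a + i := by exact_mod_cast h'
      have : d - i ≤ a := by omega
      exact_mod_cast this
  have h6 : (((d - i : ℕ) : ℕ∞) : WithBot ℕ∞) ≤ (a : WithBot ℕ∞) := WithBot.coe_le_coe.mpr hgoal
  exact h6

end Arith

section FT

variable (k : Type u) [Field k] {S : Type u} [CommRing S] [Algebra k S] [Algebra.FiniteType k S]

include k

/-- In a finite type algebra over a field, `dim S/p ≤ ht q + dim S/q` for primes `p ≤ q`. -/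
theorem ringKrullDim_quotient_le_height_add (p q : Ideal S) [p.IsPrime] [q.IsPrime] (hpq : p ≤ q) :
    ringKrullDim (S ⧸ p) ≤ (q.height : WithBot ℕ∞) + ringKrullDim (S ⧸ q) := by
  have hQ : (q.map (Ideal.Quotient.mk p)).IsPrime :=
    Ideal.map_isPrime_of_surjective Ideal.Quotient.mk_surjective (by rwa [Ideal.mk_ker])
  have hcomap : (q.map (Ideal.Quotient.mk p)).comap (Ideal.Quotient.mk p) = q :=
    Ideal.comap_map_mk hpq
  have h1 := Groth.Agent.Lib.Helper55.ringKrullDim_quotient_add_height k (S ⧸ p)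
    (q.map (Ideal.Quotient.mk p))
  have h2 := height_le_height_comap_of_surjective (Ideal.Quotient.mk p)
    Ideal.Quotient.mk_surjective (q.map (Ideal.Quotient.mk p))
  have h3 := ringKrullDim_quotient_quotient p (q.map (Ideal.Quotient.mk p))
  rw [hcomap] at h2 h3
  rw [← h1, h3, add_comm]
  gcongr
  exact_mod_cast h2

section CMS

variable [hCMS : IsCohenMacaulayRing S] (d : ℕ)
  (heq : ∀ p ∈ minimalPrimes S, ringKrullDim (S ⧸ p) = d)
  (f : List S) (hi : f.length ≤ d)
  (hle : ringKrullDim (S ⧸ Ideal.ofList f) ≤ ((d - f.length : ℕ) : WithBot ℕ∞))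

include heq in
omit hCMS in
theorem le_height_add (q : Ideal S) [q.IsPrime] :
    (d : WithBot ℕ∞) ≤ (q.height : WithBot ℕ∞) + ringKrullDim (S ⧸ q) := by
  obtain ⟨p, hpmin, hpq⟩ := Ideal.exists_minimalPrimes_le (bot_le : ⊥ ≤ q)
  have hp : p.IsPrime := hpmin.1.1
  have h3 := ringKrullDim_quotient_le_height_add k p q hpq
  rw [heq p hpmin] at h3
  exact h3

include heq hi hle in
omit hCMS in
theorem height_add_length_le (Q : Ideal (S ⧸ Ideal.ofList f)) [Q.IsPrime] :
    (Q.height : WithBot ℕ∞) + (f.length : WithBot ℕ∞) ≤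
      ((Q.comap (Ideal.Quotient.mk (Ideal.ofList f))).height : WithBot ℕ∞) := by
  have h3 := le_height_add k d heq (Q.comap (Ideal.Quotient.mk (Ideal.ofList f)))
  have h4 := height_add_ringKrullDim_quotient_le Q
  rw [ringKrullDim_quotient_quotient] at h4
  exact arith2 h3 (h4.trans hle) hi

include heq hi hle in
theorem local_main (Q : Ideal (S ⧸ Ideal.ofList f)) [Q.IsPrime] :
    IsRegular (Localization.AtPrime (Q.comap (Ideal.Quotient.mk (Ideal.ofList f))))
      (f.map (algebraMap S (Localization.AtPrime (Q.comap (Ideal.Quotient.mk (Ideal.ofList f)))))) ∧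
    (Q.height : WithBot ℕ∞) + (f.length : WithBot ℕ∞) =
      ((Q.comap (Ideal.Quotient.mk (Ideal.ofList f))).height : WithBot ℕ∞) := by
  have hN : IsNoetherianRing S := Algebra.FiniteType.isNoetherianRing k S
  have hCMA := hCMS.isCohenMacaulayLocalRing_localization
    (Q.comap (Ideal.Quotient.mk (Ideal.ofList f)))
  have hCM : IsCohenMacaulayModule
      (Localization.AtPrime (Q.comap (Ideal.Quotient.mk (Ideal.ofList f))))
      (Localization.AtPrime (Q.comap (Ideal.Quotient.mk (Ideal.ofList f)))) :=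
    hCMA.supportDim_eq_depth
  have hofList : Ideal.ofList (f.map (algebraMap S
      (Localization.AtPrime (Q.comap (Ideal.Quotient.mk (Ideal.ofList f)))))) =
      (Ideal.ofList f).map (algebraMap S
        (Localization.AtPrime (Q.comap (Ideal.Quotient.mk (Ideal.ofList f))))) :=
    (Ideal.map_ofList _ _).symm
  have hxs : ∀ x ∈ f.map (algebraMap S
      (Localization.AtPrime (Q.comap (Ideal.Quotient.mk (Ideal.ofList f))))),
      x ∈ IsLocalRing.maximalIdeal
        (Localization.AtPrime (Q.comap (Ideal.Quotient.mk (Ideal.ofList f)))) := by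
    intro x hx
    apply map_le_maximalIdeal (Ideal.ofList f) Q
    rw [← hofList]
    exact Ideal.subset_span hx
  have hreg : IsRegular (Localization.AtPrime (Q.comap (Ideal.Quotient.mk (Ideal.ofList f))))
      (f.map (algebraMap S
        (Localization.AtPrime (Q.comap (Ideal.Quotient.mk (Ideal.ofList f)))))) := by
    apply isRegular_of_ringKrullDim_quotient_add_le hCM _ hxs
    rw [hofList, ringKrullDim_quotient_map_eq_height, List.length_map,
      IsLocalization.AtPrime.ringKrullDim_eq_height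
        (Q.comap (Ideal.Quotient.mk (Ideal.ofList f)))]
    exact height_add_length_le k d heq f hi hle Q
  refine ⟨hreg, ?_⟩
  have e1 := ringKrullDim_quotient_add_length_of_isWeaklyRegular hCM _ hxs hreg.toIsWeaklyRegular
  rw [hofList, ringKrullDim_quotient_map_eq_height, List.length_map,
    IsLocalization.AtPrime.ringKrullDim_eq_height
      (Q.comap (Ideal.Quotient.mk (Ideal.ofList f)))] at e1
  exact e1

include heq hi hle in
theorem main (hne : Ideal.ofList f ≠ ⊤) :
    ringKrullDim (S ⧸ Ideal.ofList f) = ((d - f.length : ℕ) : WithBot ℕ∞) ∧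
      ∀ (q : Ideal S) [q.IsPrime], Ideal.ofList f ≤ q →
        IsRegular (Localization.AtPrime q) (f.map (algebraMap S (Localization.AtPrime q))) := by
  constructor
  · apply le_antisymm hle
    have hnt : Nontrivial (S ⧸ Ideal.ofList f) := Ideal.Quotient.nontrivial_iff.mpr hne
    obtain ⟨Q, hQ⟩ := Ideal.exists_maximal (S ⧸ Ideal.ofList f)
    have hQp : Q.IsPrime := hQ.isPrime
    have hqmax : (Q.comap (Ideal.Quotient.mk (Ideal.ofList f))).IsMaximal :=
      Ideal.comap_isMaximal_of_surjective _ Ideal.Quotient.mk_surjective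
    have e1 := (local_main k d heq f hi hle Q).2
    have h3 := le_height_add k d heq (Q.comap (Ideal.Quotient.mk (Ideal.ofList f)))
    let _ := Ideal.Quotient.field (Q.comap (Ideal.Quotient.mk (Ideal.ofList f)))
    rw [ringKrullDim_eq_zero_of_field, add_zero, ← e1] at h3
    exact le_trans (arith3 h3) Ideal.height_le_ringKrullDim_of_isPrime
  · intro q hq hJq
    obtain ⟨Q, hQp, hQc⟩ : ∃ Q : Ideal (S ⧸ Ideal.ofList f), Q.IsPrime ∧
        Q.comap (Ideal.Quotient.mk (Ideal.ofList f)) = q :=
      ⟨q.map (Ideal.Quotient.mk (Ideal.ofList f)),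
        Ideal.map_isPrime_of_surjective Ideal.Quotient.mk_surjective (by rwa [Ideal.mk_ker]),
        Ideal.comap_map_mk hJq⟩
    subst hQc
    exact (local_main k d heq f hi hle Q).1

end CMS

end FT

end Groth.Agent.Lib.Helper82.CMEquidim
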