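import Groth.Agent.Lib.Helper82.CIPoly
import Groth.Agent.Lib.Helper82.CMPoly
import Groth.Agent.Lib.Helper55.Catenary
import Groth.Agent.Lib.Helper29.DepthQuot
import Groth.Prelude.Def_RegImm

/-!
# Global / local complete intersections over a field are Cohen–Macaulay
-/

set_option autoImplicit false

namespace Groth.Agent.Lib.Helper82.GCICM

open LocCoh RingTheory.Sequence Groth.Agent.Lib.Helper29 Groth.Agent.Lib.Helper82.CMDim
open Groth.Agent.Lib.Helper82.CIPoly Groth.Agent.Lib.Helper82.CMHeight
open Groth.Agent.Lib.Helper82.CMPoly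

universe u

section Quot

variable {A : Type u} [CommRing A] [IsLocalRing A] [IsNoetherianRing A]

/-- The quotient of a CM local ring by a regular sequence is a CM local ring. -/
theorem isCohenMacaulayLocalRing_quotient (hCM : IsCohenMacaulayModule A A) (xs : List A)
    (hxs : ∀ x ∈ xs, x ∈ IsLocalRing.maximalIdeal A) (hreg : IsWeaklyRegular A xs)
    (J : Ideal A) (hJ : Ideal.ofList xs = J) [IsLocalRing (A ⧸ J)] :
    IsCohenMacaulayLocalRing (A ⧸ J) := by
  have h1 := isCohenMacaulayModule_quotient_ofList A A hCM xs hxs hreg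
  have hI : (Ideal.ofList xs • (⊤ : Submodule A A)) = J := by
    rw [smul_eq_mul, Ideal.mul_top, hJ]
  have e : (A ⧸ Ideal.ofList xs • (⊤ : Submodule A A)) ≃ₗ[A] (A ⧸ J) :=
    Submodule.quotEquivOfEq _ _ hI
  rw [isCohenMacaulayModule_congr A e] at h1
  refine { supportDim_eq_depth := ?_ }
  rw [Module.supportDim_self_eq_ringKrullDim,
    depth_self_eq_depth_of_surjective (R := A) Ideal.Quotient.mk_surjective]
  unfold IsCohenMacaulayModule at h1
  rw [← h1, Module.supportDim_quotient_eq_ringKrullDim]

end Quot

section Arith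

theorem arith {a b : ℕ∞} {t : WithBot ℕ∞} {n c : ℕ} (hcn : c ≤ n)
    (h3 : t + (b : WithBot ℕ∞) = (n : WithBot ℕ∞))
    (h4 : (a : WithBot ℕ∞) + t ≤ ((n - c : ℕ) : WithBot ℕ∞)) :
    (a : WithBot ℕ∞) + (c : WithBot ℕ∞) ≤ (b : WithBot ℕ∞) := by
  induction t with
  | bot => simp at h3
  | coe t =>
    have h3' : t + b = (n : ℕ∞) := by exact_mod_cast h3
    have h4' : a + t ≤ ((n - c : ℕ) : ℕ∞) := by
      have h5 : ((a + t : ℕ∞) : WithBot ℕ∞) ≤ (((n - c : ℕ) : ℕ∞) : WithBot ℕ∞) := h4
      exact WithBot.coe_le_coe.mp h5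
    have ht : t ≠ ⊤ := fun h => by simp [h] at h3'
    have hb : b ≠ ⊤ := fun h => by simp [h] at h3'
    have ha : a ≠ ⊤ := fun h => by simp [h] at h4'
    lift t to ℕ using ht
    lift b to ℕ using hb
    lift a to ℕ using ha
    have h3'' : t + b = n := by exact_mod_cast h3'
    have h4'' : a + t ≤ n - c := by exact_mod_cast h4'
    have : a + c ≤ b := by omega
    exact_mod_cast this

end Arith

section QuotQuot

variable {P : Type u} [CommRing P] (I : Ideal P) (q : Ideal (P ⧸ I))

theorem ringKrullDim_quotient_quotient :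
    ringKrullDim ((P ⧸ I) ⧸ q) = ringKrullDim (P ⧸ q.comap (Ideal.Quotient.mk I)) := by
  have hsurj : Function.Surjective ((Ideal.Quotient.mk q).comp (Ideal.Quotient.mk I)) :=
    Ideal.Quotient.mk_surjective.comp Ideal.Quotient.mk_surjective
  have hker : RingHom.ker ((Ideal.Quotient.mk q).comp (Ideal.Quotient.mk I)) =
      q.comap (Ideal.Quotient.mk I) := by
    rw [← RingHom.comap_ker, Ideal.mk_ker]
  have e1 := RingHom.quotientKerEquivOfSurjective hsurj
  have e2 := Ideal.quotEquivOfEq hker
  exact (ringKrullDim_eq_of_ringEquiv (e2.symm.trans e1)).symm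

end QuotQuot

section Poly

variable (k : Type u) [Field k] (n : ℕ)

theorem isCohenMacaulayLocalRing_localization_quotient (I : Ideal (MvPolynomial (Fin n) k))
    (c : ℕ) (r : Fin c → MvPolynomial (Fin n) k) (hI : I = Ideal.span (Set.range r))
    (hcn : c ≤ n)
    (hdim : ringKrullDim (MvPolynomial (Fin n) k ⧸ I) = ((n - c : ℕ) : WithBot ℕ∞))
    (q : Ideal (MvPolynomial (Fin n) k ⧸ I)) [q.IsPrime] :
    IsCohenMacaulayLocalRing (Localization.AtPrime q) := by
  have hRR : IsRegularRing (MvPolynomial (Fin n) k) :=
    MvPolynomial.isRegularRing_of_isRegularRing k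
  have hRLR : IsRegularLocalRing (Localization.AtPrime (q.comap (Ideal.Quotient.mk I))) :=
    IsRegularRing.isRegularLocalRing_localization _
  have hCM := Groth.Agent.Lib.Helper28.isCohenMacaulayModule_self_of_isRegularLocalRing
    (Localization.AtPrime (q.comap (Ideal.Quotient.mk I)))
  -- the generators
  have hofList : Ideal.ofList (List.ofFn fun i => algebraMap (MvPolynomial (Fin n) k)
      (Localization.AtPrime (q.comap (Ideal.Quotient.mk I))) (r i)) =
      I.map (algebraMap _ (Localization.AtPrime (q.comap (Ideal.Quotient.mk I)))) := by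
    rw [ofList_ofFn, congrArg (Ideal.map (algebraMap (MvPolynomial (Fin n) k)
      (Localization.AtPrime (q.comap (Ideal.Quotient.mk I))))) hI, Ideal.map_span,
      ← Set.range_comp]
    rfl
  have hxs : ∀ x ∈ (List.ofFn fun i => algebraMap (MvPolynomial (Fin n) k)
      (Localization.AtPrime (q.comap (Ideal.Quotient.mk I))) (r i)),
      x ∈ IsLocalRing.maximalIdeal (Localization.AtPrime (q.comap (Ideal.Quotient.mk I))) := by
    intro x hx
    obtain ⟨i, rfl⟩ := (List.mem_ofFn' _ x).mp hx
    apply map_le_maximalIdeal I q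
    apply Ideal.mem_map_of_mem
    rw [hI]
    exact Ideal.subset_span ⟨i, rfl⟩
  -- dimensions
  have h1 := ringKrullDim_quotient_map_eq_height I q
  have h2 := IsLocalization.AtPrime.ringKrullDim_eq_height (q.comap (Ideal.Quotient.mk I))
    (Localization.AtPrime (q.comap (Ideal.Quotient.mk I)))
  have h3 := Groth.Agent.Lib.Helper55.ringKrullDim_quotient_add_height k
    (MvPolynomial (Fin n) k) (q.comap (Ideal.Quotient.mk I))
  rw [MvPolynomial.ringKrullDim_of_isNoetherianRing, ringKrullDim_eq_zero_of_field, zero_add,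
    Nat.card_eq_fintype_card, Fintype.card_fin] at h3
  have h4 := height_add_ringKrullDim_quotient_le q
  rw [hdim, ringKrullDim_quotient_quotient] at h4
  have hkey := arith hcn h3 h4
  have hreg : IsWeaklyRegular (Localization.AtPrime (q.comap (Ideal.Quotient.mk I)))
      (List.ofFn fun i => algebraMap (MvPolynomial (Fin n) k)
        (Localization.AtPrime (q.comap (Ideal.Quotient.mk I))) (r i)) := by
    apply isWeaklyRegular_of_ringKrullDim_quotient_add_le hCM _ hxs
    rw [hofList, h1, h2, List.length_ofFn]
    exact hkey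
  have hloc := isLocalization_atPrime_quotient I q
  have hlocal : IsLocalRing (Localization.AtPrime (q.comap (Ideal.Quotient.mk I)) ⧸
      I.map (algebraMap _ (Localization.AtPrime (q.comap (Ideal.Quotient.mk I))))) :=
    IsLocalization.AtPrime.isLocalRing (Localization.AtPrime (q.comap (Ideal.Quotient.mk I)) ⧸
      I.map (algebraMap _ (Localization.AtPrime (q.comap (Ideal.Quotient.mk I))))) q
  have hCMq := isCohenMacaulayLocalRing_quotient hCM _ hxs hreg _ hofList
  exact isCohenMacaulayLocalRing_of_ringEquiv (IsLocalization.algEquiv q.primeCompl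
    (Localization.AtPrime (q.comap (Ideal.Quotient.mk I)) ⧸
      I.map (algebraMap _ (Localization.AtPrime (q.comap (Ideal.Quotient.mk I)))))
    (Localization.AtPrime q)).toRingEquiv hCMq

theorem isCohenMacaulayRing_of_isGlobalCI (S : Type u) [CommRing S] [Algebra k S]
    (h : Synt.IsGlobalCI k S) : IsCohenMacaulayRing S := by
  rcases h with hsub | ⟨n, c, hcn, φ, r, hsurj, hker, hdim⟩
  · have : IsNoetherianRing S := inferInstance
    refine { isCohenMacaulayLocalRing_localization := fun p hp => ?_ }
    exact absurd (Subsingleton.elim (1 : S) 0 ▸ p.zero_mem : (1 : S) ∈ p)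
      (p.ne_top_iff_one.mp hp.ne_top)
  · have e : (MvPolynomial (Fin n) k ⧸ Ideal.span (Set.range r)) ≃+* S :=
      (Ideal.quotEquivOfEq hker.symm).trans (RingHom.quotientKerEquivOfSurjective hsurj)
    have hdim' : ringKrullDim (MvPolynomial (Fin n) k ⧸ Ideal.span (Set.range r)) =
        ((n - c : ℕ) : WithBot ℕ∞) := by
      rw [ringKrullDim_eq_of_ringEquiv e, hdim]
    have hCM : IsCohenMacaulayRing (MvPolynomial (Fin n) k ⧸ Ideal.span (Set.range r)) :=
      { isCohenMacaulayLocalRing_localization := fun q hq =>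
          isCohenMacaulayLocalRing_localization_quotient k n _ c r rfl hcn hdim' q }
    exact isCohenMacaulayRing_of_ringEquiv e hCM

end Poly

section LCI

variable (k : Type u) [Field k]

theorem isLocalization_atPrime_of_eq {S A : Type*} [CommRing S] [CommRing A] [Algebra S A]
    (p p' : Ideal S) [p.IsPrime] [p'.IsPrime] (h : p' = p) (hloc : IsLocalization.AtPrime A p') :
    IsLocalization.AtPrime A p := by
  subst h
  exact hloc

theorem isCohenMacaulayRing_of_isLCIOver (S : Type u) [CommRing S] [Algebra k S]
    (h : Synt.IsLCIOver k S) : IsCohenMacaulayRing S := by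
  obtain ⟨hft, hloc⟩ := h
  have hN : IsNoetherianRing S := Algebra.FiniteType.isNoetherianRing k S
  refine { isCohenMacaulayLocalRing_localization := fun p hp => ?_ }
  obtain ⟨g, hg, hgci⟩ := hloc ⟨p, hp⟩
  have hCMg := isCohenMacaulayRing_of_isGlobalCI k (Localization.Away g) hgci
  have hdisj : Disjoint (Submonoid.powers g : Set S) (p : Set S) := by
    rw [Set.disjoint_left]
    rintro _ ⟨m, rfl⟩ hm
    exact hg (hp.mem_of_pow_mem m hm)
  have hP' : (p.map (algebraMap S (Localization.Away g))).IsPrime :=
    IsLocalization.isPrime_of_isPrime_disjoint (Submonoid.powers g) _ p hp hdisj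
  have hcomap : (p.map (algebraMap S (Localization.Away g))).comap
      (algebraMap S (Localization.Away g)) = p :=
    IsLocalization.under_map_of_isPrime_disjoint (Submonoid.powers g) _ hp hdisj
  have hloc1 := IsLocalization.isLocalization_isLocalization_atPrime_isLocalization
    (Submonoid.powers g) (Localization.AtPrime (p.map (algebraMap S (Localization.Away g))))
    (p.map (algebraMap S (Localization.Away g)))
  have hloc2 : IsLocalization.AtPrime
      (Localization.AtPrime (p.map (algebraMap S (Localization.Away g)))) p :=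
    isLocalization_atPrime_of_eq p _ hcomap hloc1
  have hCM' := hCMg.isCohenMacaulayLocalRing_localization
    (p.map (algebraMap S (Localization.Away g)))
  exact isCohenMacaulayLocalRing_of_ringEquiv (IsLocalization.algEquiv p.primeCompl
    (Localization.AtPrime (p.map (algebraMap S (Localization.Away g))))
    (Localization.AtPrime p)).toRingEquiv hCM'

end LCI

end Groth.Agent.Lib.Helper82.GCICM
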