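import Groth.Agent.Lib.Helper82.CMHeight
import Mathlib.RingTheory.RegularLocalRing.Polynomial

/-!
# Dimension criteria for regular sequences in Cohen–Macaulay local rings
-/

set_option autoImplicit false

namespace Groth.Agent.Lib.Helper82.CMDim

open LocCoh RingTheory.Sequence Groth.Agent.Lib.Helper29 Groth.Agent.Lib.Helper82.CMHeight

universe u

section CM

variable {A : Type u} [CommRing A] [IsLocalRing A] [IsNoetherianRing A]

omit [IsLocalRing A] [IsNoetherianRing A] in
theorem supportDim_quotient_ofList (xs : List A) :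
    Module.supportDim A (A ⧸ Ideal.ofList xs • (⊤ : Submodule A A)) =
      ringKrullDim (A ⧸ Ideal.ofList xs) := by
  have hI : (Ideal.ofList xs • (⊤ : Submodule A A)) = Ideal.ofList xs := by
    rw [smul_eq_mul, Ideal.mul_top]
  rw [Module.supportDim_eq_of_equiv (Submodule.quotEquivOfEq _ _ hI),
    Module.supportDim_quotient_eq_ringKrullDim]

/-- In a CM local ring, elements of the maximal ideal with `dim A/(xs) + |xs| ≤ dim A` form a
regular sequence. -/
theorem isWeaklyRegular_of_ringKrullDim_quotient_add_le (hCM : IsCohenMacaulayModule A A)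
    (xs : List A) (hxs : ∀ x ∈ xs, x ∈ IsLocalRing.maximalIdeal A)
    (h : ringKrullDim (A ⧸ Ideal.ofList xs) + (xs.length : WithBot ℕ∞) ≤ ringKrullDim A) :
    IsWeaklyRegular A xs := by
  rw [isWeaklyRegular_iff_supportDim_of_isCohenMacaulayModule A A hCM xs hxs,
    supportDim_quotient_ofList, Module.supportDim_self_eq_ringKrullDim]
  apply le_antisymm h
  have h2 := ringKrullDim_le_ringKrullDim_quotient_add_encard ({x | x ∈ xs} : Set A) (by
    rw [IsLocalRing.ringJacobson_eq_maximalIdeal]
    exact fun x hx => hxs x hx)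
  refine le_trans h2 ?_
  gcongr
  exact_mod_cast encard_setOf_mem_le_length xs

theorem isRegular_of_ringKrullDim_quotient_add_le (hCM : IsCohenMacaulayModule A A)
    (xs : List A) (hxs : ∀ x ∈ xs, x ∈ IsLocalRing.maximalIdeal A)
    (h : ringKrullDim (A ⧸ Ideal.ofList xs) + (xs.length : WithBot ℕ∞) ≤ ringKrullDim A) :
    IsRegular A xs :=
  isRegular_of_isWeaklyRegular_of_mem (maximalIdeal_smul_top_ne_top A A)
    (isWeaklyRegular_of_ringKrullDim_quotient_add_le hCM xs hxs h) hxs

/-- A regular sequence in the maximal ideal of a CM local ring cuts the dimension by its length. -/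
theorem ringKrullDim_quotient_add_length_of_isWeaklyRegular (hCM : IsCohenMacaulayModule A A)
    (xs : List A) (hxs : ∀ x ∈ xs, x ∈ IsLocalRing.maximalIdeal A) (h : IsWeaklyRegular A xs) :
    ringKrullDim (A ⧸ Ideal.ofList xs) + (xs.length : WithBot ℕ∞) = ringKrullDim A := by
  rw [isWeaklyRegular_iff_supportDim_of_isCohenMacaulayModule A A hCM xs hxs,
    supportDim_quotient_ofList, Module.supportDim_self_eq_ringKrullDim] at h
  exact h

end CM

end Groth.Agent.Lib.Helper82.CMDim
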