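import Groth.Agent.Lib.Helper82.CIPres
import Groth.Agent.Lib.Helper82.CMDim
import Groth.Agent.Lib.Helper28.RegularCM

/-!
# Complete intersections: independence of the presentation

* `spanFinrank_ker_add_eq`: for two surjections `π : B → C`, `π' : B' → C` from regular local rings,
  `μ(ker π) + dim B' = μ(ker π') + dim B`.
* `exists_isRegular_iff`: `ker π` is generated by a regular sequence iff `μ(ker π) + dim C = dim B`.
* `exists_isRegular_of_exists_isRegular`: being generated by a regular sequence does not depend on
  the presentation.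
-/

set_option autoImplicit false

namespace Groth.Agent.Lib.Helper82.CICrit

open IsLocalRing RingTheory.Sequence Groth.Agent.Lib.Helper82.KoszH1 Groth.Agent.Lib.Helper85
  Groth.Agent.Lib.Helper82.CIPres

universe u

section PI

variable (B : Type u) [CommRing B] [IsRegularLocalRing B] (C : Type u) [CommRing C]
  [IsLocalRing C] (π : B →+* C) (hπ : Function.Surjective π)

include hπ in
theorem exists_isLeast (e' : ℕ) (x : Fin e' → C)
    (hx : Ideal.span (Set.range x) = maximalIdeal C)
    (hmin : (maximalIdeal C).spanFinrank = e') :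
    ∃ ε : ℕ, (RingHom.ker π).spanFinrank + e' = ε + (maximalIdeal B).spanFinrank ∧
      IsLeast {r | GenBy x r} ε := by
  obtain ⟨f, hf⟩ := exists_fin_span_range_eq (RingHom.ker π) (IsNoetherian.noetherian _) rfl
  have h1 := spanFinrank_le_add π hπ x hx f hf (ker_ne_top π)
  have h2 : e' ≤ (maximalIdeal B).spanFinrank :=
    hmin ▸ spanFinrank_maximalIdeal_le_of_surjective π hπ
  refine ⟨(RingHom.ker π).spanFinrank + e' - (maximalIdeal B).spanFinrank, by omega, ?_, ?_⟩
  · exact (genBy_iff_exists_generators_aux _ B C π hπ rfl e' x hx hmin _ _ (by omega)).mpr ⟨f, hf⟩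
  · intro r hr
    obtain ⟨f', hf'⟩ := (genBy_iff_exists_generators_aux _ B C π hπ rfl e' x hx hmin r
      (r + (maximalIdeal B).spanFinrank - e') (by omega)).mp hr
    have h3 : (RingHom.ker π).spanFinrank ≤ r + (maximalIdeal B).spanFinrank - e' := by
      rw [← hf']
      exact spanFinrank_span_range_le f'
    omega

variable (B' : Type u) [CommRing B'] [IsRegularLocalRing B'] (π' : B' →+* C)
  (hπ' : Function.Surjective π')

include hπ hπ' in
/-- Independence of the presentation. -/
theorem spanFinrank_ker_add_eq :
    (RingHom.ker π).spanFinrank + (maximalIdeal B').spanFinrank =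
      (RingHom.ker π').spanFinrank + (maximalIdeal B).spanFinrank := by
  have hN : IsNoetherianRing C := isNoetherianRing_of_surjective B C π hπ
  obtain ⟨x, hx⟩ := exists_fin_span_range_eq (maximalIdeal C)
    (maximalIdeal C).fg_of_isNoetherianRing rfl
  obtain ⟨ε, h1, hε⟩ := exists_isLeast B C π hπ _ x hx rfl
  obtain ⟨ε', h1', hε'⟩ := exists_isLeast B' C π' hπ' _ x hx rfl
  have : ε = ε' := hε.unique hε'
  omega

end PI

section Crit

variable (B : Type u) [CommRing B] [IsRegularLocalRing B] (C : Type u) [CommRing C]
  [IsLocalRing C] (π : B →+* C) (hπ : Function.Surjective π)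

theorem ofList_ofFn' {R : Type u} [CommRing R] {c : ℕ} (f : Fin c → R) :
    Ideal.ofList (List.ofFn f) = Ideal.span (Set.range f) := by
  have : ({x | x ∈ List.ofFn f} : Set R) = Set.range f := by
    ext x
    simp [List.mem_ofFn']
  rw [← this]

include hπ in
omit [IsRegularLocalRing B] [IsLocalRing C] in
theorem ringKrullDim_quotient_ker : ringKrullDim (B ⧸ RingHom.ker π) = ringKrullDim C :=
  ringKrullDim_eq_of_ringEquiv (RingHom.quotientKerEquivOfSurjective hπ)

include hπ in
/-- `ker π` is generated by a regular sequence iff `μ(ker π) + dim C = dim B`. -/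
theorem exists_isRegular_iff :
    (∃ rs : List B, IsRegular B rs ∧ Ideal.ofList rs = RingHom.ker π) ↔
      ((RingHom.ker π).spanFinrank : WithBot ℕ∞) + ringKrullDim C = ringKrullDim B := by
  have hCM := Groth.Agent.Lib.Helper28.isCohenMacaulayModule_self_of_isRegularLocalRing B
  have hIm : RingHom.ker π ≤ maximalIdeal B := IsLocalRing.le_maximalIdeal (ker_ne_top π)
  have hdimC := ringKrullDim_quotient_ker B C π hπ
  have hge : ringKrullDim B ≤ ringKrullDim C + ((RingHom.ker π).spanFinrank : WithBot ℕ∞) := by
    rw [← hdimC]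
    exact ringKrullDim_le_ringKrullDim_quotient_add_spanFinrank _
      (by rw [IsLocalRing.ringJacobson_eq_maximalIdeal]; exact hIm)
  constructor
  · rintro ⟨rs, hreg, hrs⟩
    have hmem : ∀ r ∈ rs, r ∈ maximalIdeal B := fun r hr =>
      hIm (hrs ▸ Ideal.subset_span hr)
    have h1 := Groth.Agent.Lib.Helper82.CMDim.ringKrullDim_quotient_add_length_of_isWeaklyRegular
      hCM rs hmem hreg.toIsWeaklyRegular
    rw [hrs, hdimC] at h1
    have h2 : (RingHom.ker π).spanFinrank ≤ rs.length := by
      rw [← hrs]
      refine (Submodule.spanFinrank_span_le_ncard_of_finite (List.finite_toSet rs)).trans ?_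
      have := Groth.Agent.Lib.Helper82.CMHeight.encard_setOf_mem_le_length rs
      rw [← Set.Finite.cast_ncard_eq (List.finite_toSet rs)] at this
      exact_mod_cast this
    apply le_antisymm
    · rw [← h1, add_comm]
      gcongr
    · rw [add_comm]; exact hge
  · intro h
    obtain ⟨f, hf⟩ := exists_fin_span_range_eq (RingHom.ker π) (IsNoetherian.noetherian _) rfl
    have hmem : ∀ r ∈ List.ofFn f, r ∈ maximalIdeal B := fun r hr => by
      apply hIm
      rw [← hf, ← ofList_ofFn']
      exact Ideal.subset_span hr
    refine ⟨List.ofFn f, ?_, (ofList_ofFn' f).trans hf⟩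
    apply Groth.Agent.Lib.Helper82.CMDim.isRegular_of_ringKrullDim_quotient_add_le hCM _ hmem
    rw [ofList_ofFn', hf, hdimC, List.length_ofFn, ← h, add_comm]


variable (B' : Type u) [CommRing B'] [IsRegularLocalRing B'] (π' : B' →+* C)
  (hπ' : Function.Surjective π')

include hπ hπ' in
/-- Being cut out by a regular sequence does not depend on the regular presentation. -/
theorem exists_isRegular_of_exists_isRegular
    (h : ∃ rs : List B, IsRegular B rs ∧ Ideal.ofList rs = RingHom.ker π) :
    ∃ rs : List B', IsRegular B' rs ∧ Ideal.ofList rs = RingHom.ker π' := by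
  rw [exists_isRegular_iff B C π hπ] at h
  rw [exists_isRegular_iff B' C π' hπ']
  have hPI := spanFinrank_ker_add_eq B C π hπ B' π' hπ'
  have hB := IsRegularLocalRing.spanFinrank_maximalIdeal (R := B)
  have hB' := IsRegularLocalRing.spanFinrank_maximalIdeal (R := B')
  have hC0 : (0 : WithBot ℕ∞) ≤ ringKrullDim C := ringKrullDim_nonneg_of_nontrivial
  have hCle : ringKrullDim C ≤ ((maximalIdeal B).spanFinrank : ℕ) := by
    have := ringKrullDim_le_of_surjective π hπ
    rw [← hB] at this
    exact this
  obtain ⟨d, hd⟩ := exists_nat_eq_of_le hC0 hCle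
  rw [hd, ← hB] at h
  rw [hd, ← hB']
  have h' : (RingHom.ker π).spanFinrank + d = (maximalIdeal B).spanFinrank := by
    exact_mod_cast h
  have : (RingHom.ker π').spanFinrank + d = (maximalIdeal B').spanFinrank := by omega
  exact_mod_cast this

end Crit

end Groth.Agent.Lib.Helper82.CICrit
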