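import Groth.Agent.Lib.Helper82.CISpreadE

/-!
# Complete intersections over a field: local rings versus global complete intersection
neighbourhoods
-/

set_option autoImplicit false

namespace Groth.Agent.Lib.Helper82.CIField

open MvPolynomial RingTheory.Sequence

universe u

variable (k : Type u) [Field k]

/-- `IsCIOver` is invariant under algebra isomorphisms. -/
theorem isCIOver_of_algEquiv {S S' : Type u} [CommRing S] [CommRing S'] [Algebra k S]
    [Algebra k S'] [IsLocalRing S] [IsLocalRing S'] (e : S ≃ₐ[k] S') (h : Synt.IsCIOver k S) :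
    Synt.IsCIOver k S' := by
  obtain ⟨R, _, _, _, hR, rs, hmem, hreg, ⟨φ⟩⟩ := h
  exact ⟨R, inferInstance, inferInstance, inferInstance, hR, rs, hmem, hreg, ⟨e.symm.trans φ⟩⟩

section LemmaA

variable {k}

/-- The local rings of a global complete intersection are complete intersections. -/
theorem isCIOver_localization_of_isGlobalCI {T : Type u} [CommRing T] [Algebra k T]
    (hT : Synt.IsGlobalCI k T) (Q : Ideal T) [Q.IsPrime] :
    Synt.IsCIOver k (Localization.AtPrime Q) := by
  have hnt : Nontrivial T := by
    rw [← not_subsingleton_iff_nontrivial]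
    intro hsub
    exact (Ideal.IsPrime.ne_top (I := Q) inferInstance) (Subsingleton.elim _ _)
  rcases hT with hsub | ⟨m, c', hc', φ, r, hφ, hker, hdim⟩
  · exact absurd hsub (not_subsingleton _)
  have hφ' : ∀ b : T, ∃ a s : MvPolynomial (Fin m) k, φ.toRingHom s ∉ Q ∧
        φ.toRingHom s * b = φ.toRingHom a := by
    intro b
    obtain ⟨a, ha⟩ := hφ b
    refine ⟨a, 1, ?_, ?_⟩
    · rw [map_one]
      exact (Ideal.ne_top_iff_one _).mp (Ideal.IsPrime.ne_top inferInstance)
    · rw [map_one, one_mul]
      exact ha.symm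
  have hπ₂ := Groth.Agent.Lib.Helper82.CISpreadA.localRingHom_surjective φ.toRingHom Q _ rfl hφ'
  have hkerπ₂ := Groth.Agent.Lib.Helper82.CISpreadA.ker_localRingHom φ.toRingHom Q _ rfl hφ'
  have hkerQ : RingHom.ker φ.toRingHom ≤ Q.comap φ.toRingHom := fun a ha => by
    rw [Ideal.mem_comap, (RingHom.mem_ker).mp ha]
    exact zero_mem _
  have hreg₂ := Groth.Agent.Lib.Helper82.CISpreadE.isRegular_of_presentation m c' hc' φ r hφ hker
    hdim (Q.comap φ.toRingHom) hkerQ
  have hRR₂ : IsRegularRing (MvPolynomial (Fin m) k) :=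
    MvPolynomial.isRegularRing_of_isRegularRing k
  have hL₂ : IsRegularLocalRing (Localization.AtPrime (Q.comap φ.toRingHom)) :=
    IsRegularRing.isRegularLocalRing_localization _
  -- the algebra map
  let π₂ : Localization.AtPrime (Q.comap φ.toRingHom) →ₐ[k] Localization.AtPrime Q :=
    { Localization.localRingHom (Q.comap φ.toRingHom) Q φ.toRingHom rfl with
      commutes' := fun x => by
        change Localization.localRingHom (Q.comap φ.toRingHom) Q φ.toRingHom rfl
          (algebraMap k (Localization.AtPrime (Q.comap φ.toRingHom)) x) = _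
        rw [IsScalarTower.algebraMap_apply k (MvPolynomial (Fin m) k)
          (Localization.AtPrime (Q.comap φ.toRingHom)), Localization.localRingHom_to_map]
        change algebraMap T (Localization.AtPrime Q) (φ (algebraMap k _ x)) = _
        rw [φ.commutes, ← IsScalarTower.algebraMap_apply] }
  have hπ₂' : Function.Surjective π₂ := hπ₂
  have hkerπ₂' : RingHom.ker π₂ = Ideal.ofList ((List.ofFn r).map
      (algebraMap (MvPolynomial (Fin m) k) (Localization.AtPrime (Q.comap φ.toRingHom)))) := by
    change RingHom.ker (Localization.localRingHom (Q.comap φ.toRingHom) Q φ.toRingHom rfl) = _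
    rw [hkerπ₂, hker, ← Groth.Agent.Lib.Helper82.CICrit.ofList_ofFn' r, Ideal.map_ofList]
  refine ⟨Localization.AtPrime (Q.comap φ.toRingHom), inferInstance, hL₂, inferInstance,
    inferInstance, _, ?_, hreg₂, ⟨(Ideal.quotientKerAlgEquivOfSurjective hπ₂').symm.trans
      (Ideal.quotientEquivAlgOfEq k hkerπ₂')⟩⟩
  intro x hx
  obtain ⟨y, hy, rfl⟩ := List.mem_map.mp hx
  obtain ⟨i, rfl⟩ := (List.mem_ofFn' r y).mp hy
  rw [IsLocalization.AtPrime.to_map_mem_maximal_iff _ (Q.comap φ.toRingHom)]
  apply hkerQ
  rw [hker]
  exact Ideal.subset_span (Set.mem_range_self i)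

/-- The local ring of `S_g` at `q S_g` is the local ring of `S` at `q`. -/
theorem isCIOver_of_isCIOver_map {S : Type u} [CommRing S] [Algebra k S] (q : Ideal S)
    [q.IsPrime] (g : S) (hg : g ∉ q)
    [hP' : (q.map (algebraMap S (Localization.Away g))).IsPrime]
    (h1 : Synt.IsCIOver k (Localization.AtPrime (q.map (algebraMap S (Localization.Away g))))) :
    Synt.IsCIOver k (Localization.AtPrime q) := by
  have hdisj : Disjoint (Submonoid.powers g : Set S) (q : Set S) := by
    rw [Set.disjoint_left]
    rintro _ ⟨m, rfl⟩ hm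
    exact hg (Ideal.IsPrime.mem_of_pow_mem inferInstance m hm)
  have hcomap : (q.map (algebraMap S (Localization.Away g))).comap
      (algebraMap S (Localization.Away g)) = q :=
    IsLocalization.under_map_of_isPrime_disjoint (Submonoid.powers g) _ inferInstance hdisj
  have hloc1 := IsLocalization.isLocalization_isLocalization_atPrime_isLocalization
    (Submonoid.powers g) (Localization.AtPrime (q.map (algebraMap S (Localization.Away g))))
    (q.map (algebraMap S (Localization.Away g)))
  have hloc2 : IsLocalization.AtPrime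
      (Localization.AtPrime (q.map (algebraMap S (Localization.Away g)))) q :=
    Groth.Agent.Lib.Helper82.GCICM.isLocalization_atPrime_of_eq q _ hcomap hloc1
  exact isCIOver_of_algEquiv k ((IsLocalization.algEquiv q.primeCompl
    (Localization.AtPrime (q.map (algebraMap S (Localization.Away g))))
    (Localization.AtPrime q)).restrictScalars k) h1

theorem map_isPrime_of_notMem {S : Type u} [CommRing S] (q : Ideal S) [q.IsPrime] (g : S)
    (hg : g ∉ q) : (q.map (algebraMap S (Localization.Away g))).IsPrime := by
  have hdisj : Disjoint (Submonoid.powers g : Set S) (q : Set S) := by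
    rw [Set.disjoint_left]
    rintro _ ⟨m, rfl⟩ hm
    exact hg (Ideal.IsPrime.mem_of_pow_mem inferInstance m hm)
  exact IsLocalization.isPrime_of_isPrime_disjoint (Submonoid.powers g) _ q inferInstance hdisj

/-- If some basic open neighbourhood of `q` is a global complete intersection, the local ring at
`q` is a complete intersection. -/
theorem isCIOver_of_isGlobalCI_away {S : Type u} [CommRing S] [Algebra k S] (q : Ideal S)
    [q.IsPrime] (g : S) (hg : g ∉ q) (hG : Synt.IsGlobalCI k (Localization.Away g)) :
    Synt.IsCIOver k (Localization.AtPrime q) := by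
  have hP' := map_isPrime_of_notMem q g hg
  exact isCIOver_of_isCIOver_map q g hg
    (isCIOver_localization_of_isGlobalCI hG (q.map (algebraMap S (Localization.Away g))))

/-- A global complete intersection of finite type is a local complete intersection. -/
theorem isLCIOver_of_isGlobalCI {T : Type u} [CommRing T] [Algebra k T] [Algebra.FiniteType k T]
    (h : Synt.IsGlobalCI k T) : Synt.IsLCIOver k T :=
  ⟨inferInstance, fun p => ⟨1, (Ideal.ne_top_iff_one _).mp p.2.ne_top,
    Groth.Agent.H46.GCILocalize.isGlobalCI_away 1 h⟩⟩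

/-- If some basic open neighbourhood of `q` is a local complete intersection, the local ring at
`q` is a complete intersection. -/
theorem isCIOver_of_isLCIOver_away {S : Type u} [CommRing S] [Algebra k S] (q : Ideal S)
    [q.IsPrime] (g : S) (hg : g ∉ q) (hG : Synt.IsLCIOver k (Localization.Away g)) :
    Synt.IsCIOver k (Localization.AtPrime q) := by
  have hP' := map_isPrime_of_notMem q g hg
  obtain ⟨g₂, hg₂, hG₂⟩ := hG.2 ⟨q.map (algebraMap S (Localization.Away g)), hP'⟩
  exact isCIOver_of_isCIOver_map q g hg
    (isCIOver_of_isGlobalCI_away (q.map (algebraMap S (Localization.Away g))) g₂ hg₂ hG₂)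

end LemmaA

section LemmaB

variable {k}

/-- If the local ring of `P/I` at `q` is a complete intersection over `k`, then some basic open
neighbourhood of `q` is a global complete intersection. -/
theorem exists_isGlobalCI_away_of_isCIOver_quotient (n : ℕ) (I : Ideal (MvPolynomial (Fin n) k))
    (q : Ideal (MvPolynomial (Fin n) k ⧸ I)) [q.IsPrime]
    (h : Synt.IsCIOver k (Localization.AtPrime q)) :
    ∃ g : MvPolynomial (Fin n) k ⧸ I, g ∉ q ∧ Synt.IsGlobalCI k (Localization.Away g) := by
  obtain ⟨R, _, hR, _, hess, rs, hmem, hreg, ⟨e⟩⟩ := h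
  let π_R : R →+* Localization.AtPrime q :=
    (e.symm : (R ⧸ Ideal.ofList rs) →+* Localization.AtPrime q).comp
      (Ideal.Quotient.mk (Ideal.ofList rs))
  have hπ_R : Function.Surjective π_R := e.symm.surjective.comp Ideal.Quotient.mk_surjective
  have hker_R : RingHom.ker π_R = Ideal.ofList rs := by
    change RingHom.ker (((e.symm : (R ⧸ Ideal.ofList rs) ≃+* Localization.AtPrime q) :
      (R ⧸ Ideal.ofList rs) →+* Localization.AtPrime q).comp
      (Ideal.Quotient.mk (Ideal.ofList rs))) = _
    rw [← RingEquiv.toRingHom_eq_coe, RingHom.ker_equiv_comp, Ideal.mk_ker]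
  have hψ : ∀ b : MvPolynomial (Fin n) k ⧸ I, ∃ a s : MvPolynomial (Fin n) k,
      Ideal.Quotient.mk I s ∉ q ∧ Ideal.Quotient.mk I s * b = Ideal.Quotient.mk I a := by
    intro b
    obtain ⟨a, rfl⟩ := Ideal.Quotient.mk_surjective b
    refine ⟨a, 1, ?_, ?_⟩
    · rw [map_one]
      exact (Ideal.ne_top_iff_one _).mp (Ideal.IsPrime.ne_top inferInstance)
    · rw [map_one, one_mul]
  have hπ_L := Groth.Agent.Lib.Helper82.CISpreadA.localRingHom_surjective
    (Ideal.Quotient.mk I) q (q.comap (Ideal.Quotient.mk I)) rfl hψ
  have hker_L := Groth.Agent.Lib.Helper82.CISpreadA.ker_localRingHom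
    (Ideal.Quotient.mk I) q (q.comap (Ideal.Quotient.mk I)) rfl hψ
  rw [Ideal.mk_ker] at hker_L
  obtain ⟨rs', hreg', hrs'⟩ :=
    Groth.Agent.Lib.Helper82.CICrit.exists_isRegular_of_exists_isRegular R _ π_R hπ_R
      (Localization.AtPrime (q.comap (Ideal.Quotient.mk I))) _ hπ_L ⟨rs, hreg, hker_R.symm⟩
  have hrsIL := hrs'.trans hker_L
  have hc : ((rs'.length : ℕ) : ℕ∞) + q.height = (q.comap (Ideal.Quotient.mk I)).height := by
    have h1 := ringKrullDim_add_length_eq_ringKrullDim_of_isRegular rs' hreg'
    rw [hrsIL, Groth.Agent.Lib.Helper82.CIPoly.ringKrullDim_quotient_map_eq_height I q,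
      Groth.Agent.Lib.Helper82.CISpreadC.ringKrullDim_L] at h1
    rw [add_comm]
    exact_mod_cast h1
  exact Groth.Agent.Lib.Helper82.CISpreadC.exists_isGlobalCI_away _ hc rs' hreg' hrsIL

/-- If the local ring of a finite type `k`-algebra `S` at `q` is a complete intersection over `k`,
then some basic open neighbourhood of `q` is a global complete intersection. -/
theorem exists_isGlobalCI_away_of_isCIOver {S : Type u} [CommRing S] [Algebra k S]
    [hft : Algebra.FiniteType k S] (q : Ideal S) [q.IsPrime]
    (h : Synt.IsCIOver k (Localization.AtPrime q)) :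
    ∃ g : S, g ∉ q ∧ Synt.IsGlobalCI k (Localization.Away g) := by
  obtain ⟨n, f, hf⟩ := Algebra.FiniteType.iff_quotient_mvPolynomial''.mp hft
  let e : (MvPolynomial (Fin n) k ⧸ RingHom.ker f) ≃ₐ[k] S :=
    Ideal.quotientKerAlgEquivOfSurjective hf
  have hq₀ : (q.comap e).IsPrime := Ideal.comap_isPrime _ _
  have H : Submonoid.map e (q.comap e).primeCompl = q.primeCompl := by
    ext x
    constructor
    · rintro ⟨y, hy, rfl⟩
      exact hy
    · intro hx
      exact ⟨e.symm x, by
        change ¬ (e.symm x ∈ q.comap e)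
        rw [Ideal.mem_comap, AlgEquiv.apply_symm_apply]
        exact hx, AlgEquiv.apply_symm_apply e x⟩
  have eloc : Localization.AtPrime q ≃ₐ[k] Localization.AtPrime (q.comap e) :=
    (IsLocalization.algEquivOfAlgEquiv
      (Localization.AtPrime (q.comap e)) (Localization.AtPrime q) e H).symm
  have h0 : Synt.IsCIOver k (Localization.AtPrime (q.comap e)) :=
    isCIOver_of_algEquiv k eloc h
  obtain ⟨g₀, hg₀, hG₀⟩ := exists_isGlobalCI_away_of_isCIOver_quotient n (RingHom.ker f)
    (q.comap e) h0
  refine ⟨e g₀, hg₀, ?_⟩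
  have H2 : Submonoid.map e (Submonoid.powers g₀) = Submonoid.powers (e g₀) :=
    Submonoid.map_powers _ _
  have eaway : Localization.Away g₀ ≃ₐ[k] Localization.Away (e g₀) :=
    IsLocalization.algEquivOfAlgEquiv (Localization.Away g₀) (Localization.Away (e g₀)) e H2
  exact Groth.Agent.H46.isGlobalCI_of_algEquiv eaway hG₀

end LemmaB

end Groth.Agent.Lib.Helper82.CIField
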