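import Mathlib.RingTheory.KrullDimension.Regular
import Mathlib.RingTheory.Regular.Flat
import Mathlib.RingTheory.Ideal.KrullsHeightTheorem
import Mathlib.RingTheory.Localization.AtPrime.Basic

/-!
# General lemmas for spreading out complete intersections

* `length_le_height_of_isWeaklyRegular`: a weakly regular sequence contained in a prime `𝔓` of a
  Noetherian ring has length at most `ht 𝔓`.
* `le_height_map_of_forall_minimalPrimes`: lower bound for the height of `J A_𝔐`.
* `exists_notMem_forall_mul_mem`: if `I A_q ≤ J A_q` with `I` finitely generated, then `h I ≤ J`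
  for some `h ∉ q`.
* `localRingHom_surjective`, `ker_localRingHom`: the map `A_p → B_Q` induced by `ψ : A → B` when
  `B` is locally a quotient of `A`.
-/

set_option autoImplicit false

namespace Groth.Agent.Lib.Helper82.CISpreadA

open RingTheory.Sequence

universe u

section Regular

variable {L : Type*} [CommRing L] [IsNoetherianRing L]

/-- A weakly regular sequence contained in a prime `𝔓` has length at most `ht 𝔓`. -/
theorem length_le_height_of_isWeaklyRegular (rs : List L) (hreg : IsWeaklyRegular L rs)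
    (𝔓 : Ideal L) [𝔓.IsPrime] (hmem : ∀ r ∈ rs, r ∈ 𝔓) : (rs.length : ℕ∞) ≤ 𝔓.height := by
  have hR : IsRegular (Localization.AtPrime 𝔓)
      (rs.map (algebraMap L (Localization.AtPrime 𝔓))) :=
    hreg.isRegular_of_isLocalization_of_mem (Localization.AtPrime 𝔓) 𝔓 hmem
  have h1 := ringKrullDim_add_length_eq_ringKrullDim_of_isRegular _ hR
  rw [IsLocalization.AtPrime.ringKrullDim_eq_height 𝔓 (Localization.AtPrime 𝔓),
    List.length_map] at h1
  have hnt : Nontrivial (Localization.AtPrime 𝔓 ⧸
      Ideal.ofList (rs.map (algebraMap L (Localization.AtPrime 𝔓)))) := by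
    apply Ideal.Quotient.nontrivial_iff.mpr
    intro htop
    apply hR.top_ne_smul
    rw [htop]
    simp
  have h0 : (0 : WithBot ℕ∞) ≤ ringKrullDim (Localization.AtPrime 𝔓 ⧸
      Ideal.ofList (rs.map (algebraMap L (Localization.AtPrime 𝔓)))) :=
    ringKrullDim_nonneg_of_nontrivial
  have h2 : ((rs.length : ℕ∞) : WithBot ℕ∞) ≤ (𝔓.height : WithBot ℕ∞) := by
    rw [← h1]
    calc ((rs.length : ℕ∞) : WithBot ℕ∞) = 0 + ((rs.length : ℕ) : WithBot ℕ∞) := by
          rw [zero_add]; rfl
      _ ≤ _ := by gcongr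
  exact WithBot.coe_le_coe.mp h2

end Regular

section Height

variable {A : Type*} [CommRing A]

/-- If all minimal primes of `J` inside `𝔐` have height at least `c`, then `J A_𝔐` has height at
least `c`. -/
theorem le_height_map_of_forall_minimalPrimes (J 𝔐 : Ideal A) [𝔐.IsPrime] (c : ℕ∞)
    (h : ∀ p₀ ∈ J.minimalPrimes, p₀ ≤ 𝔐 → c ≤ p₀.height) :
    c ≤ (J.map (algebraMap A (Localization.AtPrime 𝔐))).height := by
  rw [Ideal.height_eq_inf_minimalPrimes]
  refine le_iInf₂ fun 𝔓 h𝔓 => ?_
  have h𝔓prime : 𝔓.IsPrime := h𝔓.1.1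
  rw [← IsLocalization.height_under 𝔐.primeCompl 𝔓]
  have hJle : J ≤ 𝔓.under A := by
    rw [Ideal.under_def, ← Ideal.map_le_iff_le_comap]
    exact h𝔓.1.2
  have hle𝔐 : 𝔓.under A ≤ 𝔐 := by
    have hdisj := (IsLocalization.isPrime_iff_isPrime_disjoint 𝔐.primeCompl
      (Localization.AtPrime 𝔐) 𝔓).mp h𝔓prime |>.2
    intro x hx
    by_contra hxm
    exact Set.disjoint_left.mp hdisj (show x ∈ (𝔐.primeCompl : Set A) from hxm) hx
  obtain ⟨p₀, hp₀, hp₀le⟩ := Ideal.exists_minimalPrimes_le hJle
  exact (h p₀ hp₀ (hp₀le.trans hle𝔐)).trans (Ideal.height_mono hp₀le)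

/-- If `I A_q ≤ J A_q` and `I` is finitely generated, then `h I ≤ J` for some `h ∉ q`. -/
theorem exists_notMem_forall_mul_mem (q : Ideal A) [q.IsPrime] (I J : Ideal A) (hI : I.FG)
    (hle : I.map (algebraMap A (Localization.AtPrime q)) ≤
      J.map (algebraMap A (Localization.AtPrime q))) :
    ∃ h : A, h ∉ q ∧ ∀ a ∈ I, h * a ∈ J := by
  classical
  obtain ⟨T, rfl⟩ := hI
  have key : ∀ T' : Finset A, (T' : Set A) ⊆ T → ∃ h : A, h ∉ q ∧ ∀ a ∈ T', h * a ∈ J := by
    intro T'
    induction T' using Finset.induction_on with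
    | empty => exact fun _ => ⟨1, (Ideal.ne_top_iff_one q).mp (Ideal.IsPrime.ne_top ‹_›), by simp⟩
    | insert a T'' ha ih =>
      intro hsub
      obtain ⟨h₁, hh₁, hT''⟩ := ih (fun x hx => hsub (Finset.mem_insert_of_mem hx))
      have haT : a ∈ (T : Set A) := hsub (Finset.mem_insert_self a T'')
      have hmem : algebraMap A (Localization.AtPrime q) a ∈
          J.map (algebraMap A (Localization.AtPrime q)) :=
        hle (Ideal.mem_map_of_mem _ (Ideal.subset_span haT))
      obtain ⟨m, hm, hma⟩ := (IsLocalization.algebraMap_mem_map_algebraMap_iff q.primeCompl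
        (Localization.AtPrime q) J a).mp hmem
      refine ⟨h₁ * m, fun hmem' => ?_, ?_⟩
      · rcases (Ideal.IsPrime.mem_or_mem ‹_› hmem') with h' | h'
        · exact hh₁ h'
        · exact hm h'
      · intro x hx
        rcases Finset.mem_insert.mp hx with rfl | hx
        · rw [mul_assoc]
          exact J.mul_mem_left _ hma
        · rw [mul_comm h₁ m, mul_assoc]
          exact J.mul_mem_left _ (hT'' x hx)
  obtain ⟨h, hh, hT⟩ := key T subset_rfl
  refine ⟨h, hh, fun a ha => ?_⟩
  induction ha using Submodule.span_induction with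
  | mem x hx => exact hT x hx
  | zero => simp
  | add x y _ _ hx hy => rw [mul_add]; exact J.add_mem hx hy
  | smul r x _ hx =>
    rw [smul_eq_mul, mul_left_comm]
    exact J.mul_mem_left _ hx

end Height

section LocalHom

variable {A B : Type*} [CommRing A] [CommRing B] (ψ : A →+* B) (Q : Ideal B) [Q.IsPrime]
  (p : Ideal A) [p.IsPrime] (hp : p = Q.comap ψ)
  (hψ : ∀ b : B, ∃ a s : A, ψ s ∉ Q ∧ ψ s * b = ψ a)

include hψ in
theorem localRingHom_surjective :
    Function.Surjective (Localization.localRingHom p Q ψ hp) := by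
  subst hp
  intro y
  obtain ⟨b, t, rfl⟩ := IsLocalization.exists_mk'_eq Q.primeCompl y
  obtain ⟨a, s, hs, hsb⟩ := hψ b
  obtain ⟨a', s', hs', hst⟩ := hψ t
  -- `t = ψ a' / ψ s'`, `b = ψ a / ψ s`, so `b / t = ψ (a s') / ψ (s a')`
  have ha' : ψ a' ∉ Q := by
    rw [← hst]
    intro hmem
    rcases Ideal.IsPrime.mem_or_mem ‹_› hmem with h | h
    · exact hs' h
    · exact t.2 h
  have hmem : s * a' ∈ (Q.comap ψ).primeCompl := by
    change ¬ (ψ (s * a') ∈ Q)
    rw [map_mul]
    intro hmem
    rcases Ideal.IsPrime.mem_or_mem ‹_› hmem with h | h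
    · exact hs h
    · exact ha' h
  refine ⟨IsLocalization.mk' _ (a * s') ⟨s * a', hmem⟩, ?_⟩
  rw [Localization.localRingHom_mk']
  rw [IsLocalization.mk'_eq_iff_eq]
  congr 1
  simp only [map_mul]
  rw [← hsb, ← hst]
  ring

include hψ in
theorem ker_localRingHom :
    RingHom.ker (Localization.localRingHom p Q ψ hp) =
      (RingHom.ker ψ).map (algebraMap A (Localization.AtPrime p)) := by
  subst hp
  apply le_antisymm
  · intro x hx
    obtain ⟨a, s, rfl⟩ := IsLocalization.exists_mk'_eq (Q.comap ψ).primeCompl x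
    rw [RingHom.mem_ker, Localization.localRingHom_mk', IsLocalization.mk'_eq_zero_iff] at hx
    obtain ⟨t, ht⟩ := hx
    obtain ⟨a', s', hs', hst⟩ := hψ t
    have ha' : ψ a' ∉ Q := by
      rw [← hst]
      intro hmem
      rcases Ideal.IsPrime.mem_or_mem ‹_› hmem with h | h
      · exact hs' h
      · exact t.2 h
    rw [IsLocalization.mk'_mem_map_algebraMap_iff]
    refine ⟨a', ha', ?_⟩
    rw [RingHom.mem_ker, map_mul, ← hst, mul_assoc, ht, mul_zero]
  · rw [Ideal.map_le_iff_le_comap]
    intro a ha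
    rw [Ideal.mem_comap, RingHom.mem_ker, Localization.localRingHom_to_map,
      (RingHom.mem_ker).mp ha, map_zero]

end LocalHom

end Groth.Agent.Lib.Helper82.CISpreadA
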