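import Mathlib
import Groth.Prelude.Def_EGA4b
import Groth.Agent.Lib.Helper82.CMDecomp
import Groth.Agent.Lib.Helper82.CISpreadA
import Groth.Agent.Lib.Helper29.FlatAscent2
import Groth.Agent.Lib.Helper55.LocalDim
import Groth.Agent.Lib.Helper13.ChevalleyAlg

/-!
# Fibrewise regular sequences: openness of the regular locus in `V(f)`

For a finite type ring map `R → S` with Cohen–Macaulay equidimensional fibres of dimension `d`
and `f : List S`, the set of primes `q ⊇ (f)` at which `f` is a regular sequence in the fibre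
local ring `S_q / p S_q` is open in `V(f)`: it is the locus where the fibre of `S ⧸ (f)` has local
dimension `≤ d - |f|` (Chevalley's theorem, `Helper13.Chevalley`).

Main statements:
* `nonempty_ringEquiv_fibLocRing_quotient`: `FibLocRing R S q ⧸ I ≃+* FibLocRing R (S ⧸ I) q'`.
* `height_add_ringKrullDim_quotient_eq`: `ht Q + dim F/Q = d` in a CM equidimensional algebra of
  finite type over a field.
* `nonempty_ringEquiv_fibLocRing`: `(κ(p) ⊗ S)_Q ≃+* FibLocRing R S q`.
* `isOpen_setOf_localDim_fiber_le`: Chevalley's openness for finite type ring maps.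
* `isRegular_fibLocRing_iff`, `main`.
-/

set_option autoImplicit false
universe u

namespace Groth.Agent.Lib.Helper82.FibReg

open LocCoh RingTheory.Sequence TensorProduct AlgebraicGeometry

theorem arith_core {h x : ℕ∞} {c : WithBot ℕ∞} {d i : ℕ}
    (hc : (h : WithBot ℕ∞) + c = (d : WithBot ℕ∞)) :
    ((x : WithBot ℕ∞) + (i : WithBot ℕ∞) ≤ (h : WithBot ℕ∞)) ↔
      (c + (x : WithBot ℕ∞) ≤ ((d - i : ℕ) : WithBot ℕ∞) ∧ i ≤ d) := by
  induction c with
  | bot => simp at hc
  | coe c =>
    have hc' : ((h + c : ℕ∞) : WithBot ℕ∞) = ((d : ℕ∞) : WithBot ℕ∞) := by exact_mod_cast hc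
    have hc'' : h + c = (d : ℕ∞) := WithBot.coe_injective hc'
    induction h with
    | top => simp at hc''
    | coe h =>
      induction c with
      | top => simp at hc''
      | coe c =>
        have hd : h + c = d := by exact_mod_cast hc''
        induction x with
        | top =>
          constructor
          · intro hle
            exfalso
            have : ((⊤ : ℕ∞) : WithBot ℕ∞) + ((i : ℕ∞) : WithBot ℕ∞) ≤ ((h : ℕ∞) : WithBot ℕ∞) := hle
            rw [← WithBot.coe_add, WithBot.coe_le_coe, top_add] at this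
            exact absurd this (by simp)
          · rintro ⟨hle, -⟩
            exfalso
            have : ((c : ℕ∞) : WithBot ℕ∞) + ((⊤ : ℕ∞) : WithBot ℕ∞) ≤ (((d - i : ℕ) : ℕ∞) : WithBot ℕ∞) := hle
            rw [← WithBot.coe_add, WithBot.coe_le_coe, add_top] at this
            exact absurd this (by simp)
        | coe x =>
          have e1 : (((x : ℕ∞) : WithBot ℕ∞) + (i : WithBot ℕ∞) ≤ ((h : ℕ∞) : WithBot ℕ∞)) ↔ x + i ≤ h := by
            norm_cast
          have e2 : (((c : ℕ∞) : WithBot ℕ∞) + ((x : ℕ∞) : WithBot ℕ∞) ≤ ((d - i : ℕ) : WithBot ℕ∞)) ↔ c + x ≤ d - i := by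
            norm_cast
            exact Nat.cast_le (α := WithBot ℕ∞)
          rw [e1, e2]
          omega

section Field

variable (k : Type u) [Field k] {F : Type u} [CommRing F] [Algebra k F] [Algebra.FiniteType k F]
  [hCMF : IsCohenMacaulayRing F] (d : ℕ)
  (heq : ∀ P ∈ minimalPrimes F, ringKrullDim (F ⧸ P) = (d : WithBot ℕ∞))

include k heq in
theorem ringKrullDim_le_of_equidim : ringKrullDim F ≤ (d : WithBot ℕ∞) := by
  rw [ringKrullDim_le_iff_isMaximal_height_le]
  intro 𝔪 h𝔪
  obtain ⟨𝔮, h𝔮min, h𝔮le⟩ := Ideal.exists_minimalPrimes_le (bot_le : ⊥ ≤ 𝔪)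
  have h1 := Groth.Agent.Lib.Helper82.CMDecomp.height_eq_ringKrullDim_quotient k 𝔪 h𝔪 𝔮 h𝔮min h𝔮le
  rw [heq 𝔮 h𝔮min] at h1
  exact h1.le

include k heq in
/-- In a Cohen–Macaulay equidimensional algebra of finite type over a field,
`ht Q + dim F/Q = d`. -/
theorem height_add_ringKrullDim_quotient_eq (Q : Ideal F) [Q.IsPrime] :
    (Q.height : WithBot ℕ∞) + ringKrullDim (F ⧸ Q) = (d : WithBot ℕ∞) := by
  apply le_antisymm
  · exact (Groth.Agent.Lib.Helper82.CMHeight.height_add_ringKrullDim_quotient_le Q).trans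
      (ringKrullDim_le_of_equidim k d heq)
  · exact Groth.Agent.Lib.Helper82.CMEquidim.le_height_add k d heq Q

end Field

section Quot

variable (R : Type u) {S : Type u} [CommRing R] [CommRing S] [Algebra R S] (I : Ideal S)

/-- The fibre local ring of `S ⧸ I` at `q'` is the quotient by `I` of the fibre local ring of `S`
at `q' ∩ S`. -/
theorem nonempty_ringEquiv_fibLocRing_quotient (q' : Ideal (S ⧸ I)) [q'.IsPrime] :
    Nonempty ((EGA4.FibLocRing R S (q'.comap (Ideal.Quotient.mk I)) ⧸
        I.map (algebraMap S (EGA4.FibLocRing R S (q'.comap (Ideal.Quotient.mk I))))) ≃+*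
      EGA4.FibLocRing R (S ⧸ I) q') := by
  set q : Ideal S := q'.comap (Ideal.Quotient.mk I) with hq
  have hψ : ∀ b : S ⧸ I, ∃ a s : S,
      Ideal.Quotient.mk I s ∉ q' ∧ Ideal.Quotient.mk I s * b = Ideal.Quotient.mk I a := by
    intro b
    obtain ⟨a, rfl⟩ := Ideal.Quotient.mk_surjective b
    refine ⟨a, 1, ?_, ?_⟩
    · rw [map_one]
      exact (Ideal.ne_top_iff_one _).mp (Ideal.IsPrime.ne_top inferInstance)
    · rw [map_one, one_mul]
  set Φ : Localization.AtPrime q →+* Localization.AtPrime q' :=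
    Localization.localRingHom q q' (Ideal.Quotient.mk I) rfl with hΦ
  have hΦsurj : Function.Surjective Φ :=
    Groth.Agent.Lib.Helper82.CISpreadA.localRingHom_surjective (Ideal.Quotient.mk I) q' q rfl hψ
  have hΦker : RingHom.ker Φ = I.map (algebraMap S (Localization.AtPrime q)) := by
    have := Groth.Agent.Lib.Helper82.CISpreadA.ker_localRingHom (Ideal.Quotient.mk I) q' q rfl hψ
    rwa [Ideal.mk_ker] at this
  set P₁ : Ideal (Localization.AtPrime q) :=
    (q.comap (algebraMap R S)).map (algebraMap R (Localization.AtPrime q)) with hP₁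
  set P₂ : Ideal (Localization.AtPrime q') :=
    (q'.comap (algebraMap R (S ⧸ I))).map (algebraMap R (Localization.AtPrime q')) with hP₂
  have hcompR : Φ.comp (algebraMap R (Localization.AtPrime q)) =
      algebraMap R (Localization.AtPrime q') := by
    ext x
    rw [RingHom.comp_apply, IsScalarTower.algebraMap_apply R S (Localization.AtPrime q),
      hΦ, Localization.localRingHom_to_map,
      IsScalarTower.algebraMap_apply R (S ⧸ I) (Localization.AtPrime q')]
    rfl
  have hunder : q.comap (algebraMap R S) = q'.comap (algebraMap R (S ⧸ I)) := rfl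
  have hP₁₂ : P₁.map Φ = P₂ := by
    rw [hP₁, Ideal.map_map, hcompR, hunder]
  set Ψ : Localization.AtPrime q →+* EGA4.FibLocRing R (S ⧸ I) q' :=
    (Ideal.Quotient.mk P₂).comp Φ with hΨ
  have hΨ0 : ∀ a ∈ P₁, Ψ a = 0 := by
    intro a ha
    rw [hΨ, RingHom.comp_apply, Ideal.Quotient.eq_zero_iff_mem, ← hP₁₂]
    exact Ideal.mem_map_of_mem _ ha
  set Ψ' : EGA4.FibLocRing R S q →+* EGA4.FibLocRing R (S ⧸ I) q' :=
    Ideal.Quotient.lift P₁ Ψ hΨ0 with hΨ'
  have hsurj : Function.Surjective Ψ' := by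
    intro y
    obtain ⟨y', rfl⟩ := Ideal.Quotient.mk_surjective y
    obtain ⟨x, rfl⟩ := hΦsurj y'
    exact ⟨Ideal.Quotient.mk P₁ x, by rw [hΨ', Ideal.Quotient.lift_mk, hΨ, RingHom.comp_apply]⟩
  have hker : RingHom.ker Ψ' = I.map (algebraMap S (EGA4.FibLocRing R S q)) := by
    apply le_antisymm
    · intro a ha
      obtain ⟨y, rfl⟩ := Ideal.Quotient.mk_surjective a
      rw [RingHom.mem_ker, hΨ', Ideal.Quotient.lift_mk, hΨ, RingHom.comp_apply,
        Ideal.Quotient.eq_zero_iff_mem, ← hP₁₂,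
        Ideal.mem_map_iff_of_surjective Φ hΦsurj] at ha
      obtain ⟨z, hz, hzy⟩ := ha
      have h1 : y - z ∈ RingHom.ker Φ := by
        rw [RingHom.mem_ker, map_sub, hzy, sub_self]
      rw [hΦker] at h1
      have h2 : Ideal.Quotient.mk P₁ y = Ideal.Quotient.mk P₁ (y - z) := by
        rw [map_sub, Ideal.Quotient.eq_zero_iff_mem.mpr hz, sub_zero]
      rw [h2]
      have h3 : I.map (algebraMap S (EGA4.FibLocRing R S q)) =
          (I.map (algebraMap S (Localization.AtPrime q))).map (Ideal.Quotient.mk P₁) := by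
        rw [Ideal.map_map]
        rfl
      rw [h3]
      exact Ideal.mem_map_of_mem _ h1
    · rw [Ideal.map_le_iff_le_comap]
      intro s hs
      rw [Ideal.mem_comap, RingHom.mem_ker]
      have h4 : algebraMap S (EGA4.FibLocRing R S q) s =
          Ideal.Quotient.mk P₁ (algebraMap S (Localization.AtPrime q) s) := rfl
      rw [h4, hΨ', Ideal.Quotient.lift_mk, hΨ, RingHom.comp_apply, hΦ,
        Localization.localRingHom_to_map, Ideal.Quotient.eq_zero_iff_mem.mpr hs, map_zero,
        map_zero]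
  exact ⟨(Ideal.quotEquivOfEq hker.symm).trans (RingHom.quotientKerEquivOfSurjective hsurj)⟩

end Quot

theorem nonempty_ringEquiv_fibLocRing (R S : Type u) [CommRing R] [CommRing S] [Algebra R S]
    (p : Ideal R) [p.IsPrime] (Q : Ideal (p.Fiber S)) [Q.IsPrime] (q : Ideal S) [q.IsPrime]
    (hr : Q.comap (Algebra.TensorProduct.includeRight : S →ₐ[R] p.Fiber S) = q)
    (hp : q.comap (algebraMap R S) = p) :
    Nonempty (Localization.AtPrime Q ≃+* EGA4.FibLocRing R S q) := by
  subst hr
  have e := Groth.Agent.Lib.Helper29.fiberLocalizationEquiv p Q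
  unfold EGA4.FibLocRing
  rw [hp]
  exact ⟨e⟩

/-- Chevalley's theorem for finite type ring maps: openness only. -/
theorem isOpen_setOf_localDim_fiber_le (R S : Type u) [CommRing R] [CommRing S] [Algebra R S]
    [Algebra.FiniteType R S] (n : ℕ) :
    IsOpen {q : PrimeSpectrum S | ∀ Q : PrimeSpectrum ((q.asIdeal.under R).Fiber S),
        Q.asIdeal.comap (Algebra.TensorProduct.includeRight.toRingHom) = q.asIdeal →
          FlatMor.localDim (PrimeSpectrum ((q.asIdeal.under R).Fiber S)) Q ≤ (n : WithBot ℕ∞)} := by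
  rw [Groth.Agent.Lib.Helper13.Chevalley.setOf_localDim_fiber_le_eq R S n]
  have : LocallyOfFiniteType (Spec.map (CommRingCat.ofHom (algebraMap R S))) := by
    rw [HasRingHomProperty.Spec_iff (P := @LocallyOfFiniteType)]
    exact (RingHom.finiteType_algebraMap (A := R) (B := S)).mpr inferInstance
  exact Groth.Agent.Lib.Helper13.Chevalley.isOpen_fibreDimAt_le _ n

section Core

open TensorProduct

variable (R S : Type u) [CommRing R] [CommRing S] [Algebra R S] [Algebra.FiniteType R S] (d : ℕ)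
  (hCM : ∀ p : PrimeSpectrum R, LocCoh.IsCohenMacaulayRing (p.asIdeal.Fiber S))
  (heq : ∀ p : PrimeSpectrum R, ∀ P ∈ minimalPrimes (p.asIdeal.Fiber S),
      ringKrullDim (p.asIdeal.Fiber S ⧸ P) = (d : WithBot ℕ∞))
  (f : List S)

include hCM heq in
theorem isRegular_fibLocRing_iff (I : Ideal S) (hfI : Ideal.ofList f = I)
    (q' : Ideal (S ⧸ I)) [q'.IsPrime]
    (Q' : Ideal ((q'.under R).Fiber (S ⧸ I))) [Q'.IsPrime]
    (hQ' : Q'.comap (Algebra.TensorProduct.includeRight.toRingHom) = q') :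
    IsRegular (EGA4.FibLocRing R S (q'.comap (Ideal.Quotient.mk I)))
        (f.map (algebraMap S (EGA4.FibLocRing R S (q'.comap (Ideal.Quotient.mk I))))) ↔
      (FlatMor.localDim (PrimeSpectrum ((q'.under R).Fiber (S ⧸ I))) ⟨Q', inferInstance⟩ ≤
          ((d - f.length : ℕ) : WithBot ℕ∞) ∧ f.length ≤ d) := by
  have hpp : (q'.under R).IsPrime := inferInstance
  set p : Ideal R := q'.under R with hp
  set q : Ideal S := q'.comap (Ideal.Quotient.mk I) with hq
  -- the surjection of fibre rings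
  let θ : p.Fiber S →ₐ[p.ResidueField] p.Fiber (S ⧸ I) :=
    Algebra.TensorProduct.map (AlgHom.id _ _) (Ideal.Quotient.mkₐ R I)
  have hθ : Function.Surjective θ :=
    Algebra.TensorProduct.map_surjective _ _ Function.surjective_id (Ideal.Quotient.mkₐ_surjective R I)
  set Q : Ideal (p.Fiber S) := Q'.comap θ with hQ
  have hQprime : Q.IsPrime := Ideal.comap_isPrime _ _
  have hCMF : IsCohenMacaulayRing (p.Fiber S) := hCM ⟨p, inferInstance⟩
  have heqF := heq ⟨p, inferInstance⟩
  have hNF : IsNoetherianRing (p.Fiber S) := Algebra.FiniteType.isNoetherianRing p.ResidueField _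
  have hNF' : IsNoetherianRing (p.Fiber (S ⧸ I)) :=
    Algebra.FiniteType.isNoetherianRing p.ResidueField _
  -- (F2)
  have hF2 := height_add_ringKrullDim_quotient_eq p.ResidueField d heqF Q
  -- (F3)
  have hF3 : ringKrullDim (p.Fiber (S ⧸ I) ⧸ Q') = ringKrullDim (p.Fiber S ⧸ Q) := by
    have hsurj : Function.Surjective ((Ideal.Quotient.mk Q').comp (θ : p.Fiber S →+* p.Fiber (S ⧸ I))) :=
      Ideal.Quotient.mk_surjective.comp hθ
    have hker : RingHom.ker ((Ideal.Quotient.mk Q').comp (θ : p.Fiber S →+* p.Fiber (S ⧸ I))) = Q := by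
      rw [← RingHom.comap_ker, Ideal.mk_ker]
      rfl
    exact (ringKrullDim_eq_of_ringEquiv
      ((Ideal.quotEquivOfEq hker.symm).trans (RingHom.quotientKerEquivOfSurjective hsurj))).symm
  -- (F4)
  have hF4 := Groth.Agent.Lib.Helper55.localDim_primeSpectrum_eq p.ResidueField
    (p.Fiber (S ⧸ I)) ⟨Q', inferInstance⟩
  -- (F5)
  have hr : Q.comap (Algebra.TensorProduct.includeRight : S →ₐ[R] p.Fiber S) = q := by
    ext x
    rw [Ideal.mem_comap, hQ, Ideal.mem_comap, hq, Ideal.mem_comap]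
    have h1 : θ ((Algebra.TensorProduct.includeRight : S →ₐ[R] p.Fiber S) x) =
        (Algebra.TensorProduct.includeRight : (S ⧸ I) →ₐ[R] p.Fiber (S ⧸ I))
          (Ideal.Quotient.mk I x) := by
      simp [θ]
    rw [h1]
    have h2 := Ideal.ext_iff.mp hQ' (Ideal.Quotient.mk I x)
    rw [Ideal.mem_comap] at h2
    exact h2
  have hpq : q.comap (algebraMap R S) = p := rfl
  obtain ⟨eA⟩ := nonempty_ringEquiv_fibLocRing R S p Q q hr hpq
  have hr' : Q'.comap (Algebra.TensorProduct.includeRight : (S ⧸ I) →ₐ[R] p.Fiber (S ⧸ I)) = q' :=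
    hQ'
  obtain ⟨eA'⟩ := nonempty_ringEquiv_fibLocRing R (S ⧸ I) p Q' q' hr' rfl
  obtain ⟨eQ⟩ := nonempty_ringEquiv_fibLocRing_quotient R I q'
  have hlocA : IsLocalRing (EGA4.FibLocRing R S q) := eA.isLocalRing
  have hNA : IsNoetherianRing (EGA4.FibLocRing R S q) := isNoetherianRing_of_ringEquiv _ eA
  have hCMA : IsCohenMacaulayLocalRing (EGA4.FibLocRing R S q) :=
    Groth.Agent.Lib.Helper29.isCohenMacaulayLocalRing_of_ringEquiv eA
      (hCMF.isCohenMacaulayLocalRing_localization Q)
  have hCMmod : IsCohenMacaulayModule (EGA4.FibLocRing R S q) (EGA4.FibLocRing R S q) :=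
    hCMA.supportDim_eq_depth
  have hdimA : ringKrullDim (EGA4.FibLocRing R S q) = (Q.height : WithBot ℕ∞) := by
    rw [← ringKrullDim_eq_of_ringEquiv eA]
    exact IsLocalization.AtPrime.ringKrullDim_eq_height Q (Localization.AtPrime Q)
  have hdimA' : ringKrullDim (EGA4.FibLocRing R (S ⧸ I) q') = (Q'.height : WithBot ℕ∞) := by
    rw [← ringKrullDim_eq_of_ringEquiv eA']
    exact IsLocalization.AtPrime.ringKrullDim_eq_height Q' (Localization.AtPrime Q')
  set xs := f.map (algebraMap S (EGA4.FibLocRing R S q)) with hxs_def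
  have hofList : Ideal.ofList xs = I.map (algebraMap S (EGA4.FibLocRing R S q)) := by
    rw [hxs_def]
    exact (Ideal.map_ofList _ _).symm.trans
      (congrArg (Ideal.map (algebraMap S (EGA4.FibLocRing R S q))) hfI)
  have hdimQ : ringKrullDim (EGA4.FibLocRing R S q ⧸ Ideal.ofList xs) = (Q'.height : WithBot ℕ∞) := by
    rw [hofList, ringKrullDim_eq_of_ringEquiv eQ, hdimA']
  have hxs : ∀ x ∈ xs, x ∈ IsLocalRing.maximalIdeal (EGA4.FibLocRing R S q) := by
    intro x hx
    rw [hxs_def, List.mem_map] at hx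
    obtain ⟨a, ha, rfl⟩ := hx
    have haq : a ∈ q := by
      have haI : a ∈ I := hfI.le (Ideal.subset_span ha)
      rw [hq, Ideal.mem_comap, Ideal.Quotient.eq_zero_iff_mem.mpr haI]
      exact zero_mem _
    have h1 : algebraMap S (Localization.AtPrime q) a ∈
        IsLocalRing.maximalIdeal (Localization.AtPrime q) :=
      (IsLocalization.AtPrime.to_map_mem_maximal_iff _ q a).mpr haq
    have h2 := IsLocalRing.map_maximalIdeal_of_surjective
      (Ideal.Quotient.mk ((q.comap (algebraMap R S)).map (algebraMap R (Localization.AtPrime q))))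
      Ideal.Quotient.mk_surjective
    have h3 := Ideal.mem_map_of_mem (Ideal.Quotient.mk ((q.comap (algebraMap R S)).map
      (algebraMap R (Localization.AtPrime q)))) h1
    rw [h2] at h3
    exact h3
  have hlen : xs.length = f.length := List.length_map _
  have hcore := arith_core (h := Q.height) (x := Q'.height)
    (c := ringKrullDim (p.Fiber S ⧸ Q)) (d := d) (i := f.length) hF2
  rw [hF4, hF3]
  rw [← hcore]
  constructor
  · intro hreg
    have e1 := Groth.Agent.Lib.Helper82.CMDim.ringKrullDim_quotient_add_length_of_isWeaklyRegular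
      hCMmod xs hxs hreg.toIsWeaklyRegular
    rw [hdimQ, hdimA, hlen] at e1
    exact e1.le
  · intro hle
    apply Groth.Agent.Lib.Helper82.CMDim.isRegular_of_ringKrullDim_quotient_add_le hCMmod xs hxs
    rw [hdimQ, hdimA, hlen]
    exact hle

include hCM heq in
theorem isRegular_fibLocRing_iff' (q : Ideal S) [q.IsPrime]
    (q' : Ideal (S ⧸ Ideal.ofList f)) [q'.IsPrime]
    (hq : q'.comap (Ideal.Quotient.mk (Ideal.ofList f)) = q)
    (Q' : Ideal ((q'.under R).Fiber (S ⧸ Ideal.ofList f))) [Q'.IsPrime]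
    (hQ' : Q'.comap (Algebra.TensorProduct.includeRight.toRingHom) = q') :
    IsRegular (EGA4.FibLocRing R S q) (f.map (algebraMap S (EGA4.FibLocRing R S q))) ↔
      (FlatMor.localDim (PrimeSpectrum ((q'.under R).Fiber (S ⧸ Ideal.ofList f)))
          ⟨Q', inferInstance⟩ ≤ ((d - f.length : ℕ) : WithBot ℕ∞) ∧ f.length ≤ d) := by
  subst hq
  exact isRegular_fibLocRing_iff R S d hCM heq f (Ideal.ofList f) rfl q' Q' hQ'

include hCM heq in
theorem main :
    ∃ U : Set (PrimeSpectrum S), IsOpen U ∧ ∀ q : PrimeSpectrum S, Ideal.ofList f ≤ q.asIdeal →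
      (q ∈ U ↔ RingTheory.Sequence.IsRegular (EGA4.FibLocRing R S q.asIdeal)
        (f.map (algebraMap S (EGA4.FibLocRing R S q.asIdeal)))) := by
  set I := Ideal.ofList f with hI
  -- for each point of `V(I)`, the corresponding data
  have hdata : ∀ q : PrimeSpectrum S, I ≤ q.asIdeal →
      ∃ q' : PrimeSpectrum (S ⧸ I), q'.asIdeal.comap (Ideal.Quotient.mk I) = q.asIdeal := by
    intro q hq
    refine ⟨⟨q.asIdeal.map (Ideal.Quotient.mk I), Ideal.map_isPrime_of_surjective
      Ideal.Quotient.mk_surjective (by rwa [Ideal.mk_ker])⟩, ?_⟩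
    exact Ideal.comap_map_mk hq
  have hQex : ∀ q' : PrimeSpectrum (S ⧸ I),
      ∃ Q' : PrimeSpectrum ((q'.asIdeal.under R).Fiber (S ⧸ I)),
        Q'.asIdeal.comap (Algebra.TensorProduct.includeRight.toRingHom) = q'.asIdeal := by
    intro q'
    have hlies : q'.asIdeal.LiesOver (q'.asIdeal.under R) := ⟨rfl⟩
    obtain ⟨Q', hQ'p, hQ'⟩ :=
      Groth.Agent.Lib.Helper29.exists_fiber_prime (q'.asIdeal.under R) q'.asIdeal
    exact ⟨⟨Q', hQ'p⟩, hQ'⟩
  by_cases hlen : f.length ≤ d
  · let W : Set (PrimeSpectrum (S ⧸ I)) :=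
      {q' | ∀ Q' : PrimeSpectrum ((q'.asIdeal.under R).Fiber (S ⧸ I)),
        Q'.asIdeal.comap (Algebra.TensorProduct.includeRight.toRingHom) = q'.asIdeal →
          FlatMor.localDim (PrimeSpectrum ((q'.asIdeal.under R).Fiber (S ⧸ I))) Q' ≤
            ((d - f.length : ℕ) : WithBot ℕ∞)}
    have hW : IsOpen W := isOpen_setOf_localDim_fiber_le R (S ⧸ I) (d - f.length)
    have hce := PrimeSpectrum.isClosedEmbedding_comap_of_surjective (S ⧸ I) (Ideal.Quotient.mk I)
      Ideal.Quotient.mk_surjective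
    refine ⟨(PrimeSpectrum.comap (Ideal.Quotient.mk I) '' Wᶜ)ᶜ,
      (hce.isClosedMap _ hW.isClosed_compl).isOpen_compl, ?_⟩
    intro q hq
    obtain ⟨q', hq'⟩ := hdata q hq
    have hcq : PrimeSpectrum.comap (Ideal.Quotient.mk I) q' = q := PrimeSpectrum.ext hq'
    have hmem : q ∈ (PrimeSpectrum.comap (Ideal.Quotient.mk I) '' Wᶜ)ᶜ ↔ q' ∈ W := by
      rw [Set.mem_compl_iff, ← hcq, hce.injective.mem_set_image, Set.mem_compl_iff, not_not]
    rw [hmem]
    constructor
    · intro hqW
      obtain ⟨Q', hQ'⟩ := hQex q'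
      have h1 := hqW Q' hQ'
      exact (isRegular_fibLocRing_iff' R S d hCM heq f q.asIdeal q'.asIdeal hq' Q'.asIdeal hQ').mpr
        ⟨h1, hlen⟩
    · intro hreg Q' hQ'
      exact ((isRegular_fibLocRing_iff' R S d hCM heq f q.asIdeal q'.asIdeal hq' Q'.asIdeal hQ').mp
        hreg).1
  · refine ⟨∅, isOpen_empty, ?_⟩
    intro q hq
    obtain ⟨q', hq'⟩ := hdata q hq
    obtain ⟨Q', hQ'⟩ := hQex q'
    constructor
    · intro h
      exact absurd h (Set.notMem_empty q)
    · intro hreg
      exact absurd ((isRegular_fibLocRing_iff' R S d hCM heq f q.asIdeal q'.asIdeal hq' Q'.asIdeal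
        hQ').mp hreg).2 hlen

end Core

end Groth.Agent.Lib.Helper82.FibReg
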