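import Mathlib
import Groth.Prelude.Def_RegImm
import Groth.Agent.H46.JacobianCrit
import Groth.Agent.Lib.Helper82.CMEquidim
import Groth.Agent.Lib.Helper29.TopDim
import Groth.Agent.Lib.Helper82.FibReg

/-!
# Principal localizations of `R[x]/(F)` which are relative global complete intersections

* `awayEquiv`: `(R[x_1..x_n]/(F))_g ≃ₐ[R] R[x_1..x_{n+1}]/(F, h x_{n+1} - 1)` for `g = mk h`.
* `le_ringKrullDim_of_presentation`: `dim B ≥ m - e` for a nontrivial algebra over a field with `m`
  generators and `e` relations.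
* `fibLocus R S N`: the (open, for finite type) locus of primes where the fibre has local
  dimension `≤ N`; `localDim_le_of_basicOpen_subset`, `mem_fibLocus_of_ringKrullDim_le'`.
* `isRelGCI_F'`: if `D(g)` lies in the fibre locus for `n - c`, the extended presentation is a
  relative global complete intersection.
* `exists_away_of_fibre_dim`: Stacks 00SW-style statement at a prime with fibre dimension `n - c`.
-/

set_option autoImplicit false
universe u

namespace Groth.Agent.Lib.Helper82.RelGCIAway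

open TensorProduct

section General

variable (R S : Type u) [CommRing R] [CommRing S] [Algebra R S]

/-- The Chevalley locus: primes of `S` at which the fibre has local dimension `≤ N`. -/
def fibLocus (N : ℕ) : Set (PrimeSpectrum S) :=
  {q | ∀ Q : PrimeSpectrum ((q.asIdeal.under R).Fiber S),
    Q.asIdeal.comap (Algebra.TensorProduct.includeRight.toRingHom) = q.asIdeal →
      FlatMor.localDim (PrimeSpectrum ((q.asIdeal.under R).Fiber S)) Q ≤ (N : WithBot ℕ∞)}

theorem isOpen_fibLocus [Algebra.FiniteType R S] (N : ℕ) : IsOpen (fibLocus R S N) :=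
  Groth.Agent.Lib.Helper82.FibReg.isOpen_setOf_localDim_fiber_le R S N

variable {R S}

theorem localDim_le_of_mem_fibLocus (N : ℕ) (p₁ : Ideal R) [p₁.IsPrime] (q : PrimeSpectrum S)
    (hp : q.asIdeal.under R = p₁) (Q : PrimeSpectrum (p₁.Fiber S))
    (hQ : Q.asIdeal.comap (Algebra.TensorProduct.includeRight.toRingHom) = q.asIdeal)
    (hq : q ∈ fibLocus R S N) :
    FlatMor.localDim (PrimeSpectrum (p₁.Fiber S)) Q ≤ (N : WithBot ℕ∞) := by
  subst hp
  exact hq Q hQ

theorem under_comap_includeRight (p' : Ideal R) [p'.IsPrime] (Q : Ideal (p'.Fiber S)) [Q.IsPrime] :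
    (Q.comap (Algebra.TensorProduct.includeRight.toRingHom : S →+* p'.Fiber S)).under R = p' := by
  have h1 : p' = Q.under R := Ideal.over_def Q p'
  ext x
  rw [Ideal.under, Ideal.mem_comap, Ideal.mem_comap]
  have : (Algebra.TensorProduct.includeRight.toRingHom : S →+* p'.Fiber S) (algebraMap R S x) =
      algebraMap R (p'.Fiber S) x :=
    (Algebra.TensorProduct.includeRight : S →ₐ[R] p'.Fiber S).commutes x
  rw [this]
  exact (Ideal.ext_iff.mp h1 x).symm

theorem mem_fibLocus_of_ringKrullDim_le (N : ℕ) (q : PrimeSpectrum S)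
    (hdim : ringKrullDim ((q.asIdeal.under R).Fiber S) ≤ (N : WithBot ℕ∞)) :
    q ∈ fibLocus R S N := by
  intro Q _
  refine (Groth.Agent.Lib.Helper29.localDim_le_topologicalKrullDim Q).trans ?_
  rw [PrimeSpectrum.topologicalKrullDim_eq_ringKrullDim]
  exact hdim

theorem mem_fibLocus_of_ringKrullDim_le' (N : ℕ) (p : Ideal R) [p.IsPrime] (q : PrimeSpectrum S)
    (hqp : q.asIdeal.under R = p)
    (hdim : ringKrullDim (p.Fiber S) ≤ (N : WithBot ℕ∞)) :
    q ∈ fibLocus R S N := by
  subst hqp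
  exact mem_fibLocus_of_ringKrullDim_le N q hdim

/-- flexible form of membership in the fibre locus on a basic open set -/
theorem localDim_le_of_basicOpen_subset (N : ℕ) (g : S)
    (hg : ∀ q : PrimeSpectrum S, g ∉ q.asIdeal → q ∈ fibLocus R S N)
    (p' : PrimeSpectrum R) (Q : PrimeSpectrum (p'.asIdeal.Fiber S))
    (hQ : ((1 : p'.asIdeal.ResidueField) ⊗ₜ[R] g) ∉ Q.asIdeal) :
    FlatMor.localDim (PrimeSpectrum (p'.asIdeal.Fiber S)) Q ≤ (N : WithBot ℕ∞) := by
  let q : PrimeSpectrum S := ⟨Q.asIdeal.comap (Algebra.TensorProduct.includeRight.toRingHom),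
    Ideal.comap_isPrime _ _⟩
  have hgq : g ∉ q.asIdeal := fun hmem => hQ hmem
  exact localDim_le_of_mem_fibLocus N p'.asIdeal q
    (under_comap_includeRight p'.asIdeal Q.asIdeal) Q rfl (hg q hgq)

/-- if `J` does not generate the unit ideal in the fibre over `p`, some prime over `p`
contains `J` -/
theorem exists_prime_of_map_ne_top (p : Ideal R) [p.IsPrime] (J : Ideal S)
    (hne : J.map (Algebra.TensorProduct.includeRight.toRingHom : S →+* p.Fiber S) ≠ ⊤) :
    ∃ q : PrimeSpectrum S, q.asIdeal.under R = p ∧ J ≤ q.asIdeal := by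
  obtain ⟨M, hM, hle⟩ := Ideal.exists_le_maximal _ hne
  have hM' : Ideal.IsMaximal (α := p.Fiber S) M := hM
  have hMp0 : Ideal.IsPrime (α := p.Fiber S) M := hM'.isPrime
  have hMp : M.IsPrime := hMp0
  exact ⟨⟨M.comap (Algebra.TensorProduct.includeRight.toRingHom), Ideal.comap_isPrime _ _⟩,
    under_comap_includeRight p M, Ideal.map_le_iff_le_comap.mp hle⟩

/-- elements of the extension of an ideal to the fibre ring, up to a unit -/
theorem exists_smul_eq_of_mem_map (p : Ideal R) [p.IsPrime] (J : Ideal S) (y : p.Fiber S)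
    (hy : y ∈ J.map (Algebra.TensorProduct.includeRight.toRingHom : S →+* p.Fiber S)) :
    ∃ r ∉ p, ∃ j ∈ J, r • y = (1 : p.ResidueField) ⊗ₜ[R] j := by
  refine Submodule.span_induction (p := fun y _ => ∃ r ∉ p, ∃ j ∈ J, r • y = (1 : p.ResidueField) ⊗ₜ[R] j)
    ?_ ?_ ?_ ?_ hy
  · rintro _ ⟨j, hj, rfl⟩
    exact ⟨1, fun h1 => (Ideal.ne_top_iff_one p).mp (Ideal.IsPrime.ne_top inferInstance) h1, j, hj,
      by rw [one_smul]; rfl⟩
  · exact ⟨1, fun h1 => (Ideal.ne_top_iff_one p).mp (Ideal.IsPrime.ne_top inferInstance) h1, 0,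
      zero_mem _, by simp⟩
  · rintro y₁ y₂ _ _ ⟨r₁, hr₁, j₁, hj₁, e₁⟩ ⟨r₂, hr₂, j₂, hj₂, e₂⟩
    refine ⟨r₁ * r₂, fun hmem => (Ideal.IsPrime.mem_or_mem inferInstance hmem).elim hr₁ hr₂,
      r₂ • j₁ + r₁ • j₂, J.add_mem (J.smul_of_tower_mem r₂ hj₁) (J.smul_of_tower_mem r₁ hj₂), ?_⟩
    have h₁ : (r₁ * r₂) • y₁ = (1 : p.ResidueField) ⊗ₜ[R] (r₂ • j₁) := by
      rw [mul_comm, mul_smul, e₁, TensorProduct.tmul_smul]
    have h₂ : (r₁ * r₂) • y₂ = (1 : p.ResidueField) ⊗ₜ[R] (r₁ • j₂) := by
      rw [mul_smul, e₂, TensorProduct.tmul_smul]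
    rw [smul_add, h₁, h₂, TensorProduct.tmul_add]
  · rintro x y _ ⟨r, hr, j, hj, e⟩
    obtain ⟨r', hr', s, es⟩ := Ideal.Fiber.exists_smul_eq_one_tmul p x
    refine ⟨r' * r, fun hmem => (Ideal.IsPrime.mem_or_mem inferInstance hmem).elim hr' hr,
      s * j, J.mul_mem_left s hj, ?_⟩
    rw [smul_eq_mul, ← smul_mul_smul_comm, es, e, Algebra.TensorProduct.tmul_mul_tmul, one_mul]

end General


open MvPolynomial

variable (R : Type u) [CommRing R] (n c : ℕ) (F : Fin c → MvPolynomial (Fin n) R)
  (h : MvPolynomial (Fin n) R)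

/-- The extended system of equations `F_1, …, F_c, h x_{n+1} - 1`. -/
noncomputable abbrev F' : Fin (c + 1) → MvPolynomial (Fin (n + 1)) R :=
  Fin.snoc (fun i => rename Fin.castSucc (F i)) (rename Fin.castSucc h * X (Fin.last n) - 1)

local notation "S" => Synt.RelGCIRing R n c F
local notation "T" => Synt.RelGCIRing R (n + 1) (c + 1) (F' R n c F h)
local notation "g" => (Ideal.Quotient.mk (Ideal.span (Set.range F)) h)

lemma F'_castSucc (i : Fin c) : F' R n c F h (Fin.castSucc i) = rename Fin.castSucc (F i) := by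
  simp [F']

lemma F'_last : F' R n c F h (Fin.last c) = rename Fin.castSucc h * X (Fin.last n) - 1 := by
  simp [F']

/-- `S → T`. -/
noncomputable def β₀ : S →ₐ[R] T :=
  Ideal.Quotient.liftₐ (Ideal.span (Set.range F))
    ((Ideal.Quotient.mkₐ R (Ideal.span (Set.range (F' R n c F h)))).comp
      (rename Fin.castSucc : MvPolynomial (Fin n) R →ₐ[R] MvPolynomial (Fin (n + 1)) R)) (by
    intro a ha
    have hle : Ideal.span (Set.range F) ≤ RingHom.ker
        ((Ideal.Quotient.mkₐ R (Ideal.span (Set.range (F' R n c F h)))).comp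
          (rename Fin.castSucc : MvPolynomial (Fin n) R →ₐ[R] MvPolynomial (Fin (n + 1)) R)) := by
      rw [Ideal.span_le]
      rintro _ ⟨i, rfl⟩
      rw [SetLike.mem_coe, RingHom.mem_ker, AlgHom.comp_apply, Ideal.Quotient.mkₐ_eq_mk,
        Ideal.Quotient.eq_zero_iff_mem, ← F'_castSucc]
      exact Ideal.subset_span ⟨_, rfl⟩
    exact hle ha)

lemma β₀_mk (x : MvPolynomial (Fin n) R) :
    β₀ R n c F h (Ideal.Quotient.mk _ x) = Ideal.Quotient.mk _ (rename Fin.castSucc x) := rfl

lemma β₀_g_mul : β₀ R n c F h g * Ideal.Quotient.mk _ (X (Fin.last n)) = 1 := by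
  rw [β₀_mk, ← map_mul, ← sub_eq_zero, ← map_one (Ideal.Quotient.mk _), ← map_sub,
    Ideal.Quotient.eq_zero_iff_mem, ← F'_last]
  exact Ideal.subset_span ⟨_, rfl⟩

lemma isUnit_β₀ (y : Submonoid.powers g) : IsUnit (β₀ R n c F h y) := by
  obtain ⟨y, k, rfl⟩ := y
  simp only [map_pow]
  exact (IsUnit.of_mul_eq_one _ (β₀_g_mul R n c F h)).pow k

/-- `S_g → T`. -/
noncomputable def β : Localization.Away g →ₐ[R] T :=
  IsLocalization.liftAlgHom (M := Submonoid.powers g) (f := β₀ R n c F h) (isUnit_β₀ R n c F h)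

lemma β_algebraMap (s : S) : β R n c F h (algebraMap S (Localization.Away g) s) = β₀ R n c F h s := by
  simp [β]

/-- `P' → S_g`. -/
noncomputable def α₀ : MvPolynomial (Fin (n + 1)) R →ₐ[R] Localization.Away g :=
  aeval (Fin.snoc (fun i : Fin n => algebraMap S (Localization.Away g) (Ideal.Quotient.mk _ (X i)))
    (IsLocalization.Away.invSelf g) : Fin (n + 1) → Localization.Away g)

lemma α₀_rename (x : MvPolynomial (Fin n) R) :
    α₀ R n c F h (rename Fin.castSucc x) = algebraMap S (Localization.Away g) (Ideal.Quotient.mk _ x) := by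
  rw [α₀, aeval_rename]
  have : (aeval ((Fin.snoc (fun i : Fin n => algebraMap S (Localization.Away g)
      (Ideal.Quotient.mk _ (X i))) (IsLocalization.Away.invSelf g) : Fin (n + 1) → Localization.Away g) ∘
        Fin.castSucc) : MvPolynomial (Fin n) R →ₐ[R] Localization.Away g) =
      (IsScalarTower.toAlgHom R S (Localization.Away g)).comp
        (Ideal.Quotient.mkₐ R (Ideal.span (Set.range F))) := by
    apply MvPolynomial.algHom_ext
    intro i
    simp
  rw [this]
  rfl

lemma α₀_X_last : α₀ R n c F h (X (Fin.last n)) = IsLocalization.Away.invSelf g := by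
  simp [α₀]

/-- `T → S_g`. -/
noncomputable def α : T →ₐ[R] Localization.Away g :=
  Ideal.Quotient.liftₐ (Ideal.span (Set.range (F' R n c F h))) (α₀ R n c F h) (by
    intro a ha
    have hle : Ideal.span (Set.range (F' R n c F h)) ≤ RingHom.ker (α₀ R n c F h) := by
      rw [Ideal.span_le]
      rintro _ ⟨j, rfl⟩
      rw [SetLike.mem_coe, RingHom.mem_ker]
      refine Fin.lastCases ?_ (fun i => ?_) j
      · rw [F'_last, map_sub, map_mul, map_one, α₀_rename, α₀_X_last,
          IsLocalization.Away.mul_invSelf, sub_self]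
      · rw [F'_castSucc, α₀_rename]
        have : Ideal.Quotient.mk (Ideal.span (Set.range F)) (F i) = 0 :=
          Ideal.Quotient.eq_zero_iff_mem.mpr (Ideal.subset_span ⟨_, rfl⟩)
        rw [this, map_zero]
    exact hle ha)

lemma α_mk (y : MvPolynomial (Fin (n + 1)) R) :
    α R n c F h (Ideal.Quotient.mk _ y) = α₀ R n c F h y := rfl

lemma β_invSelf : β R n c F h (IsLocalization.Away.invSelf g) = Ideal.Quotient.mk _ (X (Fin.last n)) := by
  have h1 : β R n c F h (algebraMap S (Localization.Away g) g) *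
      β R n c F h (IsLocalization.Away.invSelf g) = 1 := by
    rw [← map_mul, IsLocalization.Away.mul_invSelf, map_one]
  rw [β_algebraMap] at h1
  have h2 := β₀_g_mul R n c F h
  calc β R n c F h (IsLocalization.Away.invSelf g)
      = (Ideal.Quotient.mk _ (X (Fin.last n)) * β₀ R n c F h g) *
          β R n c F h (IsLocalization.Away.invSelf g) := by rw [mul_comm _ (β₀ R n c F h g), h2, one_mul]
    _ = Ideal.Quotient.mk _ (X (Fin.last n)) := by rw [mul_assoc, h1, mul_one]

theorem α_comp_β : (α R n c F h).comp (β R n c F h) = AlgHom.id R _ := by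
  apply IsLocalization.algHom_ext (Submonoid.powers g)
  apply Ideal.Quotient.algHom_ext
  apply MvPolynomial.algHom_ext
  intro i
  simp only [AlgHom.comp_apply, Ideal.Quotient.mkₐ_eq_mk, AlgHom.id_apply]
  change α R n c F h (β R n c F h (algebraMap S (Localization.Away g) (Ideal.Quotient.mk _ (X i)))) =
    algebraMap S (Localization.Away g) (Ideal.Quotient.mk _ (X i))
  rw [β_algebraMap, β₀_mk, α_mk, α₀_rename]

theorem β_comp_α : (β R n c F h).comp (α R n c F h) = AlgHom.id R _ := by
  apply Ideal.Quotient.algHom_ext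
  apply MvPolynomial.algHom_ext
  intro j
  simp only [AlgHom.comp_apply, Ideal.Quotient.mkₐ_eq_mk, AlgHom.id_apply]
  rw [α_mk]
  refine Fin.lastCases ?_ (fun i => ?_) j
  · rw [α₀_X_last, β_invSelf]
  · have : (X (Fin.castSucc i) : MvPolynomial (Fin (n + 1)) R) = rename Fin.castSucc (X i) := by
      simp
    rw [this, α₀_rename, β_algebraMap, β₀_mk]

/-- `S_g ≃ R[x_1, …, x_{n+1}]/(F, h x_{n+1} - 1)`. -/
noncomputable def awayEquiv : Localization.Away g ≃ₐ[R] T :=
  AlgEquiv.ofAlgHom (β R n c F h) (α R n c F h) (β_comp_α R n c F h) (α_comp_β R n c F h)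


section LowerBound

variable {k : Type u} [Field k]

/-- A nontrivial algebra presented by `m` variables and `e` relations over a field has dimension
at least `m - e`. -/
theorem le_ringKrullDim_of_presentation {B : Type u} [CommRing B] [Algebra k B] [Nontrivial B]
    {m e : ℕ} (Q : Algebra.Presentation k B (Fin m) (Fin e)) :
    ((m - e : ℕ) : WithBot ℕ∞) ≤ ringKrullDim B := by
  obtain ⟨P, hP⟩ := Ideal.exists_maximal B
  obtain ⟨q₀, hq₀min, -⟩ := Ideal.exists_minimalPrimes_le (bot_le : ⊥ ≤ P)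
  have hq₀prime : q₀.IsPrime := hq₀min.1.1
  let φ : MvPolynomial (Fin m) k →ₐ[k] B := aeval Q.val
  have hφ : Function.Surjective φ := Q.toGenerators.aeval_val_surjective
  have hker : RingHom.ker φ.toRingHom = Ideal.span (Set.range Q.relation) := by
    rw [Q.span_range_relation_eq_ker, Algebra.Generators.ker_eq_ker_aeval_val]
    rfl
  have hmin : q₀.comap φ.toRingHom ∈ (Ideal.span (Set.range Q.relation)).minimalPrimes := by
    rw [← hker, RingHom.ker_eq_comap_bot]
    exact Ideal.minimalPrimes_comap_of_surjective (f := φ.toRingHom) hφ hq₀min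
  have h1 := Groth.Agent.H46.GCIEquidim.le_ringKrullDim_quotient_of_mem_minimalPrimes m e
    Q.relation _ hmin
  have heq : ringKrullDim (MvPolynomial (Fin m) k ⧸ q₀.comap φ.toRingHom) =
      ringKrullDim (B ⧸ q₀) := by
    let ψ : (MvPolynomial (Fin m) k ⧸ q₀.comap φ.toRingHom) →+* (B ⧸ q₀) :=
      Ideal.quotientMap q₀ φ.toRingHom le_rfl
    have hinj : Function.Injective ψ := Ideal.quotientMap_injective
    have hsurj : Function.Surjective ψ := Ideal.quotientMap_surjective hφ
    exact ringKrullDim_eq_of_ringEquiv (RingEquiv.ofBijective ψ ⟨hinj, hsurj⟩)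
  rw [heq] at h1
  refine le_trans ?_ (ringKrullDim_quotient_le q₀)
  have hnt : Nontrivial (B ⧸ q₀) := Ideal.Quotient.nontrivial_iff.mpr hq₀prime.ne_top
  have h0 : (0 : WithBot ℕ∞) ≤ ringKrullDim (B ⧸ q₀) := ringKrullDim_nonneg_of_nontrivial
  have hnebot : ringKrullDim (B ⧸ q₀) ≠ ⊥ := by
    intro h
    rw [h] at h0
    simp at h0
  obtain ⟨v, hv⟩ := WithBot.ne_bot_iff_exists.mp hnebot
  rw [← hv] at h1 ⊢
  exact Groth.Agent.Lib.Helper82.CMEquidim.arith3 h1

end LowerBound

section RelGCI

open TensorProduct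

theorem isRelGCI_F' (hc : c ≤ n)
    (hW : ∀ (p' : PrimeSpectrum R) (Q : PrimeSpectrum (p'.asIdeal.Fiber S)),
        ((1 : p'.asIdeal.ResidueField) ⊗ₜ[R] g) ∉ Q.asIdeal →
        FlatMor.localDim (PrimeSpectrum (p'.asIdeal.Fiber S)) Q ≤ ((n - c : ℕ) : WithBot ℕ∞)) :
    Synt.IsRelGCI R (n + 1) (c + 1) (F' R n c F h) := by
  intro p' hnt
  refine ⟨by omega, ?_⟩
  have hsub : n + 1 - (c + 1) = n - c := by omega
  rw [hsub]
  apply le_antisymm
  · let e : p'.asIdeal.Fiber T ≃ₐ[p'.asIdeal.ResidueField] p'.asIdeal.Fiber (Localization.Away g) :=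
      Algebra.TensorProduct.congr AlgEquiv.refl (awayEquiv R n c F h).symm
    rw [ringKrullDim_eq_of_ringEquiv e.toRingEquiv, ringKrullDim_le_iff_height_le]
    intro P hP
    have h1 := Groth.Agent.Lib.Helper55.localDim_primeSpectrum_eq p'.asIdeal.ResidueField
      (p'.asIdeal.Fiber (Localization.Away g)) ⟨P, hP⟩
    have h2 := Groth.Agent.Lib.Helper55.localDim_eq_of_isOpenEmbedding _
      (Groth.Agent.H46.JacobianCrit.isOpenEmbedding_fiber_away R S g p') ⟨P, hP⟩
    have h3 := hW p' (PrimeSpectrum.comap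
      (Algebra.TensorProduct.map (AlgHom.id R p'.asIdeal.ResidueField)
        (IsScalarTower.toAlgHom R S (Localization.Away g))).toRingHom ⟨P, hP⟩) (by
      intro hmem
      rw [PrimeSpectrum.comap_asIdeal, Ideal.mem_comap] at hmem
      have hu : IsUnit ((Algebra.TensorProduct.map (AlgHom.id R p'.asIdeal.ResidueField)
          (IsScalarTower.toAlgHom R S (Localization.Away g))).toRingHom
            ((1 : p'.asIdeal.ResidueField) ⊗ₜ[R] g)) := by
        have : (Algebra.TensorProduct.map (AlgHom.id R p'.asIdeal.ResidueField)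
          (IsScalarTower.toAlgHom R S (Localization.Away g))).toRingHom
            ((1 : p'.asIdeal.ResidueField) ⊗ₜ[R] g) =
            (Algebra.TensorProduct.includeRight : Localization.Away g →ₐ[R]
              p'.asIdeal.Fiber (Localization.Away g)) (algebraMap S (Localization.Away g) g) := by
          simp
        rw [this]
        exact (IsLocalization.Away.algebraMap_isUnit g).map _
      exact hP.ne_top (Ideal.eq_top_of_isUnit_mem _ hmem hu))
    rw [← h2, h1] at h3
    refine le_trans ?_ h3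
    have hntq : Nontrivial (p'.asIdeal.Fiber (Localization.Away g) ⧸ P) :=
      Ideal.Quotient.nontrivial_iff.mpr hP.ne_top
    have h0 : (0 : WithBot ℕ∞) ≤ ringKrullDim (p'.asIdeal.Fiber (Localization.Away g) ⧸ P) :=
      ringKrullDim_nonneg_of_nontrivial
    calc (P.height : WithBot ℕ∞) = 0 + (P.height : WithBot ℕ∞) := (zero_add _).symm
      _ ≤ _ := add_le_add h0 le_rfl
  · let Q : Algebra.Presentation p'.asIdeal.ResidueField (p'.asIdeal.Fiber T)
        (Fin (n + 1)) (Fin (c + 1)) :=
      (Algebra.Presentation.naive (v := F' R n c F h)).baseChange p'.asIdeal.ResidueField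
    have := le_ringKrullDim_of_presentation Q
    rwa [hsub] at this

end RelGCI


section Main

open TensorProduct

theorem exists_away_of_fibre_dim (p : Ideal R) [p.IsPrime]
    (hp : c ≤ n ∧ ringKrullDim (p.Fiber S) = ((n - c : ℕ) : WithBot ℕ∞)) :
    ∃ h : MvPolynomial (Fin n) R,
      IsUnit ((1 : p.ResidueField) ⊗ₜ[R] (Ideal.Quotient.mk (Ideal.span (Set.range F)) h) :
        p.Fiber S) ∧
      Synt.IsRelGCI R (n + 1) (c + 1) (F' R n c F h) ∧
      Nonempty (Localization.Away (Ideal.Quotient.mk (Ideal.span (Set.range F)) h) ≃ₐ[R]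
        Synt.RelGCIRing R (n + 1) (c + 1) (F' R n c F h)) := by
  classical
  have hft : Algebra.FiniteType R S := inferInstance
  set W := fibLocus R S (n - c) with hW
  have hWopen : IsOpen W := isOpen_fibLocus R S (n - c)
  have hfib : ∀ q : PrimeSpectrum S, q.asIdeal.under R = p → q ∈ W := fun q hq =>
    mem_fibLocus_of_ringKrullDim_le' (n - c) p q hq hp.2.le
  set J := PrimeSpectrum.vanishingIdeal Wᶜ with hJ
  have hZ : PrimeSpectrum.zeroLocus (J : Set S) = Wᶜ := by
    rw [hJ, PrimeSpectrum.zeroLocus_vanishingIdeal_eq_closure, hWopen.isClosed_compl.closure_eq]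
  have hJtop : J.map (Algebra.TensorProduct.includeRight.toRingHom : S →+* p.Fiber S) = ⊤ := by
    by_contra hne
    obtain ⟨q, hqp, hJq⟩ := exists_prime_of_map_ne_top p J hne
    have hqZ : q ∈ PrimeSpectrum.zeroLocus (J : Set S) := hJq
    rw [hZ] at hqZ
    exact hqZ (hfib q hqp)
  obtain ⟨r, hr, g', hg'J, e⟩ := exists_smul_eq_of_mem_map p J 1 (by rw [hJtop]; trivial)
  have hunit : IsUnit ((1 : p.ResidueField) ⊗ₜ[R] g' : p.Fiber S) := by
    have e2 : r • (1 : p.Fiber S) = algebraMap R (p.Fiber S) r :=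
      (Algebra.algebraMap_eq_smul_one (A := p.Fiber S) r).symm
    rw [← e, e2, IsScalarTower.algebraMap_apply R p.ResidueField (p.Fiber S)]
    apply IsUnit.map
    rw [isUnit_iff_ne_zero]
    intro h0
    exact hr (Ideal.algebraMap_residueField_eq_zero.mp h0)
  obtain ⟨h, rfl⟩ := Ideal.Quotient.mk_surjective g'
  have hD : ∀ q : PrimeSpectrum S,
      Ideal.Quotient.mk (Ideal.span (Set.range F)) h ∉ q.asIdeal → q ∈ W := by
    intro q hq
    by_contra hqW
    have hqZ : q ∈ PrimeSpectrum.zeroLocus (J : Set S) := by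
      rw [hZ]
      exact hqW
    exact hq (hqZ hg'J)
  refine ⟨h, hunit, ?_, ⟨awayEquiv R n c F h⟩⟩
  exact isRelGCI_F' R n c F h hp.1 (fun p' Q hQ =>
    localDim_le_of_basicOpen_subset (n - c) _ hD p' Q hQ)

end Main

end Groth.Agent.Lib.Helper82.RelGCIAway
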