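import Mathlib
import Groth.Prelude.Def_RegImm
import Groth.Agent.Lib.Helper82.RelGCIAway
import Groth.Agent.Lib.Helper55.FiberBaseChange
import Groth.Agent.Lib.Helper13.ChevalleyAlg

/-!
# Base change of presentations `R[x]/(F)` and invariance of the fibre locus
-/

set_option autoImplicit false
universe u

namespace Groth.Agent.Lib.Helper82.RelGCIBC

open TensorProduct MvPolynomial AlgebraicGeometry CategoryTheory

section BC

variable {R₁ R : Type u} [CommRing R₁] [CommRing R] (ι : R₁ →+* R) (n c : ℕ)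
  (F₁ : Fin c → MvPolynomial (Fin n) R₁)

local notation "Fm" => (fun i => MvPolynomial.map ι (F₁ i))
local notation "S₁" => Synt.RelGCIRing R₁ n c F₁
local notation "S" => Synt.RelGCIRing R n c Fm

lemma span_range_Fm :
    Ideal.span (Set.range Fm) = (Ideal.span (Set.range F₁)).map (MvPolynomial.map ι) := by
  rw [Ideal.map_span, ← Set.range_comp]
  rfl

/-- the base change map `R₁[x]/(F₁) → R[x]/(F)` -/
noncomputable def ψ : S₁ →+* S :=
  Ideal.quotientMap (Ideal.span (Set.range Fm)) (MvPolynomial.map ι) (by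
    rw [span_range_Fm]
    exact Ideal.le_comap_map)

lemma ψ_mk (a : MvPolynomial (Fin n) R₁) :
    ψ ι n c F₁ (Ideal.Quotient.mk _ a) = Ideal.Quotient.mk _ (MvPolynomial.map ι a) := rfl

lemma ψ_comp : (ψ ι n c F₁).comp (algebraMap R₁ S₁) = (algebraMap R S).comp ι := by
  ext r
  change ψ ι n c F₁ (Ideal.Quotient.mk _ (C r)) = Ideal.Quotient.mk _ (C (ι r))
  rw [ψ_mk, MvPolynomial.map_C]

/-- the comparison isomorphism `R[x]/(F) ≃ R ⊗[R₁] R₁[x]/(F₁)` -/
noncomputable def tensorEquiv :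
    letI : Algebra R₁ R := ι.toAlgebra
    S ≃+* R ⊗[R₁] S₁ :=
  letI : Algebra R₁ R := ι.toAlgebra
  let Q : Algebra.Presentation R (R ⊗[R₁] S₁) (Fin n) (Fin c) :=
    (Algebra.Presentation.naive (v := F₁)).baseChange R
  (Ideal.quotEquivOfEq (by
    rw [← Q.span_range_relation_eq_ker]
    rfl)).trans Q.quotientEquiv.toRingEquiv

lemma tensorEquiv_mk (a : MvPolynomial (Fin n) R) :
    letI : Algebra R₁ R := ι.toAlgebra
    tensorEquiv ι n c F₁ (Ideal.Quotient.mk _ a) =
      MvPolynomial.aeval (fun i : Fin n => (1 : R) ⊗ₜ[R₁]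
        (Ideal.Quotient.mk (Ideal.span (Set.range F₁)) (X i))) a := by
  letI : Algebra R₁ R := ι.toAlgebra
  rfl

lemma tensorEquiv_algebraMap (r : R) :
    letI : Algebra R₁ R := ι.toAlgebra
    tensorEquiv ι n c F₁ (algebraMap R S r) = r ⊗ₜ[R₁] (1 : S₁) := by
  letI : Algebra R₁ R := ι.toAlgebra
  change tensorEquiv ι n c F₁ (Ideal.Quotient.mk _ (C r)) = _
  rw [tensorEquiv_mk, MvPolynomial.aeval_C]
  rfl

lemma tensorEquiv_ψ (s₁ : S₁) :
    letI : Algebra R₁ R := ι.toAlgebra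
    tensorEquiv ι n c F₁ (ψ ι n c F₁ s₁) = (1 : R) ⊗ₜ[R₁] s₁ := by
  letI : Algebra R₁ R := ι.toAlgebra
  obtain ⟨a, rfl⟩ := Ideal.Quotient.mk_surjective s₁
  rw [ψ_mk, tensorEquiv_mk]
  induction a using MvPolynomial.induction_on with
  | C r =>
    rw [MvPolynomial.map_C, MvPolynomial.aeval_C]
    change (ι r) ⊗ₜ[R₁] (1 : S₁) = (1 : R) ⊗ₜ[R₁] (algebraMap R₁ S₁ r)
    rw [Algebra.algebraMap_eq_smul_one, ← TensorProduct.smul_tmul]
    congr 1
    change ι r = r • (1 : R)
    rw [Algebra.smul_def, mul_one]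
    rfl
  | add a b ha hb =>
    rw [map_add, map_add, ha, hb, map_add, TensorProduct.tmul_add]
  | mul_X a i ha =>
    rw [map_mul, map_mul, ha, MvPolynomial.map_X, MvPolynomial.aeval_X, map_mul,
      Algebra.TensorProduct.tmul_mul_tmul, one_mul]

theorem isPushout_ψ :
    IsPushout (CommRingCat.ofHom (algebraMap R₁ S₁)) (CommRingCat.ofHom ι)
      (CommRingCat.ofHom (ψ ι n c F₁)) (CommRingCat.ofHom (algebraMap R S)) := by
  letI : Algebra R₁ R := ι.toAlgebra
  have h := (CommRingCat.isPushout_tensorProduct R₁ R S₁).flip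
  refine h.of_iso (Iso.refl _) (Iso.refl _) (Iso.refl _)
    (tensorEquiv ι n c F₁).symm.toCommRingCatIso ?_ ?_ ?_ ?_
  · simp
  · simp only [Iso.refl_hom, Category.comp_id, Category.id_comp]
  · refine CommRingCat.hom_ext (RingHom.ext fun x => ?_)
    simp only [Iso.refl_hom, Category.id_comp]
    change (tensorEquiv ι n c F₁).symm ((1 : R) ⊗ₜ[R₁] x) = ψ ι n c F₁ x
    rw [RingEquiv.symm_apply_eq, tensorEquiv_ψ]
  · refine CommRingCat.hom_ext (RingHom.ext fun r => ?_)
    simp only [Iso.refl_hom, Category.id_comp]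
    change (tensorEquiv ι n c F₁).symm (r ⊗ₜ[R₁] (1 : S₁)) = algebraMap R S r
    rw [RingEquiv.symm_apply_eq, tensorEquiv_algebraMap]

theorem mem_fibLocus_iff_comap (N : ℕ) (q : PrimeSpectrum S) :
    q ∈ Groth.Agent.Lib.Helper82.RelGCIAway.fibLocus R S N ↔
      PrimeSpectrum.comap (ψ ι n c F₁) q ∈
        Groth.Agent.Lib.Helper82.RelGCIAway.fibLocus R₁ S₁ N := by
  have e1 := Set.ext_iff.mp (Groth.Agent.Lib.Helper13.Chevalley.setOf_localDim_fiber_le_eq R S N) q
  have e2 := Set.ext_iff.mp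
    (Groth.Agent.Lib.Helper13.Chevalley.setOf_localDim_fiber_le_eq R₁ S₁ N)
    (PrimeSpectrum.comap (ψ ι n c F₁) q)
  refine e1.trans (Iff.trans ?_ e2.symm)
  have hlft : LocallyOfFiniteType (Spec.map (CommRingCat.ofHom (algebraMap R₁ S₁))) := by
    rw [HasRingHomProperty.Spec_iff (P := @LocallyOfFiniteType)]
    exact (RingHom.finiteType_algebraMap (A := R₁) (B := S₁)).mpr inferInstance
  have hsq := isPullback_SpecMap_of_isPushout _ _ _ _ (isPushout_ψ ι n c F₁)
  have key := Groth.Agent.Lib.Helper55.fibreDimAt_eq_of_isPullback _ _ _ _ hsq q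
  change FlatMor.fibreDimAt (Spec.map (CommRingCat.ofHom (algebraMap R S))) q ≤ _ ↔
    FlatMor.fibreDimAt (Spec.map (CommRingCat.ofHom (algebraMap R₁ S₁)))
      (PrimeSpectrum.comap (ψ ι n c F₁) q) ≤ _
  rw [key]
  rfl

end BC

end Groth.Agent.Lib.Helper82.RelGCIBC
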