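import Mathlib
import Groth.Prelude.Def_RegImm
import Groth.Agent.Lib.Helper82.RelGCIAway
import Groth.Agent.Lib.Helper82.RelGCIBC

/-!
# Descent of relative global complete intersections to finite type `ℤ`-subalgebras
-/

set_option autoImplicit false
universe u

namespace Groth.Agent.Lib.Helper82.RelGCIDescent

open TensorProduct MvPolynomial
open Groth.Agent.Lib.Helper82.RelGCIAway Groth.Agent.Lib.Helper82.RelGCIBC

section Char

variable (R : Type u) [CommRing R] (n c : ℕ) (F : Fin c → MvPolynomial (Fin n) R)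

local notation "S" => Synt.RelGCIRing R n c F

theorem isRelGCI_of_forall_mem_fibLocus (hc : c ≤ n)
    (h : ∀ q : PrimeSpectrum S, q ∈ fibLocus R S (n - c)) : Synt.IsRelGCI R n c F := by
  intro p' hnt
  refine ⟨hc, le_antisymm ?_ ?_⟩
  · refine (ringKrullDim_le_iff_height_le (R := p'.asIdeal.Fiber S) _).mpr ?_
    intro P hP
    have h1 := Groth.Agent.Lib.Helper55.localDim_primeSpectrum_eq p'.asIdeal.ResidueField
      (p'.asIdeal.Fiber S) ⟨P, hP⟩
    have h3 := localDim_le_of_basicOpen_subset (n - c) (1 : S) (fun q _ => h q) p' ⟨P, hP⟩ (by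
      intro hmem
      exact hP.ne_top ((Ideal.eq_top_iff_one P).mpr hmem))
    rw [h1] at h3
    refine le_trans ?_ h3
    have hntq : Nontrivial (p'.asIdeal.Fiber S ⧸ P) :=
      Ideal.Quotient.nontrivial_iff.mpr hP.ne_top
    have h0 : (0 : WithBot ℕ∞) ≤ ringKrullDim (p'.asIdeal.Fiber S ⧸ P) :=
      ringKrullDim_nonneg_of_nontrivial
    calc (P.height : WithBot ℕ∞) = 0 + (P.height : WithBot ℕ∞) := (zero_add _).symm
      _ ≤ _ := add_le_add h0 le_rfl
  · let Q : Algebra.Presentation p'.asIdeal.ResidueField (p'.asIdeal.Fiber S)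
        (Fin n) (Fin c) :=
      (Algebra.Presentation.naive (v := F)).baseChange p'.asIdeal.ResidueField
    exact le_ringKrullDim_of_presentation Q

theorem mem_fibLocus_of_isRelGCI (h : Synt.IsRelGCI R n c F) (q : PrimeSpectrum S) :
    c ≤ n ∧ q ∈ fibLocus R S (n - c) := by
  have hnt : Nontrivial ((q.asIdeal.under R).Fiber S) := by
    rw [← PrimeSpectrum.nonempty_iff_nontrivial]
    exact ⟨PrimeSpectrum.primesOverOrderIsoFiber R S (q.asIdeal.under R)
      ⟨q.asIdeal, q.2, ⟨rfl⟩⟩⟩
  obtain ⟨hc, hdim⟩ := h ⟨q.asIdeal.under R, inferInstance⟩ hnt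
  exact ⟨hc, mem_fibLocus_of_ringKrullDim_le' (n - c) (q.asIdeal.under R) q rfl hdim.le⟩

theorem isRelGCI_of_subsingleton (h : Subsingleton S) : Synt.IsRelGCI R n c F := by
  intro p' hnt
  exfalso
  have hall : ∀ x : p'.asIdeal.Fiber S, x = 0 := by
    intro x
    induction x using TensorProduct.induction_on with
    | zero => rfl
    | tmul a b => rw [Subsingleton.elim b 0, TensorProduct.tmul_zero]
    | add x y hx hy => rw [hx, hy, add_zero]
  obtain ⟨a, b, hab⟩ := hnt.exists_pair_ne
  exact hab ((hall a).trans (hall b).symm)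

end Char

section Finite

variable {R : Type u} [CommRing R] {n : ℕ}

/-- if an ideal of `A[x]` generates the unit ideal of `R[x]`, it already does so over a finitely
generated subalgebra containing `A` -/
theorem exists_fg_subalgebra_map_eq_top (A : Subalgebra ℤ R) (hA : A.FG)
    (I : Ideal (MvPolynomial (Fin n) A))
    (hI : I.map (MvPolynomial.map A.val.toRingHom) = ⊤) :
    ∃ (B : Subalgebra ℤ R) (hAB : A ≤ B), B.FG ∧
      I.map (MvPolynomial.map (Subalgebra.inclusion hAB).toRingHom) = ⊤ := by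
  classical
  have h1 : (1 : MvPolynomial (Fin n) R) ∈
      Ideal.span ((MvPolynomial.map A.val.toRingHom) '' (I : Set (MvPolynomial (Fin n) A))) := by
    have : I.map (MvPolynomial.map A.val.toRingHom) =
        Ideal.span ((MvPolynomial.map A.val.toRingHom) '' (I : Set (MvPolynomial (Fin n) A))) := rfl
    rw [← this, hI]
    trivial
  obtain ⟨m, a, g, hag⟩ := Submodule.mem_span_set'.mp h1
  choose g' hg'I hg' using fun t => (g t).2
  let T : Finset R := Finset.univ.biUnion (fun t => (a t).coeffs)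
  let B : Subalgebra ℤ R := A ⊔ Algebra.adjoin ℤ (T : Set R)
  have hAB : A ≤ B := le_sup_left
  have hBfg : B.FG := hA.sup (Subalgebra.fg_adjoin_finset T)
  have ha : ∀ t, a t ∈ Set.range (MvPolynomial.map B.val.toRingHom :
      MvPolynomial (Fin n) B → MvPolynomial (Fin n) R) := by
    intro t
    rw [MvPolynomial.mem_range_map_iff_coeffs_subset]
    intro x hx
    have hxT : x ∈ (T : Set R) := by
      simp only [T, Finset.coe_biUnion, Finset.coe_univ, Set.mem_univ, Set.iUnion_true,
        Set.mem_iUnion]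
      exact ⟨t, hx⟩
    have hxB : x ∈ B := (le_sup_right : Algebra.adjoin ℤ (T : Set R) ≤ B) (Algebra.subset_adjoin hxT)
    exact ⟨⟨x, hxB⟩, rfl⟩
  choose a' ha' using ha
  refine ⟨B, hAB, hBfg, ?_⟩
  rw [Ideal.eq_top_iff_one]
  have hval : (B.val.toRingHom).comp (Subalgebra.inclusion hAB).toRingHom = A.val.toRingHom := by
    ext x
    rfl
  have hy : (∑ t, a' t * MvPolynomial.map (Subalgebra.inclusion hAB).toRingHom (g' t)) = 1 := by
    apply MvPolynomial.map_injective B.val.toRingHom Subtype.val_injective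
    rw [map_sum, map_one, ← hag]
    refine Finset.sum_congr rfl fun t _ => ?_
    rw [map_mul, ha', MvPolynomial.map_map, hval, hg', smul_eq_mul]
  rw [← hy]
  refine Ideal.sum_mem _ fun t _ => Ideal.mul_mem_left _ _ (Ideal.mem_map_of_mem _ (hg'I t))

end Finite

section Main

variable {R : Type u} [CommRing R] (n c : ℕ)

theorem exists_fg_subalgebra_lift (F : Fin c → MvPolynomial (Fin n) R) :
    ∃ (A : Subalgebra ℤ R), A.FG ∧ ∃ F₁ : Fin c → MvPolynomial (Fin n) A,
      ∀ i, MvPolynomial.map A.val.toRingHom (F₁ i) = F i := by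
  classical
  let T : Finset R := Finset.univ.biUnion (fun i => (F i).coeffs)
  let A : Subalgebra ℤ R := Algebra.adjoin ℤ (T : Set R)
  have ha : ∀ i, F i ∈ Set.range (MvPolynomial.map A.val.toRingHom :
      MvPolynomial (Fin n) A → MvPolynomial (Fin n) R) := by
    intro i
    rw [MvPolynomial.mem_range_map_iff_coeffs_subset]
    intro x hx
    have hxT : x ∈ (T : Set R) := by
      simp only [T, Finset.coe_biUnion, Finset.coe_univ, Set.mem_univ, Set.iUnion_true,
        Set.mem_iUnion]
      exact ⟨i, hx⟩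
    exact ⟨⟨x, Algebra.subset_adjoin hxT⟩, rfl⟩
  choose F₁ hF₁ using ha
  exact ⟨A, Subalgebra.fg_adjoin_finset T, F₁, hF₁⟩

theorem descent (A : Subalgebra ℤ R) (hA : A.FG) (F₁ : Fin c → MvPolynomial (Fin n) A)
    (h : Synt.IsRelGCI R n c (fun i => MvPolynomial.map A.val.toRingHom (F₁ i))) :
    ∃ (B : Subalgebra ℤ R) (hAB : A ≤ B), B.FG ∧
      Synt.IsRelGCI B n c
        (fun i => MvPolynomial.map (Subalgebra.inclusion hAB).toRingHom (F₁ i)) := by
  classical
  by_cases hS : Subsingleton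
      (Synt.RelGCIRing R n c (fun i => MvPolynomial.map A.val.toRingHom (F₁ i)))
  · have hI : (Ideal.span (Set.range F₁)).map (MvPolynomial.map A.val.toRingHom) = ⊤ := by
      rw [← span_range_Fm]
      exact Ideal.Quotient.subsingleton_iff.mp hS
    obtain ⟨B, hAB, hBfg, hIB⟩ := exists_fg_subalgebra_map_eq_top A hA _ hI
    refine ⟨B, hAB, hBfg, isRelGCI_of_subsingleton _ _ _ _ ?_⟩
    rw [Ideal.Quotient.subsingleton_iff, span_range_Fm]
    exact hIB
  · rw [not_subsingleton_iff_nontrivial] at hS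
    obtain ⟨q₀⟩ := (PrimeSpectrum.nonempty_iff_nontrivial).mpr hS
    have hc : c ≤ n := (mem_fibLocus_of_isRelGCI R n c _ h q₀).1
    have hWopen : IsOpen (fibLocus A (Synt.RelGCIRing A n c F₁) (n - c)) :=
      isOpen_fibLocus _ _ (n - c)
    have hZ : PrimeSpectrum.zeroLocus
        ((PrimeSpectrum.vanishingIdeal (fibLocus A (Synt.RelGCIRing A n c F₁) (n - c))ᶜ :
          Ideal (Synt.RelGCIRing A n c F₁)) : Set (Synt.RelGCIRing A n c F₁)) =
        (fibLocus A (Synt.RelGCIRing A n c F₁) (n - c))ᶜ := by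
      rw [PrimeSpectrum.zeroLocus_vanishingIdeal_eq_closure, hWopen.isClosed_compl.closure_eq]
    set J₁ : Ideal (Synt.RelGCIRing A n c F₁) :=
      PrimeSpectrum.vanishingIdeal (fibLocus A (Synt.RelGCIRing A n c F₁) (n - c))ᶜ with hJ₁
    have hJtop : J₁.map (ψ A.val.toRingHom n c F₁) = ⊤ := by
      by_contra hne
      obtain ⟨M, hM, hle⟩ := Ideal.exists_le_maximal _ hne
      have hq := (mem_fibLocus_of_isRelGCI R n c _ h ⟨M, hM.isPrime⟩).2
      rw [mem_fibLocus_iff_comap] at hq
      have hqZ : PrimeSpectrum.comap (ψ A.val.toRingHom n c F₁) ⟨M, hM.isPrime⟩ ∈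
          PrimeSpectrum.zeroLocus (J₁ : Set (Synt.RelGCIRing A n c F₁)) :=
        Ideal.map_le_iff_le_comap.mp hle
      rw [hZ] at hqZ
      exact hqZ hq
    set I : Ideal (MvPolynomial (Fin n) A) :=
      J₁.comap (Ideal.Quotient.mk (Ideal.span (Set.range F₁))) with hI
    have hImk : I.map (Ideal.Quotient.mk (Ideal.span (Set.range F₁))) = J₁ :=
      Ideal.map_comap_of_surjective _ Ideal.Quotient.mk_surjective J₁
    have hFI : Ideal.span (Set.range F₁) ≤ I := by
      intro x hx
      rw [hI, Ideal.mem_comap, Ideal.Quotient.eq_zero_iff_mem.mpr hx]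
      exact zero_mem _
    have hcomp : ∀ (B' : Type u) [CommRing B'] (ι : A →+* B'),
        (Ideal.Quotient.mk (Ideal.span (Set.range (fun i => MvPolynomial.map ι (F₁ i))))).comp
          (MvPolynomial.map ι) =
        (ψ ι n c F₁).comp (Ideal.Quotient.mk (Ideal.span (Set.range F₁))) := by
      intro B' _ ι
      rfl
    have hItop : I.map (MvPolynomial.map A.val.toRingHom) = ⊤ := by
      rw [Ideal.eq_top_iff_one]
      have h1 : (I.map (MvPolynomial.map A.val.toRingHom)).map
          (Ideal.Quotient.mk (Ideal.span (Set.range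
            (fun i => MvPolynomial.map A.val.toRingHom (F₁ i))))) = ⊤ := by
        rw [Ideal.map_map, hcomp, ← Ideal.map_map, hImk, hJtop]
      have h2 : (1 : Synt.RelGCIRing R n c (fun i => MvPolynomial.map A.val.toRingHom (F₁ i))) ∈
          (I.map (MvPolynomial.map A.val.toRingHom)).map
          (Ideal.Quotient.mk (Ideal.span (Set.range
            (fun i => MvPolynomial.map A.val.toRingHom (F₁ i))))) := by
        rw [h1]
        trivial
      rw [Ideal.mem_map_iff_of_surjective _ Ideal.Quotient.mk_surjective] at h2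
      obtain ⟨x, hx, hx1⟩ := h2
      have h3 : 1 - x ∈ Ideal.span (Set.range
          (fun i => MvPolynomial.map A.val.toRingHom (F₁ i))) := by
        rw [← Ideal.Quotient.eq_zero_iff_mem, map_sub, hx1, map_one, sub_self]
      rw [span_range_Fm] at h3
      have h4 : 1 - x ∈ I.map (MvPolynomial.map A.val.toRingHom) := Ideal.map_mono hFI h3
      have : (1 : MvPolynomial (Fin n) R) = x + (1 - x) := by ring
      rw [this]
      exact Ideal.add_mem _ hx h4
    obtain ⟨B, hAB, hBfg, hIB⟩ := exists_fg_subalgebra_map_eq_top A hA I hItop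
    refine ⟨B, hAB, hBfg, isRelGCI_of_forall_mem_fibLocus _ _ _ _ hc ?_⟩
    have hJB : J₁.map (ψ (Subalgebra.inclusion hAB).toRingHom n c F₁) = ⊤ := by
      rw [← hImk, Ideal.map_map, ← hcomp, ← Ideal.map_map, hIB, Ideal.map_top]
    intro q
    rw [mem_fibLocus_iff_comap]
    by_contra hq
    have hqZ : PrimeSpectrum.comap (ψ (Subalgebra.inclusion hAB).toRingHom n c F₁) q ∈
        PrimeSpectrum.zeroLocus (J₁ : Set (Synt.RelGCIRing A n c F₁)) := by
      rw [hZ]
      exact hq
    have hle : J₁.map (ψ (Subalgebra.inclusion hAB).toRingHom n c F₁) ≤ q.asIdeal :=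
      Ideal.map_le_iff_le_comap.mpr hqZ
    rw [hJB] at hle
    exact q.2.ne_top (top_le_iff.mp hle)

theorem main (F : Fin c → MvPolynomial (Fin n) R) (h : Synt.IsRelGCI R n c F) :
    ∃ (R₀ : Subalgebra ℤ R) (F₀ : Fin c → MvPolynomial (Fin n) R₀), Algebra.FiniteType ℤ R₀ ∧
      (∀ i, MvPolynomial.map (algebraMap R₀ R) (F₀ i) = F i) ∧ Synt.IsRelGCI R₀ n c F₀ := by
  obtain ⟨A, hA, F₁, hF₁⟩ := exists_fg_subalgebra_lift n c F
  obtain rfl : F = fun i => MvPolynomial.map A.val.toRingHom (F₁ i) :=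
    funext fun i => (hF₁ i).symm
  obtain ⟨B, hAB, hBfg, hB⟩ := descent n c A hA F₁ h
  refine ⟨B, fun i => MvPolynomial.map (Subalgebra.inclusion hAB).toRingHom (F₁ i),
    (Subalgebra.fg_iff_finiteType B).mp hBfg, fun i => ?_, hB⟩
  rw [MvPolynomial.map_map]
  rfl

end Main

end Groth.Agent.Lib.Helper82.RelGCIDescent
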