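import Mathlib
import Groth.Prelude.Def_RegImm
import Groth.Agent.Lib.Helper82.FibReg
import Groth.Agent.Lib.Helper82.CMPoly
import Groth.Agent.Lib.Helper82.RelGCIDescent
import Groth.Agent.Lib.Helper29.RegSeqFibre
import Groth.Agent.Lib.Helper29.FlatAscent
import Groth.Agent.H46.GCILocalize

/-!
# A relative global complete intersection is flat (and syntomic)
-/

set_option autoImplicit false
universe u

namespace Groth.Agent.Lib.Helper82.RelGCIFlat

open TensorProduct MvPolynomial RingTheory.Sequence
open Groth.Agent.Lib.Helper82.RelGCIAway Groth.Agent.Lib.Helper82.RelGCIDescent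

section Fibres

variable (R : Type u) [CommRing R] (n : ℕ)

local notation "P" => MvPolynomial (Fin n) R

theorem hCM_poly (p : PrimeSpectrum R) : LocCoh.IsCohenMacaulayRing (p.asIdeal.Fiber P) := by
  have hreg : IsRegularRing (MvPolynomial (Fin n) p.asIdeal.ResidueField) :=
    MvPolynomial.isRegularRing_of_isRegularRing _
  exact Groth.Agent.Lib.Helper82.CMPoly.isCohenMacaulayRing_of_ringEquiv
    (MvPolynomial.algebraTensorAlgEquiv R p.asIdeal.ResidueField (σ := Fin n)).toRingEquiv.symm
    (Groth.Agent.Lib.Helper82.CMPoly.isCohenMacaulayRing_of_isRegularRing _)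

theorem heq_poly (p : PrimeSpectrum R) :
    ∀ Q ∈ minimalPrimes (p.asIdeal.Fiber P),
      ringKrullDim (p.asIdeal.Fiber P ⧸ Q) = (n : WithBot ℕ∞) := by
  intro Q hQ
  let e := (MvPolynomial.algebraTensorAlgEquiv R p.asIdeal.ResidueField (σ := Fin n)).toRingEquiv
  haveI : IsDomain (p.asIdeal.Fiber P) := e.toMulEquiv.isDomain _
  rw [IsDomain.minimalPrimes_eq_singleton_bot, Set.mem_singleton_iff] at hQ
  subst hQ
  rw [ringKrullDim_eq_of_ringEquiv (RingEquiv.quotientBot _), ringKrullDim_eq_of_ringEquiv e,
    MvPolynomial.ringKrullDim_of_isNoetherianRing, ringKrullDim_eq_zero_of_field, zero_add,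
    Nat.card_fin]

end Fibres

section Reg

variable (R : Type u) [CommRing R] (n c : ℕ) (F : Fin c → MvPolynomial (Fin n) R)

local notation "P" => MvPolynomial (Fin n) R
local notation "I" => Ideal.span (Set.range F)

theorem ofList_ofFn : Ideal.ofList (List.ofFn F) = I := by
  unfold Ideal.ofList
  congr 1
  ext x
  simp [List.mem_ofFn]

/-- for a prime `q' ` of `R[x]/(F)`, `F` is a regular sequence in the local ring of the fibre of
`R[x]` at the preimage of `q'`. -/
theorem isRegular_fibLocRing_aux (h : Synt.IsRelGCI R n c F)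
    (q' : Ideal (Synt.RelGCIRing R n c F)) [q'.IsPrime] :
    IsRegular (EGA4.FibLocRing R P (q'.comap (Ideal.Quotient.mk I)))
      ((List.ofFn F).map (algebraMap P (EGA4.FibLocRing R P (q'.comap (Ideal.Quotient.mk I))))) := by
  have hlies : q'.LiesOver (q'.under R) := ⟨rfl⟩
  obtain ⟨Q', hQ'p, hQ'⟩ := Groth.Agent.Lib.Helper29.exists_fiber_prime (q'.under R) q'
  obtain ⟨hc, hmem⟩ := mem_fibLocus_of_isRelGCI R n c F h ⟨q', inferInstance⟩
  have hloc := hmem ⟨Q', hQ'p⟩ hQ'
  refine (Groth.Agent.Lib.Helper82.FibReg.isRegular_fibLocRing_iff R P n (hCM_poly R n)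
    (heq_poly R n) (List.ofFn F) I (ofList_ofFn R n c F) q' Q' hQ').mpr ?_
  rw [List.length_ofFn]
  exact ⟨hloc, hc⟩

theorem isRegular_fibLocRing (h : Synt.IsRelGCI R n c F) (q : Ideal P) [q.IsPrime] (hq : I ≤ q) :
    IsRegular (EGA4.FibLocRing R P q)
      ((List.ofFn F).map (algebraMap P (EGA4.FibLocRing R P q))) := by
  have hker : RingHom.ker (Ideal.Quotient.mk I) ≤ q := by rwa [Ideal.mk_ker]
  haveI hpr : (q.map (Ideal.Quotient.mk I)).IsPrime :=
    Ideal.map_isPrime_of_surjective Ideal.Quotient.mk_surjective hker
  have hqq : (q.map (Ideal.Quotient.mk I)).comap (Ideal.Quotient.mk I) = q := by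
    rw [Ideal.comap_map_of_surjective' _ Ideal.Quotient.mk_surjective, sup_eq_left.mpr hker]
  have key : ∀ (q₁ : Ideal P) [q₁.IsPrime], (q.map (Ideal.Quotient.mk I)).comap
      (Ideal.Quotient.mk I) = q₁ → IsRegular (EGA4.FibLocRing R P q₁)
      ((List.ofFn F).map (algebraMap P (EGA4.FibLocRing R P q₁))) := by
    intro q₁ _ hq₁
    subst hq₁
    exact isRegular_fibLocRing_aux R n c F h (q.map (Ideal.Quotient.mk I))
  exact key q hqq

end Reg

section Flat

variable (R : Type u) [CommRing R] [IsNoetherianRing R] (n c : ℕ)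
  (F : Fin c → MvPolynomial (Fin n) R)

local notation "P" => MvPolynomial (Fin n) R
local notation "I" => Ideal.span (Set.range F)

theorem flat_quotient_localized (h : Synt.IsRelGCI R n c F) (q : Ideal P) [q.IsPrime]
    (hq : I ≤ q) :
    Module.Flat R (Localization.AtPrime q ⧸
      (Submodule.localized' (Localization.AtPrime q) q.primeCompl
        (Algebra.linearMap P (Localization.AtPrime q)) I)) := by
  letI alg : Algebra (Localization.AtPrime (q.under R)) (Localization.AtPrime q) :=
    Localization.AtPrime.algebraOfLiesOver (q.under R) q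
  haveI : IsLocalHom (algebraMap (Localization.AtPrime (q.under R)) (Localization.AtPrime q)) := by
    change IsLocalHom (Localization.localRingHom (q.under R) q (algebraMap R P)
      Ideal.LiesOver.over)
    infer_instance
  haveI : IsNoetherianRing (Localization.AtPrime q) :=
    IsLocalization.isNoetherianRing q.primeCompl (Localization.AtPrime q) inferInstance
  haveI : Module.Flat (Localization.AtPrime (q.under R)) (Localization.AtPrime q) := inferInstance
  -- regular on the fibre
  have hfib := isRegular_fibLocRing R n c F h q hq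
  have hK : (IsLocalRing.maximalIdeal (Localization.AtPrime (q.under R))).map
      (algebraMap (Localization.AtPrime (q.under R)) (Localization.AtPrime q)) =
      (q.comap (algebraMap R P)).map (algebraMap R (Localization.AtPrime q)) := by
    rw [← Localization.AtPrime.map_eq_maximalIdeal, Ideal.map_map,
      ← IsScalarTower.algebraMap_eq]
  have hsmul : ((IsLocalRing.maximalIdeal (Localization.AtPrime (q.under R))).map
      (algebraMap (Localization.AtPrime (q.under R)) (Localization.AtPrime q)) •
      (⊤ : Submodule (Localization.AtPrime q) (Localization.AtPrime q))) =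
      (q.comap (algebraMap R P)).map (algebraMap R (Localization.AtPrime q)) := by
    rw [smul_eq_mul, Ideal.mul_top, hK]
  have hmap : (List.ofFn F).map (algebraMap P (EGA4.FibLocRing R P q)) =
      ((List.ofFn F).map (algebraMap P (Localization.AtPrime q))).map
        (algebraMap (Localization.AtPrime q) (EGA4.FibLocRing R P q)) := by
    rw [List.map_map]
    rfl
  rw [hmap] at hfib
  have hw := (isWeaklyRegular_map_algebraMap_iff (S := EGA4.FibLocRing R P q)
    (M := EGA4.FibLocRing R P q) ((List.ofFn F).map (algebraMap P (Localization.AtPrime q)))).mp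
    hfib.toIsWeaklyRegular
  have hreg : IsWeaklyRegular (Localization.AtPrime q ⧸
      ((IsLocalRing.maximalIdeal (Localization.AtPrime (q.under R))).map
      (algebraMap (Localization.AtPrime (q.under R)) (Localization.AtPrime q)) •
      (⊤ : Submodule (Localization.AtPrime q) (Localization.AtPrime q))))
      ((List.ofFn F).map (algebraMap P (Localization.AtPrime q))) :=
    ((Submodule.quotEquivOfEq _ _ hsmul).isWeaklyRegular_congr _).mpr hw
  obtain ⟨-, hflat⟩ := Groth.Agent.Lib.Helper29.isWeaklyRegular_and_flat_of_fibre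
    (Localization.AtPrime (q.under R)) (Localization.AtPrime q)
    ((List.ofFn F).map (algebraMap P (Localization.AtPrime q))) (Localization.AtPrime q) hreg
  have hlen : ((List.ofFn F).map (algebraMap P (Localization.AtPrime q))).length = c := by
    rw [List.length_map, List.length_ofFn]
  have h1 := hflat c hlen.ge
  rw [List.take_of_length_le hlen.le] at h1
  have hN : (Ideal.ofList ((List.ofFn F).map (algebraMap P (Localization.AtPrime q))) •
      (⊤ : Submodule (Localization.AtPrime q) (Localization.AtPrime q))) =
      Submodule.localized' (Localization.AtPrime q) q.primeCompl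
        (Algebra.linearMap P (Localization.AtPrime q)) I := by
    rw [smul_eq_mul, Ideal.mul_top, Ideal.span, Submodule.localized'_span]
    unfold Ideal.ofList
    congr 1
    ext x
    simp [List.mem_ofFn]
  rw [hN] at h1
  exact Module.Flat.trans R (Localization.AtPrime (q.under R)) _

theorem flat_of_isRelGCI_noeth (h : Synt.IsRelGCI R n c F) :
    Module.Flat R (Synt.RelGCIRing R n c F) := by
  refine Module.flat_of_isLocalized_maximal P (P ⧸ I)
    (fun q _ => Localization.AtPrime q ⧸
      (Submodule.localized' (Localization.AtPrime q) q.primeCompl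
        (Algebra.linearMap P (Localization.AtPrime q)) I))
    (fun q _ => Submodule.toLocalizedQuotient' (Localization.AtPrime q) q.primeCompl
        (Algebra.linearMap P (Localization.AtPrime q)) I) ?_
  intro q hqmax
  by_cases hq : I ≤ q
  · exact flat_quotient_localized R n c F h q hq
  · obtain ⟨x, hxI, hxq⟩ := Set.not_subset.mp hq
    have htop : Submodule.localized' (Localization.AtPrime q) q.primeCompl
        (Algebra.linearMap P (Localization.AtPrime q)) I = ⊤ := by
      rw [Submodule.localized'_eq_span]
      have hmem : algebraMap P (Localization.AtPrime q) x ∈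
          Submodule.span (Localization.AtPrime q)
            ((Algebra.linearMap P (Localization.AtPrime q)) '' (I : Set P)) :=
        Submodule.subset_span ⟨x, hxI, rfl⟩
      have hu : IsUnit (algebraMap P (Localization.AtPrime q) x) :=
        IsLocalization.map_units (Localization.AtPrime q) (⟨x, hxq⟩ : q.primeCompl)
      exact Ideal.eq_top_of_isUnit_mem _ hmem hu
    haveI : Subsingleton (Localization.AtPrime q ⧸
        (Submodule.localized' (Localization.AtPrime q) q.primeCompl
          (Algebra.linearMap P (Localization.AtPrime q)) I)) :=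
      Submodule.Quotient.subsingleton_iff.mpr htop
    infer_instance

end Flat

section General

open Groth.Agent.Lib.Helper82.RelGCIBC

theorem flat_baseChange {R₁ R : Type u} [CommRing R₁] [CommRing R] (ι : R₁ →+* R) (n c : ℕ)
    (F₁ : Fin c → MvPolynomial (Fin n) R₁)
    (h : Module.Flat R₁ (Synt.RelGCIRing R₁ n c F₁)) :
    Module.Flat R (Synt.RelGCIRing R n c (fun i => MvPolynomial.map ι (F₁ i))) := by
  letI : Algebra R₁ R := ι.toAlgebra
  have hfl : Module.Flat R (R ⊗[R₁] Synt.RelGCIRing R₁ n c F₁) := inferInstance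
  let e' : Synt.RelGCIRing R n c (fun i => MvPolynomial.map ι (F₁ i)) ≃ₗ[R]
      R ⊗[R₁] Synt.RelGCIRing R₁ n c F₁ :=
    { (tensorEquiv ι n c F₁).toAddEquiv with
      map_smul' := fun r s => by
        change tensorEquiv ι n c F₁ (r • s) = r • tensorEquiv ι n c F₁ s
        have h1 : r • s = algebraMap R
            (Synt.RelGCIRing R n c (fun i => MvPolynomial.map ι (F₁ i))) r * s :=
          Algebra.smul_def r s
        have h2 : ∀ y : R ⊗[R₁] Synt.RelGCIRing R₁ n c F₁,
            r • y = (r ⊗ₜ[R₁] (1 : Synt.RelGCIRing R₁ n c F₁)) * y := fun y =>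
          (Algebra.smul_def r y).trans (by
            rw [Algebra.TensorProduct.algebraMap_apply]
            rfl)
        rw [h1, map_mul, tensorEquiv_algebraMap, h2] }
  exact Module.Flat.of_linearEquiv e'

theorem flat_of_isRelGCI (R : Type u) [CommRing R] (n c : ℕ) (F : Fin c → MvPolynomial (Fin n) R)
    (h : Synt.IsRelGCI R n c F) : Module.Flat R (Synt.RelGCIRing R n c F) := by
  obtain ⟨A, hA, F₁, hF₁⟩ := exists_fg_subalgebra_lift n c F
  obtain rfl : F = fun i => MvPolynomial.map A.val.toRingHom (F₁ i) :=
    funext fun i => (hF₁ i).symm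
  obtain ⟨B, hAB, hBfg, hB⟩ := descent n c A hA F₁ h
  haveI : Algebra.FiniteType ℤ B := (Subalgebra.fg_iff_finiteType B).mp hBfg
  haveI : IsNoetherianRing B := Algebra.FiniteType.isNoetherianRing ℤ B
  have hflatB := flat_of_isRelGCI_noeth B n c _ hB
  have hFF : (fun i => MvPolynomial.map A.val.toRingHom (F₁ i)) =
      fun i => MvPolynomial.map B.val.toRingHom
        (MvPolynomial.map (Subalgebra.inclusion hAB).toRingHom (F₁ i)) := by
    funext i
    rw [MvPolynomial.map_map]
    rfl
  rw [hFF]
  exact flat_baseChange B.val.toRingHom n c _ hflatB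

theorem isGlobalCI_fiber (R : Type u) [CommRing R] (n c : ℕ)
    (F : Fin c → MvPolynomial (Fin n) R) (h : Synt.IsRelGCI R n c F) (p : PrimeSpectrum R) :
    Synt.IsGlobalCI p.asIdeal.ResidueField (p.asIdeal.Fiber (Synt.RelGCIRing R n c F)) := by
  by_cases hsub : Subsingleton (p.asIdeal.Fiber (Synt.RelGCIRing R n c F))
  · exact Or.inl hsub
  · rw [not_subsingleton_iff_nontrivial] at hsub
    obtain ⟨hc, hdim⟩ := h p hsub
    let Q : Algebra.Presentation p.asIdeal.ResidueField
        (p.asIdeal.Fiber (Synt.RelGCIRing R n c F)) (Fin n) (Fin c) :=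
      (Algebra.Presentation.naive (v := F)).baseChange p.asIdeal.ResidueField
    refine Or.inr ⟨n, c, hc, aeval Q.val, Q.relation, Q.toGenerators.aeval_val_surjective, ?_,
      hdim⟩
    rw [Q.span_range_relation_eq_ker, Algebra.Generators.ker_eq_ker_aeval_val]
    rfl

theorem isSyntomic_of_isRelGCI (R : Type u) [CommRing R] (n c : ℕ)
    (F : Fin c → MvPolynomial (Fin n) R) (h : Synt.IsRelGCI R n c F) :
    Synt.IsSyntomic R (Synt.RelGCIRing R n c F) := by
  refine ⟨flat_of_isRelGCI R n c F h, ?_, fun p => ⟨inferInstance, fun P => ?_⟩⟩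
  · classical
    exact Algebra.FinitePresentation.quotient
      ⟨Finset.univ.image F, by rw [Finset.coe_image, Finset.coe_univ, Set.image_univ]⟩
  · refine ⟨1, fun h1 => P.2.ne_top ((Ideal.eq_top_iff_one _).mpr h1), ?_⟩
    exact Groth.Agent.H46.GCILocalize.isGlobalCI_away _ (isGlobalCI_fiber R n c F h p)

end General

end Groth.Agent.Lib.Helper82.RelGCIFlat
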