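import Mathlib
import Groth.Prelude.Def_RegImm
import Groth.Agent.Lib.Helper82.RelGCIFlat

/-!
# Regular sequences in relative global complete intersections over an arbitrary base
-/

set_option autoImplicit false
universe u

namespace Groth.Agent.Lib.Helper82.RelGCIReg

open TensorProduct MvPolynomial RingTheory.Sequence
open Groth.Agent.Lib.Helper82.RelGCIAway Groth.Agent.Lib.Helper82.RelGCIDescent
open Groth.Agent.Lib.Helper82.RelGCIBC Groth.Agent.Lib.Helper82.RelGCIFlat

section Basic

variable {R : Type u} [CommRing R] {n c : ℕ}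

theorem isRelGCI_of_span_eq (F G : Fin c → MvPolynomial (Fin n) R)
    (h : Ideal.span (Set.range F) = Ideal.span (Set.range G)) (hF : Synt.IsRelGCI R n c F) :
    Synt.IsRelGCI R n c G := by
  unfold Synt.IsRelGCI Synt.RelGCIRing at *
  rw [← h]
  exact hF

theorem isRelGCI_baseChange {R₁ : Type u} [CommRing R₁] (ι : R₁ →+* R)
    (F₁ : Fin c → MvPolynomial (Fin n) R₁) (h : Synt.IsRelGCI R₁ n c F₁) :
    Synt.IsRelGCI R n c (fun i => MvPolynomial.map ι (F₁ i)) := by
  by_cases hS : Subsingleton (Synt.RelGCIRing R n c (fun i => MvPolynomial.map ι (F₁ i)))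
  · exact isRelGCI_of_subsingleton _ _ _ _ hS
  · rw [not_subsingleton_iff_nontrivial] at hS
    obtain ⟨q₀⟩ := (PrimeSpectrum.nonempty_iff_nontrivial).mpr hS
    have hc : c ≤ n :=
      (mem_fibLocus_of_isRelGCI R₁ n c F₁ h (PrimeSpectrum.comap (ψ ι n c F₁) q₀)).1
    refine isRelGCI_of_forall_mem_fibLocus _ _ _ _ hc fun q => ?_
    rw [mem_fibLocus_iff_comap]
    exact (mem_fibLocus_of_isRelGCI R₁ n c F₁ h _).2

end Basic

section Noeth

variable (R : Type u) [CommRing R] [IsNoetherianRing R] (n c : ℕ)
  (F : Fin c → MvPolynomial (Fin n) R)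

local notation "P" => MvPolynomial (Fin n) R
local notation "I" => Ideal.span (Set.range F)

/-- Noetherian case: `F` is weakly regular in `R[x]_q` for `q ⊇ (F)` and the successive
quotients are flat over `R`. -/
theorem isWeaklyRegular_and_flat_localized (h : Synt.IsRelGCI R n c F) (q : Ideal P) [q.IsPrime]
    (hq : I ≤ q) :
    IsWeaklyRegular (Localization.AtPrime q)
        ((List.ofFn F).map (algebraMap P (Localization.AtPrime q))) ∧
      ∀ i ≤ c, Module.Flat R (Localization.AtPrime q ⧸
        (Ideal.ofList (((List.ofFn F).map (algebraMap P (Localization.AtPrime q))).take i) •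
          (⊤ : Submodule (Localization.AtPrime q) (Localization.AtPrime q)))) := by
  letI alg : Algebra (Localization.AtPrime (q.under R)) (Localization.AtPrime q) :=
    Localization.AtPrime.algebraOfLiesOver (q.under R) q
  haveI : IsLocalHom (algebraMap (Localization.AtPrime (q.under R)) (Localization.AtPrime q)) := by
    change IsLocalHom (Localization.localRingHom (q.under R) q (algebraMap R P)
      Ideal.LiesOver.over)
    infer_instance
  haveI : IsNoetherianRing (Localization.AtPrime q) :=
    IsLocalization.isNoetherianRing q.primeCompl (Localization.AtPrime q) inferInstance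
  haveI : Module.Flat (Localization.AtPrime (q.under R)) (Localization.AtPrime q) := inferInstance
  have hfib := isRegular_fibLocRing R n c F h q hq
  have hK : (IsLocalRing.maximalIdeal (Localization.AtPrime (q.under R))).map
      (algebraMap (Localization.AtPrime (q.under R)) (Localization.AtPrime q)) =
      (q.comap (algebraMap R P)).map (algebraMap R (Localization.AtPrime q)) := by
    rw [← Localization.AtPrime.map_eq_maximalIdeal, Ideal.map_map,
      ← IsScalarTower.algebraMap_eq]
  have hsmul : ((IsLocalRing.maximalIdeal (Localization.AtPrime (q.under R))).map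
      (algebraMap (Localization.AtPrime (q.under R)) (Localization.AtPrime q)) •
      (⊤ : Submodule (Localization.AtPrime q) (Localization.AtPrime q))) =
      (q.comap (algebraMap R P)).map (algebraMap R (Localization.AtPrime q)) := by
    rw [smul_eq_mul, Ideal.mul_top, hK]
  have hmap : (List.ofFn F).map (algebraMap P (EGA4.FibLocRing R P q)) =
      ((List.ofFn F).map (algebraMap P (Localization.AtPrime q))).map
        (algebraMap (Localization.AtPrime q) (EGA4.FibLocRing R P q)) := by
    rw [List.map_map]
    rfl
  rw [hmap] at hfib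
  have hw := (isWeaklyRegular_map_algebraMap_iff (S := EGA4.FibLocRing R P q)
    (M := EGA4.FibLocRing R P q) ((List.ofFn F).map (algebraMap P (Localization.AtPrime q)))).mp
    hfib.toIsWeaklyRegular
  have hreg : IsWeaklyRegular (Localization.AtPrime q ⧸
      ((IsLocalRing.maximalIdeal (Localization.AtPrime (q.under R))).map
      (algebraMap (Localization.AtPrime (q.under R)) (Localization.AtPrime q)) •
      (⊤ : Submodule (Localization.AtPrime q) (Localization.AtPrime q))))
      ((List.ofFn F).map (algebraMap P (Localization.AtPrime q))) :=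
    ((Submodule.quotEquivOfEq _ _ hsmul).isWeaklyRegular_congr _).mpr hw
  obtain ⟨hwr, hflat⟩ := Groth.Agent.Lib.Helper29.isWeaklyRegular_and_flat_of_fibre
    (Localization.AtPrime (q.under R)) (Localization.AtPrime q)
    ((List.ofFn F).map (algebraMap P (Localization.AtPrime q))) (Localization.AtPrime q) hreg
  have hlen : ((List.ofFn F).map (algebraMap P (Localization.AtPrime q))).length = c := by
    rw [List.length_map, List.length_ofFn]
  refine ⟨hwr, fun i hi => ?_⟩
  have h1 := hflat i (hlen.symm ▸ hi)
  exact Module.Flat.trans R (Localization.AtPrime (q.under R)) _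

omit [IsNoetherianRing R] in
theorem ofList_smul_top_eq_localized' (q : Ideal P) [q.IsPrime] :
    (Ideal.ofList ((List.ofFn F).map (algebraMap P (Localization.AtPrime q))) •
      (⊤ : Submodule (Localization.AtPrime q) (Localization.AtPrime q))) =
      Submodule.localized' (Localization.AtPrime q) q.primeCompl
        (Algebra.linearMap P (Localization.AtPrime q)) I := by
  rw [smul_eq_mul, Ideal.mul_top, Ideal.span, Submodule.localized'_span]
  unfold Ideal.ofList
  congr 1
  ext x
  simp [List.mem_ofFn]

omit [IsNoetherianRing R] in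
theorem ofFn_snoc (f : P) : List.ofFn (Fin.snoc F f : Fin (c + 1) → P) = List.ofFn F ++ [f] := by
  rw [List.ofFn_succ', List.concat_eq_append]
  simp

/-- Noetherian case of the key regularity statement. -/
theorem isSMulRegular_noeth (f : P) (_hF : Synt.IsRelGCI R n (c + 1) (Fin.snoc F f))
    (hG : Synt.IsRelGCI R n (c + 1) (Fin.snoc F f)) :
    IsSMulRegular (Synt.RelGCIRing R n c F) (Ideal.Quotient.mk I f) := by
  -- regularity on the localized quotients
  have hloc : ∀ (q : Ideal P) [q.IsMaximal], ∀ y : Localization.AtPrime q ⧸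
      (Submodule.localized' (Localization.AtPrime q) q.primeCompl
        (Algebra.linearMap P (Localization.AtPrime q)) I), f • y = 0 → y = 0 := by
    intro q hqmax y hy
    by_cases hq : I ≤ q
    · by_cases hfq : f ∈ q
      · have hGq : Ideal.span (Set.range (Fin.snoc F f : Fin (c + 1) → P)) ≤ q := by
          rw [Ideal.span_le]
          rintro _ ⟨i, rfl⟩
          induction i using Fin.lastCases with
          | last => simpa using hfq
          | cast i => simpa using hq (Ideal.subset_span ⟨i, rfl⟩)
        have hwr := (isWeaklyRegular_and_flat_localized R n (c + 1) (Fin.snoc F f) hG q hGq).1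
        rw [ofFn_snoc, List.map_append, isWeaklyRegular_append_iff, List.map_singleton,
          isWeaklyRegular_singleton_iff, ofList_smul_top_eq_localized'] at hwr
        have h2 := hwr.2
        have hy' : algebraMap P (Localization.AtPrime q) f • y = 0 := by
          rw [algebraMap_smul]
          exact hy
        exact h2 (by
          change algebraMap P (Localization.AtPrime q) f • y =
            algebraMap P (Localization.AtPrime q) f • 0
          rw [hy', smul_zero])
      · have hu : IsUnit (algebraMap P (Localization.AtPrime q) f) :=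
          IsLocalization.map_units (Localization.AtPrime q) (⟨f, hfq⟩ : q.primeCompl)
        have hy' : algebraMap P (Localization.AtPrime q) f • y = 0 := by
          rw [algebraMap_smul]
          exact hy
        obtain ⟨u, hu⟩ := hu
        rw [← hu] at hy'
        have := congrArg (fun t => (↑u⁻¹ : Localization.AtPrime q) • t) hy'
        simpa [smul_smul] using this
    · obtain ⟨x, hxI, hxq⟩ := Set.not_subset.mp hq
      have htop : Submodule.localized' (Localization.AtPrime q) q.primeCompl
          (Algebra.linearMap P (Localization.AtPrime q)) I = ⊤ := by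
        rw [Submodule.localized'_eq_span]
        have hmem : algebraMap P (Localization.AtPrime q) x ∈
            Submodule.span (Localization.AtPrime q)
              ((Algebra.linearMap P (Localization.AtPrime q)) '' (I : Set P)) :=
          Submodule.subset_span ⟨x, hxI, rfl⟩
        have hu : IsUnit (algebraMap P (Localization.AtPrime q) x) :=
          IsLocalization.map_units (Localization.AtPrime q) (⟨x, hxq⟩ : q.primeCompl)
        exact Ideal.eq_top_of_isUnit_mem _ hmem hu
      haveI : Subsingleton (Localization.AtPrime q ⧸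
          (Submodule.localized' (Localization.AtPrime q) q.primeCompl
            (Algebra.linearMap P (Localization.AtPrime q)) I)) :=
        Submodule.Quotient.subsingleton_iff.mpr htop
      exact Subsingleton.elim _ _
  -- globalize
  have hzero : ∀ z : P ⧸ I, f • z = 0 → z = 0 := by
    intro z hz
    by_contra hne
    have hann : LinearMap.ker (LinearMap.toSpanSingleton P (P ⧸ I) z) ≠ ⊤ := by
      intro htop
      apply hne
      have h1 : (1 : P) ∈ LinearMap.ker (LinearMap.toSpanSingleton P (P ⧸ I) z) := by
        rw [htop]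
        trivial
      rw [LinearMap.mem_ker, LinearMap.toSpanSingleton_apply, one_smul] at h1
      exact h1
    obtain ⟨q, hqmax, hle⟩ := Ideal.exists_le_maximal _ hann
    haveI := hqmax
    let φ := Submodule.toLocalizedQuotient' (Localization.AtPrime q) q.primeCompl
      (Algebra.linearMap P (Localization.AtPrime q)) I
    have h1 : φ z = 0 := by
      apply hloc q
      rw [← map_smul, hz, map_zero]
    obtain ⟨s, hs⟩ := (IsLocalizedModule.eq_zero_iff q.primeCompl φ).mp h1
    have hsq : (s : P) ∈ q := hle (by
      rw [LinearMap.mem_ker, LinearMap.toSpanSingleton_apply]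
      exact hs)
    exact s.2 hsq
  intro x y hxy
  have h1 : (Ideal.Quotient.mk I f) • (x - y) = 0 := by
    rw [smul_sub]
    exact sub_eq_zero.mpr hxy
  have h2 : f • (x - y) = 0 := by
    rw [← h1]
    rfl
  exact sub_eq_zero.mp (hzero _ h2)

end Noeth

section General

variable {R : Type u} [CommRing R] (n c : ℕ)

/-- transport along equalities of the data -/
theorem isSMulRegular_congr_data {F F' : Fin c → MvPolynomial (Fin n) R}
    {f f' : MvPolynomial (Fin n) R} (h1 : F = F') (h2 : f = f')
    (h : IsSMulRegular (Synt.RelGCIRing R n c F) (Ideal.Quotient.mk (Ideal.span (Set.range F)) f)) :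
    IsSMulRegular (Synt.RelGCIRing R n c F')
      (Ideal.Quotient.mk (Ideal.span (Set.range F')) f') := by
  subst h1
  subst h2
  exact h

theorem span_range_eq_sup {m : ℕ} {A : Type u} [CommRing A] (G : Fin (c + 1) → MvPolynomial (Fin m) A) :
    Ideal.span (Set.range G) =
      Ideal.span (Set.range (fun i : Fin c => G (Fin.castSucc i))) ⊔
        Ideal.span {G (Fin.last c)} := by
  rw [← Ideal.span_union]
  congr 1
  ext x
  simp only [Set.mem_range, Set.union_singleton, Set.mem_insert_iff]
  constructor
  · rintro ⟨i, rfl⟩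
    induction i using Fin.lastCases with
    | last => exact Or.inl rfl
    | cast i => exact Or.inr ⟨i, rfl⟩
  · rintro (rfl | ⟨i, rfl⟩)
    · exact ⟨_, rfl⟩
    · exact ⟨_, rfl⟩

/-- Noetherian case, in the form of a family of `c + 1` polynomials -/
theorem isSMulRegular_noeth' [IsNoetherianRing R] (G : Fin (c + 1) → MvPolynomial (Fin n) R)
    (hG : Synt.IsRelGCI R n (c + 1) G) :
    IsSMulRegular (Synt.RelGCIRing R n c (fun i => G (Fin.castSucc i)))
      (Ideal.Quotient.mk (Ideal.span (Set.range (fun i : Fin c => G (Fin.castSucc i))))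
        (G (Fin.last c))) := by
  have h := isSMulRegular_noeth R n c (Fin.init G) (G (Fin.last c))
    (by rw [Fin.snoc_init_self]; exact hG) (by rw [Fin.snoc_init_self]; exact hG)
  exact h

/-- base change of the regularity statement from a Noetherian base -/
theorem isSMulRegular_baseChange {R₁ : Type u} [CommRing R₁] [IsNoetherianRing R₁] (ι : R₁ →+* R)
    (G₁ : Fin (c + 1) → MvPolynomial (Fin n) R₁) (hG₁ : Synt.IsRelGCI R₁ n (c + 1) G₁) :
    IsSMulRegular
      (Synt.RelGCIRing R n c (fun i => MvPolynomial.map ι (G₁ (Fin.castSucc i))))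
      (Ideal.Quotient.mk (Ideal.span (Set.range
        (fun i : Fin c => MvPolynomial.map ι (G₁ (Fin.castSucc i)))))
          (MvPolynomial.map ι (G₁ (Fin.last c)))) := by
  letI : Algebra R₁ R := ι.toAlgebra
  have hreg₁ := isSMulRegular_noeth' n c G₁ hG₁
  haveI hflat₁ : Module.Flat R₁ (Synt.RelGCIRing R₁ n (c + 1) G₁) :=
    flat_of_isRelGCI_noeth R₁ n (c + 1) G₁ hG₁
  have hle : Ideal.span (Set.range (fun i : Fin c => G₁ (Fin.castSucc i))) ≤
      Ideal.span (Set.range G₁) := by
    rw [span_range_eq_sup c G₁]
    exact le_sup_left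
  -- the two maps
  let g : Synt.RelGCIRing R₁ n c (fun i => G₁ (Fin.castSucc i)) →ₗ[R₁]
      Synt.RelGCIRing R₁ n c (fun i => G₁ (Fin.castSucc i)) :=
    LinearMap.mulLeft R₁ (Ideal.Quotient.mk _ (G₁ (Fin.last c)))
  let π : Synt.RelGCIRing R₁ n c (fun i => G₁ (Fin.castSucc i)) →ₗ[R₁]
      Synt.RelGCIRing R₁ n (c + 1) G₁ :=
    (Ideal.Quotient.factorₐ R₁ hle).toLinearMap
  have hπ : Function.Surjective π := Ideal.Quotient.factor_surjective hle
  have hg : Function.Injective g := hreg₁
  have hex : Function.Exact g π := by
    intro x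
    obtain ⟨a, rfl⟩ := Ideal.Quotient.mk_surjective x
    change Ideal.Quotient.mk _ a = 0 ↔ _
    rw [Ideal.Quotient.eq_zero_iff_mem, span_range_eq_sup c G₁]
    constructor
    · intro ha
      obtain ⟨y, hy, z, hz, rfl⟩ := Submodule.mem_sup.mp ha
      obtain ⟨b, rfl⟩ := Ideal.mem_span_singleton'.mp hz
      refine ⟨Ideal.Quotient.mk _ b, ?_⟩
      change Ideal.Quotient.mk _ (G₁ (Fin.last c)) * Ideal.Quotient.mk _ b = _
      rw [map_add, Ideal.Quotient.eq_zero_iff_mem.mpr hy, zero_add, ← map_mul, mul_comm]
    · rintro ⟨y, hy⟩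
      obtain ⟨b, rfl⟩ := Ideal.Quotient.mk_surjective y
      change Ideal.Quotient.mk _ (G₁ (Fin.last c)) * Ideal.Quotient.mk _ b = _ at hy
      rw [← map_mul, Ideal.Quotient.eq] at hy
      have : a = (a - G₁ (Fin.last c) * b) + G₁ (Fin.last c) * b := by ring
      rw [this]
      refine Ideal.add_mem _ (Ideal.mem_sup_left ?_) (Ideal.mem_sup_right
        (Ideal.mul_mem_right _ _ (Ideal.subset_span rfl)))
      have h2 := Ideal.neg_mem_iff _ |>.mpr hy
      rwa [neg_sub] at h2
  have hinj := LinearMap.lTensor_injective_of_exact_of_flat π hπ g hg hex R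
  -- transport
  have hkey : ∀ x : Synt.RelGCIRing R n c (fun i => MvPolynomial.map ι (G₁ (Fin.castSucc i))),
      tensorEquiv ι n c (fun i => G₁ (Fin.castSucc i))
        (Ideal.Quotient.mk _ (MvPolynomial.map ι (G₁ (Fin.last c))) * x) =
      g.lTensor R (tensorEquiv ι n c (fun i => G₁ (Fin.castSucc i)) x) := by
    intro x
    have h1 : Ideal.Quotient.mk (Ideal.span (Set.range
        (fun i : Fin c => MvPolynomial.map ι (G₁ (Fin.castSucc i)))))
        (MvPolynomial.map ι (G₁ (Fin.last c))) =
        ψ ι n c (fun i => G₁ (Fin.castSucc i)) (Ideal.Quotient.mk _ (G₁ (Fin.last c))) := rfl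
    rw [h1, map_mul, tensorEquiv_ψ]
    have h2 : g.lTensor R = LinearMap.mulLeft R₁ ((1 : R) ⊗ₜ[R₁]
        (Ideal.Quotient.mk (Ideal.span (Set.range (fun i : Fin c => G₁ (Fin.castSucc i))))
          (G₁ (Fin.last c)))) := by
      apply TensorProduct.ext'
      intro a b
      rw [LinearMap.lTensor_tmul]
      change a ⊗ₜ[R₁] (Ideal.Quotient.mk _ (G₁ (Fin.last c)) * b) =
        ((1 : R) ⊗ₜ[R₁] (Ideal.Quotient.mk (Ideal.span (Set.range
          (fun i : Fin c => G₁ (Fin.castSucc i)))) (G₁ (Fin.last c)))) * (a ⊗ₜ[R₁] b)
      rw [Algebra.TensorProduct.tmul_mul_tmul, one_mul]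
    rw [h2]
    rfl
  intro x y hxy
  have h0 : Ideal.Quotient.mk (Ideal.span (Set.range
        (fun i : Fin c => MvPolynomial.map ι (G₁ (Fin.castSucc i)))))
        (MvPolynomial.map ι (G₁ (Fin.last c))) * x =
      Ideal.Quotient.mk (Ideal.span (Set.range
        (fun i : Fin c => MvPolynomial.map ι (G₁ (Fin.castSucc i)))))
        (MvPolynomial.map ι (G₁ (Fin.last c))) * y := hxy
  have h1 := congrArg (tensorEquiv ι n c (fun i => G₁ (Fin.castSucc i))) h0
  rw [hkey, hkey] at h1
  exact (tensorEquiv ι n c (fun i => G₁ (Fin.castSucc i))).injective (hinj h1)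

/-- **Key regularity statement**: if `G_1, …, G_{c+1}` is a relative global complete intersection
over any ring `R`, then `G_{c+1}` is a nonzerodivisor on `R[x]/(G_1, …, G_c)`. -/
theorem isSMulRegular_of_isRelGCI (G : Fin (c + 1) → MvPolynomial (Fin n) R)
    (hG : Synt.IsRelGCI R n (c + 1) G) :
    IsSMulRegular (Synt.RelGCIRing R n c (fun i => G (Fin.castSucc i)))
      (Ideal.Quotient.mk (Ideal.span (Set.range (fun i : Fin c => G (Fin.castSucc i))))
        (G (Fin.last c))) := by
  obtain ⟨A, hA, G₁, hG₁⟩ := exists_fg_subalgebra_lift n (c + 1) G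
  obtain rfl : G = fun i => MvPolynomial.map A.val.toRingHom (G₁ i) :=
    funext fun i => (hG₁ i).symm
  obtain ⟨B, hAB, hBfg, hB⟩ := descent n (c + 1) A hA G₁ hG
  haveI : Algebra.FiniteType ℤ B := (Subalgebra.fg_iff_finiteType B).mp hBfg
  haveI : IsNoetherianRing B := Algebra.FiniteType.isNoetherianRing ℤ B
  have h := isSMulRegular_baseChange n c B.val.toRingHom _ hB
  refine isSMulRegular_congr_data n c ?_ ?_ h
  · funext i
    rw [MvPolynomial.map_map]
    rfl
  · rw [MvPolynomial.map_map]
    rfl

theorem isSMulRegular_of_isRelGCI_snoc (F : Fin c → MvPolynomial (Fin n) R)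
    (f : MvPolynomial (Fin n) R) (hG : Synt.IsRelGCI R n (c + 1) (Fin.snoc F f)) :
    IsSMulRegular (Synt.RelGCIRing R n c F) (Ideal.Quotient.mk (Ideal.span (Set.range F)) f) := by
  have h := isSMulRegular_of_isRelGCI n c (Fin.snoc F f) hG
  refine isSMulRegular_congr_data n c ?_ ?_ h
  · funext i
    simp
  · simp

end General

end Groth.Agent.Lib.Helper82.RelGCIReg
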