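import Mathlib
import Groth.Prelude.Def_RegImm
import Groth.Agent.Lib.Helper82.RelGCIReg

/-!
# Regular sequences and flat quotients in `R[x]_q` for a relative global complete intersection
-/

set_option autoImplicit false
universe u

namespace Groth.Agent.Lib.Helper82.RelGCIRegLocal

open TensorProduct MvPolynomial RingTheory.Sequence
open Groth.Agent.Lib.Helper82.RelGCIAway Groth.Agent.Lib.Helper82.RelGCIDescent
open Groth.Agent.Lib.Helper82.RelGCIBC Groth.Agent.Lib.Helper82.RelGCIFlat
open Groth.Agent.Lib.Helper82.RelGCIReg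

section Lists

variable {α : Type*} {c : ℕ} (F : Fin c → α)

/-- the prefix of a family -/
def pre (i : ℕ) (hi : i ≤ c) : Fin i → α := fun j => F (Fin.castLE hi j)

theorem take_ofFn (i : ℕ) (hi : i ≤ c) : (List.ofFn F).take i = List.ofFn (pre F i hi) := by
  apply List.ext_getElem
  · simp [hi]
  · intro j h1 h2
    simp [pre]

theorem pre_succ_castSucc (i : ℕ) (hi : i + 1 ≤ c) (j : Fin i) :
    pre F (i + 1) hi (Fin.castSucc j) = pre F i (Nat.le_of_succ_le hi) j := rfl

theorem pre_succ_last (i : ℕ) (hi : i + 1 ≤ c) :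
    pre F (i + 1) hi (Fin.last i) = F ⟨i, hi⟩ := rfl

end Lists

section Regular

variable {A : Type*} [CommRing A] {M : Type*} [AddCommGroup M] [Module A M]

theorem isRegular_take (rs : List A) (h : IsRegular M rs) (i : ℕ) : IsRegular M (rs.take i) := by
  have h1 : IsWeaklyRegular M (rs.take i ++ rs.drop i) := by
    rw [List.take_append_drop]
    exact h.toIsWeaklyRegular
  have hw : IsWeaklyRegular M (rs.take i) :=
    ((isWeaklyRegular_append_iff M (rs.take i) (rs.drop i)).mp h1).1
  have hle : (Ideal.ofList (rs.take i) • (⊤ : Submodule A M)) ≤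
      (Ideal.ofList rs • (⊤ : Submodule A M)) := by
    apply Submodule.smul_mono_left
    apply Ideal.span_mono
    intro x hx
    exact List.mem_of_mem_take hx
  refine { toIsWeaklyRegular := hw, top_ne_smul := ?_ }
  intro htop
  apply h.top_ne_smul
  exact le_antisymm (htop.le.trans hle) le_top

end Regular

section LocFlat

open TensorProduct

/-- a localization (over a bigger ring `P`) of an `R`-flat module is `R`-flat -/
theorem flat_of_isLocalizedModule_tower {R P M M' : Type u} [CommRing R] [CommRing P]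
    [Algebra R P] [AddCommGroup M] [Module R M] [Module P M] [IsScalarTower R P M]
    [AddCommGroup M'] [Module R M'] [Module P M'] [IsScalarTower R P M'] (S : Submonoid P)
    (g : M →ₗ[P] M') [IsLocalizedModule S g] (hM : Module.Flat R M) : Module.Flat R M' := by
  rw [Module.Flat.iff_lTensor_injectiveₛ] at hM ⊢
  intro N' _ _ N
  have h2 : Function.Injective (AlgebraTensorModule.lTensor P M N.subtype) := by
    rw [AlgebraTensorModule.coe_lTensor]
    exact hM N
  have h3 := IsLocalizedModule.map_injective S (AlgebraTensorModule.rTensor R N g)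
    (AlgebraTensorModule.rTensor R N' g) _ h2
  rw [IsLocalizedModule.map_lTensor] at h3
  rw [← AlgebraTensorModule.coe_lTensor (A := P)]
  exact h3

end LocFlat

section Step1

variable (R : Type u) [CommRing R] (n c : ℕ) (F : Fin c → MvPolynomial (Fin n) R)

local notation "P" => MvPolynomial (Fin n) R

/-- the points of `Spec R[x]/(F_1..F_i)` below a prime containing all of `(F)` lie in the fibre
locus of dimension `n - i`. -/
theorem mem_fibLocus_prefix (h : Synt.IsRelGCI R n c F) (i : ℕ) (hi : i ≤ c)
    (qi : Ideal (Synt.RelGCIRing R n i (pre F i hi))) [qi.IsPrime]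
    (hq : Ideal.span (Set.range F) ≤
      qi.comap (Ideal.Quotient.mk (Ideal.span (Set.range (pre F i hi))))) :
    i ≤ n ∧ (⟨qi, inferInstance⟩ : PrimeSpectrum (Synt.RelGCIRing R n i (pre F i hi))) ∈
      fibLocus R (Synt.RelGCIRing R n i (pre F i hi)) (n - i) := by
  have hreg := isRegular_fibLocRing R n c F h
    (qi.comap (Ideal.Quotient.mk (Ideal.span (Set.range (pre F i hi))))) hq
  have hreg' := isRegular_take _ hreg i
  rw [← List.map_take, take_ofFn F i hi] at hreg'
  have hlies : qi.LiesOver (qi.under R) := ⟨rfl⟩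
  obtain ⟨Q₀, hQ₀p, hQ₀⟩ := Groth.Agent.Lib.Helper29.exists_fiber_prime (qi.under R) qi
  have key := fun (Q : Ideal ((qi.under R).Fiber (Synt.RelGCIRing R n i (pre F i hi))))
      (hQp : Q.IsPrime) (hQ : Q.comap (Algebra.TensorProduct.includeRight.toRingHom) = qi) =>
    (Groth.Agent.Lib.Helper82.FibReg.isRegular_fibLocRing_iff R P n (hCM_poly R n)
      (heq_poly R n) (List.ofFn (pre F i hi)) (Ideal.span (Set.range (pre F i hi)))
      (ofList_ofFn R n i (pre F i hi)) qi Q hQ).mp hreg'
  have h0 := key Q₀ hQ₀p hQ₀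
  rw [List.length_ofFn] at h0
  refine ⟨h0.2, fun Q hQ => ?_⟩
  have h1 := key Q.asIdeal Q.2 hQ
  rw [List.length_ofFn] at h1
  exact h1.1

theorem span_pre_le (i : ℕ) (hi : i ≤ c) :
    Ideal.span (Set.range (pre F i hi)) ≤ Ideal.span (Set.range F) := by
  rw [Ideal.span_le]
  rintro _ ⟨j, rfl⟩
  exact Ideal.subset_span ⟨_, rfl⟩

/-- a basic open neighbourhood of the point in the fibre locus -/
theorem exists_basicOpen_prefix (h : Synt.IsRelGCI R n c F) (q' : Ideal P) [q'.IsPrime]
    (hq' : Ideal.span (Set.range F) ≤ q') (i : ℕ) (hi : i ≤ c) :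
    i ≤ n ∧ ∃ g : P, g ∉ q' ∧ ∀ q₁ : PrimeSpectrum (Synt.RelGCIRing R n i (pre F i hi)),
      Ideal.Quotient.mk (Ideal.span (Set.range (pre F i hi))) g ∉ q₁.asIdeal →
        q₁ ∈ fibLocus R (Synt.RelGCIRing R n i (pre F i hi)) (n - i) := by
  have hker : RingHom.ker (Ideal.Quotient.mk (Ideal.span (Set.range (pre F i hi)))) ≤ q' := by
    rw [Ideal.mk_ker]
    exact (span_pre_le R n c F i hi).trans hq'
  haveI hpr : (q'.map (Ideal.Quotient.mk (Ideal.span (Set.range (pre F i hi))))).IsPrime :=
    Ideal.map_isPrime_of_surjective Ideal.Quotient.mk_surjective hker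
  have hqq : (q'.map (Ideal.Quotient.mk (Ideal.span (Set.range (pre F i hi))))).comap
      (Ideal.Quotient.mk (Ideal.span (Set.range (pre F i hi)))) = q' := by
    rw [Ideal.comap_map_of_surjective' _ Ideal.Quotient.mk_surjective, sup_eq_left.mpr hker]
  obtain ⟨hin, hmem⟩ := mem_fibLocus_prefix R n c F h i hi
    (q'.map (Ideal.Quotient.mk (Ideal.span (Set.range (pre F i hi))))) (by rw [hqq]; exact hq')
  refine ⟨hin, ?_⟩
  have hopen := isOpen_fibLocus R (Synt.RelGCIRing R n i (pre F i hi)) (n - i)
  obtain ⟨v, ⟨gb, rfl⟩, hqv, hvW⟩ :=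
    PrimeSpectrum.isTopologicalBasis_basic_opens.exists_subset_of_mem_open hmem hopen
  obtain ⟨g, rfl⟩ := Ideal.Quotient.mk_surjective gb
  refine ⟨g, fun hg => hqv (Ideal.mem_map_of_mem _ hg), fun q₁ hq₁ => hvW hq₁⟩

end Step1

section Step3

variable (R : Type u) [CommRing R] (n c : ℕ) (F : Fin c → MvPolynomial (Fin n) R)

local notation "P" => MvPolynomial (Fin n) R

theorem isRelGCI_F'_prefix (i : ℕ) (hi : i ≤ c) (hin : i ≤ n) (g : P)
    (hg : ∀ q₁ : PrimeSpectrum (Synt.RelGCIRing R n i (pre F i hi)),
      Ideal.Quotient.mk (Ideal.span (Set.range (pre F i hi))) g ∉ q₁.asIdeal →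
        q₁ ∈ fibLocus R (Synt.RelGCIRing R n i (pre F i hi)) (n - i)) :
    Synt.IsRelGCI R (n + 1) (i + 1) (F' R n i (pre F i hi) g) :=
  isRelGCI_F' R n i (pre F i hi) g hin (fun p' Q hQ =>
    localDim_le_of_basicOpen_subset (n - i) _ hg p' Q hQ)

theorem flat_away_prefix (i : ℕ) (hi : i ≤ c) (hin : i ≤ n) (g : P)
    (hg : ∀ q₁ : PrimeSpectrum (Synt.RelGCIRing R n i (pre F i hi)),
      Ideal.Quotient.mk (Ideal.span (Set.range (pre F i hi))) g ∉ q₁.asIdeal →
        q₁ ∈ fibLocus R (Synt.RelGCIRing R n i (pre F i hi)) (n - i)) :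
    Module.Flat R (Localization.Away
      (Ideal.Quotient.mk (Ideal.span (Set.range (pre F i hi))) g)) := by
  have hfl := flat_of_isRelGCI R (n + 1) (i + 1) _ (isRelGCI_F'_prefix R n c F i hi hin g hg)
  exact Module.Flat.of_linearEquiv (awayEquiv R n i (pre F i hi) g).toLinearEquiv

/-- the comparison map from the principal localization to the localization at the prime -/
noncomputable def locMap (q' : Ideal P) [q'.IsPrime] (i : ℕ) (hi : i ≤ c) (g : P) (hgq : g ∉ q') :
    Localization.Away (Ideal.Quotient.mk (Ideal.span (Set.range (pre F i hi))) g) →ₗ[P]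
      (Localization.AtPrime q' ⧸ Submodule.localized' (Localization.AtPrime q') q'.primeCompl
        (Algebra.linearMap P (Localization.AtPrime q')) (Ideal.span (Set.range (pre F i hi)))) :=
  haveI : IsLocalizedModule (Submonoid.powers g)
      ((Algebra.linearMap (Synt.RelGCIRing R n i (pre F i hi))
        (Localization.Away (Ideal.Quotient.mk (Ideal.span (Set.range (pre F i hi))) g))
        ).restrictScalars P) :=
    IsLocalizedModule.restrictScalars_powers g _
  IsLocalizedModule.liftOfLE (Submonoid.powers g) q'.primeCompl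
    (Submonoid.powers_le.mpr hgq)
    ((Algebra.linearMap (Synt.RelGCIRing R n i (pre F i hi))
        (Localization.Away (Ideal.Quotient.mk (Ideal.span (Set.range (pre F i hi))) g))
        ).restrictScalars P)
    (Submodule.toLocalizedQuotient' (Localization.AtPrime q') q'.primeCompl
        (Algebra.linearMap P (Localization.AtPrime q')) (Ideal.span (Set.range (pre F i hi))))

instance (q' : Ideal P) [q'.IsPrime] (i : ℕ) (hi : i ≤ c) (g : P) (hgq : g ∉ q') :
    IsLocalizedModule q'.primeCompl (locMap R n c F q' i hi g hgq) := by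
  haveI : IsLocalizedModule (Submonoid.powers g)
      ((Algebra.linearMap (Synt.RelGCIRing R n i (pre F i hi))
        (Localization.Away (Ideal.Quotient.mk (Ideal.span (Set.range (pre F i hi))) g))
        ).restrictScalars P) :=
    IsLocalizedModule.restrictScalars_powers g _
  unfold locMap
  infer_instance

/-- flatness of the quotients `R[x]_{q'} / (F_1, …, F_i)` over `R`, any ring `R` -/
theorem flat_localized_prefix (h : Synt.IsRelGCI R n c F) (q' : Ideal P) [q'.IsPrime]
    (hq' : Ideal.span (Set.range F) ≤ q') (i : ℕ) (hi : i ≤ c) :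
    Module.Flat R (Localization.AtPrime q' ⧸
      Submodule.localized' (Localization.AtPrime q') q'.primeCompl
        (Algebra.linearMap P (Localization.AtPrime q')) (Ideal.span (Set.range (pre F i hi)))) := by
  obtain ⟨hin, g, hgq, hg⟩ := exists_basicOpen_prefix R n c F h q' hq' i hi
  have hT := flat_away_prefix R n c F i hi hin g hg
  exact flat_of_isLocalizedModule_tower q'.primeCompl (locMap R n c F q' i hi g hgq) hT

theorem span_snoc_F'_eq (i : ℕ) (hi : i + 1 ≤ c) (g : P) :
    Ideal.span (Set.range (Fin.snoc (F' R n i (pre F i (Nat.le_of_succ_le hi)) g)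
      (rename Fin.castSucc (F ⟨i, hi⟩)) : Fin (i + 1 + 1) → MvPolynomial (Fin (n + 1)) R)) =
    Ideal.span (Set.range (F' R n (i + 1) (pre F (i + 1) hi) g)) := by
  apply le_antisymm
  · rw [Ideal.span_le]
    rintro _ ⟨j, rfl⟩
    induction j using Fin.lastCases with
    | last =>
      rw [Fin.snoc_last]
      have := F'_castSucc R n (i + 1) (pre F (i + 1) hi) g (Fin.last i)
      rw [pre_succ_last] at this
      rw [← this]
      exact Ideal.subset_span ⟨_, rfl⟩
    | cast j =>
      rw [Fin.snoc_castSucc]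
      induction j using Fin.lastCases with
      | last =>
        rw [F'_last, ← F'_last R n (i + 1) (pre F (i + 1) hi) g]
        exact Ideal.subset_span ⟨_, rfl⟩
      | cast j =>
        rw [F'_castSucc, ← pre_succ_castSucc F i hi j,
          ← F'_castSucc R n (i + 1) (pre F (i + 1) hi) g (Fin.castSucc j)]
        exact Ideal.subset_span ⟨_, rfl⟩
  · rw [Ideal.span_le]
    rintro _ ⟨j, rfl⟩
    induction j using Fin.lastCases with
    | last =>
      rw [F'_last, ← F'_last R n i (pre F i (Nat.le_of_succ_le hi)) g]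
      refine Ideal.subset_span ⟨Fin.castSucc (Fin.last i), ?_⟩
      rw [Fin.snoc_castSucc]
    | cast j =>
      rw [F'_castSucc]
      induction j using Fin.lastCases with
      | last =>
        rw [pre_succ_last]
        refine Ideal.subset_span ⟨Fin.last (i + 1), ?_⟩
        rw [Fin.snoc_last]
      | cast j =>
        rw [pre_succ_castSucc, ← F'_castSucc R n i (pre F i (Nat.le_of_succ_le hi)) g j]
        refine Ideal.subset_span ⟨Fin.castSucc (Fin.castSucc j), ?_⟩
        rw [Fin.snoc_castSucc]

/-- regularity of `F_{i+1}` on the principal localization `(R[x]/(F_1..F_i))_g` -/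
theorem isSMulRegular_away_prefix (i : ℕ) (hi : i + 1 ≤ c) (g : P)
    (hG : Synt.IsRelGCI R (n + 1) (i + 1 + 1) (F' R n (i + 1) (pre F (i + 1) hi) g)) :
    IsSMulRegular (Localization.Away
      (Ideal.Quotient.mk (Ideal.span (Set.range (pre F i (Nat.le_of_succ_le hi)))) g))
      (F ⟨i, hi⟩) := by
  have hG' : Synt.IsRelGCI R (n + 1) (i + 1 + 1)
      (Fin.snoc (F' R n i (pre F i (Nat.le_of_succ_le hi)) g)
        (rename Fin.castSucc (F ⟨i, hi⟩))) :=
    isRelGCI_of_span_eq _ _ (span_snoc_F'_eq R n c F i hi g).symm hG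
  have hreg := isSMulRegular_of_isRelGCI_snoc (n + 1) (i + 1) _ _ hG'
  have hkey : ∀ t : Localization.Away
      (Ideal.Quotient.mk (Ideal.span (Set.range (pre F i (Nat.le_of_succ_le hi)))) g),
      awayEquiv R n i (pre F i (Nat.le_of_succ_le hi)) g ((F ⟨i, hi⟩) • t) =
        Ideal.Quotient.mk _ (rename Fin.castSucc (F ⟨i, hi⟩)) *
          awayEquiv R n i (pre F i (Nat.le_of_succ_le hi)) g t := by
    intro t
    rw [Algebra.smul_def, map_mul,
      IsScalarTower.algebraMap_apply P (Synt.RelGCIRing R n i (pre F i (Nat.le_of_succ_le hi)))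
        (Localization.Away
          (Ideal.Quotient.mk (Ideal.span (Set.range (pre F i (Nat.le_of_succ_le hi)))) g))]
    congr 1
    change β R n i (pre F i (Nat.le_of_succ_le hi)) g _ = _
    rw [β_algebraMap]
    rfl
  intro x y hxy
  have h1 := congrArg (awayEquiv R n i (pre F i (Nat.le_of_succ_le hi)) g) hxy
  rw [hkey, hkey] at h1
  exact (awayEquiv R n i (pre F i (Nat.le_of_succ_le hi)) g).injective (hreg h1)

/-- regularity of `F_{i+1}` on `R[x]_{q'} / (F_1, …, F_i)`, any ring `R` -/
theorem isSMulRegular_localized_prefix (h : Synt.IsRelGCI R n c F) (q' : Ideal P) [q'.IsPrime]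
    (hq' : Ideal.span (Set.range F) ≤ q') (i : ℕ) (hi : i + 1 ≤ c) :
    IsSMulRegular (Localization.AtPrime q' ⧸
      Submodule.localized' (Localization.AtPrime q') q'.primeCompl
        (Algebra.linearMap P (Localization.AtPrime q'))
        (Ideal.span (Set.range (pre F i (Nat.le_of_succ_le hi)))))
      (algebraMap P (Localization.AtPrime q') (F ⟨i, hi⟩)) := by
  obtain ⟨hin, g₁, hg₁q, hg₁⟩ :=
    exists_basicOpen_prefix R n c F h q' hq' i (Nat.le_of_succ_le hi)
  obtain ⟨hin', g₂, hg₂q, hg₂⟩ := exists_basicOpen_prefix R n c F h q' hq' (i + 1) hi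
  have hgq : g₁ * g₂ ∉ q' := fun hmem =>
    (Ideal.IsPrime.mem_or_mem inferInstance hmem).elim hg₁q hg₂q
  have hg' : ∀ q₁ : PrimeSpectrum (Synt.RelGCIRing R n (i + 1) (pre F (i + 1) hi)),
      Ideal.Quotient.mk (Ideal.span (Set.range (pre F (i + 1) hi))) (g₁ * g₂) ∉ q₁.asIdeal →
        q₁ ∈ fibLocus R (Synt.RelGCIRing R n (i + 1) (pre F (i + 1) hi)) (n - (i + 1)) := by
    intro q₁ hq₁
    apply hg₂ q₁
    intro hmem
    apply hq₁
    rw [map_mul]
    exact Ideal.mul_mem_left _ _ hmem
  have hG := isRelGCI_F'_prefix R n c F (i + 1) hi hin' (g₁ * g₂) hg'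
  have hreg := isSMulRegular_away_prefix R n c F i hi (g₁ * g₂) hG
  exact IsSMulRegular.of_isLocalizedModule (Localization.AtPrime q') q'.primeCompl
    (locMap R n c F q' i (Nat.le_of_succ_le hi) (g₁ * g₂) hgq) hreg

end Step3

section Final

variable (R : Type u) [CommRing R] (n c : ℕ) (F : Fin c → MvPolynomial (Fin n) R)

local notation "P" => MvPolynomial (Fin n) R

theorem take_map_eq (q' : Ideal P) [q'.IsPrime] (i : ℕ) (hi : i ≤ c) :
    (Ideal.ofList (((List.ofFn F).map (algebraMap P (Localization.AtPrime q'))).take i) •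
      (⊤ : Submodule (Localization.AtPrime q') (Localization.AtPrime q'))) =
    Submodule.localized' (Localization.AtPrime q') q'.primeCompl
      (Algebra.linearMap P (Localization.AtPrime q')) (Ideal.span (Set.range (pre F i hi))) := by
  rw [← List.map_take, take_ofFn F i hi]
  exact ofList_smul_top_eq_localized' R n i (pre F i hi) q'

/-- **Regularity** of `F` in `R[x]_{q'}` for a relative global complete intersection over any ring. -/
theorem isRegular_localized (h : Synt.IsRelGCI R n c F) (q' : Ideal P) [q'.IsPrime]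
    (hq' : Ideal.span (Set.range F) ≤ q') :
    IsRegular (Localization.AtPrime q')
      ((List.ofFn F).map (algebraMap P (Localization.AtPrime q'))) := by
  refine ⟨?_, ?_⟩
  · rw [isWeaklyRegular_iff_Fin]
    intro j
    have hlen : ((List.ofFn F).map (algebraMap P (Localization.AtPrime q'))).length = c := by
      rw [List.length_map, List.length_ofFn]
    have hj : (j : ℕ) + 1 ≤ c := by
      have := j.2
      omega
    rw [take_map_eq R n c F q' j (Nat.le_of_succ_le hj)]
    have hget : ((List.ofFn F).map (algebraMap P (Localization.AtPrime q')))[j] =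
        algebraMap P (Localization.AtPrime q') (F ⟨j, hj⟩) := by
      simp
    rw [hget]
    exact isSMulRegular_localized_prefix R n c F h q' hq' j hj
  · intro htop
    rw [smul_eq_mul, Ideal.mul_top] at htop
    have hle : Ideal.ofList ((List.ofFn F).map (algebraMap P (Localization.AtPrime q'))) ≤
        IsLocalRing.maximalIdeal (Localization.AtPrime q') := by
      unfold Ideal.ofList
      rw [Ideal.span_le]
      intro x hx
      obtain ⟨a, ha, rfl⟩ := List.mem_map.mp hx
      obtain ⟨k, rfl⟩ := (List.mem_ofFn' F a).mp ha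
      rw [SetLike.mem_coe, IsLocalization.AtPrime.to_map_mem_maximal_iff _ q']
      exact hq' (Ideal.subset_span ⟨k, rfl⟩)
    rw [← htop] at hle
    exact (IsLocalRing.maximalIdeal.isMaximal (Localization.AtPrime q')).ne_top
      (top_le_iff.mp hle)

/-- **Flatness** of the successive quotients over `R`. -/
theorem flat_localized (h : Synt.IsRelGCI R n c F) (q' : Ideal P) [q'.IsPrime]
    (hq' : Ideal.span (Set.range F) ≤ q') (i : ℕ) (hi : i ≤ c) :
    Module.Flat R (Localization.AtPrime q' ⧸ Ideal.ofList
      (((List.ofFn F).take i).map (algebraMap P (Localization.AtPrime q')))) := by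
  have h1 := flat_localized_prefix R n c F h q' hq' i hi
  rw [← take_map_eq R n c F q' i hi, smul_eq_mul, Ideal.mul_top, ← List.map_take] at h1
  exact h1

end Final

end Groth.Agent.Lib.Helper82.RelGCIRegLocal
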