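import Mathlib
import Groth.Prelude.Def_RegImm
import Groth.Agent.Lib.Helper82.RelGCIRegLocal
import Groth.Agent.Lib.Helper82.CIField
import Groth.Agent.Lib.Helper82.CISpreadA
import Groth.Agent.Lib.Helper82.CICrit
import Groth.Agent.Lib.Helper82.CIPoly
import Groth.Agent.H46.SyntLocality

set_option autoImplicit false
universe u

namespace Groth.Agent.Lib.Helper82.SyntLocal

open TensorProduct

section Flat

variable {R A : Type u} [CommRing R] [CommRing A] [Algebra R A]

theorem one_tmul_eq_zero_of_mem_map (p : Ideal R) {w : A} (hw : w ∈ p.map (algebraMap R A)) :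
    (1 : R ⧸ p) ⊗ₜ[R] w = 0 := by
  rw [Ideal.map] at hw
  induction hw using Submodule.span_induction with
  | mem x hx =>
    obtain ⟨r, hr, rfl⟩ := hx
    have e1 : algebraMap R A r = r • (1 : A) := Algebra.algebraMap_eq_smul_one r
    have : r • (1 : R ⧸ p) = 0 := by
      rw [← Algebra.algebraMap_eq_smul_one]
      exact Ideal.Quotient.eq_zero_iff_mem.mpr hr
    rw [e1, TensorProduct.tmul_smul, TensorProduct.smul_tmul', this, TensorProduct.zero_tmul]
  | zero => exact TensorProduct.tmul_zero _ _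
  | add x y _ _ hx hy => rw [TensorProduct.tmul_add, hx, hy, add_zero]
  | smul a x _ hx =>
    have h1 : (1 : R ⧸ p) ⊗ₜ[R] (a • x) =
        (LinearMap.lTensor (R ⧸ p) (LinearMap.mulLeft R a)) ((1 : R ⧸ p) ⊗ₜ[R] x) := by
      rw [LinearMap.lTensor_tmul]
      rfl
    rw [h1, hx, map_zero]

/-- Flatness of `A ⧸ I'` over `R` gives `I' ∩ pA = p I'`. -/
theorem mem_mul_of_flat (p : Ideal R) (I' : Ideal A) [hfl : Module.Flat R (A ⧸ I')] {w : A}
    (hwI : w ∈ I') (hwp : w ∈ p.map (algebraMap R A)) : w ∈ p.map (algebraMap R A) * I' := by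
  have hinj := LinearMap.lTensor_injective_of_exact_of_flat (R := R)
    ((Submodule.mkQ I').restrictScalars R) (Submodule.mkQ_surjective I')
    ((Submodule.subtype I').restrictScalars R) Subtype.val_injective
    (LinearMap.exact_subtype_mkQ I') (R ⧸ p)
  have h0 : (1 : R ⧸ p) ⊗ₜ[R] (⟨w, hwI⟩ : I') = 0 := by
    apply hinj
    rw [map_zero, LinearMap.lTensor_tmul]
    exact one_tmul_eq_zero_of_mem_map p hwp
  have h1 : TensorProduct.quotTensorEquivQuotSMul (↥I') p
      ((1 : R ⧸ p) ⊗ₜ[R] (⟨w, hwI⟩ : I')) = 0 := by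
    rw [h0]
    exact LinearEquiv.map_zero _
  rw [TensorProduct.quotTensorEquivQuotSMul_mk_one_tmul, Submodule.Quotient.mk_eq_zero] at h1
  -- now `⟨w, hwI⟩ ∈ p • ⊤`
  have key : ∀ m : I', m ∈ (p • (⊤ : Submodule R I')) → (m : A) ∈ p.map (algebraMap R A) * I' := by
    intro m hm
    refine Submodule.smul_induction_on hm ?_ ?_
    · intro r hr m _
      have : ((r • m : I') : A) = algebraMap R A r * (m : A) := by
        rw [Submodule.coe_smul_of_tower, Algebra.smul_def]
      rw [this]
      exact Ideal.mul_mem_mul (Ideal.mem_map_of_mem _ hr) m.2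
    · intro x y hx hy
      rw [Submodule.coe_add]
      exact Ideal.add_mem _ hx hy
  exact key ⟨w, hwI⟩ h1

end Flat

section Nak

variable {R A : Type u} [CommRing R] [CommRing A] [Algebra R A] [IsLocalRing A]

/-- Nakayama + flatness: generators of `I'` modulo `p` are generators. -/
theorem le_of_map_le_of_flat (p : Ideal R)
    (hp : p.map (algebraMap R A) ≤ IsLocalRing.maximalIdeal A)
    (I' J' : Ideal A) (hI : I'.FG) (hJI : J' ≤ I') [Module.Flat R (A ⧸ I')]
    (hle : I'.map (Ideal.Quotient.mk (p.map (algebraMap R A))) ≤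
      J'.map (Ideal.Quotient.mk (p.map (algebraMap R A)))) : I' ≤ J' := by
  apply Submodule.le_of_le_smul_of_le_jacobson_bot (I := p.map (algebraMap R A)) hI
  · exact hp.trans (IsLocalRing.maximalIdeal_le_jacobson ⊥)
  · intro z hz
    have h1 : Ideal.Quotient.mk (p.map (algebraMap R A)) z ∈
        J'.map (Ideal.Quotient.mk (p.map (algebraMap R A))) := hle (Ideal.mem_map_of_mem _ hz)
    obtain ⟨j, hj, hjz⟩ := (Ideal.mem_map_iff_of_surjective _ Ideal.Quotient.mk_surjective).mp h1
    have hw : z - j ∈ p.map (algebraMap R A) := by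
      rw [← Ideal.Quotient.eq_zero_iff_mem, map_sub, hjz, sub_self]
    have hwI : z - j ∈ I' := I'.sub_mem hz (hJI hj)
    have h2 := mem_mul_of_flat p I' hwI hw
    have : z = j + (z - j) := by ring
    rw [this]
    exact Submodule.add_mem_sup hj (by rwa [Ideal.smul_eq_mul])

end Nak


section Generic

open RingTheory.Sequence

theorem isLocalRing_fibLocRing (R S : Type u) [CommRing R] [CommRing S] [Algebra R S]
    (q : Ideal S) [q.IsPrime] : IsLocalRing (EGA4.FibLocRing R S q) := by
  have hlies : q.LiesOver (q.under R) := ⟨rfl⟩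
  obtain ⟨Q, hQp, hQ⟩ := Groth.Agent.Lib.Helper29.exists_fiber_prime (q.under R) q
  obtain ⟨eC⟩ := Groth.Agent.Lib.Helper82.FibReg.nonempty_ringEquiv_fibLocRing R S
    (q.under R) Q q hQ rfl
  exact eC.isLocalRing

/-- presentation independence, through an isomorphism of the quotient -/
theorem exists_isRegular_of_quotient_equiv {A' C B₀ : Type u} [CommRing A']
    [IsRegularLocalRing A'] [CommRing C] [IsLocalRing C] [CommRing B₀] [IsRegularLocalRing B₀]
    (IA : Ideal A') (eQ : (A' ⧸ IA) ≃+* C) (π₀ : B₀ →+* C) (hπ₀ : Function.Surjective π₀)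
    (h₀ : ∃ rs₀ : List B₀, IsRegular B₀ rs₀ ∧ Ideal.ofList rs₀ = RingHom.ker π₀) :
    ∃ rs : List A', IsRegular A' rs ∧ Ideal.ofList rs = IA := by
  let π : A' →+* C := eQ.toRingHom.comp (Ideal.Quotient.mk IA)
  have hπ : Function.Surjective π := eQ.surjective.comp Ideal.Quotient.mk_surjective
  have hker : RingHom.ker π = IA := by
    change RingHom.ker (eQ.toRingHom.comp (Ideal.Quotient.mk IA)) = _
    rw [RingHom.ker_equiv_comp, Ideal.mk_ker]
  obtain ⟨rs, hreg, hrs⟩ :=
    Groth.Agent.Lib.Helper82.CICrit.exists_isRegular_of_exists_isRegular B₀ _ π₀ hπ₀ A' π hπ h₀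
  exact ⟨rs, hreg, hrs.trans hker⟩

theorem flat_quotient_of_flat_localization (R : Type u) [CommRing R] {P : Type u} [CommRing P]
    [Algebra R P] (I : Ideal P) (q₀ : Ideal (P ⧸ I)) [q₀.IsPrime]
    (hflat : Module.Flat R (Localization.AtPrime q₀)) :
    Module.Flat R (Localization.AtPrime (q₀.comap (Ideal.Quotient.mk I)) ⧸
      I.map (algebraMap P (Localization.AtPrime (q₀.comap (Ideal.Quotient.mk I))))) := by
  have hloc := Groth.Agent.Lib.Helper82.CIPoly.isLocalization_atPrime_quotient I q₀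
  let e := IsLocalization.algEquiv q₀.primeCompl (Localization.AtPrime q₀)
    (Localization.AtPrime (q₀.comap (Ideal.Quotient.mk I)) ⧸
      I.map (algebraMap P (Localization.AtPrime (q₀.comap (Ideal.Quotient.mk I)))))
  have htower : IsScalarTower R (P ⧸ I) (Localization.AtPrime (q₀.comap (Ideal.Quotient.mk I)) ⧸
      I.map (algebraMap P (Localization.AtPrime (q₀.comap (Ideal.Quotient.mk I))))) :=
    IsScalarTower.of_algebraMap_eq (fun r => rfl)
  exact Module.Flat.of_linearEquiv (e.restrictScalars R).toLinearEquiv.symm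

variable (R : Type u) [CommRing R] {P : Type u} [CommRing P] [Algebra R P]

theorem exists_generators (I : Ideal P) (hI : I.FG) (q₀ : Ideal (P ⧸ I)) [q₀.IsPrime]
    (hRLR : IsRegularLocalRing (EGA4.FibLocRing R P (q₀.comap (Ideal.Quotient.mk I))))
    (hflat : Module.Flat R (Localization.AtPrime q₀))
    (hCI : ∃ (B₀ : Type u) (_ : CommRing B₀) (_ : IsRegularLocalRing B₀)
      (π₀ : B₀ →+* EGA4.FibLocRing R (P ⧸ I) q₀), Function.Surjective π₀ ∧
        ∃ rs₀ : List B₀, IsRegular B₀ rs₀ ∧ Ideal.ofList rs₀ = RingHom.ker π₀) :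
    ∃ g : P, g ∉ q₀.comap (Ideal.Quotient.mk I) ∧ ∃ (c : ℕ) (F : Fin c → P),
      (∀ i, F i ∈ I) ∧ (∀ a ∈ I, g * a ∈ Ideal.span (Set.range F)) ∧
      IsRegular (EGA4.FibLocRing R P (q₀.comap (Ideal.Quotient.mk I)))
        ((List.ofFn F).map
          (algebraMap P (EGA4.FibLocRing R P (q₀.comap (Ideal.Quotient.mk I))))) := by
  classical
  obtain ⟨B₀, _, _, π₀, hπ₀, h₀⟩ := hCI
  obtain ⟨eQ⟩ := Groth.Agent.Lib.Helper82.FibReg.nonempty_ringEquiv_fibLocRing_quotient R I q₀
  have hlocC : IsLocalRing (EGA4.FibLocRing R (P ⧸ I) q₀) := isLocalRing_fibLocRing R (P ⧸ I) q₀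
  obtain ⟨rs, hreg, hrs⟩ := exists_isRegular_of_quotient_equiv _ eQ π₀ hπ₀ h₀
  have hflat' := flat_quotient_of_flat_localization R I q₀ hflat
  set q' : Ideal P := q₀.comap (Ideal.Quotient.mk I) with hq'
  set IA : Ideal (EGA4.FibLocRing R P q') := I.map (algebraMap P (EGA4.FibLocRing R P q')) with hIA
  have hIAne : IA ≠ ⊤ := by
    intro htop
    have : Subsingleton (EGA4.FibLocRing R P q' ⧸ IA) :=
      Ideal.Quotient.subsingleton_iff.mpr htop
    have := eQ.symm.injective.subsingleton
    exact not_subsingleton (EGA4.FibLocRing R (P ⧸ I) q₀) this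
  -- the algebra map factors
  have halg : ∀ x : P, algebraMap P (EGA4.FibLocRing R P q') x =
      Ideal.Quotient.mk _ (algebraMap P (Localization.AtPrime q') x) := fun x => rfl
  -- elements of `rs` are unit multiples of images of elements of `I`
  have hmem : ∀ r ∈ rs, ∃ a ∈ I, ∃ u : EGA4.FibLocRing R P q', IsUnit u ∧
      r * u = algebraMap P (EGA4.FibLocRing R P q') a := by
    intro r hr
    have h1 : r ∈ IA := by
      rw [← hrs]
      exact Ideal.subset_span hr
    have h2 : IA = (I.map (algebraMap P (Localization.AtPrime q'))).map (Ideal.Quotient.mk _) := by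
      rw [hIA, Ideal.map_map]
      rfl
    rw [h2] at h1
    obtain ⟨y, hy, rfl⟩ := (Ideal.mem_map_iff_of_surjective _ Ideal.Quotient.mk_surjective).mp h1
    obtain ⟨⟨a, s⟩, hys⟩ := (IsLocalization.mem_map_algebraMap_iff q'.primeCompl
      (Localization.AtPrime q')).mp hy
    refine ⟨a.1, a.2, Ideal.Quotient.mk _ (algebraMap P (Localization.AtPrime q') s), ?_, ?_⟩
    · exact (IsLocalization.map_units (Localization.AtPrime q') s).map _
    · rw [halg, ← map_mul]
      exact congrArg _ hys
  choose! a ha u hu hau using hmem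
  let F : Fin rs.length → P := fun i => a (rs.get i)
  have hF : ∀ i, F i ∈ I := fun i => ha _ (List.get_mem _ _)
  have hspan : Ideal.span (Set.range fun i => algebraMap P (EGA4.FibLocRing R P q') (F i)) = IA := by
    apply le_antisymm
    · rw [Ideal.span_le]
      rintro _ ⟨i, rfl⟩
      exact Ideal.mem_map_of_mem _ (hF i)
    · rw [← hrs, Ideal.ofList, Ideal.span_le]
      intro r hr
      obtain ⟨i, rfl⟩ := List.mem_iff_get.mp hr
      have h1 := hau (rs.get i) (List.get_mem _ _)
      obtain ⟨v, hv⟩ := hu (rs.get i) (List.get_mem _ _)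
      have h2 : rs.get i = algebraMap P (EGA4.FibLocRing R P q') (F i) * ((v⁻¹ : _ˣ) : _) := by
        rw [← h1, ← hv, mul_assoc, Units.mul_inv, mul_one]
      rw [SetLike.mem_coe, h2]
      exact Ideal.mul_mem_right _ _ (Ideal.subset_span ⟨i, rfl⟩)
  have hofList : Ideal.ofList ((List.ofFn F).map (algebraMap P (EGA4.FibLocRing R P q'))) = IA := by
    rw [← hspan, List.map_ofFn, Ideal.ofList]
    congr 1
    ext x
    simp [List.mem_ofFn]
  have hCM := Groth.Agent.Lib.Helper28.isCohenMacaulayModule_self_of_isRegularLocalRing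
    (EGA4.FibLocRing R P q')
  have hxsreg : IsRegular (EGA4.FibLocRing R P q')
      ((List.ofFn F).map (algebraMap P (EGA4.FibLocRing R P q'))) := by
    apply Groth.Agent.Lib.Helper82.CMDim.isRegular_of_ringKrullDim_quotient_add_le hCM
    · intro x hx
      apply IsLocalRing.le_maximalIdeal hIAne
      rw [← hofList]
      exact Ideal.subset_span hx
    · rw [hofList, ← hrs, List.length_map, List.length_ofFn]
      exact (ringKrullDim_add_length_eq_ringKrullDim_of_isRegular rs hreg).le
  -- Nakayama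
  have hpmax : (q'.under R).map (algebraMap R (Localization.AtPrime q')) ≤
      IsLocalRing.maximalIdeal (Localization.AtPrime q') := by
    rw [Ideal.map_le_iff_le_comap]
    intro r hr
    rw [Ideal.mem_comap, IsScalarTower.algebraMap_apply R P (Localization.AtPrime q'),
      IsLocalization.AtPrime.to_map_mem_maximal_iff _ q']
    exact hr
  have hJI : (Ideal.span (Set.range F)).map (algebraMap P (Localization.AtPrime q')) ≤
      I.map (algebraMap P (Localization.AtPrime q')) :=
    Ideal.map_mono (Ideal.span_le.mpr (by rintro _ ⟨i, rfl⟩; exact hF i))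
  have hle := le_of_map_le_of_flat (q'.under R) hpmax
    (I.map (algebraMap P (Localization.AtPrime q')))
    ((Ideal.span (Set.range F)).map (algebraMap P (Localization.AtPrime q')))
    (hI.map _) hJI (by
      rw [Ideal.map_map, Ideal.map_map]
      change IA ≤ (Ideal.span (Set.range F)).map (algebraMap P (EGA4.FibLocRing R P q'))
      rw [← hspan, Ideal.map_span, ← Set.range_comp]
      rfl)
  obtain ⟨g, hg, hgI⟩ := Groth.Agent.Lib.Helper82.CISpreadA.exists_notMem_forall_mul_mem q' I
    (Ideal.span (Set.range F)) hI hle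
  exact ⟨g, hg, rs.length, F, hF, hgI, hxsreg⟩


/-- transport of local rings and fibre local rings along an algebra isomorphism -/
theorem nonempty_equiv_of_algEquiv {S S' : Type u} [CommRing S] [CommRing S'] [Algebra R S]
    [Algebra R S'] (e : S ≃ₐ[R] S') (q' : Ideal S') [q'.IsPrime] :
    Nonempty (Localization.AtPrime (q'.comap e) ≃ₐ[R] Localization.AtPrime q') ∧
      Nonempty (EGA4.FibLocRing R S (q'.comap e) ≃+* EGA4.FibLocRing R S' q') := by
  have H : Submonoid.map e (q'.comap e).primeCompl = q'.primeCompl := by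
    ext x
    constructor
    · rintro ⟨y, hy, rfl⟩
      exact hy
    · intro hx
      exact ⟨e.symm x, by
        change ¬ (e.symm x ∈ q'.comap e)
        rw [Ideal.mem_comap, AlgEquiv.apply_symm_apply]
        exact hx, AlgEquiv.apply_symm_apply e x⟩
  let eloc : Localization.AtPrime (q'.comap e) ≃ₐ[R] Localization.AtPrime q' :=
    IsLocalization.algEquivOfAlgEquiv
      (Localization.AtPrime (q'.comap e)) (Localization.AtPrime q') e H
  refine ⟨⟨eloc⟩, ⟨Ideal.quotientEquiv _ _ eloc.toRingEquiv ?_⟩⟩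
  have h1 : (q'.comap e).comap (algebraMap R S) = q'.comap (algebraMap R S') := by
    ext r
    simp only [Ideal.mem_comap]
    rw [AlgEquiv.commutes]
  rw [h1, Ideal.map_map]
  congr 1
  ext r
  exact (eloc.commutes r).symm

end Generic

section Core

open RingTheory.Sequence MvPolynomial

variable (R : Type u) [CommRing R] (n : ℕ)

local notation "P" => MvPolynomial (Fin n) R

/-- the fibre local ring of a polynomial ring at a prime is regular local -/
theorem isRegularLocalRing_fibLocRing (q' : Ideal P) [q'.IsPrime] :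
    IsRegularLocalRing (EGA4.FibLocRing R P q') := by
  have hlies : q'.LiesOver (q'.under R) := ⟨rfl⟩
  obtain ⟨Q, hQp, hQ⟩ := Groth.Agent.Lib.Helper29.exists_fiber_prime (q'.under R) q'
  obtain ⟨eA⟩ := Groth.Agent.Lib.Helper82.FibReg.nonempty_ringEquiv_fibLocRing R P (q'.under R)
    Q q' hQ rfl
  have hreg : IsRegularRing (MvPolynomial (Fin n) (q'.under R).ResidueField) :=
    MvPolynomial.isRegularRing_of_isRegularRing _
  have hreg' : IsRegularRing ((q'.under R).Fiber P) :=
    IsRegularRing.of_ringEquiv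
      (MvPolynomial.algebraTensorAlgEquiv R (q'.under R).ResidueField (σ := Fin n)).toRingEquiv.symm
  have : IsRegularLocalRing (Localization.AtPrime Q) :=
    IsRegularRing.isRegularLocalRing_localization _
  exact IsRegularLocalRing.of_ringEquiv (R := Localization.AtPrime Q) eA


open Groth.Agent.Lib.Helper82.RelGCIAway Groth.Agent.Lib.Helper82.RelGCIFlat in
/-- a regular sequence in the fibre local ring gives membership in the fibre-dimension locus -/
theorem mem_fibLocus_of_isRegular (c : ℕ) (F : Fin c → P)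
    (qJ : Ideal (Synt.RelGCIRing R n c F)) [qJ.IsPrime] (q' : Ideal P) [q'.IsPrime]
    (hq : qJ.comap (Ideal.Quotient.mk (Ideal.span (Set.range F))) = q')
    (hreg : IsRegular (EGA4.FibLocRing R P q')
      ((List.ofFn F).map (algebraMap P (EGA4.FibLocRing R P q')))) :
    c ≤ n ∧ (⟨qJ, inferInstance⟩ : PrimeSpectrum (Synt.RelGCIRing R n c F)) ∈
      fibLocus R (Synt.RelGCIRing R n c F) (n - c) := by
  subst hq
  have hlies : qJ.LiesOver (qJ.under R) := ⟨rfl⟩
  obtain ⟨Q₀, hQ₀p, hQ₀⟩ := Groth.Agent.Lib.Helper29.exists_fiber_prime (qJ.under R) qJ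
  have key := fun (Q : Ideal ((qJ.under R).Fiber (Synt.RelGCIRing R n c F)))
      (hQp : Q.IsPrime) (hQ : Q.comap (Algebra.TensorProduct.includeRight.toRingHom) = qJ) =>
    (Groth.Agent.Lib.Helper82.FibReg.isRegular_fibLocRing_iff R P n (hCM_poly R n)
      (heq_poly R n) (List.ofFn F) (Ideal.span (Set.range F))
      (ofList_ofFn R n c F) qJ Q hQ).mp hreg
  have h0 := key Q₀ hQ₀p hQ₀
  rw [List.length_ofFn] at h0
  refine ⟨h0.2, fun Q hQ => ?_⟩
  have h1 := key Q.asIdeal Q.2 hQ
  rw [List.length_ofFn] at h1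
  exact h1.1

/-- `(P/I)_h ≃ (P/J)_h` if `J ≤ I` and `h I ≤ J`. -/
theorem nonempty_algEquiv_away_quotient (R : Type u) [CommRing R] {P' : Type u} [CommRing P']
    [Algebra R P'] (I J : Ideal P') (hJI : J ≤ I) (h : P') (hh : ∀ a ∈ I, h * a ∈ J) :
    Nonempty (Localization.Away (Ideal.Quotient.mk I h) ≃ₐ[R]
      Localization.Away (Ideal.Quotient.mk J h)) := by
  let φ : P' ⧸ J →+* P' ⧸ I := Ideal.Quotient.factor hJI
  have hφ : Function.Surjective φ := Ideal.Quotient.factor_surjective hJI
  letI alg : Algebra (P' ⧸ J) (Localization.Away (Ideal.Quotient.mk I h)) :=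
    ((algebraMap (P' ⧸ I) (Localization.Away (Ideal.Quotient.mk I h))).comp φ).toAlgebra
  have halg : ∀ x : P' ⧸ J, algebraMap (P' ⧸ J) (Localization.Away (Ideal.Quotient.mk I h)) x =
      algebraMap (P' ⧸ I) (Localization.Away (Ideal.Quotient.mk I h)) (φ x) := fun x => rfl
  have htower : IsScalarTower R (P' ⧸ J) (Localization.Away (Ideal.Quotient.mk I h)) :=
    IsScalarTower.of_algebraMap_eq (fun r => by
      rw [halg, IsScalarTower.algebraMap_apply R (P' ⧸ I)
        (Localization.Away (Ideal.Quotient.mk I h))]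
      rfl)
  have hloc : IsLocalization.Away (Ideal.Quotient.mk J h)
      (Localization.Away (Ideal.Quotient.mk I h)) := by
    refine (isLocalization_iff _ _).mpr ⟨?_, ?_, ?_⟩
    · rintro ⟨_, k, rfl⟩
      rw [halg, map_pow, map_pow]
      exact (IsLocalization.Away.algebraMap_isUnit (Ideal.Quotient.mk I h)).pow k
    · intro z
      obtain ⟨⟨x₀, ⟨_, k, rfl⟩⟩, hx₀⟩ := IsLocalization.surj
        (Submonoid.powers (Ideal.Quotient.mk I h)) z
      obtain ⟨x, rfl⟩ := hφ x₀
      refine ⟨⟨x, ⟨(Ideal.Quotient.mk J h) ^ k, k, rfl⟩⟩, ?_⟩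
      rw [halg, halg]
      simpa [φ] using hx₀
    · intro x y hxy
      rw [halg, halg] at hxy
      obtain ⟨⟨_, k, rfl⟩, hk⟩ := IsLocalization.exists_of_eq
        (M := Submonoid.powers (Ideal.Quotient.mk I h)) hxy
      obtain ⟨x', rfl⟩ := Ideal.Quotient.mk_surjective x
      obtain ⟨y', rfl⟩ := Ideal.Quotient.mk_surjective y
      have h1 : h ^ k * (x' - y') ∈ I := by
        rw [← Ideal.Quotient.eq_zero_iff_mem, map_mul, map_pow, map_sub, mul_sub, sub_eq_zero]
        simpa [φ] using hk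
      have h2 := hh _ h1
      refine ⟨⟨(Ideal.Quotient.mk J h) ^ (k + 1), k + 1, rfl⟩, ?_⟩
      change (Ideal.Quotient.mk J h) ^ (k + 1) * Ideal.Quotient.mk J x' =
        (Ideal.Quotient.mk J h) ^ (k + 1) * Ideal.Quotient.mk J y'
      rw [← sub_eq_zero, ← mul_sub, ← map_sub, ← map_pow, ← map_mul,
        Ideal.Quotient.eq_zero_iff_mem, pow_succ', mul_assoc]
      exact h2
  exact ⟨((IsLocalization.algEquiv (Submonoid.powers (Ideal.Quotient.mk J h))
    (Localization.Away (Ideal.Quotient.mk J h))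
    (Localization.Away (Ideal.Quotient.mk I h))).restrictScalars R).symm⟩

open Groth.Agent.Lib.Helper82.RelGCIAway in
/-- Stage 2: from generators which are fibrewise regular to a relative global complete
intersection neighbourhood. -/
theorem exists_relGCI_of_generators (I : Ideal P) (q₀ : Ideal (P ⧸ I)) [q₀.IsPrime]
    (g : P) (hg : g ∉ q₀.comap (Ideal.Quotient.mk I)) (c : ℕ) (F : Fin c → P)
    (hF : ∀ i, F i ∈ I) (hgI : ∀ a ∈ I, g * a ∈ Ideal.span (Set.range F))
    (hreg : IsRegular (EGA4.FibLocRing R P (q₀.comap (Ideal.Quotient.mk I)))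
      ((List.ofFn F).map
        (algebraMap P (EGA4.FibLocRing R P (q₀.comap (Ideal.Quotient.mk I)))))) :
    ∃ h : P, Ideal.Quotient.mk I h ∉ q₀ ∧ Synt.IsRelGCI R (n + 1) (c + 1) (F' R n c F h) ∧
      Nonempty (Localization.Away (Ideal.Quotient.mk I h) ≃ₐ[R]
        Synt.RelGCIRing R (n + 1) (c + 1) (F' R n c F h)) := by
  set q' : Ideal P := q₀.comap (Ideal.Quotient.mk I) with hq'
  have hJI : Ideal.span (Set.range F) ≤ I := Ideal.span_le.mpr (by rintro _ ⟨i, rfl⟩; exact hF i)
  have hIq : I ≤ q' := fun x hx => by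
    rw [hq', Ideal.mem_comap, Ideal.Quotient.eq_zero_iff_mem.mpr hx]
    exact zero_mem _
  have hker : RingHom.ker (Ideal.Quotient.mk (Ideal.span (Set.range F))) ≤ q' := by
    rw [Ideal.mk_ker]
    exact hJI.trans hIq
  haveI hpr : (q'.map (Ideal.Quotient.mk (Ideal.span (Set.range F)))).IsPrime :=
    Ideal.map_isPrime_of_surjective Ideal.Quotient.mk_surjective hker
  have hqq : (q'.map (Ideal.Quotient.mk (Ideal.span (Set.range F)))).comap
      (Ideal.Quotient.mk (Ideal.span (Set.range F))) = q' := by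
    rw [Ideal.comap_map_of_surjective' _ Ideal.Quotient.mk_surjective, sup_eq_left.mpr hker]
  obtain ⟨hcn, hmem⟩ := mem_fibLocus_of_isRegular R n c F
    (q'.map (Ideal.Quotient.mk (Ideal.span (Set.range F)))) q' hqq hreg
  have hopen := isOpen_fibLocus R (Synt.RelGCIRing R n c F) (n - c)
  obtain ⟨v, ⟨gb, rfl⟩, hqv, hvW⟩ :=
    PrimeSpectrum.isTopologicalBasis_basic_opens.exists_subset_of_mem_open hmem hopen
  obtain ⟨g₁, rfl⟩ := Ideal.Quotient.mk_surjective gb
  have hg₁ : g₁ ∉ q' := fun hmem' => hqv (Ideal.mem_map_of_mem _ hmem')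
  have hgg : g * g₁ ∉ q' := fun hmem' =>
    (Ideal.IsPrime.mem_or_mem inferInstance hmem').elim hg hg₁
  refine ⟨g * g₁, hgg, ?_, ?_⟩
  · refine isRelGCI_F' R n c F (g * g₁) hcn (fun p' Q hQ =>
      localDim_le_of_basicOpen_subset (n - c) _ (fun q₁ hq₁ => hvW ?_) p' Q hQ)
    change Ideal.Quotient.mk _ g₁ ∉ q₁.asIdeal
    intro hmem'
    apply hq₁
    rw [map_mul]
    exact Ideal.mul_mem_left _ _ hmem'
  · obtain ⟨e₁⟩ := nonempty_algEquiv_away_quotient R I (Ideal.span (Set.range F)) hJI (g * g₁)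
      (fun a ha => by
        rw [mul_comm g g₁, mul_assoc]
        exact Ideal.mul_mem_left _ _ (hgI a ha))
    exact ⟨e₁.trans (awayEquiv R n c F (g * g₁))⟩


/-- Stacks 00SY (3) ⇒ (2), for a literal quotient of a polynomial ring. -/
theorem exists_relGCI_quotient (I : Ideal P) (hI : I.FG) (q₀ : Ideal (P ⧸ I)) [q₀.IsPrime]
    (hflat : Module.Flat R (Localization.AtPrime q₀))
    (hCI : ∃ (B₀ : Type u) (_ : CommRing B₀) (_ : IsRegularLocalRing B₀)
      (π₀ : B₀ →+* EGA4.FibLocRing R (P ⧸ I) q₀), Function.Surjective π₀ ∧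
        ∃ rs₀ : List B₀, IsRegular B₀ rs₀ ∧ Ideal.ofList rs₀ = RingHom.ker π₀) :
    ∃ g₀ : P ⧸ I, g₀ ∉ q₀ ∧ ∃ (n' c' : ℕ) (G : Fin c' → MvPolynomial (Fin n') R),
      Synt.IsRelGCI R n' c' G ∧
        Nonempty (Localization.Away g₀ ≃ₐ[R] Synt.RelGCIRing R n' c' G) := by
  obtain ⟨g, hg, c, F, hF, hgI, hreg⟩ := exists_generators R I hI q₀
    (isRegularLocalRing_fibLocRing R n _) hflat hCI
  obtain ⟨h, hh, hrel, he⟩ := exists_relGCI_of_generators R n I q₀ g hg c F hF hgI hreg
  exact ⟨Ideal.Quotient.mk I h, hh, n + 1, c + 1, _, hrel, he⟩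

end Core


section Main

open RingTheory.Sequence

/-- **Stacks 00SY (3) ⇒ (2)**: a finitely presented algebra, flat at `q`, whose fibre is a
complete intersection at `q`, is a relative global complete intersection near `q`. -/
theorem exists_relGCI_of_flat_of_isCIOver (R S : Type u) [CommRing R] [CommRing S] [Algebra R S]
    [hfp : Algebra.FinitePresentation R S]
    (p : Ideal R) [p.IsPrime] (q : Ideal S) [q.IsPrime] [q.LiesOver p]
    (Q : Ideal (p.Fiber S)) [Q.IsPrime]
    (hQ : Q.comap (Algebra.TensorProduct.includeRight.toRingHom) = q)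
    (hflat : Module.Flat R (Localization.AtPrime q))
    (hCI : Synt.IsCIOver p.ResidueField (Localization.AtPrime Q)) :
    ∃ g : S, g ∉ q ∧ ∃ (n c : ℕ) (F : Fin c → MvPolynomial (Fin n) R), Synt.IsRelGCI R n c F ∧
      Nonempty (Localization.Away g ≃ₐ[R] Synt.RelGCIRing R n c F) := by
  obtain ⟨n, f, hf, hfg⟩ := Algebra.FinitePresentation.out (R := R) (A := S)
  let e : (MvPolynomial (Fin n) R ⧸ RingHom.ker f) ≃ₐ[R] S :=
    Ideal.quotientKerAlgEquivOfSurjective hf
  obtain ⟨⟨eloc⟩, ⟨eT⟩⟩ := nonempty_equiv_of_algEquiv R e q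
  obtain ⟨eF⟩ := Groth.Agent.Lib.Helper82.FibReg.nonempty_ringEquiv_fibLocRing R S p Q q hQ
    (Ideal.over_def q p).symm
  obtain ⟨B₀, _, hB₀, _, -, rs₀, -, hreg₀, ⟨e₀⟩⟩ := hCI
  have hflat₀ : Module.Flat R (Localization.AtPrime (q.comap e)) :=
    Module.Flat.of_linearEquiv eloc.toLinearEquiv
  let E : (B₀ ⧸ Ideal.ofList rs₀) ≃+* EGA4.FibLocRing R
      (MvPolynomial (Fin n) R ⧸ RingHom.ker f) (q.comap e) :=
    (e₀.symm.toRingEquiv.trans eF).trans eT.symm
  obtain ⟨g₀, hg₀, n', c', G, hG, ⟨eG⟩⟩ := exists_relGCI_quotient R n (RingHom.ker f) hfg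
    (q.comap e) hflat₀ ⟨B₀, inferInstance, hB₀, E.toRingHom.comp (Ideal.Quotient.mk _),
      E.surjective.comp Ideal.Quotient.mk_surjective, rs₀, hreg₀, by
        rw [RingHom.ker_equiv_comp, Ideal.mk_ker]⟩
  refine ⟨e g₀, hg₀, n', c', G, hG, ?_⟩
  have H : Submonoid.map e (Submonoid.powers g₀) = Submonoid.powers (e g₀) :=
    Submonoid.map_powers _ _
  exact ⟨(IsLocalization.algEquivOfAlgEquiv (Localization.Away g₀) (Localization.Away (e g₀))
    e H).symm.trans eG⟩

end Main


section Glue

open TensorProduct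

/-- the local ring of a localization away from an element is the local ring -/
theorem nonempty_algEquiv_atPrime_of_isLocalization_away (R : Type u) [CommRing R]
    {S T : Type u} [CommRing S] [CommRing T] [Algebra R S] [Algebra S T] [Algebra R T]
    [IsScalarTower R S T] (g : S) [IsLocalization.Away g T] (q : Ideal S) [q.IsPrime]
    (qT : Ideal T) [qT.IsPrime] (h : qT.comap (algebraMap S T) = q) :
    Nonempty (Localization.AtPrime q ≃ₐ[R] Localization.AtPrime qT) := by
  subst h
  have hloc1 := IsLocalization.isLocalization_isLocalization_atPrime_isLocalization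
    (Submonoid.powers g) (Localization.AtPrime qT) qT
  have htower : IsScalarTower R S (Localization.AtPrime qT) :=
    IsScalarTower.of_algebraMap_eq (fun r => by
      rw [IsScalarTower.algebraMap_apply R T (Localization.AtPrime qT),
        IsScalarTower.algebraMap_apply S T (Localization.AtPrime qT),
        ← IsScalarTower.algebraMap_apply R S T])
  exact ⟨(IsLocalization.algEquiv (qT.comap (algebraMap S T)).primeCompl
    (Localization.AtPrime (qT.comap (algebraMap S T))) (Localization.AtPrime qT)).restrictScalars R⟩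

variable (R : Type u) [CommRing R] {S : Type u} [CommRing S] [Algebra R S]

/-- a prime of the fibre ring is determined by its contraction -/
theorem fiber_prime_ext (p : Ideal R) [p.IsPrime] (Q Q' : Ideal (p.Fiber S)) [Q.IsPrime]
    [Q'.IsPrime]
    (h : Q.comap (Algebra.TensorProduct.includeRight.toRingHom : S →+* p.Fiber S) =
      Q'.comap (Algebra.TensorProduct.includeRight.toRingHom : S →+* p.Fiber S)) : Q = Q' := by
  have key : ∀ (Q₁ Q₂ : Ideal (p.Fiber S)) [Q₁.IsPrime] [Q₂.IsPrime],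
      Q₁.comap (Algebra.TensorProduct.includeRight.toRingHom : S →+* p.Fiber S) ≤
        Q₂.comap (Algebra.TensorProduct.includeRight.toRingHom : S →+* p.Fiber S) → Q₁ ≤ Q₂ := by
    intro Q₁ Q₂ _ _ hle x hx
    obtain ⟨r, hr, s, es⟩ := Ideal.Fiber.exists_smul_eq_one_tmul p x
    have h1 : (1 : p.ResidueField) ⊗ₜ[R] s ∈ Q₁ := by
      rw [← es]
      exact Q₁.smul_of_tower_mem r hx
    have h2 : (1 : p.ResidueField) ⊗ₜ[R] s ∈ Q₂ := hle h1
    rw [← es, Algebra.smul_def] at h2
    refine (Ideal.IsPrime.mem_or_mem inferInstance h2).resolve_left (fun h3 => ?_)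
    have hu : IsUnit (algebraMap R (p.Fiber S) r) := by
      rw [IsScalarTower.algebraMap_apply R p.ResidueField (p.Fiber S)]
      apply IsUnit.map
      rw [isUnit_iff_ne_zero]
      intro h0
      exact hr (Ideal.algebraMap_residueField_eq_zero.mp h0)
    exact (Ideal.IsPrime.ne_top inferInstance) (Ideal.eq_top_of_isUnit_mem _ h3 hu)
  exact le_antisymm (key Q Q' h.le) (key Q' Q h.ge)

/-- syntomic algebras are invariant under algebra isomorphisms -/
theorem isSyntomic_of_algEquiv {S' : Type u} [CommRing S'] [Algebra R S'] (e : S ≃ₐ[R] S')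
    (h : Synt.IsSyntomic R S) : Synt.IsSyntomic R S' := by
  obtain ⟨hfl, hfp, hfib⟩ := h
  refine ⟨Module.Flat.of_linearEquiv e.toLinearEquiv.symm, Algebra.FinitePresentation.equiv e,
    fun p => ?_⟩
  exact Groth.Agent.H46.SyntLocality.isLCIOver_of_algEquiv
    (Algebra.TensorProduct.congr AlgEquiv.refl e) (hfib p)

variable (S) in
/-- a syntomic algebra is locally a relative global complete intersection -/
theorem exists_relGCI_of_isSyntomic (h : Synt.IsSyntomic R S) (q : Ideal S) [q.IsPrime] :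
    ∃ g : S, g ∉ q ∧ ∃ (n c : ℕ) (F : Fin c → MvPolynomial (Fin n) R), Synt.IsRelGCI R n c F ∧
      Nonempty (Localization.Away g ≃ₐ[R] Synt.RelGCIRing R n c F) := by
  obtain ⟨hfl, hfp, hfib⟩ := h
  have hlies : q.LiesOver (q.under R) := ⟨rfl⟩
  obtain ⟨Q, hQp, hQ⟩ := Groth.Agent.Lib.Helper29.exists_fiber_prime (q.under R) q
  have hflat : Module.Flat R (Localization.AtPrime q) :=
    Module.Flat.trans R S (Localization.AtPrime q)
  obtain ⟨g, hg, hG⟩ := (hfib ⟨q.under R, inferInstance⟩).2 ⟨Q, hQp⟩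
  exact exists_relGCI_of_flat_of_isCIOver R S (q.under R) q Q hQ hflat
    (Groth.Agent.Lib.Helper82.CIField.isCIOver_of_isGlobalCI_away Q g hg hG)

end Glue

end Groth.Agent.Lib.Helper82.SyntLocal
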