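import Mathlib
import Groth.Prelude.Def_RegImm
import Groth.Agent.Lib.Helper82.RelGCIRegLocal
import Groth.Agent.Lib.Helper10.RegDescentKoszul
import Groth.Agent.Lib.Helper94.KoszulBridge
import Groth.Agent.S18939

/-!
# Koszul-regularity and the conormal module of a relative global complete intersection
-/

set_option autoImplicit false
universe u

namespace Groth.Agent.Lib.Helper82.RelGCIKoszul

open MvPolynomial RingTheory.Sequence
open Groth.Agent.Lib.Helper82.RelGCIRegLocal

variable (R : Type u) [CommRing R] (n c : ℕ) (F : Fin c → MvPolynomial (Fin n) R)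

local notation "P" => MvPolynomial (Fin n) R

theorem isKoszulRegularSeq (h : Synt.IsRelGCI R n c F) :
    LCI.IsKoszulRegularSeq P (List.ofFn F) := by
  apply Groth.Agent.Lib.Helper10.RegDescentKoszul.isKoszulRegularSeq_of_flat_local
  intro 𝔮
  refine ⟨Localization.AtPrime 𝔮.asIdeal, inferInstance,
    algebraMap P (Localization.AtPrime 𝔮.asIdeal), ?_, ⟨⟨IsLocalRing.maximalIdeal _, inferInstance⟩, ?_⟩, ?_⟩
  · rw [RingHom.flat_algebraMap_iff]
    infer_instance
  · ext1
    exact IsLocalization.AtPrime.comap_maximalIdeal (Localization.AtPrime 𝔮.asIdeal) 𝔮.asIdeal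
  · by_cases hq : Ideal.span (Set.range F) ≤ 𝔮.asIdeal
    · exact Groth.Agent.Lib.Helper94.isKoszulRegularSeq_of_isRegular _ _
        (isRegular_localized R n c F h 𝔮.asIdeal hq)
    · apply Groth.Agent.Lib.Helper10.RegDescentKoszul.isKoszulRegularSeq_of_top
      by_contra hne
      apply hq
      have hle := IsLocalRing.le_maximalIdeal hne
      rw [Ideal.span_le]
      rintro _ ⟨k, rfl⟩
      have hmem : algebraMap P (Localization.AtPrime 𝔮.asIdeal) (F k) ∈
          IsLocalRing.maximalIdeal (Localization.AtPrime 𝔮.asIdeal) := by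
        apply hle
        apply Ideal.subset_span
        exact List.mem_map.mpr ⟨F k, (List.mem_ofFn' F (F k)).mpr ⟨k, rfl⟩, rfl⟩
      rwa [IsLocalization.AtPrime.to_map_mem_maximal_iff _ 𝔮.asIdeal] at hmem

theorem cotangent_basis (h : Synt.IsRelGCI R n c F) :
    LinearIndependent (Synt.RelGCIRing R n c F)
        (fun i : Fin c => (Ideal.span (Set.range F)).toCotangent
          ⟨F i, Ideal.subset_span (Set.mem_range_self i)⟩) ∧
      Submodule.span (Synt.RelGCIRing R n c F) (Set.range
        (fun i : Fin c => (Ideal.span (Set.range F)).toCotangent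
          ⟨F i, Ideal.subset_span (Set.mem_range_self i)⟩)) = ⊤ := by
  by_cases htop : Ideal.span (Set.range F) = ⊤
  · haveI : Subsingleton (Synt.RelGCIRing R n c F) := Ideal.Quotient.subsingleton_iff.mpr htop
    haveI : Subsingleton (Ideal.span (Set.range F)).Cotangent :=
      Module.subsingleton (Synt.RelGCIRing R n c F) _
    exact ⟨linearIndependent_of_subsingleton, Subsingleton.elim _ _⟩
  · obtain ⟨b, hb⟩ := Groth.Agent.S18939.result htop c
      (fun i => (⟨F i, Ideal.subset_span (Set.mem_range_self i)⟩ : Ideal.span (Set.range F)))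
      (isKoszulRegularSeq R n c F h) rfl
    have hfun : (fun i : Fin c => (Ideal.span (Set.range F)).toCotangent
        ⟨F i, Ideal.subset_span (Set.mem_range_self i)⟩) = b := funext fun i => (hb i).symm
    rw [hfun]
    exact ⟨b.linearIndependent, b.span_eq⟩

end Groth.Agent.Lib.Helper82.RelGCIKoszul
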