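import Mathlib
import Groth.Prelude.Def_RegImm
import Groth.Agent.Lib.Helper82.SyntLocal
import Groth.Agent.Lib.Helper82.RelGCIFlat

/-!
# Stacks 00SY: the three local characterizations of syntomic ring maps
-/

set_option autoImplicit false
universe u

namespace Groth.Agent.Lib.Helper82.SyntLocalEquiv

open TensorProduct Groth.Agent.Lib.Helper82.SyntLocal

section FibreAway

variable (R : Type u) [CommRing R] {S T : Type u} [CommRing S] [CommRing T] [Algebra R S]
  [Algebra S T] [Algebra R T] [IsScalarTower R S T]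

/-- the local rings of the fibre of `S_g` are local rings of the fibre of `S` -/
theorem nonempty_algEquiv_fiber_atPrime (g : S) [IsLocalization.Away g T] (p : Ideal R)
    [p.IsPrime] (Q : Ideal (p.Fiber S)) [Q.IsPrime] (QT : Ideal (p.Fiber T)) [QT.IsPrime]
    (h : QT.comap (Algebra.TensorProduct.map (AlgHom.id R p.ResidueField)
      (IsScalarTower.toAlgHom R S T)).toRingHom = Q) :
    Nonempty (Localization.AtPrime Q ≃ₐ[p.ResidueField] Localization.AtPrime QT) := by
  letI : Algebra (p.Fiber S) (p.Fiber T) :=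
    (Algebra.TensorProduct.map (AlgHom.id R p.ResidueField)
      (IsScalarTower.toAlgHom R S T)).toRingHom.toAlgebra
  have htower : IsScalarTower p.ResidueField (p.Fiber S) (p.Fiber T) :=
    .of_algebraMap_eq (by
      intro x
      show algebraMap p.ResidueField (p.Fiber T) x =
        (Algebra.TensorProduct.map (AlgHom.id R p.ResidueField)
          (IsScalarTower.toAlgHom R S T))
          (algebraMap p.ResidueField (p.Fiber S) x)
      simp [Algebra.TensorProduct.algebraMap_apply])
  have hloc : IsLocalization.Away ((1 : p.ResidueField) ⊗ₜ[R] g) (p.Fiber T) := by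
    have := IsLocalization.tensorProduct_tensorProduct_right R p.ResidueField
      (Submonoid.powers g) T
      (by ext; simp [RingHom.algebraMap_toAlgebra])
    simpa [Submonoid.map_powers] using this
  exact nonempty_algEquiv_atPrime_of_isLocalization_away p.ResidueField
    ((1 : p.ResidueField) ⊗ₜ[R] g) Q QT h

end FibreAway

section Data

variable (R : Type u) [CommRing R] {S : Type u} [CommRing S] [Algebra R S]
  (p : Ideal R) [p.IsPrime] (q : Ideal S) [q.IsPrime] [q.LiesOver p]
  (Q : Ideal (p.Fiber S)) [Q.IsPrime]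
  (hQ : Q.comap (Algebra.TensorProduct.includeRight.toRingHom) = q)

include hQ in
/-- the data attached to a basic open neighbourhood `D(g)` of `q` -/
theorem exists_away_data (g : S) (hg : g ∉ q) :
    ∃ (qT : Ideal (Localization.Away g)) (_ : qT.IsPrime) (_ : qT.LiesOver p)
      (QT : Ideal (p.Fiber (Localization.Away g))) (_ : QT.IsPrime),
      qT.comap (algebraMap S (Localization.Away g)) = q ∧
      QT.comap (Algebra.TensorProduct.includeRight.toRingHom) = qT ∧
      Nonempty (Localization.AtPrime q ≃ₐ[R] Localization.AtPrime qT) ∧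
      Nonempty (Localization.AtPrime Q ≃ₐ[p.ResidueField] Localization.AtPrime QT) := by
  have hP' := Groth.Agent.Lib.Helper82.CIField.map_isPrime_of_notMem q g hg
  have hdisj : Disjoint (Submonoid.powers g : Set S) (q : Set S) := by
    rw [Set.disjoint_left]
    rintro _ ⟨m, rfl⟩ hm
    exact hg (Ideal.IsPrime.mem_of_pow_mem inferInstance m hm)
  have hcomap : (q.map (algebraMap S (Localization.Away g))).comap
      (algebraMap S (Localization.Away g)) = q :=
    IsLocalization.under_map_of_isPrime_disjoint (Submonoid.powers g) _ inferInstance hdisj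
  have hlies : (q.map (algebraMap S (Localization.Away g))).LiesOver p := by
    constructor
    rw [Ideal.under, IsScalarTower.algebraMap_eq R S (Localization.Away g), ← Ideal.comap_comap,
      hcomap]
    exact Ideal.over_def q p
  obtain ⟨QT, hQTp, hQT⟩ := Groth.Agent.Lib.Helper29.exists_fiber_prime p
    (q.map (algebraMap S (Localization.Away g)))
  have hQQ : QT.comap (Algebra.TensorProduct.map (AlgHom.id R p.ResidueField)
      (IsScalarTower.toAlgHom R S (Localization.Away g))).toRingHom = Q := by
    haveI : (QT.comap (Algebra.TensorProduct.map (AlgHom.id R p.ResidueField)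
      (IsScalarTower.toAlgHom R S (Localization.Away g))).toRingHom).IsPrime :=
      Ideal.comap_isPrime _ _
    apply fiber_prime_ext R p
    rw [hQ, ← hcomap, ← hQT]
    ext x
    simp only [Ideal.mem_comap]
    have : (Algebra.TensorProduct.map (AlgHom.id R p.ResidueField)
        (IsScalarTower.toAlgHom R S (Localization.Away g))).toRingHom
        ((Algebra.TensorProduct.includeRight.toRingHom : S →+* p.Fiber S) x) =
        (Algebra.TensorProduct.includeRight : Localization.Away g →ₐ[R]
          p.Fiber (Localization.Away g)) (algebraMap S (Localization.Away g) x) := by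
      simp
    rw [this]
  exact ⟨_, hP', hlies, QT, hQTp, hcomap, hQT,
    nonempty_algEquiv_atPrime_of_isLocalization_away R g q _ hcomap,
    nonempty_algEquiv_fiber_atPrime R g p Q QT hQQ⟩

end Data


section Main

variable (R S : Type u) [CommRing R] [CommRing S] [Algebra R S]
  (p : Ideal R) [p.IsPrime] (q : Ideal S) [q.IsPrime] [q.LiesOver p]
  (Q : Ideal (p.Fiber S)) [Q.IsPrime]
  (hQ : Q.comap (Algebra.TensorProduct.includeRight.toRingHom) = q)

omit [q.IsPrime] in
/-- (2) ⇒ (1) -/
theorem syntomic_of_relGCI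
    (h : ∃ g : S, g ∉ q ∧ ∃ (n c : ℕ) (F : Fin c → MvPolynomial (Fin n) R),
      Synt.IsRelGCI R n c F ∧ Nonempty (Localization.Away g ≃ₐ[R] Synt.RelGCIRing R n c F)) :
    ∃ g : S, g ∉ q ∧ Synt.IsSyntomic R (Localization.Away g) := by
  obtain ⟨g, hg, n, c, F, hrel, ⟨e⟩⟩ := h
  exact ⟨g, hg, isSyntomic_of_algEquiv R e.symm
    (Groth.Agent.Lib.Helper82.RelGCIFlat.isSyntomic_of_isRelGCI R n c F hrel)⟩

include hQ in
/-- (1) ⇒ (3) -/
theorem fp_flat_ci_of_syntomic
    (h : ∃ g : S, g ∉ q ∧ Synt.IsSyntomic R (Localization.Away g)) :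
    ∃ g : S, g ∉ q ∧ Algebra.FinitePresentation R (Localization.Away g) ∧
      Module.Flat R (Localization.AtPrime q) ∧
      Synt.IsCIOver p.ResidueField (Localization.AtPrime Q) := by
  obtain ⟨g, hg, hfl, hfp, hfib⟩ := h
  obtain ⟨qT, hqTp, hqTl, QT, hQTp, hcomap, hQT, ⟨e₁⟩, ⟨e₂⟩⟩ := exists_away_data R p q Q hQ g hg
  refine ⟨g, hg, hfp, ?_, ?_⟩
  · have : Module.Flat R (Localization.AtPrime qT) :=
      Module.Flat.trans R (Localization.Away g) (Localization.AtPrime qT)
    exact Module.Flat.of_linearEquiv e₁.toLinearEquiv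
  · obtain ⟨g₂, hg₂, hG⟩ := (hfib ⟨p, inferInstance⟩).2 ⟨QT, hQTp⟩
    exact Groth.Agent.Lib.Helper82.CIField.isCIOver_of_algEquiv _ e₂.symm
      (Groth.Agent.Lib.Helper82.CIField.isCIOver_of_isGlobalCI_away QT g₂ hg₂ hG)

include hQ in
/-- (3) ⇒ (2) -/
theorem relGCI_of_fp_flat_ci
    (h : ∃ g : S, g ∉ q ∧ Algebra.FinitePresentation R (Localization.Away g) ∧
      Module.Flat R (Localization.AtPrime q) ∧
      Synt.IsCIOver p.ResidueField (Localization.AtPrime Q)) :
    ∃ g : S, g ∉ q ∧ ∃ (n c : ℕ) (F : Fin c → MvPolynomial (Fin n) R),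
      Synt.IsRelGCI R n c F ∧ Nonempty (Localization.Away g ≃ₐ[R] Synt.RelGCIRing R n c F) := by
  obtain ⟨g, hg, hfp, hflat, hCI⟩ := h
  obtain ⟨qT, hqTp, hqTl, QT, hQTp, hcomap, hQT, ⟨e₁⟩, ⟨e₂⟩⟩ := exists_away_data R p q Q hQ g hg
  have hflatT : Module.Flat R (Localization.AtPrime qT) :=
    Module.Flat.of_linearEquiv e₁.symm.toLinearEquiv
  have hCIT : Synt.IsCIOver p.ResidueField (Localization.AtPrime QT) :=
    Groth.Agent.Lib.Helper82.CIField.isCIOver_of_algEquiv _ e₂ hCI
  obtain ⟨g', hg', n, c, F, hrel, ⟨e⟩⟩ :=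
    exists_relGCI_of_flat_of_isCIOver R (Localization.Away g) p qT QT hQT hflatT hCIT
  -- descend the element
  set z : S := (IsLocalization.Away.sec g g').1 with hz
  have hassoc : Associated (algebraMap S (Localization.Away g) z) g' :=
    IsLocalization.Away.associated_sec_fst g g'
  have hloc : IsLocalization.Away (g * z) (Localization.Away g') :=
    IsLocalization.Away.mul_of_associated g z g' hassoc
  have hzq : z ∉ q := by
    intro hzq
    apply hg'
    obtain ⟨u, hu⟩ := hassoc
    rw [← hu]
    apply Ideal.mul_mem_right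
    rw [← hcomap] at hzq
    exact hzq
  have htower : IsScalarTower R S (Localization.Away g') := inferInstance
  refine ⟨g * z, fun hmem => (Ideal.IsPrime.mem_or_mem inferInstance hmem).elim hg hzq,
    n, c, F, hrel, ⟨?_⟩⟩
  exact ((IsLocalization.algEquiv (Submonoid.powers (g * z)) (Localization.Away (g * z))
    (Localization.Away g')).restrictScalars R).trans e

include hQ in
/-- Stacks 00SY. -/
theorem main :
    ((∃ g : S, g ∉ q ∧ Synt.IsSyntomic R (Localization.Away g)) ↔
        ∃ g : S, g ∉ q ∧ ∃ (n c : ℕ) (F : Fin c → MvPolynomial (Fin n) R), Synt.IsRelGCI R n c F ∧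
          Nonempty (Localization.Away g ≃ₐ[R] Synt.RelGCIRing R n c F)) ∧
      ((∃ g : S, g ∉ q ∧ Synt.IsSyntomic R (Localization.Away g)) ↔
        ∃ g : S, g ∉ q ∧ Algebra.FinitePresentation R (Localization.Away g) ∧
          Module.Flat R (Localization.AtPrime q) ∧
          Synt.IsCIOver p.ResidueField (Localization.AtPrime Q)) := by
  refine ⟨⟨fun h => relGCI_of_fp_flat_ci R S p q Q hQ (fp_flat_ci_of_syntomic R S p q Q hQ h),
    syntomic_of_relGCI R S q⟩, ⟨fp_flat_ci_of_syntomic R S p q Q hQ, fun h =>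
      syntomic_of_relGCI R S q (relGCI_of_fp_flat_ci R S p q Q hQ h)⟩⟩

end Main

end Groth.Agent.Lib.Helper82.SyntLocalEquiv
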