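import Mathlib
import Groth.Prelude.Def_RegImm
import Groth.Agent.Lib.Helper82.SyntLocalEquiv
import Groth.Agent.Lib.Helper82.RelGCIKoszul

set_option autoImplicit false
universe u

namespace Groth.Agent.Lib.Helper82.CotangentProj

section LocFree

variable {T : Type u} [CommRing T] {N : Type u} [AddCommGroup N] [Module T N]

/-- a module generated up to `t`-torsion by elements which are independent up to `t`-torsion
becomes free after inverting `t` -/
theorem free_localizedModule_away (t : T) {c : ℕ} (m : Fin c → N)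
    (hgen : ∀ x : N, ∃ k : ℕ, t ^ k • x ∈ Submodule.span T (Set.range m))
    (hind : ∀ a : Fin c → T, ∑ i, a i • m i = 0 → ∃ k : ℕ, ∀ i, t ^ k * a i = 0) :
    Module.Free (Localization.Away t) (LocalizedModule.Away t N) ∧
      Module.Finite (Localization.Away t) (LocalizedModule.Away t N) := by
  let Φ : (Fin c → T) →ₗ[T] N := Fintype.linearCombination T m
  have hΦ : ∀ a, Φ a = ∑ i, a i • m i := fun a => Fintype.linearCombination_apply T m a
  have hinj : Function.Injective (LocalizedModule.map (Submonoid.powers t) Φ) := by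
    rw [injective_iff_map_eq_zero]
    intro x hx
    induction x using LocalizedModule.induction_on with | _ a s
    rw [LocalizedModule.map_mk, ← LocalizedModule.zero_mk s, LocalizedModule.mk_eq] at hx
    obtain ⟨u, hu⟩ := hx
    rw [smul_zero, smul_zero] at hu
    obtain ⟨⟨_, j, rfl⟩, hu'⟩ : ∃ u' : Submonoid.powers t, (u' : T) • Φ a = 0 := by
      refine ⟨u * s, ?_⟩
      rw [Submonoid.coe_mul, mul_smul]
      exact hu
    have h1 : Φ ((t ^ j) • a) = 0 := by rw [map_smul]; exact hu'
    rw [hΦ] at h1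
    obtain ⟨k, hk⟩ := hind _ h1
    rw [← LocalizedModule.zero_mk s, LocalizedModule.mk_eq]
    refine ⟨⟨t ^ (k + j), k + j, rfl⟩, ?_⟩
    rw [smul_zero, smul_zero]
    change t ^ (k + j) • (s : T) • a = 0
    rw [smul_comm]
    have : t ^ (k + j) • a = 0 := by
      funext i
      rw [Pi.smul_apply, Pi.zero_apply, smul_eq_mul, pow_add, mul_assoc]
      exact hk i
    rw [this, smul_zero]
  have hsurj : Function.Surjective (LocalizedModule.map (Submonoid.powers t) Φ) := by
    intro y
    induction y using LocalizedModule.induction_on with | _ x s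
    obtain ⟨k, hk⟩ := hgen x
    have hrange : Submodule.span T (Set.range m) = LinearMap.range Φ :=
      (Fintype.range_linearCombination T m).symm
    rw [hrange] at hk
    obtain ⟨a, ha⟩ := hk
    refine ⟨LocalizedModule.mk a (⟨t ^ k, k, rfl⟩ * s), ?_⟩
    rw [LocalizedModule.map_mk, LocalizedModule.mk_eq]
    refine ⟨1, ?_⟩
    rw [one_smul, one_smul, ha]
    change (s : T) • t ^ k • x = ((t ^ k) * (s : T)) • x
    rw [mul_comm, mul_smul]
  have hfree : Module.Free (Localization.Away t) (LocalizedModule.Away t (Fin c → T)) :=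
    Module.free_of_isLocalizedModule (Submonoid.powers t)
      (LocalizedModule.mkLinearMap (Submonoid.powers t) (Fin c → T))
  have hfin : Module.Finite (Localization.Away t) (LocalizedModule.Away t (Fin c → T)) :=
    Module.Finite.of_isLocalizedModule (Submonoid.powers t)
      (LocalizedModule.mkLinearMap (Submonoid.powers t) (Fin c → T))
  let e := LinearEquiv.ofBijective (LocalizedModule.map (Submonoid.powers t) Φ) ⟨hinj, hsurj⟩
  exact ⟨Module.Free.of_equiv e, Module.Finite.equiv e⟩

end LocFree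



section LocTransfer

variable {S : Type u} [CommRing S] {M : Type u} [AddCommGroup M] [Module S M]

/-- transfer of "generators and independence up to torsion" to a principal localization -/
theorem transfer_away (g h : S) {c : ℕ} (m₀ : Fin c → M)
    (hgen₀ : ∀ x : M, h • x ∈ Submodule.span S (Set.range m₀))
    (hind₀ : ∀ a : Fin c → S, ∑ i, a i • m₀ i = 0 → ∃ k : ℕ, ∀ i, h ^ k * a i = 0) :
    (∀ x : LocalizedModule (Submonoid.powers g) M, ∃ k : ℕ,
      (algebraMap S (Localization.Away g) h) ^ k • x ∈ Submodule.span (Localization.Away g)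
        (Set.range fun i => LocalizedModule.mkLinearMap (Submonoid.powers g) M (m₀ i))) ∧
    (∀ a : Fin c → Localization.Away g,
      ∑ i, a i • LocalizedModule.mkLinearMap (Submonoid.powers g) M (m₀ i) = 0 →
        ∃ k : ℕ, ∀ i, (algebraMap S (Localization.Away g) h) ^ k * a i = 0) := by
  constructor
  · intro x
    induction x using LocalizedModule.induction_on with | _ y s
    refine ⟨1, ?_⟩
    rw [pow_one, algebraMap_smul, LocalizedModule.smul'_mk]
    obtain ⟨b, hb⟩ := (Submodule.mem_span_range_iff_exists_fun S).mp (hgen₀ y)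
    have h1 : LocalizedModule.mk (h • y) s =
        (Localization.mk 1 s : Localization.Away g) •
          LocalizedModule.mkLinearMap (Submonoid.powers g) M (h • y) := by
      rw [LocalizedModule.mkLinearMap_apply, LocalizedModule.mk_smul_mk, one_smul, mul_one]
    rw [h1, ← hb, map_sum]
    refine Submodule.smul_mem _ _ (Submodule.sum_mem _ fun i _ => ?_)
    rw [map_smul]
    exact Submodule.smul_of_tower_mem _ _ (Submodule.subset_span ⟨i, rfl⟩)
  · intro a ha
    obtain ⟨s, hs⟩ := IsLocalization.exist_integer_multiples (Submonoid.powers g)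
      (Finset.univ : Finset (Fin c)) a
    choose b hb using fun i => hs i (Finset.mem_univ i)
    have h1 : LocalizedModule.mkLinearMap (Submonoid.powers g) M (∑ i, b i • m₀ i) = 0 := by
      rw [map_sum]
      have : ∀ i, LocalizedModule.mkLinearMap (Submonoid.powers g) M (b i • m₀ i) =
          ((s : S) • a i) • LocalizedModule.mkLinearMap (Submonoid.powers g) M (m₀ i) := by
        intro i
        rw [map_smul, ← hb i, algebraMap_smul]
      simp_rw [this, smul_assoc]
      rw [← Finset.smul_sum, ha, smul_zero]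
    rw [LocalizedModule.mkLinearMap_apply, ← LocalizedModule.zero_mk (1 : Submonoid.powers g),
      LocalizedModule.mk_eq] at h1
    obtain ⟨u, hu⟩ := h1
    rw [one_smul, one_smul, smul_zero] at hu
    have h2 : ∑ i, ((u : S) * b i) • m₀ i = 0 := by
      simp_rw [mul_smul]
      rw [← Finset.smul_sum]
      exact hu
    obtain ⟨k, hk⟩ := hind₀ _ h2
    refine ⟨k, fun i => ?_⟩
    have hus : IsUnit (algebraMap S (Localization.Away g) ((u : S) * (s : S))) := by
      rw [map_mul]
      exact (IsLocalization.map_units _ u).mul (IsLocalization.map_units _ s)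
    apply hus.mul_left_cancel
    rw [mul_zero]
    have h3 : algebraMap S (Localization.Away g) (b i) =
        algebraMap S (Localization.Away g) (s : S) * a i := by
      rw [hb i, Algebra.smul_def]
    calc algebraMap S (Localization.Away g) ((u : S) * (s : S)) *
          (algebraMap S (Localization.Away g) h ^ k * a i)
        = algebraMap S (Localization.Away g) (h ^ k * ((u : S) * b i)) := by
          rw [map_mul, map_mul, map_mul, map_pow, h3]
          ring
      _ = 0 := by rw [hk i, map_zero]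

end LocTransfer



section Cot

variable {P : Type u} [CommRing P] (I : Ideal P) {c : ℕ} (F : Fin c → P) (hF : ∀ i, F i ∈ I)
  (h : P) (hh : ∀ a ∈ I, h * a ∈ Ideal.span (Set.range F))

include hh in
theorem sq_mul_mem_sq {x : P} (hx : x ∈ I ^ 2) : h ^ 2 * x ∈ Ideal.span (Set.range F) ^ 2 := by
  rw [pow_two] at hx
  refine Submodule.mul_induction_on hx ?_ ?_
  · intro u hu v hv
    have : h ^ 2 * (u * v) = (h * u) * (h * v) := by ring
    rw [this, pow_two]
    exact Ideal.mul_mem_mul (hh u hu) (hh v hv)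
  · intro x y hx hy
    rw [mul_add]
    exact Ideal.add_mem _ hx hy

theorem mk_smul_toCotangent (b : P) (x : I) :
    Ideal.Quotient.mk I b • I.toCotangent x = I.toCotangent (b • x) := by
  rw [map_smul]
  exact algebraMap_smul (P ⧸ I) b (I.toCotangent x)

include hh in
theorem gen₀ (x : I.Cotangent) :
    Ideal.Quotient.mk I h • x ∈ Submodule.span (P ⧸ I)
      (Set.range fun i => I.toCotangent ⟨F i, hF i⟩) := by
  obtain ⟨⟨a, ha⟩, rfl⟩ := I.toCotangent_surjective x
  rw [mk_smul_toCotangent]
  obtain ⟨b, hb⟩ := (Ideal.mem_span_range_iff_exists_fun).mp (hh a ha)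
  have h1 : h • (⟨a, ha⟩ : I) = ∑ i, b i • (⟨F i, hF i⟩ : I) := by
    apply Subtype.ext
    rw [Submodule.coe_smul, Submodule.coe_sum, smul_eq_mul, ← hb]
    rfl
  rw [h1, map_sum]
  refine Submodule.sum_mem _ fun i _ => ?_
  rw [← mk_smul_toCotangent]
  exact Submodule.smul_mem _ _ (Submodule.subset_span ⟨i, rfl⟩)

include hh in
theorem ind₀
    (hQR : ∀ b : Fin c → P, ∑ i, b i * F i ∈ Ideal.span (Set.range F) ^ 2 →
      ∃ k : ℕ, ∀ i, h ^ k * b i ∈ Ideal.span (Set.range F))
    (a : Fin c → P ⧸ I) (ha : ∑ i, a i • I.toCotangent ⟨F i, hF i⟩ = 0) :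
    ∃ k : ℕ, ∀ i, Ideal.Quotient.mk I h ^ k * a i = 0 := by
  have hJI : Ideal.span (Set.range F) ≤ I := Ideal.span_le.mpr (by rintro _ ⟨i, rfl⟩; exact hF i)
  choose a' ha' using fun i => Ideal.Quotient.mk_surjective (a i)
  have h1 : ∑ i, a i • I.toCotangent ⟨F i, hF i⟩ =
      I.toCotangent ⟨∑ i, a' i * F i, I.sum_mem fun i _ => I.mul_mem_left _ (hF i)⟩ := by
    have : (⟨∑ i, a' i * F i, I.sum_mem fun i _ => I.mul_mem_left _ (hF i)⟩ : I) =
        ∑ i, a' i • (⟨F i, hF i⟩ : I) := by
      apply Subtype.ext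
      rw [Submodule.coe_sum]
      rfl
    rw [this, map_sum]
    refine Finset.sum_congr rfl fun i _ => ?_
    rw [← ha' i, mk_smul_toCotangent]
  rw [h1, Ideal.toCotangent_eq_zero] at ha
  have h2 := sq_mul_mem_sq I F h hh ha
  rw [Finset.mul_sum] at h2
  have h3 : ∑ i, h ^ 2 * (a' i * F i) = ∑ i, (h ^ 2 * a' i) * F i :=
    Finset.sum_congr rfl fun i _ => (mul_assoc _ _ _).symm
  rw [h3] at h2
  obtain ⟨k, hk⟩ := hQR _ h2
  refine ⟨k + 2, fun i => ?_⟩
  rw [← ha' i, ← map_pow, ← map_mul, Ideal.Quotient.eq_zero_iff_mem, pow_add, mul_assoc]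
  exact hJI (hk i)

end Cot


section QR

open MvPolynomial Groth.Agent.Lib.Helper82.RelGCIAway

variable (R : Type u) [CommRing R] (n c : ℕ) (F : Fin c → MvPolynomial (Fin n) R)
  (h : MvPolynomial (Fin n) R)

local notation "J'" => Ideal.span (Set.range (F' R n c F h))

/-- membership in the extended ideal `(F, h x_{n+1} - 1)` of the image of `b` means that `b` is
killed by a power of `h` modulo `(F)` -/
theorem exists_pow_mul_mem_of_rename_mem (b : MvPolynomial (Fin n) R)
    (hb : rename Fin.castSucc b ∈ Ideal.span (Set.range (F' R n c F h))) :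
    ∃ k : ℕ, h ^ k * b ∈ Ideal.span (Set.range F) := by
  have h1 : α R n c F h (Ideal.Quotient.mk _ (rename Fin.castSucc b)) = 0 := by
    rw [Ideal.Quotient.eq_zero_iff_mem.mpr hb, map_zero]
  rw [α_mk, α₀_rename] at h1
  obtain ⟨⟨_, k, rfl⟩, hk⟩ := (IsLocalization.map_eq_zero_iff
    (Submonoid.powers (Ideal.Quotient.mk (Ideal.span (Set.range F)) h)) _ _).mp h1
  refine ⟨k, ?_⟩
  rw [← Ideal.Quotient.eq_zero_iff_mem, map_mul, map_pow]
  exact hk

/-- quasi-regularity up to `h`-torsion -/
theorem quasiRegular_of_isRelGCI (hrel : Synt.IsRelGCI R (n + 1) (c + 1) (F' R n c F h))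
    (b : Fin c → MvPolynomial (Fin n) R)
    (hb : ∑ i, b i * F i ∈ Ideal.span (Set.range F) ^ 2) :
    ∃ k : ℕ, ∀ i, h ^ k * b i ∈ Ideal.span (Set.range F) := by
  classical
  obtain ⟨hli, -⟩ := Groth.Agent.Lib.Helper82.RelGCIKoszul.cotangent_basis R (n + 1) (c + 1)
    (F' R n c F h) hrel
  have hJJ' : (Ideal.span (Set.range F)).map
      (rename Fin.castSucc : MvPolynomial (Fin n) R →ₐ[R] MvPolynomial (Fin (n + 1)) R) ≤ J' := by
    rw [Ideal.map_span, Ideal.span_le]
    rintro _ ⟨_, ⟨i, rfl⟩, rfl⟩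
    have := F'_castSucc R n c F h i
    rw [SetLike.mem_coe, ← this]
    exact Ideal.subset_span ⟨_, rfl⟩
  have hmem : rename Fin.castSucc (∑ i, b i * F i) ∈ J' ^ 2 := by
    have := Ideal.mem_map_of_mem
      (rename Fin.castSucc : MvPolynomial (Fin n) R →ₐ[R] MvPolynomial (Fin (n + 1)) R) hb
    rw [Ideal.map_pow] at this
    exact Ideal.pow_right_mono hJJ' 2 this
  have hF'mem : ∀ i, F' R n c F h i ∈ J' := fun i => Ideal.subset_span ⟨i, rfl⟩
  have hli' : LinearIndependent (Synt.RelGCIRing R (n + 1) (c + 1) (F' R n c F h))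
      (fun i => (J').toCotangent ⟨F' R n c F h i, hF'mem i⟩) := hli
  -- the coefficients
  have hli'' : LinearIndependent (Synt.RelGCIRing R (n + 1) (c + 1) (F' R n c F h))
      (fun i : Fin c => (J').toCotangent ⟨F' R n c F h (Fin.castSucc i), hF'mem _⟩) :=
    hli'.comp Fin.castSucc (Fin.castSucc_injective c)
  have hsum : ∑ i : Fin c, Ideal.Quotient.mk J' (rename Fin.castSucc (b i)) •
      (J').toCotangent ⟨F' R n c F h (Fin.castSucc i), hF'mem _⟩ = 0 := by
    have hterm : ∀ i : Fin c, Ideal.Quotient.mk J' (rename Fin.castSucc (b i)) •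
        (J').toCotangent ⟨F' R n c F h (Fin.castSucc i), hF'mem _⟩ =
        (J').toCotangent ((rename Fin.castSucc (b i)) •
          (⟨F' R n c F h (Fin.castSucc i), hF'mem _⟩ : J')) :=
      fun i => mk_smul_toCotangent J' _ _
    rw [Finset.sum_congr rfl (fun i _ => hterm i), ← map_sum, Ideal.toCotangent_eq_zero]
    have h2 : ((∑ i : Fin c, (rename Fin.castSucc (b i)) •
        (⟨F' R n c F h (Fin.castSucc i), hF'mem _⟩ : J') : J') :
          MvPolynomial (Fin (n + 1)) R) = rename Fin.castSucc (∑ i, b i * F i) := by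
      rw [Submodule.coe_sum, map_sum]
      refine Finset.sum_congr rfl fun i _ => ?_
      change rename Fin.castSucc (b i) * F' R n c F h (Fin.castSucc i) = _
      rw [F'_castSucc, map_mul]
    rw [h2]
    exact hmem
  have hzero := Fintype.linearIndependent_iff.mp hli''
    (fun i => Ideal.Quotient.mk J' (rename Fin.castSucc (b i))) hsum
  have hk : ∀ i : Fin c, ∃ k : ℕ, h ^ k * b i ∈ Ideal.span (Set.range F) := by
    intro i
    apply exists_pow_mul_mem_of_rename_mem R n c F h
    exact Ideal.Quotient.eq_zero_iff_mem.mp (hzero i)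
  choose k hk using hk
  refine ⟨Finset.univ.sup k, fun i => ?_⟩
  have hle : k i ≤ Finset.univ.sup k := Finset.le_sup (Finset.mem_univ i)
  obtain ⟨d, hd⟩ := Nat.exists_eq_add_of_le hle
  rw [hd, pow_add, mul_comm (h ^ k i), mul_assoc]
  exact Ideal.mul_mem_left _ _ (hk i)

end QR


section Local

open RingTheory.Sequence MvPolynomial Groth.Agent.Lib.Helper82.RelGCIAway
  Groth.Agent.Lib.Helper82.RelGCIFlat Groth.Agent.Lib.Helper82.SyntLocal

variable (R : Type u) [CommRing R] (n : ℕ)

local notation "P" => MvPolynomial (Fin n) R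

/-- variant of `SyntLocal.exists_relGCI_of_generators` which remembers that `h` kills `I/(F)` -/
theorem exists_relGCI_of_generators' (I : Ideal P) (q₀ : Ideal (P ⧸ I)) [q₀.IsPrime]
    (g : P) (hg : g ∉ q₀.comap (Ideal.Quotient.mk I)) (c : ℕ) (F : Fin c → P)
    (hF : ∀ i, F i ∈ I) (hgI : ∀ a ∈ I, g * a ∈ Ideal.span (Set.range F))
    (hreg : IsRegular (EGA4.FibLocRing R P (q₀.comap (Ideal.Quotient.mk I)))
      ((List.ofFn F).map
        (algebraMap P (EGA4.FibLocRing R P (q₀.comap (Ideal.Quotient.mk I)))))) :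
    ∃ h : P, Ideal.Quotient.mk I h ∉ q₀ ∧ Synt.IsRelGCI R (n + 1) (c + 1) (F' R n c F h) ∧
      ∀ a ∈ I, h * a ∈ Ideal.span (Set.range F) := by
  set q' : Ideal P := q₀.comap (Ideal.Quotient.mk I) with hq'
  have hJI : Ideal.span (Set.range F) ≤ I := Ideal.span_le.mpr (by rintro _ ⟨i, rfl⟩; exact hF i)
  have hIq : I ≤ q' := fun x hx => by
    rw [hq', Ideal.mem_comap, Ideal.Quotient.eq_zero_iff_mem.mpr hx]
    exact zero_mem _
  have hker : RingHom.ker (Ideal.Quotient.mk (Ideal.span (Set.range F))) ≤ q' := by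
    rw [Ideal.mk_ker]
    exact hJI.trans hIq
  have hpr : (q'.map (Ideal.Quotient.mk (Ideal.span (Set.range F)))).IsPrime :=
    Ideal.map_isPrime_of_surjective Ideal.Quotient.mk_surjective hker
  have hqq : (q'.map (Ideal.Quotient.mk (Ideal.span (Set.range F)))).comap
      (Ideal.Quotient.mk (Ideal.span (Set.range F))) = q' := by
    rw [Ideal.comap_map_of_surjective' _ Ideal.Quotient.mk_surjective, sup_eq_left.mpr hker]
  obtain ⟨hcn, hmem⟩ := mem_fibLocus_of_isRegular R n c F
    (q'.map (Ideal.Quotient.mk (Ideal.span (Set.range F)))) q' hqq hreg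
  have hopen := isOpen_fibLocus R (Synt.RelGCIRing R n c F) (n - c)
  obtain ⟨v, ⟨gb, rfl⟩, hqv, hvW⟩ :=
    PrimeSpectrum.isTopologicalBasis_basic_opens.exists_subset_of_mem_open hmem hopen
  obtain ⟨g₁, rfl⟩ := Ideal.Quotient.mk_surjective gb
  have hg₁ : g₁ ∉ q' := fun hmem' => hqv (Ideal.mem_map_of_mem _ hmem')
  have hgg : g * g₁ ∉ q' := fun hmem' =>
    (Ideal.IsPrime.mem_or_mem inferInstance hmem').elim hg hg₁
  refine ⟨g * g₁, hgg, ?_, ?_⟩
  · refine isRelGCI_F' R n c F (g * g₁) hcn (fun p' Q hQ =>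
      localDim_le_of_basicOpen_subset (n - c) _ (fun q₁ hq₁ => hvW ?_) p' Q hQ)
    change Ideal.Quotient.mk _ g₁ ∉ q₁.asIdeal
    intro hmem'
    apply hq₁
    rw [map_mul]
    exact Ideal.mul_mem_left _ _ hmem'
  · intro a ha
    rw [mul_comm g g₁, mul_assoc]
    exact Ideal.mul_mem_left _ _ (hgI a ha)

/-- local structure of a syntomic quotient of a polynomial ring, keeping track of generators -/
theorem exists_local_data (I : Ideal P) (hI : I.FG) (q₀ : Ideal (P ⧸ I)) [q₀.IsPrime]
    (hsyn : ∃ g : P ⧸ I, g ∉ q₀ ∧ Synt.IsSyntomic R (Localization.Away g)) :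
    ∃ (h : P) (c : ℕ) (F : Fin c → P), Ideal.Quotient.mk I h ∉ q₀ ∧ (∀ i, F i ∈ I) ∧
      (∀ a ∈ I, h * a ∈ Ideal.span (Set.range F)) ∧
      Synt.IsRelGCI R (n + 1) (c + 1) (F' R n c F h) := by
  have hlies : q₀.LiesOver (q₀.under R) := ⟨rfl⟩
  obtain ⟨Q, hQp, hQ⟩ := Groth.Agent.Lib.Helper29.exists_fiber_prime (q₀.under R) q₀
  obtain ⟨g₀, hg₀, -, hflat, hCI⟩ :=
    Groth.Agent.Lib.Helper82.SyntLocalEquiv.fp_flat_ci_of_syntomic R (P ⧸ I) (q₀.under R) q₀ Q hQ
      hsyn
  obtain ⟨eF⟩ := Groth.Agent.Lib.Helper82.FibReg.nonempty_ringEquiv_fibLocRing R (P ⧸ I)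
    (q₀.under R) Q q₀ hQ rfl
  obtain ⟨B₀, _, hB₀, _, -, rs₀, -, hreg₀, ⟨e₀⟩⟩ := hCI
  let E : (B₀ ⧸ Ideal.ofList rs₀) ≃+* EGA4.FibLocRing R (P ⧸ I) q₀ :=
    e₀.symm.toRingEquiv.trans eF
  obtain ⟨g, hg, c, F, hF, hgI, hreg⟩ := exists_generators R I hI q₀
    (isRegularLocalRing_fibLocRing R n _) hflat
    ⟨B₀, inferInstance, hB₀, E.toRingHom.comp (Ideal.Quotient.mk _),
      E.surjective.comp Ideal.Quotient.mk_surjective, rs₀, hreg₀, by
        rw [RingHom.ker_equiv_comp, Ideal.mk_ker]⟩
  obtain ⟨h, hh, hrel, hhI⟩ := exists_relGCI_of_generators' R n I q₀ g hg c F hF hgI hreg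
  exact ⟨h, c, F, hh, hF, hhI, hrel⟩

end Local


section Assembly

variable {T : Type u} [CommRing T] {N : Type u} [AddCommGroup N] [Module T N]

/-- finite + free of finite rank on a principal open cover ⇒ projective -/
theorem projective_of_locally_free [Module.Finite T N]
    (H : ∀ 𝔮 : Ideal T, 𝔮.IsMaximal → ∃ t : T, t ∉ 𝔮 ∧
      Module.Free (Localization.Away t) (LocalizedModule.Away t N) ∧
      Module.Finite (Localization.Away t) (LocalizedModule.Away t N)) :
    Module.Projective T N := by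
  set s : Set T := {t | Module.Free (Localization.Away t) (LocalizedModule.Away t N) ∧
      Module.Finite (Localization.Away t) (LocalizedModule.Away t N)} with hs_def
  have hs : Ideal.span s = ⊤ := by
    by_contra hne
    obtain ⟨𝔮, h𝔮, hle⟩ := Ideal.exists_le_maximal _ hne
    obtain ⟨t, ht, hfree⟩ := H 𝔮 h𝔮
    exact ht (hle (Ideal.subset_span hfree))
  have hfp : Module.FinitePresentation T N := by
    refine Module.FinitePresentation.of_localizationSpan s hs fun t => ?_
    obtain ⟨h1, h2⟩ := t.2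
    exact Module.finitePresentation_of_projective _ _
  have hflat : Module.Flat T N := by
    refine Module.flat_of_localized_span T N s hs fun t => ?_
    obtain ⟨h1, h2⟩ := t.2
    have : Module.Flat (Localization.Away t.1) (LocalizedModule.Away t.1 N) := inferInstance
    exact Module.Flat.trans T (Localization.Away t.1) _
  exact Module.Flat.projective_of_finitePresentation

end Assembly

section Final

open MvPolynomial Groth.Agent.Lib.Helper82.RelGCIAway

theorem cotangent_finite_projective (R : Type u) [CommRing R] (n : ℕ)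
    (I : Ideal (MvPolynomial (Fin n) R)) (hI : I.FG) (g : MvPolynomial (Fin n) R ⧸ I)
    (hg : Synt.IsSyntomic R (Localization.Away g)) :
    Module.Finite (Localization.Away g) (LocalizedModule (Submonoid.powers g) I.Cotangent) ∧
      Module.Projective (Localization.Away g)
        (LocalizedModule (Submonoid.powers g) I.Cotangent) := by
  have hfinI : Module.Finite (MvPolynomial (Fin n) R) I := Module.Finite.of_fg hI
  have hfin0 : Module.Finite (MvPolynomial (Fin n) R) I.Cotangent :=
    Module.Finite.of_surjective I.toCotangent I.toCotangent_surjective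
  have hfin1 : Module.Finite (MvPolynomial (Fin n) R ⧸ I) I.Cotangent :=
    Module.Finite.of_restrictScalars_finite (MvPolynomial (Fin n) R) _ _
  have hfin : Module.Finite (Localization.Away g)
      (LocalizedModule (Submonoid.powers g) I.Cotangent) :=
    Module.Finite.of_isLocalizedModule (Submonoid.powers g)
      (LocalizedModule.mkLinearMap (Submonoid.powers g) I.Cotangent)
  refine ⟨hfin, projective_of_locally_free fun 𝔮 h𝔮 => ?_⟩
  have hprime : (𝔮.comap (algebraMap (MvPolynomial (Fin n) R ⧸ I) (Localization.Away g))).IsPrime :=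
    Ideal.comap_isPrime _ _
  have hgq : g ∉ 𝔮.comap (algebraMap (MvPolynomial (Fin n) R ⧸ I) (Localization.Away g)) := by
    intro hmem
    exact h𝔮.ne_top (Ideal.eq_top_of_isUnit_mem _ hmem
      (IsLocalization.Away.algebraMap_isUnit g))
  obtain ⟨h, c, F, hh, hF, hhI, hrel⟩ := exists_local_data R n I hI
    (𝔮.comap (algebraMap (MvPolynomial (Fin n) R ⧸ I) (Localization.Away g))) ⟨g, hgq, hg⟩
  have hQR := quasiRegular_of_isRelGCI R n c F h hrel
  obtain ⟨hgen, hind⟩ := transfer_away g (Ideal.Quotient.mk I h)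
    (fun i => I.toCotangent ⟨F i, hF i⟩) (gen₀ I F hF h hhI) (ind₀ I F hF h hhI hQR)
  exact ⟨algebraMap _ _ (Ideal.Quotient.mk I h), hh,
    free_localizedModule_away _ _ hgen hind⟩

end Final

end Groth.Agent.Lib.Helper82.CotangentProj
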