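import Mathlib
import Groth.Prelude.Def_RegImm
import Groth.Agent.Lib.Helper82.RelGCIAway

/-!
# Fibres of `R[x]/(F)` over primes containing `I` versus fibres of `(R/I)[x]/(F mod I)`

* `primesOverOrderIso`: for surjections `f : R → R'`, `φ : S → S'` compatible with the algebra
  structures and `ker φ ≤ (ker f) S`, the primes of `S'` over `p'` and the primes of `S` over
  `f⁻¹ p'` are order isomorphic.
* `ringKrullDim_fiber_eq_of_surjective`: hence the fibre rings have the same Krull dimension.
* `exists_away_of_isRelGCI_quotient`: the Stacks 00SV-style statement.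
-/

set_option autoImplicit false
universe u

namespace Groth.Agent.Lib.Helper82.RelGCIQuot

open TensorProduct

section General

variable {R R' S S' : Type u} [CommRing R] [CommRing R'] [CommRing S] [CommRing S']
  [Algebra R S] [Algebra R' S']

/-- primes over `p'` and primes over `p = f⁻¹ p'` -/
noncomputable def primesOverOrderIso (f : R →+* R') (hf : Function.Surjective f) (φ : S →+* S')
    (hφ : Function.Surjective φ)
    (hcomp : φ.comp (algebraMap R S) = (algebraMap R' S').comp f)
    (hker : RingHom.ker φ ≤ (RingHom.ker f).map (algebraMap R S))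
    (p' : Ideal R') (p : Ideal R) (hp : p = p'.comap f) :
    p'.primesOver S' ≃o p.primesOver S where
  toFun q := ⟨q.1.comap φ, by
    haveI := q.2.1
    refine ⟨Ideal.comap_isPrime φ q.1, ⟨?_⟩⟩
    rw [Ideal.under, Ideal.comap_comap, hcomp, ← Ideal.comap_comap, hp]
    congr 1
    exact q.2.2.over⟩
  invFun q := ⟨q.1.map φ, by
    haveI := q.2.1
    have hkq : RingHom.ker φ ≤ q.1 := by
      refine hker.trans (Ideal.map_le_iff_le_comap.mpr ?_)
      have h1 : p = q.1.under R := q.2.2.over
      rw [← Ideal.under, ← h1, hp]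
      exact Ideal.comap_mono bot_le
    refine ⟨Ideal.map_isPrime_of_surjective hφ hkq, ⟨?_⟩⟩
    apply Ideal.comap_injective_of_surjective f hf
    have h1 : p = q.1.under R := q.2.2.over
    rw [← hp, Ideal.under, Ideal.comap_comap, ← hcomp, ← Ideal.comap_comap,
      Ideal.comap_map_of_surjective' φ hφ, sup_eq_left.mpr hkq]
    exact h1⟩
  left_inv q := by
    apply Subtype.ext
    exact Ideal.map_comap_of_surjective φ hφ q.1
  right_inv q := by
    apply Subtype.ext
    have hkq : RingHom.ker φ ≤ q.1 := by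
      refine hker.trans (Ideal.map_le_iff_le_comap.mpr ?_)
      have h1 : p = q.1.under R := q.2.2.over
      rw [← Ideal.under, ← h1, hp]
      exact Ideal.comap_mono bot_le
    change (q.1.map φ).comap φ = q.1
    rw [Ideal.comap_map_of_surjective' φ hφ, sup_eq_left.mpr hkq]
  map_rel_iff' {q₁ q₂} := by
    change q₁.1.comap φ ≤ q₂.1.comap φ ↔ q₁.1 ≤ q₂.1
    exact Ideal.comap_le_comap_iff_of_surjective φ hφ _ _

theorem ringKrullDim_fiber_eq_of_surjective (f : R →+* R') (hf : Function.Surjective f)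
    (φ : S →+* S') (hφ : Function.Surjective φ)
    (hcomp : φ.comp (algebraMap R S) = (algebraMap R' S').comp f)
    (hker : RingHom.ker φ ≤ (RingHom.ker f).map (algebraMap R S))
    (p' : Ideal R') [p'.IsPrime] (p : Ideal R) [p.IsPrime] (hp : p = p'.comap f) :
    ringKrullDim (p.Fiber S) = ringKrullDim (p'.Fiber S') := by
  have e1 := Order.krullDim_eq_of_orderIso (PrimeSpectrum.primesOverOrderIsoFiber R S p)
  have e2 := Order.krullDim_eq_of_orderIso (PrimeSpectrum.primesOverOrderIsoFiber R' S' p')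
  have e3 := Order.krullDim_eq_of_orderIso (primesOverOrderIso f hf φ hφ hcomp hker p' p hp)
  unfold ringKrullDim
  rw [← e1, ← e2, e3]

theorem nontrivial_fiber_of_surjective (f : R →+* R') (hf : Function.Surjective f)
    (φ : S →+* S') (hφ : Function.Surjective φ)
    (hcomp : φ.comp (algebraMap R S) = (algebraMap R' S').comp f)
    (hker : RingHom.ker φ ≤ (RingHom.ker f).map (algebraMap R S))
    (p' : Ideal R') [p'.IsPrime] (p : Ideal R) [p.IsPrime] (hp : p = p'.comap f)
    (q : Ideal S) [q.IsPrime] (hq : q.under R = p) :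
    Nontrivial (p'.Fiber S') := by
  rw [← PrimeSpectrum.nonempty_iff_nontrivial]
  have q0 : p.primesOver S := ⟨q, ‹q.IsPrime›, ⟨hq.symm⟩⟩
  exact ⟨PrimeSpectrum.primesOverOrderIsoFiber R' S' p'
    ((primesOverOrderIso f hf φ hφ hcomp hker p' p hp).symm q0)⟩

end General


open MvPolynomial

variable (R : Type u) [CommRing R] (n c : ℕ) (F : Fin c → MvPolynomial (Fin n) R) (I : Ideal R)

local notation "S" => Synt.RelGCIRing R n c F
local notation "Fb" => (fun i => MvPolynomial.map (Ideal.Quotient.mk I) (F i))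
local notation "Sb" => Synt.RelGCIRing (R ⧸ I) n c Fb

lemma span_range_Fb :
    Ideal.span (Set.range Fb) =
      (Ideal.span (Set.range F)).map (MvPolynomial.map (Ideal.Quotient.mk I)) := by
  rw [Ideal.map_span, ← Set.range_comp]
  rfl

/-- the reduction map `R[x]/(F) → (R/I)[x]/(F mod I)` -/
noncomputable def φ : S →+* Sb :=
  Ideal.quotientMap (Ideal.span (Set.range Fb)) (MvPolynomial.map (Ideal.Quotient.mk I)) (by
    rw [span_range_Fb]
    exact Ideal.le_comap_map)

lemma φ_mk (a : MvPolynomial (Fin n) R) :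
    φ R n c F I (Ideal.Quotient.mk _ a) =
      Ideal.Quotient.mk _ (MvPolynomial.map (Ideal.Quotient.mk I) a) := rfl

lemma φ_surjective : Function.Surjective (φ R n c F I) :=
  Ideal.quotientMap_surjective
    (MvPolynomial.map_surjective _ Ideal.Quotient.mk_surjective)

lemma φ_comp :
    (φ R n c F I).comp (algebraMap R S) = (algebraMap (R ⧸ I) Sb).comp (Ideal.Quotient.mk I) := by
  ext r
  change φ R n c F I (Ideal.Quotient.mk _ (C r)) = Ideal.Quotient.mk _ (C (Ideal.Quotient.mk I r))
  rw [φ_mk, MvPolynomial.map_C]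

lemma φ_ker :
    RingHom.ker (φ R n c F I) ≤ (RingHom.ker (Ideal.Quotient.mk I)).map (algebraMap R S) := by
  intro x hx
  obtain ⟨a, rfl⟩ := Ideal.Quotient.mk_surjective x
  rw [RingHom.mem_ker, φ_mk, Ideal.Quotient.eq_zero_iff_mem, span_range_Fb,
    Ideal.mem_map_iff_of_surjective _
      (MvPolynomial.map_surjective _ Ideal.Quotient.mk_surjective)] at hx
  obtain ⟨b, hb, hab⟩ := hx
  have h1 : a - b ∈ RingHom.ker (MvPolynomial.map (Ideal.Quotient.mk I) :
      MvPolynomial (Fin n) R →+* MvPolynomial (Fin n) (R ⧸ I)) := by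
    rw [RingHom.mem_ker, map_sub, hab, sub_self]
  rw [MvPolynomial.ker_map] at h1
  have h2 : Ideal.Quotient.mk (Ideal.span (Set.range F)) a =
      Ideal.Quotient.mk (Ideal.span (Set.range F)) (a - b) := by
    rw [map_sub, Ideal.Quotient.eq_zero_iff_mem.mpr hb, sub_zero]
  rw [h2]
  have h3 : (algebraMap R S) = (Ideal.Quotient.mk (Ideal.span (Set.range F))).comp C := rfl
  rw [h3, ← Ideal.map_map]
  exact Ideal.mem_map_of_mem _ h1


section Main

open Groth.Agent.Lib.Helper82.RelGCIAway

/-- for a prime `q ⊇ I S`: `c ≤ n` and `q` lies in the fibre locus -/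
theorem mem_fibLocus_of_le (hI : Synt.IsRelGCI (R ⧸ I) n c Fb) (q : PrimeSpectrum S)
    (hq : I.map (algebraMap R S) ≤ q.asIdeal) :
    c ≤ n ∧ q ∈ fibLocus R S (n - c) := by
  have hIp : I ≤ q.asIdeal.under R := fun r hr => hq (Ideal.mem_map_of_mem _ hr)
  have hker : RingHom.ker (Ideal.Quotient.mk I) ≤ q.asIdeal.under R := by rwa [Ideal.mk_ker]
  haveI hpr : ((q.asIdeal.under R).map (Ideal.Quotient.mk I)).IsPrime :=
    Ideal.map_isPrime_of_surjective Ideal.Quotient.mk_surjective hker
  have hpp : q.asIdeal.under R =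
      ((q.asIdeal.under R).map (Ideal.Quotient.mk I)).comap (Ideal.Quotient.mk I) := by
    rw [Ideal.comap_map_of_surjective' _ Ideal.Quotient.mk_surjective, sup_eq_left.mpr hker]
  have hnt := nontrivial_fiber_of_surjective (Ideal.Quotient.mk I) Ideal.Quotient.mk_surjective
    (φ R n c F I) (φ_surjective R n c F I) (φ_comp R n c F I) (φ_ker R n c F I)
    ((q.asIdeal.under R).map (Ideal.Quotient.mk I)) (q.asIdeal.under R) hpp q.asIdeal rfl
  obtain ⟨hc, hdim⟩ := hI ⟨(q.asIdeal.under R).map (Ideal.Quotient.mk I), hpr⟩ hnt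
  have hd := ringKrullDim_fiber_eq_of_surjective (Ideal.Quotient.mk I)
    Ideal.Quotient.mk_surjective
    (φ R n c F I) (φ_surjective R n c F I) (φ_comp R n c F I) (φ_ker R n c F I)
    ((q.asIdeal.under R).map (Ideal.Quotient.mk I)) (q.asIdeal.under R) hpp
  exact ⟨hc, mem_fibLocus_of_ringKrullDim_le' (n - c) (q.asIdeal.under R) q rfl
    (hd.trans hdim).le⟩

theorem exists_away_of_isRelGCI_quotient (hI : Synt.IsRelGCI (R ⧸ I) n c Fb) :
    ∃ h : MvPolynomial (Fin n) R,
      Ideal.Quotient.mk (I.map (algebraMap R S))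
        (Ideal.Quotient.mk (Ideal.span (Set.range F)) h) = 1 ∧
      Synt.IsRelGCI R (n + 1) (c + 1) (F' R n c F h) ∧
      Nonempty (Localization.Away (Ideal.Quotient.mk (Ideal.span (Set.range F)) h) ≃ₐ[R]
        Synt.RelGCIRing R (n + 1) (c + 1) (F' R n c F h)) := by
  classical
  by_cases htop : I.map (algebraMap R S) = ⊤
  · refine ⟨0, ?_, ?_, ⟨awayEquiv R n c F 0⟩⟩
    · have : Subsingleton (S ⧸ I.map (algebraMap R S)) :=
        Ideal.Quotient.subsingleton_iff.mpr htop
      exact Subsingleton.elim _ _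
    · intro p' hnt
      exfalso
      have hss : Subsingleton (Synt.RelGCIRing R (n + 1) (c + 1) (F' R n c F 0)) := by
        rw [Ideal.Quotient.subsingleton_iff, Ideal.eq_top_iff_one]
        have hmem : F' R n c F 0 (Fin.last c) ∈ Ideal.span (Set.range (F' R n c F 0)) :=
          Ideal.subset_span ⟨_, rfl⟩
        rw [F'_last, map_zero, zero_mul, zero_sub] at hmem
        have := Ideal.neg_mem_iff _ |>.mp hmem
        exact this
      have hall : ∀ x : p'.asIdeal.Fiber (Synt.RelGCIRing R (n + 1) (c + 1) (F' R n c F 0)),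
          x = 0 := by
        intro x
        induction x using TensorProduct.induction_on with
        | zero => rfl
        | tmul a b => rw [Subsingleton.elim b 0, TensorProduct.tmul_zero]
        | add x y hx hy => rw [hx, hy, add_zero]
      obtain ⟨a, b, hab⟩ := hnt.exists_pair_ne
      exact hab ((hall a).trans (hall b).symm)
  · have hft : Algebra.FiniteType R S := inferInstance
    obtain ⟨M0, hM0, hle0⟩ := Ideal.exists_le_maximal _ htop
    have hc : c ≤ n := (mem_fibLocus_of_le R n c F I hI ⟨M0, hM0.isPrime⟩ hle0).1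
    have hWopen : IsOpen (fibLocus R S (n - c)) := isOpen_fibLocus R S (n - c)
    have hZ : PrimeSpectrum.zeroLocus
        ((PrimeSpectrum.vanishingIdeal (fibLocus R S (n - c))ᶜ : Ideal S) : Set S) =
        (fibLocus R S (n - c))ᶜ := by
      rw [PrimeSpectrum.zeroLocus_vanishingIdeal_eq_closure, hWopen.isClosed_compl.closure_eq]
    have hsup : PrimeSpectrum.vanishingIdeal (fibLocus R S (n - c))ᶜ ⊔ I.map (algebraMap R S) = ⊤ := by
      by_contra hne
      obtain ⟨M, hM, hle⟩ := Ideal.exists_le_maximal _ hne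
      have hqZ : (⟨M, hM.isPrime⟩ : PrimeSpectrum S) ∈ PrimeSpectrum.zeroLocus
          ((PrimeSpectrum.vanishingIdeal (fibLocus R S (n - c))ᶜ : Ideal S) : Set S) :=
        le_sup_left.trans hle
      rw [hZ] at hqZ
      exact hqZ (mem_fibLocus_of_le R n c F I hI ⟨M, hM.isPrime⟩ (le_sup_right.trans hle)).2
    obtain ⟨g', hg'J, i, hi, e⟩ := Submodule.mem_sup.mp
      ((Ideal.eq_top_iff_one _).mp hsup)
    obtain ⟨h, rfl⟩ := Ideal.Quotient.mk_surjective g'
    have hD : ∀ q : PrimeSpectrum S,
        Ideal.Quotient.mk (Ideal.span (Set.range F)) h ∉ q.asIdeal →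
          q ∈ fibLocus R S (n - c) := by
      intro q hq
      by_contra hqW
      have hqZ : q ∈ PrimeSpectrum.zeroLocus
          ((PrimeSpectrum.vanishingIdeal (fibLocus R S (n - c))ᶜ : Ideal S) : Set S) := by
        rw [hZ]
        exact hqW
      exact hq (hqZ hg'J)
    refine ⟨h, ?_, ?_, ⟨awayEquiv R n c F h⟩⟩
    · have e' := congrArg (Ideal.Quotient.mk (I.map (algebraMap R S))) e
      rw [map_add, Ideal.Quotient.eq_zero_iff_mem.mpr hi, add_zero, map_one] at e'
      exact e'
    · exact isRelGCI_F' R n c F h hc (fun p' Q hQ =>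
        localDim_le_of_basicOpen_subset (n - c) _ hD p' Q hQ)

end Main

end Groth.Agent.Lib.Helper82.RelGCIQuot
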