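import Mathlib
import Groth.Prelude.Def_RegImm
import Groth.Agent.Lib.Helper82.SyntLocal
import Groth.Agent.Lib.Helper82.RelGCIQuot

/-!
# Lifting syntomic algebras over `R/I` locally to relative global complete intersections over `R`
(Stacks 00SZ-style)
-/

set_option autoImplicit false
universe u

namespace Groth.Agent.Lib.Helper82.SyntLift

open TensorProduct MvPolynomial Groth.Agent.Lib.Helper82.SyntLocal
  Groth.Agent.Lib.Helper82.RelGCIQuot Groth.Agent.Lib.Helper82.RelGCIAway

section Lift

variable (R : Type u) [CommRing R] (I : Ideal R) (n c : ℕ) (F : Fin c → MvPolynomial (Fin n) R)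

local notation "S" => Synt.RelGCIRing R n c F
local notation "Fb" => (fun i => MvPolynomial.map (Ideal.Quotient.mk I) (F i))
local notation "Sbar" => Synt.RelGCIRing (R ⧸ I) n c Fb

lemma φ_ker_eq : RingHom.ker (φ R n c F I) = I.map (algebraMap R S) := by
  apply le_antisymm
  · have := φ_ker R n c F I
    rwa [Ideal.mk_ker] at this
  · rw [Ideal.map_le_iff_le_comap]
    intro r hr
    rw [Ideal.mem_comap, RingHom.mem_ker]
    have h1 := RingHom.congr_fun (φ_comp R n c F I) r
    simp only [RingHom.comp_apply] at h1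
    rw [h1, Ideal.Quotient.eq_zero_iff_mem.mpr hr, map_zero]

/-- If `B` is an `R/I`-algebra isomorphic to the reduction of `R[x]/(F)` and the reduction is a
relative global complete intersection, then `B` is the reduction of a relative global complete
intersection over `R`. -/
theorem exists_relGCI_lift (hI : Synt.IsRelGCI (R ⧸ I) n c Fb)
    (B : Type u) [CommRing B] [Algebra R B] [Algebra (R ⧸ I) B] [IsScalarTower R (R ⧸ I) B]
    (eB : B ≃ₐ[R ⧸ I] Sbar) :
    ∃ (n' c' : ℕ) (G : Fin c' → MvPolynomial (Fin n') R), Synt.IsRelGCI R n' c' G ∧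
      Nonempty (B ≃ₐ[R]
        (Synt.RelGCIRing R n' c' G ⧸ I.map (algebraMap R (Synt.RelGCIRing R n' c' G)))) := by
  obtain ⟨h, hh1, hrel, ⟨eT⟩⟩ := exists_away_of_isRelGCI_quotient R n c F I hI
  refine ⟨n + 1, c + 1, F' R n c F h, hrel, ?_⟩
  set g : S := Ideal.Quotient.mk (Ideal.span (Set.range F)) h with hg
  -- `φ g = 1`
  have hφg : φ R n c F I g = 1 := by
    have h1 : g - 1 ∈ I.map (algebraMap R S) := by
      rw [← Ideal.Quotient.eq_zero_iff_mem, map_sub, hh1, map_one, sub_self]
    rw [← φ_ker_eq, RingHom.mem_ker, map_sub, map_one, sub_eq_zero] at h1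
    exact h1
  have hunit : IsUnit (φ R n c F I g) := by rw [hφg]; exact isUnit_one
  let ρ : Localization.Away g →+* Sbar := IsLocalization.Away.lift g hunit
  have hρ : ∀ a : S, ρ (algebraMap S (Localization.Away g) a) = φ R n c F I a :=
    fun a => IsLocalization.Away.lift_eq g hunit a
  let Ψ₀ : Synt.RelGCIRing R (n + 1) (c + 1) (F' R n c F h) →+* B :=
    (eB.symm : Sbar →+* B).comp (ρ.comp (eT.symm : _ →+* Localization.Away g))
  have hΨ₀ : ∀ x, Ψ₀ x = eB.symm (ρ (eT.symm x)) := fun x => rfl
  have hcomm : ∀ r : R, Ψ₀ (algebraMap R _ r) = algebraMap R B r := by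
    intro r
    rw [hΨ₀, AlgEquiv.commutes, IsScalarTower.algebraMap_apply R S (Localization.Away g), hρ]
    have h1 := RingHom.congr_fun (φ_comp R n c F I) r
    simp only [RingHom.comp_apply] at h1
    rw [h1, AlgEquiv.commutes]
    exact (IsScalarTower.algebraMap_apply R (R ⧸ I) B r).symm
  let Ψ : Synt.RelGCIRing R (n + 1) (c + 1) (F' R n c F h) →ₐ[R] B :=
    { Ψ₀ with commutes' := hcomm }
  have hΨ : ∀ x, Ψ x = eB.symm (ρ (eT.symm x)) := fun x => rfl
  have hρsurj : Function.Surjective ρ := by
    intro y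
    obtain ⟨a, rfl⟩ := φ_surjective R n c F I y
    exact ⟨algebraMap S (Localization.Away g) a, hρ a⟩
  have hsurj : Function.Surjective Ψ := by
    intro b
    obtain ⟨y, hy⟩ := hρsurj (eB b)
    refine ⟨eT y, ?_⟩
    rw [hΨ, AlgEquiv.symm_apply_apply, hy, AlgEquiv.symm_apply_apply]
  have hker : RingHom.ker Ψ =
      I.map (algebraMap R (Synt.RelGCIRing R (n + 1) (c + 1) (F' R n c F h))) := by
    apply le_antisymm
    · intro x hx
      rw [RingHom.mem_ker, hΨ] at hx
      have h1 : ρ (eT.symm x) = 0 := by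
        have := congrArg eB hx
        rwa [AlgEquiv.apply_symm_apply, map_zero] at this
      obtain ⟨k, y₀, hy₀⟩ := IsLocalization.Away.surj g (eT.symm x)
      have h2 : φ R n c F I y₀ = 0 := by
        rw [← hρ, ← hy₀, map_mul, h1, zero_mul]
      have h3 : y₀ ∈ I.map (algebraMap R S) := by
        rw [← φ_ker_eq]
        exact h2
      have h4 : algebraMap S (Localization.Away g) y₀ ∈
          I.map (algebraMap R (Localization.Away g)) := by
        rw [IsScalarTower.algebraMap_eq R S (Localization.Away g), ← Ideal.map_map]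
        exact Ideal.mem_map_of_mem _ h3
      have h5 : eT.symm x ∈ I.map (algebraMap R (Localization.Away g)) := by
        have hu : IsUnit ((algebraMap _ (Localization.Away g) g) ^ k) :=
          IsLocalization.Away.algebraMap_pow_isUnit g k
        obtain ⟨v, hv⟩ := hu
        have : eT.symm x = algebraMap S (Localization.Away g) y₀ * ((v⁻¹ : _ˣ) : _) := by
          rw [← hy₀, ← hv, mul_assoc, Units.mul_inv, mul_one]
        rw [this]
        exact Ideal.mul_mem_right _ _ h4
      have h6 : x = eT (eT.symm x) := (AlgEquiv.apply_symm_apply eT x).symm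
      rw [h6]
      have h7 := Ideal.mem_map_of_mem (eT.toAlgHom.toRingHom) h5
      rw [Ideal.map_map] at h7
      have h8 : ((eT.toAlgHom.toRingHom).comp (algebraMap R (Localization.Away g))) =
          algebraMap R (Synt.RelGCIRing R (n + 1) (c + 1) (F' R n c F h)) := by
        ext r
        exact eT.commutes r
      rw [h8] at h7
      exact h7
    · rw [Ideal.map_le_iff_le_comap]
      intro r hr
      rw [Ideal.mem_comap, RingHom.mem_ker, AlgHom.commutes,
        IsScalarTower.algebraMap_apply R (R ⧸ I) B]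
      have : algebraMap R (R ⧸ I) r = 0 := Ideal.Quotient.eq_zero_iff_mem.mpr hr
      rw [this, map_zero]
  exact ⟨(Ideal.quotientKerAlgEquivOfSurjective hsurj).symm.trans
    (Ideal.quotientEquivAlgOfEq R hker)⟩

end Lift


section Cover

/-- Stacks 00SZ-style: a syntomic algebra over `R/I` is covered by reductions of relative global
complete intersections over `R`. -/
theorem exists_cover (R : Type u) [CommRing R] (I : Ideal R) (Sb : Type u) [CommRing Sb]
    [Algebra R Sb] [Algebra (R ⧸ I) Sb] [IsScalarTower R (R ⧸ I) Sb]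
    (h : Synt.IsSyntomic (R ⧸ I) Sb) :
    ∃ s : Finset Sb, Ideal.span (s : Set Sb) = ⊤ ∧ ∀ g ∈ s,
      ∃ (n c : ℕ) (F : Fin c → MvPolynomial (Fin n) R), Synt.IsRelGCI R n c F ∧
        Nonempty (Localization.Away g ≃ₐ[R]
          (Synt.RelGCIRing R n c F ⧸ I.map (algebraMap R (Synt.RelGCIRing R n c F)))) := by
  classical
  set Good : Set Sb := {g | ∃ (n c : ℕ) (F : Fin c → MvPolynomial (Fin n) R),
    Synt.IsRelGCI R n c F ∧ Nonempty (Localization.Away g ≃ₐ[R]
      (Synt.RelGCIRing R n c F ⧸ I.map (algebraMap R (Synt.RelGCIRing R n c F))))} with hGood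
  have hspan : Ideal.span Good = ⊤ := by
    by_contra hne
    obtain ⟨M, hM, hle⟩ := Ideal.exists_le_maximal _ hne
    haveI : M.IsPrime := hM.isPrime
    obtain ⟨g, hg, n, c, Fb, hrel, ⟨e⟩⟩ := exists_relGCI_of_isSyntomic (R ⧸ I) Sb h M
    choose F hF using fun i => MvPolynomial.map_surjective (Ideal.Quotient.mk I)
      Ideal.Quotient.mk_surjective (Fb i)
    obtain rfl : (fun i => MvPolynomial.map (Ideal.Quotient.mk I) (F i)) = Fb := funext hF
    have htower : IsScalarTower R (R ⧸ I) (Localization.Away g) :=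
      IsScalarTower.of_algebraMap_eq (fun r => by
        rw [IsScalarTower.algebraMap_apply R Sb (Localization.Away g),
          IsScalarTower.algebraMap_apply (R ⧸ I) Sb (Localization.Away g),
          ← IsScalarTower.algebraMap_apply R (R ⧸ I) Sb])
    obtain ⟨n', c', G, hG, hGe⟩ := exists_relGCI_lift R I n c F hrel (Localization.Away g) e
    exact hg (hle (Ideal.subset_span ⟨n', c', G, hG, hGe⟩))
  obtain ⟨s, hs, hst⟩ := (Ideal.span_eq_top_iff_finite _).mp hspan
  exact ⟨s, hst, fun g hg => hs hg⟩

end Cover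

end Groth.Agent.Lib.Helper82.SyntLift
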