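import Groth.Agent.Lib.Helper47.CompletionIso
import Groth.Agent.Lib.Helper44.AdicQuot
import Groth.Agent.Lib.Helper18.ComplMap
import Groth.Agent.S0543

/-!
# Completion commutes with quotients (Noetherian local rings)
-/

set_option autoImplicit false

namespace Groth.Agent.Lib.Helper82.ComplQuot

open IsLocalRing TensorProduct

universe u

variable (A : Type u) [CommRing A] [IsLocalRing A] [IsNoetherianRing A] (J : Ideal A)

/-- Shorthand: the completion. -/
local notation "Â" => AdicCompletion (maximalIdeal A) A

theorem map_le_maximalIdeal (hJ : J ≠ ⊤) :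
    J.map (algebraMap A (AdicCompletion (maximalIdeal A) A)) ≤
      maximalIdeal (AdicCompletion (maximalIdeal A) A) := by
  rw [Ideal.map_le_iff_le_comap]
  intro x hx
  have hxm : x ∈ maximalIdeal A := IsLocalRing.le_maximalIdeal hJ hx
  rw [Ideal.mem_comap]
  exact (mem_maximalIdeal _).mpr (fun hu => (mem_maximalIdeal x).mp hxm (isUnit_of_map_unit _ x hu))

theorem map_ne_top (hJ : J ≠ ⊤) :
    J.map (algebraMap A (AdicCompletion (maximalIdeal A) A)) ≠ ⊤ := fun h =>
  (maximalIdeal.isMaximal _).ne_top (top_le_iff.mp (h ▸ map_le_maximalIdeal A J hJ))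

instance flat_quotient : Module.Flat (A ⧸ J)
    (AdicCompletion (maximalIdeal A) A ⧸
      J.map (algebraMap A (AdicCompletion (maximalIdeal A) A))) := by
  have : Module.Flat A (AdicCompletion (maximalIdeal A) A) := inferInstance
  exact Module.Flat.of_linearEquiv
    (Algebra.TensorProduct.quotIdealMapEquivQuotTensor
      (AdicCompletion (maximalIdeal A) A) J).toLinearEquiv

omit [IsNoetherianRing A] in
theorem algebraMap_comp_mk :
    (algebraMap (A ⧸ J) (AdicCompletion (maximalIdeal A) A ⧸
      J.map (algebraMap A (AdicCompletion (maximalIdeal A) A)))).comp (Ideal.Quotient.mk J) =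
    (Ideal.Quotient.mk (J.map (algebraMap A (AdicCompletion (maximalIdeal A) A)))).comp
      (algebraMap A (AdicCompletion (maximalIdeal A) A)) := rfl

theorem exists_ringEquiv [hloc : IsLocalRing (A ⧸ J)] :
    Nonempty (AdicCompletion (maximalIdeal (A ⧸ J)) (A ⧸ J) ≃+*
      (AdicCompletion (maximalIdeal A) A ⧸
        J.map (algebraMap A (AdicCompletion (maximalIdeal A) A)))) := by
  have hJ : J ≠ ⊤ := Ideal.Quotient.nontrivial_iff.mp inferInstance
  have hN : IsNoetherianRing (AdicCompletion (maximalIdeal A) A) := Groth.Agent.S0543.result A _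
  have hnt : Nontrivial (AdicCompletion (maximalIdeal A) A ⧸
      J.map (algebraMap A (AdicCompletion (maximalIdeal A) A))) :=
    Ideal.Quotient.nontrivial_iff.mpr (map_ne_top A J hJ)
  have hCloc : IsLocalRing (AdicCompletion (maximalIdeal A) A ⧸
      J.map (algebraMap A (AdicCompletion (maximalIdeal A) A))) :=
    IsLocalRing.of_surjective' (Ideal.Quotient.mk _) Ideal.Quotient.mk_surjective
  -- maximal ideals
  have hmbar : maximalIdeal (A ⧸ J) = (maximalIdeal A).map (Ideal.Quotient.mk J) :=
    (map_maximalIdeal_of_surjective _ Ideal.Quotient.mk_surjective).symm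
  have hmC : maximalIdeal (AdicCompletion (maximalIdeal A) A ⧸
      J.map (algebraMap A (AdicCompletion (maximalIdeal A) A))) =
      (maximalIdeal (AdicCompletion (maximalIdeal A) A)).map (Ideal.Quotient.mk _) :=
    (map_maximalIdeal_of_surjective _ Ideal.Quotient.mk_surjective).symm
  have hm : (maximalIdeal (A ⧸ J)).map (algebraMap (A ⧸ J)
      (AdicCompletion (maximalIdeal A) A ⧸
        J.map (algebraMap A (AdicCompletion (maximalIdeal A) A)))) =
      maximalIdeal (AdicCompletion (maximalIdeal A) A ⧸
        J.map (algebraMap A (AdicCompletion (maximalIdeal A) A))) := by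
    rw [hmbar, hmC, Ideal.map_map, algebraMap_comp_mk, ← Ideal.map_map,
      ← AdicCompletion.maximalIdeal_eq_map]
  have hlocalHom : IsLocalHom (algebraMap (A ⧸ J)
      (AdicCompletion (maximalIdeal A) A ⧸
        J.map (algebraMap A (AdicCompletion (maximalIdeal A) A)))) := by
    refine ⟨fun x hx => ?_⟩
    by_contra hnu
    have hxm : x ∈ maximalIdeal (A ⧸ J) := (mem_maximalIdeal x).mpr hnu
    have : algebraMap (A ⧸ J) _ x ∈ maximalIdeal (AdicCompletion (maximalIdeal A) A ⧸
        J.map (algebraMap A (AdicCompletion (maximalIdeal A) A))) := by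
      rw [← hm]
      exact Ideal.mem_map_of_mem _ hxm
    exact (mem_maximalIdeal _).mp this hx
  -- residue fields
  have hk : Function.Bijective (ResidueField.map (algebraMap (A ⧸ J)
      (AdicCompletion (maximalIdeal A) A ⧸
        J.map (algebraMap A (AdicCompletion (maximalIdeal A) A))))) := by
    refine ⟨RingHom.injective _, fun y => ?_⟩
    obtain ⟨c, rfl⟩ := residue_surjective y
    obtain ⟨c', rfl⟩ := Ideal.Quotient.mk_surjective c
    obtain ⟨z, hz⟩ := (AdicCompletion.residueField_map_bijective (R := A)).2 (residue _ c')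
    obtain ⟨a, rfl⟩ := residue_surjective z
    refine ⟨residue _ (Ideal.Quotient.mk J a), ?_⟩
    rw [ResidueField.map_residue]
    have h1 : algebraMap (A ⧸ J) (AdicCompletion (maximalIdeal A) A ⧸
        J.map (algebraMap A (AdicCompletion (maximalIdeal A) A))) (Ideal.Quotient.mk J a) =
        Ideal.Quotient.mk _ (algebraMap A (AdicCompletion (maximalIdeal A) A) a) := rfl
    rw [h1]
    rw [ResidueField.map_residue] at hz
    have h2 : algebraMap A (AdicCompletion (maximalIdeal A) A) a - c' ∈
        maximalIdeal (AdicCompletion (maximalIdeal A) A) := by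
      rw [← Ideal.Quotient.eq_zero_iff_mem]
      change residue _ (algebraMap A (AdicCompletion (maximalIdeal A) A) a - c') = 0
      rw [map_sub, hz, sub_self]
    have h3 : Ideal.Quotient.mk (J.map (algebraMap A (AdicCompletion (maximalIdeal A) A)))
        (algebraMap A (AdicCompletion (maximalIdeal A) A) a) - Ideal.Quotient.mk _ c' ∈
        maximalIdeal (AdicCompletion (maximalIdeal A) A ⧸
          J.map (algebraMap A (AdicCompletion (maximalIdeal A) A))) := by
      rw [hmC, ← map_sub]
      exact Ideal.mem_map_of_mem _ h2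
    rw [← sub_eq_zero, ← map_sub]
    exact Ideal.Quotient.eq_zero_iff_mem.mpr h3
  -- the comparison map of completions
  have hψ := Groth.Agent.Lib.Helper18.complMap_of (maximalIdeal (A ⧸ J))
    (maximalIdeal (AdicCompletion (maximalIdeal A) A ⧸
      J.map (algebraMap A (AdicCompletion (maximalIdeal A) A))))
    (algebraMap (A ⧸ J) (AdicCompletion (maximalIdeal A) A ⧸
      J.map (algebraMap A (AdicCompletion (maximalIdeal A) A)))) (le_of_eq hm)
  have hbij := Groth.Agent.Lib.Helper47.completion_map_bijective (A ⧸ J)
    (AdicCompletion (maximalIdeal A) A ⧸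
      J.map (algebraMap A (AdicCompletion (maximalIdeal A) A))) hm hk
    (FSch.complMap (maximalIdeal (A ⧸ J))
      (maximalIdeal (AdicCompletion (maximalIdeal A) A ⧸
        J.map (algebraMap A (AdicCompletion (maximalIdeal A) A))))
      (algebraMap (A ⧸ J) (AdicCompletion (maximalIdeal A) A ⧸
        J.map (algebraMap A (AdicCompletion (maximalIdeal A) A)))) (le_of_eq hm))
    (RingHom.ext fun x => hψ x)
  -- `C` is complete
  have hcompl : IsAdicComplete (maximalIdeal (AdicCompletion (maximalIdeal A) A ⧸
      J.map (algebraMap A (AdicCompletion (maximalIdeal A) A))))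
      (AdicCompletion (maximalIdeal A) A ⧸
        J.map (algebraMap A (AdicCompletion (maximalIdeal A) A))) := by
    rw [hmC]
    exact Groth.Agent.Lib.Helper44.isAdicComplete_quotient_ring
      (maximalIdeal (AdicCompletion (maximalIdeal A) A)) _
  exact ⟨(RingEquiv.ofBijective _ hbij).trans
    (AdicCompletion.ofAlgEquiv (maximalIdeal (AdicCompletion (maximalIdeal A) A ⧸
      J.map (algebraMap A (AdicCompletion (maximalIdeal A) A))))).toRingEquiv.symm⟩

end Groth.Agent.Lib.Helper82.ComplQuot
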