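import Groth.Agent.Lib.Helper82.CICrit
import Groth.Agent.Lib.Helper82.ComplQuot
import Groth.Agent.Lib.Helper47.RegularLocalFlat

/-!
# Complete intersections and completion

* `spanFinrank_map_eq`: the minimal number of generators of an ideal is preserved along a flat
  local homomorphism of local rings.
* `exists_isRegular_iff_completion`: for a regular local ring `R` and a proper ideal `I`, `I` is
  generated by a regular sequence iff `I R̂` is.
-/

set_option autoImplicit false

namespace Groth.Agent.Lib.Helper82.CICompl

open IsLocalRing RingTheory.Sequence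

universe u

section Flat

variable {R S : Type*} [CommRing R] [CommRing S] [IsLocalRing R] [IsLocalRing S] [Algebra R S]
  [IsLocalHom (algebraMap R S)] [Module.Flat R S]

/-- The minimal number of generators of an ideal is preserved along a flat local homomorphism. -/
theorem spanFinrank_map_eq (I : Ideal R) (hI : I.FG) :
    (I.map (algebraMap R S)).spanFinrank = I.spanFinrank := by
  classical
  have hff : Module.FaithfullyFlat R S := Module.FaithfullyFlat.of_flat_of_isLocalHom
  apply le_antisymm
  · exact Ideal.spanFinrank_map_le_of_fg _ hI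
  · obtain ⟨t, htG, htcard, htspan⟩ :=
      Groth.Agent.Lib.Helper47.exists_finset_subset_span_eq_of_isLocalRing
      (I.map (algebraMap R S)) (hI.map _)
      (algebraMap R S '' (I : Set R)) rfl
    choose! x hxm hx using fun y (hy : y ∈ (t : Set S)) => htG hy
    let s : Finset R := t.image x
    have hmap : (Ideal.span (s : Set R)).map (algebraMap R S) =
        I.map (algebraMap R S) := by
      rw [Ideal.map_span, ← htspan]
      congr 1
      ext y
      simp only [Set.mem_image, Finset.mem_coe, s, Finset.mem_image]
      constructor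
      · rintro ⟨a, ⟨y', hy', rfl⟩, rfl⟩
        rw [hx y' (Finset.mem_coe.mpr hy')]; exact hy'
      · intro hy
        exact ⟨x y, ⟨y, hy, rfl⟩, hx y (Finset.mem_coe.mpr hy)⟩
    have heq : Ideal.span (s : Set R) = I :=
      Ideal.map_injective_of_faithfullyFlat (B := S) hmap
    calc I.spanFinrank = (Ideal.span (s : Set R)).spanFinrank := by rw [heq]
      _ ≤ (s : Set R).ncard := Submodule.spanFinrank_span_le_ncard_of_finite s.finite_toSet
      _ = s.card := Set.ncard_coe_finset s
      _ ≤ t.card := Finset.card_image_le
      _ ≤ (I.map (algebraMap R S)).spanFinrank := htcard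

end Flat

section Compl

variable (R : Type u) [CommRing R] [IsRegularLocalRing R] (I : Ideal R) [IsLocalRing (R ⧸ I)]

local notation "R̂" => AdicCompletion (maximalIdeal R) R

theorem maximalIdeal_map_eq :
    (maximalIdeal R).map (algebraMap R R̂) = maximalIdeal R̂ :=
  (AdicCompletion.maximalIdeal_eq_map (R := R)).symm

instance : IsNoetherianRing R̂ := Groth.Agent.S0543.result R _

theorem isRegularLocalRing_completion : IsRegularLocalRing R̂ :=
  (Groth.Agent.Lib.Helper47.isRegularLocalRing_iff_of_flat_of_map_maximalIdeal
    (maximalIdeal_map_eq R)).mp inferInstance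

/-- `I` is generated by a regular sequence iff `I R̂` is. -/
theorem exists_isRegular_iff_completion :
    (∃ rs : List R, IsRegular R rs ∧ Ideal.ofList rs = I) ↔
      ∃ rs : List R̂, IsRegular R̂ rs ∧ Ideal.ofList rs = I.map (algebraMap R R̂) := by
  have hI : I ≠ ⊤ := Ideal.Quotient.nontrivial_iff.mp inferInstance
  have hRB := isRegularLocalRing_completion R
  have hff : Module.FaithfullyFlat R R̂ := Module.FaithfullyFlat.of_flat_of_isLocalHom
  constructor
  · rintro ⟨rs, hreg, hrs⟩
    refine ⟨rs.map (algebraMap R R̂), hreg.of_faithfullyFlat, ?_⟩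
    rw [← hrs, Ideal.map_ofList]
  · intro h
    -- the two presentations
    have hk1 : RingHom.ker (Ideal.Quotient.mk I) = I := Ideal.mk_ker
    have hk2 : RingHom.ker (Ideal.Quotient.mk (I.map (algebraMap R R̂))) =
        I.map (algebraMap R R̂) := Ideal.mk_ker
    have hnt : Nontrivial (R̂ ⧸ I.map (algebraMap R R̂)) :=
      Ideal.Quotient.nontrivial_iff.mpr (ComplQuot.map_ne_top R I hI)
    have hloc2 : IsLocalRing (R̂ ⧸ I.map (algebraMap R R̂)) :=
      IsLocalRing.of_surjective' (Ideal.Quotient.mk _) Ideal.Quotient.mk_surjective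
    rw [← hk2, CICrit.exists_isRegular_iff R̂ _ (Ideal.Quotient.mk _)
      Ideal.Quotient.mk_surjective, hk2] at h
    rw [← hk1, CICrit.exists_isRegular_iff R _ (Ideal.Quotient.mk _)
      Ideal.Quotient.mk_surjective, hk1]
    rw [spanFinrank_map_eq I (IsNoetherian.noetherian _)] at h
    have hdimR : ringKrullDim R̂ = ringKrullDim R :=
      Groth.Agent.Lib.Helper47.ringKrullDim_eq_of_flat_of_map_maximalIdeal
        (maximalIdeal_map_eq R)
    obtain ⟨e⟩ := ComplQuot.exists_ringEquiv R I
    have hNQ : IsNoetherianRing (AdicCompletion (maximalIdeal (R ⧸ I)) (R ⧸ I)) :=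
      Groth.Agent.S0543.result (R ⧸ I) _
    have hdimQ : ringKrullDim (R̂ ⧸ I.map (algebraMap R R̂)) = ringKrullDim (R ⧸ I) := by
      rw [← ringKrullDim_eq_of_ringEquiv e]
      exact Groth.Agent.Lib.Helper47.ringKrullDim_eq_of_flat_of_map_maximalIdeal
        (AdicCompletion.maximalIdeal_eq_map (R := R ⧸ I)).symm
    rw [← hdimR, ← hdimQ]
    exact h

end Compl

end Groth.Agent.Lib.Helper82.CICompl
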