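import Mathlib
import Groth.Agent.Lib.Helper73.TorFirstVar

set_option autoImplicit false
universe u
set_option backward.isDefEq.respectTransparency false
open CategoryTheory CategoryTheory.Limits MonoidalCategory

namespace Groth.Agent.Lib.Helper82.RegTor

open Groth.Agent.Lib.Helper73 Groth.Agent.Lib.Helper73.TorFirstVar

variable {A : Type u} [CommRing A]

lemma homologyMap_smul {ι : Type*} {c : ComplexShape ι}
    {K L : HomologicalComplex (ModuleCat.{u} A) c} (r : A) (φ : K ⟶ L) (i : ι) :
    HomologicalComplex.homologyMap (r • φ) i = r • HomologicalComplex.homologyMap φ i := by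
  have h : (HomologicalComplex.shortComplexFunctor (ModuleCat.{u} A) c i).map (r • φ) =
      r • (HomologicalComplex.shortComplexFunctor (ModuleCat.{u} A) c i).map φ := by
    ext <;> rfl
  change ShortComplex.homologyMap
    ((HomologicalComplex.shortComplexFunctor _ c i).map (r • φ)) = _
  rw [h, ShortComplex.homologyMap_smul]
  rfl

lemma smul_id_whiskerRight (X N : ModuleCat.{u} A) (r : A) :
    (r • 𝟙 X) ▷ N = r • 𝟙 (X ⊗ N) := by
  apply ModuleCat.MonoidalCategory.tensor_ext
  intro x y
  change ((r • 𝟙 X) ▷ N) (x ⊗ₜ y) = (r • 𝟙 (X ⊗ N) : X ⊗ N ⟶ X ⊗ N) (x ⊗ₜ y)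
  rw [ModuleCat.MonoidalCategory.whiskerRight_apply]
  rfl

lemma Tmap_smul_id (k : ℕ) (X N : ModuleCat.{u} A) (r : A) :
    Tmap k (r • 𝟙 X) N = r • 𝟙 (T k X N) := by
  let P := projectiveResolution N
  have h := nat_map P (r • 𝟙 X) k
  have h1 : (NatTrans.mapHomologicalComplex (TLmap (r • 𝟙 X)) (ComplexShape.down ℕ)).app
      P.complex = r • 𝟙 _ := by
    apply HomologicalComplex.hom_ext
    intro n
    exact smul_id_whiskerRight X (P.complex.X n) r
  rw [h1, homologyMap_smul, HomologicalComplex.homologyMap_id, Linear.comp_smul] at h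
  erw [Category.comp_id] at h
  rw [← cancel_mono (P.isoLeftDerivedObj (TL X) k).hom, h, Linear.smul_comp, Category.id_comp]


/-- `A/I` as an object. -/
abbrev Q (I : Ideal A) : ModuleCat.{u} A := ModuleCat.of A (A ⧸ I)

/-- `Tor_0(X, M) ≃ X ⊗ M`. -/
noncomputable def torZeroEquiv (X N : ModuleCat.{u} A) : T 0 X N ≃ₗ[A] TensorProduct A X N :=
  ((TL X).leftDerivedZeroIsoSelf.app N).toLinearEquiv

/-- `Tor_0(A/I, M) ≃ M/IM`. -/
noncomputable def torZeroQuotEquiv (I : Ideal A) (M : Type u) [AddCommGroup M] [Module A M] :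
    T 0 (Q I) (ModuleCat.of A M) ≃ₗ[A] (M ⧸ (I • ⊤ : Submodule A M)) :=
  torZeroEquiv (Q I) (ModuleCat.of A M) ≪≫ₗ TensorProduct.quotTensorEquivQuotSMul M I

lemma isNoetherian_torZero [IsNoetherianRing A] (I : Ideal A) (M : Type u) [AddCommGroup M]
    [Module A M] [Module.Finite A M] :
    IsNoetherian A (T 0 (Q I) (ModuleCat.of A M)) := by
  have : IsNoetherian A (M ⧸ (I • ⊤ : Submodule A M)) := inferInstance
  exact isNoetherian_of_linearEquiv (torZeroQuotEquiv I M).symm

lemma mono_smul_id_iff (N : ModuleCat.{u} A) (r : A) :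
    Mono (r • 𝟙 N) ↔ IsSMulRegular N r := by
  rw [ModuleCat.mono_iff_injective]
  rfl

lemma epi_smul_id_iff (N : ModuleCat.{u} A) (r : A) :
    Epi (r • 𝟙 N) ↔ Function.Surjective (fun x : N => r • x) := by
  rw [ModuleCat.epi_iff_surjective]
  rfl

/-- Flat first variable kills higher Tor. -/
lemma isZero_T_of_flat (X : ModuleCat.{u} A) [Module.Flat A X] (N : ModuleCat.{u} A) (q : ℕ) :
    IsZero (T (q + 1) X N) := by
  have hlim : PreservesFiniteLimits (TL X) := by
    change PreservesFiniteLimits (tensorLeft X); infer_instance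
  have hcolim : PreservesFiniteColimits (TL X) := by
    change PreservesFiniteColimits (tensorLeft X); infer_instance
  have hPH : (TL X).PreservesHomology := inferInstance
  let P := ProjectiveResolution.of N
  have e := P.isoLeftDerivedObj (TL X) (q + 1)
  refine IsZero.of_iso ?_ e
  change IsZero (HomologicalComplex.homology _ _)
  rw [← HomologicalComplex.exactAt_iff_isZero_homology]
  have hex := P.complex_exactAt_succ q
  rw [HomologicalComplex.exactAt_iff] at hex ⊢
  exact hex.map (TL X)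

/-- Nakayama: a Noetherian module over a local ring on which some `r ∈ m` acts surjectively
is zero. -/
lemma subsingleton_of_surjective_smul [IsLocalRing A] (N : Type u) [AddCommGroup N] [Module A N]
    [IsNoetherian A N] (r : A) (hr : r ∈ IsLocalRing.maximalIdeal A)
    (hs : Function.Surjective (fun x : N => r • x)) : Subsingleton N := by
  have h : (⊤ : Submodule A N) = ⊥ := by
    apply Submodule.eq_bot_of_le_smul_of_le_jacobson_bot (IsLocalRing.maximalIdeal A) ⊤
      (IsNoetherian.noetherian ⊤)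
    · intro x _
      obtain ⟨y, rfl⟩ := hs x
      exact Submodule.smul_mem_smul hr Submodule.mem_top
    · rw [IsLocalRing.jacobson_eq_maximalIdeal ⊥ bot_ne_top]
  exact (Submodule.subsingleton_iff A).1 (subsingleton_of_bot_eq_top h.symm)


lemma le_step (I' : Ideal A) (r : A) : I' ≤ I' ⊔ Ideal.span {r} := le_sup_left

lemma factor_smul_mk (I' : Ideal A) (r a : A) :
    Submodule.factor (le_step I' r) (r • Submodule.mkQ I' a) = 0 := by
  rw [← map_smul, Submodule.factor_mk]
  change Submodule.Quotient.mk (r • a) = 0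
  rw [Submodule.Quotient.mk_eq_zero, smul_eq_mul]
  exact Ideal.mul_mem_right _ _ (Ideal.mem_sup_right (Ideal.subset_span rfl))

/-- The short complex `A/I' --r--> A/I' → A/(I' + (r))`. -/
noncomputable def stepSC (I' : Ideal A) (r : A) : ShortComplex (ModuleCat.{u} A) where
  X₁ := Q I'
  X₂ := Q I'
  X₃ := Q (I' ⊔ Ideal.span {r})
  f := r • 𝟙 (Q I')
  g := ModuleCat.ofHom (Submodule.factor (le_step I' r))
  zero := by
    apply ModuleCat.hom_ext
    apply LinearMap.ext
    intro x
    obtain ⟨a, rfl⟩ := Submodule.mkQ_surjective I' x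
    exact factor_smul_mk I' r a

lemma stepSC_shortExact (I' : Ideal A) (r : A) (hr : IsSMulRegular (A ⧸ I') r) :
    (stepSC I' r).ShortExact := by
  refine ModuleCat.shortComplex_shortExact _ ?_ hr (Submodule.factor_surjective (le_step I' r))
  intro y
  obtain ⟨a, rfl⟩ := Submodule.mkQ_surjective I' y
  constructor
  · intro h
    change Submodule.factor (le_step I' r) (Submodule.mkQ I' a) = 0 at h
    rw [Submodule.factor_mk] at h
    change Submodule.Quotient.mk a = 0 at h
    rw [Submodule.Quotient.mk_eq_zero, Submodule.mem_sup] at h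
    obtain ⟨i, hi, z, hz, rfl⟩ := h
    rw [Ideal.mem_span_singleton'] at hz
    obtain ⟨c, rfl⟩ := hz
    refine ⟨Submodule.mkQ I' c, ?_⟩
    change r • Submodule.mkQ I' c = Submodule.mkQ I' (i + c * r)
    rw [← map_smul, eq_comm, ← sub_eq_zero, ← map_sub]
    change Submodule.Quotient.mk _ = 0
    rw [Submodule.Quotient.mk_eq_zero, smul_eq_mul]
    have : i + c * r - r * c = i := by ring
    rw [this]
    exact hi
  · rintro ⟨z, hz⟩
    rw [← hz]
    obtain ⟨c, rfl⟩ := Submodule.mkQ_surjective I' z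
    exact factor_smul_mk I' r c


section Step

variable [IsNoetherianRing A] (I' : Ideal A) (r : A) (hr : IsSMulRegular (A ⧸ I') r)
  (M : Type u) [AddCommGroup M] [Module A M] [Module.Finite A M]

include hr in
lemma step_noeth (hN : ∀ k, IsNoetherian A (T k (Q I') (ModuleCat.of A M))) :
    ∀ k, IsNoetherian A (T k (Q (I' ⊔ Ideal.span {r})) (ModuleCat.of A M)) := by
  intro k
  cases k with
  | zero => exact isNoetherian_torZero _ M
  | succ k =>
    have hS := stepSC_shortExact I' r hr
    obtain ⟨-, δ, w₁, w₂, h₁, -⟩ := tor_les_first hS (ModuleCat.of A M) k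
    have h1 : IsNoetherian A (T (k + 1) (Q I') (ModuleCat.of A M)) := hN (k + 1)
    have h2 : IsNoetherian A (T k (Q I') (ModuleCat.of A M)) := hN k
    have h1' : IsNoetherian A (ShortComplex.mk _ δ w₁).X₁ := h1
    have h2' : IsNoetherian A (ShortComplex.mk _ δ w₁).X₃ := h2
    exact isNoetherian_of_range_eq_ker _ _ h₁.moduleCat_range_eq_ker

omit [IsNoetherianRing A] [Module.Finite A M] in
include hr in
lemma step_forward (hz : ∀ i, 1 ≤ i → IsZero (T i (Q I') (ModuleCat.of A M)))
    (hreg : IsSMulRegular (M ⧸ (I' • ⊤ : Submodule A M)) r) :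
    ∀ i, 1 ≤ i → IsZero (T i (Q (I' ⊔ Ideal.span {r})) (ModuleCat.of A M)) := by
  intro i hi
  obtain ⟨n, rfl⟩ : ∃ n, i = n + 1 := ⟨i - 1, by omega⟩
  have hS := stepSC_shortExact I' r hr
  obtain ⟨-, δ, w₁, w₂, h₁, h₂⟩ := tor_les_first hS (ModuleCat.of A M) n
  have hz1 : IsZero (T (n + 1) (Q I') (ModuleCat.of A M)) := hz (n + 1) (by omega)
  cases n with
  | zero =>
    have hmono : Mono δ := h₁.mono_g (hz1.eq_of_src _ _)
    have hf : Tmap 0 (stepSC I' r).f (ModuleCat.of A M) = r • 𝟙 _ := Tmap_smul_id 0 _ _ r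
    have hmono2 : Mono (Tmap 0 (stepSC I' r).f (ModuleCat.of A M)) := by
      rw [hf, mono_smul_id_iff]
      exact ((torZeroQuotEquiv I' M).isSMulRegular_congr r).2 hreg
    have hδ : δ = 0 := by
      rw [← cancel_mono (Tmap 0 (stepSC I' r).f (ModuleCat.of A M)), zero_comp]
      exact w₂
    exact IsZero.of_mono_eq_zero δ hδ
  | succ m =>
    have hz2 : IsZero (T (m + 1) (Q I') (ModuleCat.of A M)) := hz (m + 1) (by omega)
    exact h₁.isZero_of_both_zeros (hz1.eq_of_src _ _) (hz2.eq_of_tgt _ _)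

omit [IsNoetherianRing A] [Module.Finite A M] in
include hr in
lemma step_backward [IsLocalRing A] (hrm : r ∈ IsLocalRing.maximalIdeal A)
    (hN : ∀ k, IsNoetherian A (T k (Q I') (ModuleCat.of A M)))
    (hz : ∀ i, 1 ≤ i → IsZero (T i (Q (I' ⊔ Ideal.span {r})) (ModuleCat.of A M))) :
    (∀ i, 1 ≤ i → IsZero (T i (Q I') (ModuleCat.of A M))) ∧
      IsSMulRegular (M ⧸ (I' • ⊤ : Submodule A M)) r := by
  have hS := stepSC_shortExact I' r hr
  constructor
  · intro i hi
    obtain ⟨⟨w₀, hex⟩, -⟩ := tor_les_first hS (ModuleCat.of A M) i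
    have hz3 : IsZero (T i (Q (I' ⊔ Ideal.span {r})) (ModuleCat.of A M)) := hz i hi
    have hepi : Epi (Tmap i (stepSC I' r).f (ModuleCat.of A M)) := hex.epi_f (hz3.eq_of_tgt _ _)
    have hf : Tmap i (stepSC I' r).f (ModuleCat.of A M) = r • 𝟙 _ := Tmap_smul_id i _ _ r
    rw [hf, epi_smul_id_iff] at hepi
    have := hN i
    have hsub := subsingleton_of_surjective_smul (T i (Q I') (ModuleCat.of A M)) r hrm hepi
    exact ModuleCat.isZero_of_subsingleton _
  · obtain ⟨-, δ, w₁, w₂, h₁, h₂⟩ := tor_les_first hS (ModuleCat.of A M) 0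
    have hz1 : IsZero (T 1 (Q (I' ⊔ Ideal.span {r})) (ModuleCat.of A M)) := hz 1 le_rfl
    have hmono : Mono (Tmap 0 (stepSC I' r).f (ModuleCat.of A M)) :=
      h₂.mono_g (hz1.eq_of_src _ _)
    have hf : Tmap 0 (stepSC I' r).f (ModuleCat.of A M) = r • 𝟙 _ := Tmap_smul_id 0 _ _ r
    rw [hf, mono_smul_id_iff] at hmono
    exact ((torZeroQuotEquiv I' M).isSMulRegular_congr r).1 hmono

end Step


open RingTheory.Sequence

lemma isSMulRegular_quot_congr {N : Type u} [AddCommGroup N] [Module A N] {p q : Submodule A N}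
    (h : p = q) (r : A) : IsSMulRegular (N ⧸ p) r ↔ IsSMulRegular (N ⧸ q) r := by
  subst h
  rfl

lemma smul_top_self (I : Ideal A) : (I • ⊤ : Submodule A A) = I := by
  rw [smul_eq_mul, Ideal.mul_top]

theorem main [IsNoetherianRing A] [IsLocalRing A] (M : Type u) [AddCommGroup M] [Module A M]
    [Module.Finite A M] (rs : List A)
    (hmem : ∀ r ∈ rs, r ∈ IsLocalRing.maximalIdeal A) (hreg : IsWeaklyRegular A rs) :
    (∀ k, IsNoetherian A (T k (Q (Ideal.ofList rs)) (ModuleCat.of A M))) ∧
    (IsWeaklyRegular M rs ↔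
      ∀ i, 1 ≤ i → IsZero (T i (Q (Ideal.ofList rs)) (ModuleCat.of A M))) := by
  induction rs using List.reverseRecOn with
  | nil =>
    have hflat : Module.Flat A (Q (Ideal.ofList ([] : List A))) := by
      rw [Ideal.ofList_nil]
      exact Module.Flat.of_linearEquiv (Submodule.quotEquivOfEqBot (⊥ : Submodule A A) rfl)
    refine ⟨?_, ?_⟩
    · intro k
      cases k with
      | zero => exact isNoetherian_torZero _ M
      | succ k =>
        have hz := isZero_T_of_flat (Q (Ideal.ofList ([] : List A))) (ModuleCat.of A M) k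
        have : Subsingleton (T (k + 1) (Q (Ideal.ofList ([] : List A))) (ModuleCat.of A M)) :=
          ModuleCat.subsingleton_of_isZero hz
        infer_instance
    · refine ⟨fun _ i hi => ?_, fun _ => IsWeaklyRegular.nil A M⟩
      obtain ⟨n, rfl⟩ : ∃ n, i = n + 1 := ⟨i - 1, by omega⟩
      exact isZero_T_of_flat _ _ n
  | append_singleton rs' r ih =>
    have hmem' : ∀ x ∈ rs', x ∈ IsLocalRing.maximalIdeal A := fun x hx =>
      hmem x (List.mem_append_left _ hx)
    have hrm : r ∈ IsLocalRing.maximalIdeal A := hmem r (by simp)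
    rw [isWeaklyRegular_append_iff, isWeaklyRegular_singleton_iff] at hreg
    obtain ⟨hreg', hr0⟩ := hreg
    have hr : IsSMulRegular (A ⧸ Ideal.ofList rs') r :=
      (isSMulRegular_quot_congr (smul_top_self _) r).1 hr0
    obtain ⟨ihN, ihR⟩ := ih hmem' hreg'
    have hI : Ideal.ofList (rs' ++ [r]) = Ideal.ofList rs' ⊔ Ideal.span {r} := by
      rw [Ideal.ofList_append, Ideal.ofList_singleton]
    rw [hI]
    refine ⟨step_noeth _ r hr M ihN, ?_⟩
    rw [isWeaklyRegular_append_iff, isWeaklyRegular_singleton_iff, ihR]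
    constructor
    · rintro ⟨h1, h2⟩
      exact step_forward _ r hr M h1 h2
    · intro h
      exact step_backward _ r hr M hrm ihN h

end Groth.Agent.Lib.Helper82.RegTor
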