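import Groth.Agent.S2166
import Groth.Agent.Lib.Helper85.Vasc.Spread
import Groth.Agent.Lib.Helper82.CIField
import Groth.Agent.Lib.Helper50.StalkBC
import Groth.Agent.Lib.Helper18.ComplMap

/-!
# Openness of the complete intersection locus in a quotient of a regular ring

* `nonempty_completion_ringEquiv`, `isCI_of_ringEquiv`: `Pi1.IsCompleteIntersection` is invariant
  under ring isomorphisms.
* `isRegular_map_ringEquiv`: regular sequences are transported by ring isomorphisms.
* `exists_nhd`: if `I B_p` is generated by a regular sequence, the same holds at all primes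
  `p' ⊇ I` of a basic open neighbourhood of `p`.
* `isCI_localization_quotient_iff`: for a regular ring `B`, the local ring of `B/I` at `q` is a complete
  intersection iff `I B_p` is generated by a regular sequence (`p` the preimage of `q`).
-/

set_option autoImplicit false

namespace Groth.Agent.Lib.Helper82.CIOpen

open IsLocalRing RingTheory.Sequence Groth.Agent.Lib.Helper18

universe u

section Equiv

theorem map_maximalIdeal_le {A A' : Type u} [CommRing A] [CommRing A'] [IsLocalRing A]
    [IsLocalRing A'] (e : A ≃+* A') :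
    (maximalIdeal A).map (e : A →+* A') ≤ maximalIdeal A' := by
  rw [Ideal.map_le_iff_le_comap]
  intro x hx
  rw [Ideal.mem_comap, mem_maximalIdeal, mem_nonunits_iff]
  rw [mem_maximalIdeal, mem_nonunits_iff] at hx
  intro hu
  apply hx
  have := hu.map (e.symm : A' →+* A)
  simpa using this

theorem complMap_id {A : Type u} [CommRing A] (I : Ideal A) (f : A →+* A) (hf : ∀ x, f x = x)
    (h : I.map f ≤ I) : FSch.complMap I I f h = RingHom.id _ := by
  ext x : 1
  apply AdicCompletion.ext_evalₐ
  intro n
  rw [evalₐ_complMap]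
  obtain ⟨r, hr⟩ := Ideal.Quotient.mk_surjective (AdicCompletion.evalₐ I n x)
  rw [← hr, Ideal.quotientMap_mk, hf, RingHom.id_apply, hr]

/-- A ring isomorphism of local rings induces an isomorphism of the completions. -/
theorem nonempty_completion_ringEquiv {A A' : Type u} [CommRing A] [CommRing A'] [IsLocalRing A]
    [IsLocalRing A'] (e : A ≃+* A') :
    Nonempty (AdicCompletion (maximalIdeal A) A ≃+* AdicCompletion (maximalIdeal A') A') := by
  have h1 := map_maximalIdeal_le e
  have h2 := map_maximalIdeal_le e.symm
  have h12 : (maximalIdeal A).map ((e.symm : A' →+* A).comp (e : A →+* A')) ≤ maximalIdeal A := by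
    rw [← Ideal.map_map]
    exact (Ideal.map_mono h1).trans h2
  have h21 : (maximalIdeal A').map ((e : A →+* A').comp (e.symm : A' →+* A)) ≤
      maximalIdeal A' := by
    rw [← Ideal.map_map]
    exact (Ideal.map_mono h2).trans h1
  refine ⟨RingEquiv.ofRingHom (FSch.complMap _ _ (e : A →+* A') h1)
    (FSch.complMap _ _ (e.symm : A' →+* A) h2) ?_ ?_⟩
  · rw [complMap_comp _ _ _ _ _ h2 h1 h21]
    exact complMap_id _ _ (fun x => by simp) _
  · rw [complMap_comp _ _ _ _ _ h1 h2 h12]
    exact complMap_id _ _ (fun x => by simp) _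

theorem isCI_of_ringEquiv {A A' : Type u} [CommRing A] [CommRing A'] [IsLocalRing A]
    [IsLocalRing A'] (e : A ≃+* A') (h : Pi1.IsCompleteIntersection A) :
    Pi1.IsCompleteIntersection A' := by
  obtain ⟨B, _, _, rs, hmem, hreg, ⟨φ⟩⟩ := h
  obtain ⟨ψ⟩ := nonempty_completion_ringEquiv e
  exact ⟨B, inferInstance, inferInstance, rs, hmem, hreg, ⟨ψ.symm.trans φ⟩⟩

theorem isRegular_map_ringEquiv {T T' : Type*} [CommRing T] [CommRing T'] (e : T ≃+* T')
    (rs : List T) (h : IsRegular T rs) : IsRegular T' (rs.map e) :=
  (e.toAddEquiv.isRegular_congr (List.forall₂_map_right_iff.mpr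
    (List.forall₂_same.mpr fun r _ x => map_mul e r x))).mp h

end Equiv

section Nhd

variable (B : Type u) [CommRing B] [IsNoetherianRing B] (I : Ideal B)

/-- Being generated by a regular sequence spreads from `B_p` to the local rings of a basic open
neighbourhood. -/
theorem exists_nhd (p : Ideal B) [p.IsPrime] (hIp : I ≤ p)
    (h : ∃ rs : List (Localization.AtPrime p), IsRegular (Localization.AtPrime p) rs ∧
      Ideal.ofList rs = I.map (algebraMap B (Localization.AtPrime p))) :
    ∃ g : B, g ∉ p ∧ ∀ (p' : Ideal B) [p'.IsPrime], I ≤ p' → g ∉ p' →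
      ∃ rs : List (Localization.AtPrime p'), IsRegular (Localization.AtPrime p') rs ∧
        Ideal.ofList rs = I.map (algebraMap B (Localization.AtPrime p')) := by
  obtain ⟨rs', hreg', hrs'⟩ := h
  obtain ⟨g, hg, rs, hreg, hrs⟩ := Groth.Agent.Lib.Helper85.Vasc.exists_regular_away I p hIp rs'
    hreg'.toIsWeaklyRegular hrs'
  refine ⟨g, hg, fun p' _ hIp' hg' => ?_⟩
  have hP' := Groth.Agent.Lib.Helper82.CIField.map_isPrime_of_notMem p' g hg'
  have hdisj : Disjoint (Submonoid.powers g : Set B) (p' : Set B) := by
    rw [Set.disjoint_left]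
    rintro _ ⟨m, rfl⟩ hm
    exact hg' (Ideal.IsPrime.mem_of_pow_mem inferInstance m hm)
  have hcomap : (p'.map (algebraMap B (Localization.Away g))).comap
      (algebraMap B (Localization.Away g)) = p' :=
    IsLocalization.under_map_of_isPrime_disjoint (Submonoid.powers g) _ inferInstance hdisj
  have hloc1 := IsLocalization.isLocalization_isLocalization_atPrime_isLocalization
    (Submonoid.powers g) (Localization.AtPrime (p'.map (algebraMap B (Localization.Away g))))
    (p'.map (algebraMap B (Localization.Away g)))
  have hloc2 : IsLocalization.AtPrime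
      (Localization.AtPrime (p'.map (algebraMap B (Localization.Away g)))) p' :=
    Groth.Agent.Lib.Helper82.GCICM.isLocalization_atPrime_of_eq p' _ hcomap hloc1
  have hmem : ∀ r ∈ rs, r ∈ p'.map (algebraMap B (Localization.Away g)) := by
    intro r hr
    have h1 : r ∈ Ideal.ofList rs := Ideal.subset_span hr
    rw [hrs] at h1
    exact Ideal.map_mono hIp' h1
  have hregT := hreg.toIsWeaklyRegular.isRegular_of_isLocalization_of_mem
    (Localization.AtPrime (p'.map (algebraMap B (Localization.Away g))))
    (p'.map (algebraMap B (Localization.Away g))) hmem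
  have e : Localization.AtPrime (p'.map (algebraMap B (Localization.Away g))) ≃ₐ[B]
      Localization.AtPrime p' :=
    IsLocalization.algEquiv p'.primeCompl _ _
  refine ⟨(rs.map (algebraMap (Localization.Away g)
    (Localization.AtPrime (p'.map (algebraMap B (Localization.Away g)))))).map e.toRingEquiv,
    isRegular_map_ringEquiv e.toRingEquiv _ hregT, ?_⟩
  have h1 : Ideal.ofList ((rs.map (algebraMap (Localization.Away g)
      (Localization.AtPrime (p'.map (algebraMap B (Localization.Away g)))))).map e.toRingEquiv) =
      Ideal.map (e.toRingEquiv : Localization.AtPrime (p'.map (algebraMap B (Localization.Away g)))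
        →+* Localization.AtPrime p') (Ideal.ofList (rs.map (algebraMap (Localization.Away g)
      (Localization.AtPrime (p'.map (algebraMap B (Localization.Away g))))))) := by
    rw [Ideal.map_ofList]
    rfl
  rw [h1, ← Ideal.map_ofList, hrs, Ideal.map_map, Ideal.map_map]
  congr 1
  ext x
  simp only [RingHom.coe_comp, Function.comp_apply, RingHom.coe_coe]
  rw [← IsScalarTower.algebraMap_apply]
  exact e.commutes x

end Nhd

section Regular

variable (B : Type u) [CommRing B] [IsRegularRing B] (I : Ideal B)

omit [IsRegularRing B] in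
theorem nonempty_ringEquiv_localization_quotient (q : Ideal (B ⧸ I)) [q.IsPrime] :
    Nonempty ((Localization.AtPrime (q.comap (Ideal.Quotient.mk I)) ⧸
      I.map (algebraMap B (Localization.AtPrime (q.comap (Ideal.Quotient.mk I))))) ≃+*
        Localization.AtPrime q) := by
  have hψ : ∀ b : B ⧸ I, ∃ a s : B,
      Ideal.Quotient.mk I s ∉ q ∧ Ideal.Quotient.mk I s * b = Ideal.Quotient.mk I a := by
    intro b
    obtain ⟨a, rfl⟩ := Ideal.Quotient.mk_surjective b
    refine ⟨a, 1, ?_, ?_⟩
    · rw [map_one]
      exact (Ideal.ne_top_iff_one _).mp (Ideal.IsPrime.ne_top inferInstance)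
    · rw [map_one, one_mul]
  have hπ := Groth.Agent.Lib.Helper82.CISpreadA.localRingHom_surjective
    (Ideal.Quotient.mk I) q (q.comap (Ideal.Quotient.mk I)) rfl hψ
  have hker := Groth.Agent.Lib.Helper82.CISpreadA.ker_localRingHom
    (Ideal.Quotient.mk I) q (q.comap (Ideal.Quotient.mk I)) rfl hψ
  rw [Ideal.mk_ker] at hker
  exact ⟨(Ideal.quotEquivOfEq hker.symm).trans (RingHom.quotientKerEquivOfSurjective hπ)⟩

theorem isCI_localization_quotient_iff (q : Ideal (B ⧸ I)) [q.IsPrime] :
    Pi1.IsCompleteIntersection (Localization.AtPrime q) ↔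
      ∃ rs : List (Localization.AtPrime (q.comap (Ideal.Quotient.mk I))),
        IsRegular (Localization.AtPrime (q.comap (Ideal.Quotient.mk I))) rs ∧
        Ideal.ofList rs =
          I.map (algebraMap B (Localization.AtPrime (q.comap (Ideal.Quotient.mk I)))) := by
  obtain ⟨e⟩ := nonempty_ringEquiv_localization_quotient B I q
  have hloc : IsLocalRing (Localization.AtPrime (q.comap (Ideal.Quotient.mk I)) ⧸
      I.map (algebraMap B (Localization.AtPrime (q.comap (Ideal.Quotient.mk I))))) :=
    e.symm.isLocalRing
  have hne : I.map (algebraMap B (Localization.AtPrime (q.comap (Ideal.Quotient.mk I)))) ≠ ⊤ := by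
    intro h
    have : Subsingleton (Localization.AtPrime (q.comap (Ideal.Quotient.mk I)) ⧸
      I.map (algebraMap B (Localization.AtPrime (q.comap (Ideal.Quotient.mk I))))) :=
      Ideal.Quotient.subsingleton_iff.mpr h
    exact not_subsingleton _ this
  have hS := Groth.Agent.S2166.result
    (I.map (algebraMap B (Localization.AtPrime (q.comap (Ideal.Quotient.mk I))))) hne
  constructor
  · intro h
    obtain ⟨rs, h1, h2⟩ := hS.mp (isCI_of_ringEquiv e.symm h)
    exact ⟨rs, h2, h1⟩
  · rintro ⟨rs, h1, h2⟩
    exact isCI_of_ringEquiv e (hS.mpr ⟨rs, h2, h1⟩)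

end Regular

end Groth.Agent.Lib.Helper82.CIOpen
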