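import Groth.Agent.Lib.Helper82.CIField
import Mathlib.RingTheory.EssentialFiniteness

/-!
# Complete intersections over a field: local algebras essentially of finite type
-/

set_option autoImplicit false

namespace Groth.Agent.Lib.Helper82.CIEssFT

open MvPolynomial RingTheory.Sequence IsLocalRing

universe u

variable (k : Type u) [Field k]

/-- A local `k`-algebra essentially of finite type is the localization of a quotient of a
polynomial ring at a prime. -/
theorem exists_algEquiv_localization_quotient (S : Type u) [CommRing S] [IsLocalRing S]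
    [Algebra k S] [Algebra.EssFiniteType k S] :
    ∃ (n : ℕ) (I : Ideal (MvPolynomial (Fin n) k)) (q : Ideal (MvPolynomial (Fin n) k ⧸ I))
      (_ : q.IsPrime), Nonempty (S ≃ₐ[k] Localization.AtPrime q) := by
  have hn₀ : ((maximalIdeal S).comap
      (algebraMap (Algebra.EssFiniteType.subalgebra k S) S)).IsPrime := Ideal.comap_isPrime _ _
  have hloc : IsLocalization.AtPrime S ((maximalIdeal S).comap
      (algebraMap (Algebra.EssFiniteType.subalgebra k S) S)) := by
    refine IsLocalization.of_le (Algebra.EssFiniteType.submonoid k S) _ ?_ ?_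
    · intro x hx
      change ¬ (x ∈ (maximalIdeal S).comap (algebraMap (Algebra.EssFiniteType.subalgebra k S) S))
      rw [Ideal.mem_comap, IsLocalRing.mem_maximalIdeal, mem_nonunits_iff, not_not]
      exact hx
    · intro r hr
      have hr' : ¬ (r ∈ (maximalIdeal S).comap
          (algebraMap (Algebra.EssFiniteType.subalgebra k S) S)) := hr
      rw [Ideal.mem_comap, IsLocalRing.mem_maximalIdeal, mem_nonunits_iff, not_not] at hr'
      exact hr'
  have e₁ : S ≃ₐ[k] Localization.AtPrime ((maximalIdeal S).comap
      (algebraMap (Algebra.EssFiniteType.subalgebra k S) S)) :=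
    (IsLocalization.algEquiv ((maximalIdeal S).comap
      (algebraMap (Algebra.EssFiniteType.subalgebra k S) S)).primeCompl S
      (Localization.AtPrime ((maximalIdeal S).comap
        (algebraMap (Algebra.EssFiniteType.subalgebra k S) S)))).restrictScalars k
  obtain ⟨n, f, hf⟩ := Algebra.FiniteType.iff_quotient_mvPolynomial''.mp
    (inferInstance : Algebra.FiniteType k (Algebra.EssFiniteType.subalgebra k S))
  let e : (MvPolynomial (Fin n) k ⧸ RingHom.ker f) ≃ₐ[k] Algebra.EssFiniteType.subalgebra k S :=
    Ideal.quotientKerAlgEquivOfSurjective hf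
  have hq : (((maximalIdeal S).comap
      (algebraMap (Algebra.EssFiniteType.subalgebra k S) S)).comap e).IsPrime :=
    Ideal.comap_isPrime _ _
  have eloc := Localization.localAlgEquiv (((maximalIdeal S).comap
      (algebraMap (Algebra.EssFiniteType.subalgebra k S) S)).comap e) ((maximalIdeal S).comap
      (algebraMap (Algebra.EssFiniteType.subalgebra k S) S)) e rfl
  exact ⟨n, RingHom.ker f, _, hq, ⟨e₁.trans eloc.symm⟩⟩

variable {k}

/-- The presentation `P_{q'} → (P/I)_q`. -/
theorem exists_presentation (n : ℕ) (I : Ideal (MvPolynomial (Fin n) k))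
    (q : Ideal (MvPolynomial (Fin n) k ⧸ I)) [q.IsPrime] :
    ∃ π : Localization.AtPrime (q.comap (Ideal.Quotient.mk I)) →ₐ[k] Localization.AtPrime q,
      Function.Surjective π := by
  have hψ : ∀ b : MvPolynomial (Fin n) k ⧸ I, ∃ a s : MvPolynomial (Fin n) k,
      Ideal.Quotient.mk I s ∉ q ∧ Ideal.Quotient.mk I s * b = Ideal.Quotient.mk I a := by
    intro b
    obtain ⟨a, rfl⟩ := Ideal.Quotient.mk_surjective b
    refine ⟨a, 1, ?_, ?_⟩
    · rw [map_one]
      exact (Ideal.ne_top_iff_one _).mp (Ideal.IsPrime.ne_top inferInstance)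
    · rw [map_one, one_mul]
  have hπ_L := Groth.Agent.Lib.Helper82.CISpreadA.localRingHom_surjective
    (Ideal.Quotient.mk I) q (q.comap (Ideal.Quotient.mk I)) rfl hψ
  exact ⟨Localization.localAlgHom (q.comap (Ideal.Quotient.mk I)) q (Ideal.Quotient.mkₐ k I) rfl,
    hπ_L⟩

/-- The localization of `S_g` at `q S_g` is the localization of `S` at `q`. -/
theorem nonempty_algEquiv_localization_away {S : Type u} [CommRing S] [Algebra k S] (q : Ideal S)
    [q.IsPrime] (g : S) (hg : g ∉ q)
    [hP' : (q.map (algebraMap S (Localization.Away g))).IsPrime] :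
    Nonempty (Localization.AtPrime q ≃ₐ[k]
      Localization.AtPrime (q.map (algebraMap S (Localization.Away g)))) := by
  have hdisj : Disjoint (Submonoid.powers g : Set S) (q : Set S) := by
    rw [Set.disjoint_left]
    rintro _ ⟨m, rfl⟩ hm
    exact hg (Ideal.IsPrime.mem_of_pow_mem inferInstance m hm)
  have hcomap : (q.map (algebraMap S (Localization.Away g))).comap
      (algebraMap S (Localization.Away g)) = q :=
    IsLocalization.under_map_of_isPrime_disjoint (Submonoid.powers g) _ inferInstance hdisj
  have hloc1 := IsLocalization.isLocalization_isLocalization_atPrime_isLocalization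
    (Submonoid.powers g) (Localization.AtPrime (q.map (algebraMap S (Localization.Away g))))
    (q.map (algebraMap S (Localization.Away g)))
  have hloc2 : IsLocalization.AtPrime
      (Localization.AtPrime (q.map (algebraMap S (Localization.Away g)))) q :=
    Groth.Agent.Lib.Helper82.GCICM.isLocalization_atPrime_of_eq q _ hcomap hloc1
  exact ⟨(IsLocalization.algEquiv q.primeCompl (Localization.AtPrime q)
    (Localization.AtPrime (q.map (algebraMap S (Localization.Away g))))).restrictScalars k⟩

section Equivalences

variable (S : Type u) [CommRing S] [IsLocalRing S] [Algebra k S]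

/-- (1) ⇒ (2): presentation independence. -/
theorem forall_of_isCIOver (h : Synt.IsCIOver k S)
    (R : Type u) [CommRing R] [IsRegularLocalRing R] [Algebra k R]
    (π : R →ₐ[k] S) (hπ : Function.Surjective π) :
    ∃ rs : List R, IsRegular R rs ∧ RingHom.ker π.toRingHom = Ideal.ofList rs := by
  obtain ⟨R₀, _, hR₀, _, hess, rs₀, hmem, hreg, ⟨e⟩⟩ := h
  let π₀ : R₀ →+* S := (e.symm : (R₀ ⧸ Ideal.ofList rs₀) →+* S).comp
      (Ideal.Quotient.mk (Ideal.ofList rs₀))
  have hπ₀ : Function.Surjective π₀ := e.symm.surjective.comp Ideal.Quotient.mk_surjective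
  have hker₀ : RingHom.ker π₀ = Ideal.ofList rs₀ := by
    change RingHom.ker (((e.symm : (R₀ ⧸ Ideal.ofList rs₀) ≃+* S) :
      (R₀ ⧸ Ideal.ofList rs₀) →+* S).comp (Ideal.Quotient.mk (Ideal.ofList rs₀))) = _
    rw [← RingEquiv.toRingHom_eq_coe, RingHom.ker_equiv_comp, Ideal.mk_ker]
  obtain ⟨rs, hrs, hrsker⟩ :=
    Groth.Agent.Lib.Helper82.CICrit.exists_isRegular_of_exists_isRegular R₀ S π₀ hπ₀
      R π.toRingHom hπ ⟨rs₀, hreg, hker₀.symm⟩
  exact ⟨rs, hrs, hrsker.symm⟩

/-- A surjection from a regular local ring with kernel generated by a regular sequence exhibits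
`S` as a complete intersection. -/
theorem isCIOver_of_presentation (R : Type u) [CommRing R] [IsRegularLocalRing R] [Algebra k R]
    (hess : Algebra.EssFiniteType k R) (π : R →ₐ[k] S) (hπ : Function.Surjective π)
    (rs : List R) (hreg : IsRegular R rs) (hker : RingHom.ker π.toRingHom = Ideal.ofList rs) :
    Synt.IsCIOver k S := by
  have hker' : RingHom.ker π = Ideal.ofList rs := hker
  refine ⟨R, inferInstance, inferInstance, inferInstance, hess, rs, ?_, hreg,
    ⟨(Ideal.quotientKerAlgEquivOfSurjective hπ).symm.trans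
      (Ideal.quotientEquivAlgOfEq k hker')⟩⟩
  intro x hx
  have hne : RingHom.ker π.toRingHom ≠ ⊤ := RingHom.ker_ne_top _
  apply IsLocalRing.le_maximalIdeal hne
  rw [hker]
  exact Ideal.subset_span hx

end Equivalences

end Groth.Agent.Lib.Helper82.CIEssFT
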