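import Groth.Agent.Lib.Helper82.PolyDepth

/-!
# Depth with respect to an ideal generated by `n` elements (local case)

* `idealDepth_sup_span_le` : `depth_{a' + (x)}(M) ≤ depth_{a'}(M) + 1`
* `idealDepth_span_le_length` : `depth_{(xs)}(M) ≤ xs.length`
* `idealDepth_span_eq_length_iff` : `depth_{(xs)}(M) = xs.length ↔ xs` is `M`-regular.
-/

set_option autoImplicit false

namespace Groth.Agent.Lib.Helper82.DepthGens

open LocCoh RingTheory.Sequence Groth.Agent.Lib.Helper93.Depth Groth.Agent.Lib.Helper29
open Groth.Agent.Lib.Helper82.PolyDepth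
open scoped Pointwise

universe u

variable {R : Type u} [CommRing R] [IsNoetherianRing R] [IsLocalRing R]

omit [IsNoetherianRing R] in
theorem smul_top_ne_top_of_le {I : Ideal R} (hI : I ≤ IsLocalRing.maximalIdeal R)
    (N : Type u) [AddCommGroup N] [Module R N] [Module.Finite R N] [Nontrivial N] :
    I • (⊤ : Submodule R N) ≠ ⊤ := by
  intro h
  have h2 : I • (⊤ : Submodule R N) ≤ IsLocalRing.maximalIdeal R • (⊤ : Submodule R N) :=
    Submodule.smul_mono_left hI
  rw [h] at h2
  exact maximalIdeal_smul_top_ne_top R N (top_le_iff.mp h2)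

omit [IsNoetherianRing R] in
/-- A nonzero element killed by `I` forces depth zero. -/
theorem idealDepth_eq_zero_of_killed {I : Ideal R} (hI : I ≤ IsLocalRing.maximalIdeal R)
    (N : Type u) [AddCommGroup N] [Module R N] [Module.Finite R N] (w : N) (hw : w ≠ 0)
    (hkill : ∀ β ∈ I, β • w = 0) : idealDepth I N = 0 := by
  have : Nontrivial N := ⟨⟨w, 0, hw⟩⟩
  by_contra hne
  have h1 := Order.one_le_iff_ne_zero.2 hne
  rw [one_le_idealDepth_iff] at h1
  rcases h1 with h1 | ⟨x, hx, hreg⟩
  · exact smul_top_ne_top_of_le hI N h1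
  · rw [isSMulRegular_iff_right_eq_zero_of_smul] at hreg
    exact hw (hreg _ (hkill x hx))

/-- If every element of `a` is a zero divisor on a nonzero finite module over a Noetherian ring,
some nonzero element is killed by `a` (Ass + prime avoidance; same statement as helper12's
`exists_ne_zero_smul_eq_zero`). -/
theorem exists_ne_zero_killed {A : Type u} [CommRing A] [IsNoetherianRing A]
    (N : Type u) [AddCommGroup N] [Module A N]
    [Module.Finite A N] (a : Ideal A) (h : ∀ y ∈ a, ¬ IsSMulRegular N y) :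
    ∃ x : N, x ≠ 0 ∧ ∀ y ∈ a, y • x = 0 := by
  have hsub : (a : Set A) ⊆ ⋃ p ∈ ((associatedPrimes.finite A N).toFinset : Set (Ideal A)),
      ((id p : Ideal A) : Set A) := by
    intro y hy
    have : y ∈ {r | IsSMulRegular N r}ᶜ := h y hy
    rw [← biUnion_associatedPrimes_eq_compl_regular] at this
    simpa using this
  rw [Ideal.subset_union_prime (⊥ : Ideal A) ⊥ (fun p hp _ _ => by
    have : p ∈ associatedPrimes A N := by simpa using hp
    exact this.isPrime)] at hsub
  obtain ⟨p, hp, hap⟩ := hsub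
  have hp' : IsAssociatedPrime p N := by
    have : p ∈ associatedPrimes A N := by simpa using hp
    exact this
  obtain ⟨hprime, f, hf⟩ := (isAssociatedPrime_iff_exists_injective_linearMap p N).mp hp'
  refine ⟨f 1, ?_, fun y hy => ?_⟩
  · intro h0
    have h1 : (1 : A ⧸ p) = 0 := hf (h0.trans (map_zero f).symm)
    have : (1 : A) ∈ p := Ideal.Quotient.eq_zero_iff_mem.mp h1
    exact hprime.ne_top ((Ideal.eq_top_iff_one p).mpr this)
  · rw [← map_smul]
    have : y • (1 : A ⧸ p) = 0 := by
      rw [Algebra.smul_def, mul_one]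
      exact Ideal.Quotient.eq_zero_iff_mem.mpr (hap hy)
    rw [this, map_zero]

/-- Key step: if `depth_{a'}(N) = 0` then `depth_{a' + (x)}(N) ≤ 1`. -/
theorem idealDepth_sup_span_le_one (a' : Ideal R) (x : R)
    (ha' : a' ≤ IsLocalRing.maximalIdeal R) (hx : x ∈ IsLocalRing.maximalIdeal R)
    (N : Type u) [AddCommGroup N] [Module R N] [Module.Finite R N]
    (h0 : idealDepth a' N = 0) : idealDepth (a' ⊔ Ideal.span {x}) N ≤ 1 := by
  classical
  have hb : a' ⊔ Ideal.span {x} ≤ IsLocalRing.maximalIdeal R :=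
    sup_le ha' ((Ideal.span_singleton_le_iff_mem _).mpr hx)
  -- `N` is nontrivial
  have hnt : Nontrivial N := by
    by_contra hN
    rw [not_nontrivial_iff_subsingleton] at hN
    have : idealDepth a' N = ⊤ := by
      unfold LocCoh.idealDepth
      rw [if_pos (Subsingleton.elim _ _)]
    rw [this] at h0
    exact absurd h0 (by simp)
  -- a nonzero element killed by `a'`
  have hzd : ∀ y ∈ a', ¬ IsSMulRegular N y := by
    intro y hy hreg
    have : (1 : ℕ∞) ≤ idealDepth a' N := one_le_idealDepth_iff.mpr (Or.inr ⟨y, hy, hreg⟩)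
    rw [h0] at this
    exact absurd this (by simp)
  obtain ⟨v, hv0, hv⟩ := exists_ne_zero_killed N a' hzd
  by_contra hcon
  rw [not_le] at hcon
  have h2 : (2 : ℕ∞) ≤ idealDepth (a' ⊔ Ideal.span {x}) N := by
    have := Order.add_one_le_of_lt hcon
    simpa [one_add_one_eq_two] using this
  have h1 : (1 : ℕ∞) ≤ idealDepth (a' ⊔ Ideal.span {x}) N := le_trans (by norm_num) h2
  rw [one_le_idealDepth_iff] at h1
  rcases h1 with h1 | ⟨z, hz, hzreg⟩
  · exact smul_top_ne_top_of_le hb N h1
  -- decompose `z`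
  obtain ⟨α₀, hα₀, y, hy, hzy⟩ := Submodule.mem_sup.mp hz
  obtain ⟨r, rfl⟩ := Ideal.mem_span_singleton'.mp hy
  have hzreg' := isSMulRegular_iff_right_eq_zero_of_smul.mp hzreg
  -- the submodule killed by `a'`
  let T : Submodule R N :=
    { carrier := {w | ∀ α ∈ a', α • w = 0}
      add_mem' := fun {u w} hu hw α hα => by rw [smul_add, hu α hα, hw α hα, add_zero]
      zero_mem' := fun α _ => smul_zero α
      smul_mem' := fun c w hw α hα => by rw [smul_comm, hw α hα, smul_zero] }
  have hzT : ∀ t ∈ T, z • t = x • (r • t) := by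
    intro t ht
    rw [← hzy, add_smul, ht α₀ hα₀, zero_add, mul_comm, mul_smul]
  -- main dichotomy
  have hex : ∃ w ∈ T, (∃ w', x • w = z • w') ∧ ¬ ∃ t ∈ T, w = z • t := by
    by_contra hno
    have hH : ∀ w ∈ T, (∃ w', x • w = z • w') → ∃ t ∈ T, w = z • t := by
      intro w hw hxw
      by_contra hc
      exact hno ⟨w, hw, hxw, hc⟩
    -- `S = r • T` satisfies `S ≤ (x) • S`
    let S : Submodule R N := T.map (LinearMap.lsmul R N r)
    have hS : S ≤ (Ideal.span {x} : Ideal R) • S := by
      rintro _ ⟨t, ht, rfl⟩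
      have hrt : r • t ∈ T := T.smul_mem r ht
      obtain ⟨t', ht', ht'eq⟩ := hH (r • t) hrt ⟨t, (hzT t ht).symm⟩
      show r • t ∈ _
      rw [ht'eq, hzT t' ht']
      exact Submodule.smul_mem_smul (Ideal.subset_span rfl) ⟨t', ht', rfl⟩
    have hSbot : S = ⊥ :=
      Submodule.eq_bot_of_le_smul_of_le_jacobson_bot (Ideal.span {x}) S
        (IsNoetherian.noetherian S) hS
        (le_trans ((Ideal.span_singleton_le_iff_mem _).mpr hx)
          (IsLocalRing.maximalIdeal_le_jacobson ⊥))
    have hvT : v ∈ T := hv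
    have hrv : r • v = 0 := by
      have : r • v ∈ S := ⟨v, hvT, rfl⟩
      rw [hSbot] at this
      exact this
    have : z • v = 0 := by rw [hzT v hvT, hrv, smul_zero]
    exact hv0 (hzreg' v this)
  obtain ⟨w, hwT, ⟨w', hw'⟩, hwn⟩ := hex
  -- `w ∉ z N`
  have hwz : ¬ ∃ u, w = z • u := by
    rintro ⟨u, hu⟩
    apply hwn
    refine ⟨u, fun α hα => ?_, hu⟩
    apply hzreg'
    rw [smul_comm, ← hu]
    exact hwT α hα
  -- the class of `w` in `N / zN` is nonzero and killed by `b`
  have hwbar : (Submodule.Quotient.mk w : QuotSMulTop z N) ≠ 0 := by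
    intro h
    rw [Submodule.Quotient.mk_eq_zero] at h
    obtain ⟨u, -, hu⟩ := (Submodule.mem_smul_pointwise_iff_exists _ _ _).mp h
    exact hwz ⟨u, hu.symm⟩
  have hkill : ∀ β ∈ a' ⊔ Ideal.span {x},
      β • (Submodule.Quotient.mk w : QuotSMulTop z N) = 0 := by
    intro β hβ
    obtain ⟨α', hα', y, hy, rfl⟩ := Submodule.mem_sup.mp hβ
    obtain ⟨s, rfl⟩ := Ideal.mem_span_singleton'.mp hy
    rw [← Submodule.Quotient.mk_smul, Submodule.Quotient.mk_eq_zero, add_smul, hwT α' hα',
      zero_add, mul_smul, hw', smul_comm]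
    exact Submodule.smul_mem_pointwise_smul _ _ _ Submodule.mem_top
  have hq0 : idealDepth (a' ⊔ Ideal.span {x}) (QuotSMulTop z N) = 0 :=
    idealDepth_eq_zero_of_killed hb _ _ hwbar hkill
  have hq1 := idealDepth_quotSMulTop_add_one (a' ⊔ Ideal.span {x}) N hz hzreg
  rw [hq0, zero_add] at hq1
  rw [← hq1] at h2
  exact absurd h2 (by norm_num)

theorem enat_eq_zero_of_add_eq {k : ℕ} {d : ℕ∞} (h : (k : ℕ∞) = k + d) : d = 0 := by
  induction d with
  | top => simp at h
  | coe d =>
    have h' : k = k + d := by exact_mod_cast h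
    have : d = 0 := by omega
    rw [this]; rfl

/-- Adding one generator (in the maximal ideal) raises the depth by at most one. -/
theorem idealDepth_sup_span_le (a' : Ideal R) (x : R)
    (ha' : a' ≤ IsLocalRing.maximalIdeal R) (hx : x ∈ IsLocalRing.maximalIdeal R)
    (M : Type u) [AddCommGroup M] [Module R M] [Module.Finite R M] [Nontrivial M] :
    idealDepth (a' ⊔ Ideal.span {x}) M ≤ idealDepth a' M + 1 := by
  have hne : idealDepth a' M ≠ ⊤ := by
    intro h
    have h1 := idealDepth_mono ha' M
    rw [h, top_le_iff] at h1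
    exact depth_ne_top R M h1
  obtain ⟨k, hk⟩ := ENat.ne_top_iff_exists.mp hne
  have hk' : (k : ℕ∞) ≤ idealDepth a' M := hk.le
  rw [le_idealDepth_iff] at hk'
  rcases hk' with hk' | ⟨rs, hlen, hmem, hreg⟩
  · exact absurd hk' (smul_top_ne_top_of_le ha' M)
  have e1 := idealDepth_eq_length_add a' rs M hreg hmem
  have e2 := idealDepth_eq_length_add (a' ⊔ Ideal.span {x}) rs M hreg
    (fun r hr => (le_sup_left : a' ≤ a' ⊔ Ideal.span {x}) (hmem r hr))
  rw [hlen, ← hk] at e1
  have h0 : idealDepth a' (M ⧸ (Ideal.ofList rs • ⊤ : Submodule R M)) = 0 :=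
    enat_eq_zero_of_add_eq e1
  have h1 := idealDepth_sup_span_le_one a' x ha' hx _ h0
  rw [e2, hlen, ← hk]
  gcongr

/-- The depth with respect to an ideal generated by `n` elements of the maximal ideal is at
most `n`. -/
theorem idealDepth_span_le_length (M : Type u) [AddCommGroup M] [Module R M] [Module.Finite R M]
    [Nontrivial M] : ∀ (xs : List R), (∀ x ∈ xs, x ∈ IsLocalRing.maximalIdeal R) →
      idealDepth (Ideal.ofList xs) M ≤ xs.length := by
  intro xs
  induction xs with
  | nil =>
    intro _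
    obtain ⟨w, hw⟩ := exists_ne (0 : M)
    rw [Ideal.ofList_nil, idealDepth_eq_zero_of_killed bot_le M w hw (fun β hβ => by
      rw [(Submodule.mem_bot R).mp hβ, zero_smul])]
    simp
  | cons x xs ih =>
    intro hmem
    have hxs : ∀ y ∈ xs, y ∈ IsLocalRing.maximalIdeal R := fun y hy =>
      hmem y (List.mem_cons_of_mem _ hy)
    have hx : x ∈ IsLocalRing.maximalIdeal R := hmem x (List.mem_cons_self ..)
    have hle : Ideal.ofList xs ≤ IsLocalRing.maximalIdeal R := Ideal.span_le.mpr hxs
    have hsup : Ideal.ofList (x :: xs) = Ideal.ofList xs ⊔ Ideal.span {x} := by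
      rw [Ideal.ofList_cons, sup_comm]
    rw [hsup]
    refine le_trans (idealDepth_sup_span_le _ x hle hx M) ?_
    rw [List.length_cons]
    push_cast
    gcongr
    exact ih hxs

omit [IsNoetherianRing R] in
theorem quotient_ofList_nontrivial (xs : List R)
    (hxs : ∀ x ∈ xs, x ∈ IsLocalRing.maximalIdeal R)
    (M : Type u) [AddCommGroup M] [Module R M] [Module.Finite R M] [Nontrivial M] :
    Nontrivial (M ⧸ (Ideal.ofList xs • ⊤ : Submodule R M)) :=
  Submodule.Quotient.nontrivial_iff.mpr
    (smul_top_ne_top_of_le (Ideal.span_le.mpr hxs) M)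

omit [IsNoetherianRing R] in
theorem smul_quotient_ofList_eq_zero (xs : List R) (M : Type u) [AddCommGroup M] [Module R M]
    {β : R} (hβ : β ∈ Ideal.ofList xs) (q : M ⧸ (Ideal.ofList xs • ⊤ : Submodule R M)) :
    β • q = 0 := by
  obtain ⟨u, rfl⟩ := Submodule.Quotient.mk_surjective _ q
  rw [← Submodule.Quotient.mk_smul, Submodule.Quotient.mk_eq_zero]
  exact Submodule.smul_mem_smul hβ Submodule.mem_top

omit [IsNoetherianRing R] in
theorem idealDepth_quotient_ofList_eq_zero (xs : List R)
    (hxs : ∀ x ∈ xs, x ∈ IsLocalRing.maximalIdeal R)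
    (M : Type u) [AddCommGroup M] [Module R M] [Module.Finite R M] [Nontrivial M] :
    idealDepth (Ideal.ofList xs) (M ⧸ (Ideal.ofList xs • ⊤ : Submodule R M)) = 0 := by
  have := quotient_ofList_nontrivial xs hxs M
  obtain ⟨w, hw⟩ := exists_ne (0 : M ⧸ (Ideal.ofList xs • ⊤ : Submodule R M))
  exact idealDepth_eq_zero_of_killed (Ideal.span_le.mpr hxs) _ w hw
    (fun β hβ => smul_quotient_ofList_eq_zero xs M hβ w)

theorem enat_one_le_of_add_eq {k : ℕ} {d : ℕ∞} (h : ((k + 1 : ℕ) : ℕ∞) = k + d) : 1 ≤ d := by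
  induction d with
  | top => exact le_top
  | coe d =>
    have h' : k + 1 = k + d := by exact_mod_cast h
    have : 1 ≤ d := by omega
    exact_mod_cast this

theorem enat_le_of_succ_le_add_one {k : ℕ} {D : ℕ∞} (h : ((k + 1 : ℕ) : ℕ∞) ≤ D + 1) :
    (k : ℕ∞) ≤ D := by
  induction D with
  | top => exact le_top
  | coe D =>
    have h' : k + 1 ≤ D + 1 := by exact_mod_cast h
    have : k ≤ D := by omega
    exact_mod_cast this

/-- `depth_{(xs)}(M) = xs.length` iff `xs` is an `M`-regular sequence (Noetherian local ring,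
`M` finite nonzero, `xs` in the maximal ideal). -/
theorem idealDepth_span_eq_length_iff (M : Type u) [AddCommGroup M] [Module R M]
    [Module.Finite R M] [Nontrivial M] :
    ∀ (xs : List R), (∀ x ∈ xs, x ∈ IsLocalRing.maximalIdeal R) →
      (idealDepth (Ideal.ofList xs) M = xs.length ↔ IsWeaklyRegular M xs) := by
  intro xs hxs
  constructor
  · revert hxs
    induction xs using List.reverseRecOn with
    | nil => intro _ _; exact IsWeaklyRegular.nil R M
    | append_singleton xs x ih =>
      intro hxs hd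
      have hmem : ∀ y ∈ xs, y ∈ IsLocalRing.maximalIdeal R := fun y hy =>
        hxs y (List.mem_append_left _ hy)
      have hx : x ∈ IsLocalRing.maximalIdeal R := hxs x (by simp)
      have hle : Ideal.ofList xs ≤ IsLocalRing.maximalIdeal R := Ideal.span_le.mpr hmem
      have hsup : Ideal.ofList (xs ++ [x]) = Ideal.ofList xs ⊔ Ideal.span {x} := by
        rw [Ideal.ofList_append, Ideal.ofList_singleton]
      rw [hsup, List.length_append, List.length_singleton] at hd
      have hF2 := idealDepth_sup_span_le (Ideal.ofList xs) x hle hx M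
      have hF1 := idealDepth_span_le_length M xs hmem
      rw [hd] at hF2
      have hD : idealDepth (Ideal.ofList xs) M = xs.length :=
        le_antisymm hF1 (enat_le_of_succ_le_add_one hF2)
      have hreg : IsWeaklyRegular M xs := ih hmem hD
      have e := idealDepth_eq_length_add (Ideal.ofList xs ⊔ Ideal.span {x}) xs M hreg
        (fun r hr => (le_sup_left : Ideal.ofList xs ≤ _) (Ideal.subset_span hr))
      rw [hd] at e
      have h1 := enat_one_le_of_add_eq e
      have := quotient_ofList_nontrivial xs hmem M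
      rw [one_le_idealDepth_iff] at h1
      rcases h1 with h1 | ⟨z, hz, hzreg⟩
      · exact absurd h1 (smul_top_ne_top_of_le
          (sup_le hle ((Ideal.span_singleton_le_iff_mem _).mpr hx)) _)
      · obtain ⟨α, hα, y, hy, rfl⟩ := Submodule.mem_sup.mp hz
        obtain ⟨r, rfl⟩ := Ideal.mem_span_singleton'.mp hy
        have hzreg' := isSMulRegular_iff_right_eq_zero_of_smul.mp hzreg
        have hxreg : IsSMulRegular (M ⧸ (Ideal.ofList xs • ⊤ : Submodule R M)) x := by
          rw [isSMulRegular_iff_right_eq_zero_of_smul]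
          intro q hq
          apply hzreg'
          rw [add_smul, smul_quotient_ofList_eq_zero xs M hα, zero_add, mul_smul, hq, smul_zero]
        exact (isWeaklyRegular_append_iff M xs [x]).mpr
          ⟨hreg, (isWeaklyRegular_singleton_iff _ x).mpr hxreg⟩
  · intro hreg
    rw [idealDepth_eq_length_add (Ideal.ofList xs) xs M hreg (fun r hr => Ideal.subset_span hr),
      idealDepth_quotient_ofList_eq_zero xs hxs M, add_zero]

end Groth.Agent.Lib.Helper82.DepthGens
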