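import Groth.Agent.Lib.Helper82.Acyclicity
import Groth.Agent.Lib.Helper82.DepthGens
import Groth.Agent.Lib.Helper93.DepthHom

/-!
# Acyclicity for cochain complexes with finite-length cohomology

Over a Noetherian local ring, a cochain complex `K^0 → K^1 → ⋯` of finite modules of depth `≥ g`
whose cohomology modules `H^i`, `i < g`, have finite length satisfies `H^i = 0` for `i < g`.
-/

set_option autoImplicit false

namespace Groth.Agent.Lib.Helper82.CochainAcyclic

open CategoryTheory HomologicalComplex LocCoh Groth.Agent.Lib.Helper82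
open Groth.Agent.Lib.Helper82.DepthGens Groth.Agent.Lib.Helper29 Groth.Agent.Lib.Helper93.Depth

universe u

section General

variable {R : Type u} [CommRing R] {ι : Type*} {c : ComplexShape ι}
variable (K : HomologicalComplex (ModuleCat.{u} R) c) (j k : ι) (hk : c.next j = k)

/-- The homology class map on the kernel of the differential, as a linear map. -/
noncomputable def hclL : LinearMap.ker (K.d j k).hom →ₗ[R] K.homology j :=
  (K.homologyπ j).hom ∘ₗ (kerToCycles K j k hk).hom

lemma hclL_apply (z : LinearMap.ker (K.d j k).hom) :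
    hclL K j k hk z = hcl K j k hk z.1 (LinearMap.mem_ker.mp z.2) := rfl

lemma hclL_surjective : Function.Surjective (hclL K j k hk) := by
  intro h
  obtain ⟨x, hx, rfl⟩ := hcl_surjective K j k hk h
  exact ⟨⟨x, hx⟩, rfl⟩

lemma hclL_eq_zero_iff (i : ι) (hi : c.prev j = i) (z : LinearMap.ker (K.d j k).hom) :
    hclL K j k hk z = 0 ↔ z.1 ∈ LinearMap.range (K.d i j).hom := by
  rw [hclL_apply, hcl_eq_zero_iff K j k hk i hi]
  rfl

end General

section Socle

variable {R : Type u} [CommRing R] [IsLocalRing R] [IsNoetherianRing R]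

/-- A nonzero module of finite length over a local ring has a nonzero element killed by the maximal
ideal. -/
theorem exists_ne_zero_killed_of_isFiniteLength (N : Type u) [AddCommGroup N] [Module R N]
    [Module.Finite R N] [Nontrivial N] (hfl : IsFiniteLength R N) :
    ∃ x : N, x ≠ 0 ∧ ∀ y ∈ IsLocalRing.maximalIdeal R, y • x = 0 := by
  apply exists_ne_zero_killed N (IsLocalRing.maximalIdeal R)
  intro y hy hreg
  have hart : IsArtinian R N := (isFiniteLength_iff_isNoetherian_isArtinian.mp hfl).2
  have hinj : Function.Injective (LinearMap.lsmul R N y) := hreg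
  have hsurj := IsArtinian.surjective_of_injective_endomorphism _ hinj
  have hle : (⊤ : Submodule R N) ≤ IsLocalRing.maximalIdeal R • (⊤ : Submodule R N) := by
    intro x _
    obtain ⟨z, rfl⟩ := hsurj x
    exact Submodule.smul_mem_smul hy Submodule.mem_top
  have hbot := Submodule.eq_bot_of_le_smul_of_le_jacobson_bot (IsLocalRing.maximalIdeal R)
    (⊤ : Submodule R N) Module.Finite.fg_top hle (IsLocalRing.maximalIdeal_le_jacobson ⊥)
  exact top_ne_bot hbot

end Socle

section Main

variable {R : Type u} [CommRing R] [IsLocalRing R] [IsNoetherianRing R]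
variable (K : CochainComplex (ModuleCat.{u} R) ℕ)

/-- Coboundaries. -/
noncomputable def Bc : (i : ℕ) → Submodule R (K.X i)
  | 0 => ⊥
  | (i + 1) => LinearMap.range (K.d i (i + 1)).hom

/-- Cocycles. -/
abbrev Zc (i : ℕ) : Submodule R (K.X i) := LinearMap.ker (K.d i (i + 1)).hom

lemma next_eq (i : ℕ) : (ComplexShape.up ℕ).next i = i + 1 := by simp

omit [IsLocalRing R] [IsNoetherianRing R] in
lemma Bc_le_Zc (i : ℕ) : Bc K i ≤ Zc K i := by
  cases i with
  | zero => exact bot_le
  | succ i =>
    rintro _ ⟨y, rfl⟩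
    exact LinearMap.congr_fun (congrArg ModuleCat.Hom.hom (K.d_comp_d i (i + 1) (i + 2))) y

omit [IsLocalRing R] [IsNoetherianRing R] in
lemma hclL_eq_zero_iff_mem_Bc (i : ℕ) (z : Zc K i) :
    hclL K i (i + 1) (next_eq i) z = 0 ↔ z.1 ∈ Bc K i := by
  cases i with
  | zero =>
    rw [hclL_eq_zero_iff K 0 1 (next_eq 0) 0 (by simp)]
    have h0 : K.d 0 0 = 0 := K.shape 0 0 (by simp)
    rw [h0]
    simp [Bc]
  | succ i =>
    rw [hclL_eq_zero_iff K (i + 1) (i + 2) (next_eq (i + 1)) i (by simp)]
    rfl

theorem enat_one_le_of_le_add {g i : ℕ} (hi : i < g) {dd : ℕ∞} (h : (g : ℕ∞) ≤ dd + i) :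
    1 ≤ dd := by
  induction dd with
  | top => exact le_top
  | coe dd =>
    have h' : g ≤ dd + i := by exact_mod_cast h
    have : 1 ≤ dd := by omega
    exact_mod_cast this

theorem enat_le_add_succ {g i : ℕ} {a b : ℕ∞} (ha : (g : ℕ∞) ≤ a) (hb : (g : ℕ∞) ≤ b + i) :
    (g : ℕ∞) ≤ min a (b - 1) + (i + 1 : ℕ) := by
  rw [← min_add_add_right]
  refine le_min (le_trans ha le_self_add) ?_
  induction b with
  | top => simp
  | coe b =>
    have h' : g ≤ b + i := by exact_mod_cast hb
    have h3 : ((b : ℕ∞) - 1) = ((b - 1 : ℕ) : ℕ∞) := by simp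
    rw [h3]
    have : g ≤ (b - 1) + (i + 1) := by omega
    exact_mod_cast this

theorem subsingleton_homology_of_isFiniteLength (g : ℕ)
    (hfin : ∀ i, Module.Finite R (K.X i))
    (hdepth : ∀ i, (g : ℕ∞) ≤ LocCoh.depth R (K.X i))
    (hfl : ∀ i, i < g → IsFiniteLength R (K.homology i)) :
    ∀ i, i < g → Subsingleton (K.homology i) := by
  have hnoeth : ∀ j, IsNoetherian R (K.X j) := fun j =>
    have := hfin j
    isNoetherian_of_isNoetherianRing_of_finite R (K.X j)
  have finSub : ∀ j (N : Submodule R (K.X j)), Module.Finite R N := fun j N =>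
    have := hnoeth j
    Module.Finite.iff_fg.mpr (IsNoetherian.noetherian N)
  have finQ : ∀ j (N : Submodule R (K.X j)), Module.Finite R (K.X j ⧸ N) := fun j N =>
    have := hfin j
    inferInstance
  -- the vanishing step
  have vanish : ∀ i, i < g → (g : ℕ∞) ≤ LocCoh.depth R (K.X i ⧸ Bc K i) + i →
      Subsingleton (K.homology i) := by
    intro i hi hd
    have h1 : 1 ≤ LocCoh.depth R (K.X i ⧸ Bc K i) := enat_one_le_of_le_add hi hd
    by_contra hns
    rw [not_subsingleton_iff_nontrivial] at hns
    have := finSub i (Zc K i)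
    have : Module.Finite R (K.homology i) :=
      Module.Finite.of_surjective (hclL K i (i + 1) (next_eq i)) (hclL_surjective K i (i + 1) _)
    obtain ⟨h, hne, hkill⟩ := exists_ne_zero_killed_of_isFiniteLength (K.homology i) (hfl i hi)
    obtain ⟨z, rfl⟩ := hclL_surjective K i (i + 1) (next_eq i) h
    have hz : z.1 ∉ Bc K i := fun hmem => hne ((hclL_eq_zero_iff_mem_Bc K i z).mpr hmem)
    have := finQ i (Bc K i)
    have h0 := idealDepth_eq_zero_of_killed (le_refl (IsLocalRing.maximalIdeal R))
      (K.X i ⧸ Bc K i) ((Bc K i).mkQ z.1)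
      (by rwa [Submodule.mkQ_apply, Ne, Submodule.Quotient.mk_eq_zero])
      (by
        intro y hy
        rw [← map_smul, Submodule.mkQ_apply, Submodule.Quotient.mk_eq_zero]
        have : hclL K i (i + 1) (next_eq i) (y • z) = 0 := by rw [map_smul, hkill y hy]
        exact (hclL_eq_zero_iff_mem_Bc K i (y • z)).mp this)
    rw [LocCoh.depth, h0] at h1
    exact absurd h1 (by simp)
  -- the induction
  have claim : ∀ i, i ≤ g → (∀ j, j < i → Subsingleton (K.homology j)) ∧
      (g : ℕ∞) ≤ LocCoh.depth R (K.X i ⧸ Bc K i) + i := by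
    intro i
    induction i with
    | zero =>
      intro _
      refine ⟨fun j hj => absurd hj (Nat.not_lt_zero j), ?_⟩
      have e : (K.X 0 ⧸ Bc K 0) ≃ₗ[R] K.X 0 := Submodule.quotEquivOfEqBot _ rfl
      rw [LocCoh.depth, idealDepth_congr e]
      exact le_trans (hdepth 0) le_self_add
    | succ i ih =>
      intro hi
      obtain ⟨hj, hd⟩ := ih (by omega)
      have hHi : Subsingleton (K.homology i) := vanish i (by omega) hd
      refine ⟨fun j hjlt => ?_, ?_⟩
      · rcases Nat.lt_succ_iff_lt_or_eq.mp hjlt with h | rfl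
        · exact hj j h
        · exact hHi
      · -- SES 0 → Q i → K.X (i+1) → Q (i+1) → 0
        have hZB : Zc K i ≤ Bc K i := by
          intro x hx
          exact (hclL_eq_zero_iff_mem_Bc K i ⟨x, hx⟩).mp (Subsingleton.elim _ _)
        have := finQ i (Bc K i)
        have := finQ (i + 1) (Bc K (i + 1))
        have := hfin (i + 1)
        have ses := (idealDepth_shortExact (IsLocalRing.maximalIdeal R) (K.X i ⧸ Bc K i)
          (K.X (i + 1)) (K.X (i + 1) ⧸ Bc K (i + 1))
          ((Bc K i).liftQ (K.d i (i + 1)).hom (Bc_le_Zc K i)) (Bc K (i + 1)).mkQ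
          (by
            rw [← LinearMap.ker_eq_bot, Submodule.ker_liftQ, eq_bot_iff]
            rintro _ ⟨x, hx, rfl⟩
            rw [Submodule.mem_bot, Submodule.mkQ_apply, Submodule.Quotient.mk_eq_zero]
            exact hZB hx)
          (Submodule.mkQ_surjective _)
          (by
            rw [LinearMap.exact_iff, Submodule.ker_mkQ, Submodule.range_liftQ]
            rfl)).2.1
        refine le_trans ?_ (add_le_add ses le_rfl)
        exact enat_le_add_succ (hdepth (i + 1)) hd
  intro i hi
  exact vanish i hi (claim i hi.le).2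

/-- Finite free modules have depth at least the depth of the ring. -/
theorem depth_le_depth_of_free (F : Type u) [AddCommGroup F] [Module R F] [Module.Free R F]
    [Module.Finite R F] : LocCoh.depth R R ≤ LocCoh.depth R F := by
  have e : F ≃ₗ[R] (Fin (Module.finrank R F) → R) := (Module.finBasis R F).equivFun
  rw [LocCoh.depth, LocCoh.depth, idealDepth_congr e]
  exact idealDepth_le_pi_fin _ R _

theorem isZero_homology_of_free (g : ℕ) (hg : (g : ℕ∞) ≤ LocCoh.depth R R)
    (hfree : ∀ i, Module.Free R (K.X i) ∧ Module.Finite R (K.X i))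
    (hfl : ∀ i, IsFiniteLength R (K.homology i)) (i : ℕ) (hi : i < g) :
    Limits.IsZero (K.homology i) := by
  have := subsingleton_homology_of_isFiniteLength K g (fun i => (hfree i).2)
    (fun i => by
      have := (hfree i).1
      have := (hfree i).2
      exact le_trans hg (depth_le_depth_of_free (K.X i)))
    (fun i _ => hfl i) i hi
  exact ModuleCat.isZero_of_subsingleton _

/-- Cohen–Macaulay case. -/
theorem isZero_homology_of_isCohenMacaulayLocalRing {R : Type u} [CommRing R]
    [hCM : LocCoh.IsCohenMacaulayLocalRing R] (g : ℕ) (hg : ringKrullDim R = g)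
    (K : CochainComplex (ModuleCat.{u} R) ℕ)
    (hfree : ∀ i, Module.Free R (K.X i) ∧ Module.Finite R (K.X i))
    (hfl : ∀ i, IsFiniteLength R (K.homology i)) (i : ℕ) (hi : i < g) :
    Limits.IsZero (K.homology i) := by
  refine isZero_homology_of_free K g ?_ hfree hfl i hi
  have h1 := hCM.supportDim_eq_depth
  rw [Module.supportDim_self_eq_ringKrullDim, hg] at h1
  have h2 : ((g : ℕ∞) : WithBot ℕ∞) = ((LocCoh.depth R R : ℕ∞) : WithBot ℕ∞) := by
    exact_mod_cast h1
  exact (WithBot.coe_injective h2).le

end Main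

end Groth.Agent.Lib.Helper82.CochainAcyclic
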