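import Mathlib
import Groth.Agent.Lib.Helper73.LeftDerivedLES
import Groth.Agent.Lib.Helper73.ProjRes

/-!
# Tor over the node `k[x,y]/(xy)` (helper82)
-/

set_option autoImplicit false

namespace Groth.Agent.Lib.Helper82.NodeTor

open CategoryTheory Limits MonoidalCategory

universe u v u' v'

theorem leftDerived_shift {C : Type u} [Category.{v} C] [Abelian C] [HasProjectiveResolutions C]
    {D : Type u'} [Category.{v'} D] [Abelian D] (F : C ⥤ D) [F.Additive]
    [PreservesFiniteColimits F]
    {S : ShortComplex C} (hS : S.ShortExact) [Projective S.X₂] (hf : F.map S.f = 0) (n : ℕ) :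
    Nonempty ((F.leftDerived (n + 1)).obj S.X₃ ≅ (F.leftDerived n).obj S.X₁) := by
  obtain ⟨-, δ, w₁, w₂, h₁, h₂⟩ := Groth.Agent.Lib.Helper73.leftDerived_les F hS n
  have hz : IsZero ((F.leftDerived (n + 1)).obj S.X₂) :=
    F.isZero_leftDerived_obj_projective_succ n S.X₂
  have hmap : (F.leftDerived n).map S.f = 0 := by
    cases n with
    | zero =>
      have hnat := F.fromLeftDerivedZero.naturality S.f
      rw [hf, comp_zero] at hnat
      exact (cancel_mono (F.fromLeftDerivedZero.app S.X₂)).1 (by rw [hnat, zero_comp])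
    | succ m => exact (F.isZero_leftDerived_obj_projective_succ m S.X₂).eq_of_tgt _ _
  have hm : Mono δ := h₁.mono_g (hz.eq_of_src _ _)
  have he : Epi δ := h₂.epi_f hmap
  have : IsIso δ := isIso_of_mono_of_epi δ
  exact ⟨asIso δ⟩

section ModuleCat

variable {A : Type u} [CommRing A]

lemma length_eq_of_iso {M N : ModuleCat.{u} A} (e : M ≅ N) :
    Module.length A M = Module.length A N :=
  e.toLinearEquiv.length_eq

lemma length_obj_prod (G : ModuleCat.{u} A ⥤ ModuleCat.{u} A) [G.Additive]
    (M N : Type u) [AddCommGroup M] [Module A M] [AddCommGroup N] [Module A N] :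
    Module.length A (G.obj (ModuleCat.of A (M × N))) =
      Module.length A (G.obj (ModuleCat.of A M)) + Module.length A (G.obj (ModuleCat.of A N)) := by
  have e1 : G.obj (ModuleCat.of A (M × N)) ≅ G.obj (ModuleCat.of A M ⊞ ModuleCat.of A N) :=
    G.mapIso (ModuleCat.biprodIsoProd (ModuleCat.of A M) (ModuleCat.of A N)).symm
  have : PreservesBinaryBiproducts G := preservesBinaryBiproducts_of_preservesBiproducts G
  have e2 : G.obj (ModuleCat.of A M ⊞ ModuleCat.of A N) ≅
      G.obj (ModuleCat.of A M) ⊞ G.obj (ModuleCat.of A N) := G.mapBiprod _ _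
  have e3 := ModuleCat.biprodIsoProd (G.obj (ModuleCat.of A M)) (G.obj (ModuleCat.of A N))
  rw [length_eq_of_iso (e1 ≪≫ e2 ≪≫ e3)]
  exact Module.length_prod A _ _

end ModuleCat


section General

variable {A : Type u} [CommRing A]

/-- The short complex `M → A → A/J`. -/
noncomputable abbrev scOf {M : Type u} [AddCommGroup M] [Module A M] (φ : M →ₗ[A] A) (J : Ideal A)
    (hr : LinearMap.range φ = J) : ShortComplex (ModuleCat.{u} A) :=
  ModuleCat.shortComplexOfCompEqZero φ (Submodule.mkQ J) (by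
    apply LinearMap.ext
    intro m
    have : φ m ∈ J := by rw [← hr]; exact ⟨m, rfl⟩
    exact (Submodule.Quotient.mk_eq_zero J).2 this)

lemma scOf_shortExact {M : Type u} [AddCommGroup M] [Module A M] (φ : M →ₗ[A] A) (J : Ideal A)
    (hr : LinearMap.range φ = J) (hφ : Function.Injective φ) : (scOf φ J hr).ShortExact := by
  refine ModuleCat.shortComplex_shortExact _ ?_ hφ (Submodule.mkQ_surjective J)
  change Function.Exact φ (Submodule.mkQ J)
  rw [LinearMap.exact_iff, Submodule.ker_mkQ, hr]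

/-- `κ ⊗ f = 0` if `f` has image in the annihilator-defining ideal. -/
lemma whiskerLeft_eq_zero (I : Ideal A) {M : ModuleCat.{u} A} (f : M ⟶ ModuleCat.of A A)
    (hf : ∀ m, f m ∈ I) :
    ((tensoringLeft (ModuleCat.{u} A)).obj (ModuleCat.of A (A ⧸ I))).map f = 0 := by
  change (ModuleCat.of A (A ⧸ I)) ◁ f = 0
  apply ModuleCat.MonoidalCategory.tensor_ext
  intro c m
  change ((ModuleCat.of A (A ⧸ I)) ◁ f) (c ⊗ₜ m) = 0
  rw [ModuleCat.MonoidalCategory.whiskerLeft_apply]
  obtain ⟨c', rfl⟩ := Ideal.Quotient.mk_surjective c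
  have h1 : (f m : A) = (f m : A) • (1 : A) := by rw [smul_eq_mul, mul_one]
  have h2 : (f m : A) • (Ideal.Quotient.mk I c') = 0 := by
    rw [Algebra.smul_def, Ideal.Quotient.algebraMap_eq, ← map_mul,
      Ideal.Quotient.eq_zero_iff_mem]
    exact Ideal.mul_mem_right _ _ (hf m)
  change (Ideal.Quotient.mk I c') ⊗ₜ[A] (f m : A) = 0
  rw [h1, ← TensorProduct.smul_tmul, h2, TensorProduct.zero_tmul]

/-- `length (κ ⊗ A/J) = 1` for `J ≤ m`, `m` maximal. -/
lemma length_tensor_quot (I : Ideal A) [I.IsMaximal] (J : Ideal A) (hJ : J ≤ I) :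
    Module.length A (((tensoringLeft (ModuleCat.{u} A)).obj (ModuleCat.of A (A ⧸ I))).obj
      (ModuleCat.of A (A ⧸ J))) = 1 := by
  change Module.length A (TensorProduct A (A ⧸ I) (A ⧸ J)) = 1
  have hbot : (J • (⊤ : Submodule A (A ⧸ I))) = ⊥ := by
    rw [eq_bot_iff, Submodule.smul_le]
    intro r hr z _
    obtain ⟨c', rfl⟩ := Ideal.Quotient.mk_surjective z
    rw [Submodule.mem_bot, Algebra.smul_def, Ideal.Quotient.algebraMap_eq, ← map_mul,
      Ideal.Quotient.eq_zero_iff_mem]
    exact Ideal.mul_mem_right _ _ (hJ hr)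
  have e : TensorProduct A (A ⧸ I) (A ⧸ J) ≃ₗ[A] (A ⧸ I) :=
    (TensorProduct.tensorQuotEquivQuotSMul (A ⧸ I) J) ≪≫ₗ Submodule.quotEquivOfEqBot _ hbot
  rw [e.length_eq]
  have : IsSimpleModule A (A ⧸ I) := by
    rw [isSimpleModule_iff_isCoatom]
    exact Ideal.isMaximal_def.1 inferInstance
  exact Module.length_eq_one A (A ⧸ I)

end General


section Ring

variable (k : Type u) [Field k]

/-- The polynomial ring `k[x,y]`. -/
noncomputable abbrev PP := MvPolynomial (Fin 2) k

/-- The ideal `(xy)`. -/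
noncomputable abbrev I₀ : Ideal (PP k) := Ideal.span {(MvPolynomial.X 0 * MvPolynomial.X 1 : MvPolynomial (Fin 2) k)}

/-- The node `k[x,y]/(xy)`. -/
noncomputable abbrev AA := PP k ⧸ I₀ k

/-- The class of `x`. -/
noncomputable abbrev xb : AA k := Ideal.Quotient.mk (I₀ k) (MvPolynomial.X 0)

/-- The class of `y`. -/
noncomputable abbrev yb : AA k := Ideal.Quotient.mk (I₀ k) (MvPolynomial.X 1)

/-- The maximal ideal at the origin. -/
noncomputable abbrev mm : Ideal (AA k) := Ideal.span {xb k, yb k}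

lemma xb_mul_yb : xb k * yb k = 0 := by
  rw [← map_mul]
  exact Ideal.Quotient.eq_zero_iff_mem.2 (Ideal.subset_span rfl)

lemma yb_mul_xb : yb k * xb k = 0 := by
  rw [mul_comm, xb_mul_yb]

lemma mem_span_yb_of_mul_xb (a : AA k) (h : a * xb k = 0) : a ∈ Ideal.span {yb k} := by
  obtain ⟨f, rfl⟩ := Ideal.Quotient.mk_surjective a
  rw [← map_mul, Ideal.Quotient.eq_zero_iff_mem, Ideal.mem_span_singleton] at h
  obtain ⟨g, hg⟩ := h
  have h1 : f = MvPolynomial.X 1 * g := by
    have hX : (MvPolynomial.X 0 : PP k) ≠ 0 := MvPolynomial.X_ne_zero 0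
    apply mul_right_cancel₀ hX
    rw [hg]; ring
  rw [Ideal.mem_span_singleton]
  exact ⟨Ideal.Quotient.mk _ g, by rw [h1, map_mul]⟩

lemma mem_span_xb_of_mul_yb (a : AA k) (h : a * yb k = 0) : a ∈ Ideal.span {xb k} := by
  obtain ⟨f, rfl⟩ := Ideal.Quotient.mk_surjective a
  rw [← map_mul, Ideal.Quotient.eq_zero_iff_mem, Ideal.mem_span_singleton] at h
  obtain ⟨g, hg⟩ := h
  have h1 : f = MvPolynomial.X 0 * g := by
    have hX : (MvPolynomial.X 1 : PP k) ≠ 0 := MvPolynomial.X_ne_zero 1
    apply mul_right_cancel₀ hX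
    rw [hg]; ring
  rw [Ideal.mem_span_singleton]
  exact ⟨Ideal.Quotient.mk _ g, by rw [h1, map_mul]⟩

lemma mul_xb_eq_zero_of_add (a b : AA k) (h : a * xb k + b * yb k = 0) : a * xb k = 0 := by
  obtain ⟨f, rfl⟩ := Ideal.Quotient.mk_surjective a
  obtain ⟨g, rfl⟩ := Ideal.Quotient.mk_surjective b
  rw [← map_mul, ← map_mul, ← map_add, Ideal.Quotient.eq_zero_iff_mem,
    Ideal.mem_span_singleton] at h
  obtain ⟨c, hc⟩ := h
  have h1 : (MvPolynomial.X 1 : PP k) ∣ f * MvPolynomial.X 0 := by
    refine ⟨MvPolynomial.X 0 * c - g, ?_⟩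
    have : f * MvPolynomial.X 0 = MvPolynomial.X 0 * MvPolynomial.X 1 * c - g * MvPolynomial.X 1 := by
      rw [← hc]; ring
    rw [this]; ring
  rw [MvPolynomial.X_dvd_mul_iff] at h1
  rcases h1 with h1 | h1
  · obtain ⟨f', rfl⟩ := h1
    rw [← map_mul, Ideal.Quotient.eq_zero_iff_mem, Ideal.mem_span_singleton]
    exact ⟨f', by ring⟩
  · rw [MvPolynomial.X_dvd_X] at h1
    exact absurd h1 (by decide)

lemma mul_yb_eq_zero_of_add (a b : AA k) (h : a * xb k + b * yb k = 0) : b * yb k = 0 := by
  have h1 := mul_xb_eq_zero_of_add k a b h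
  rw [h1, zero_add] at h
  exact h

/-- The augmentation `A → k`. -/
noncomputable def eps : AA k →+* k :=
  Ideal.Quotient.lift (I₀ k) MvPolynomial.constantCoeff (by
    intro a ha
    rw [Ideal.mem_span_singleton] at ha
    obtain ⟨c, rfl⟩ := ha
    simp)

lemma eps_mk (f : PP k) : eps k (Ideal.Quotient.mk _ f) = MvPolynomial.constantCoeff f := rfl

lemma eps_xb : eps k (xb k) = 0 := by rw [eps_mk]; simp

lemma eps_yb : eps k (yb k) = 0 := by rw [eps_mk]; simp

lemma xb_mem_mm : xb k ∈ mm k := Ideal.subset_span (by simp)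

lemma yb_mem_mm : yb k ∈ mm k := Ideal.subset_span (by simp)

lemma sub_eps_mem (a : AA k) : a - algebraMap k (AA k) (eps k a) ∈ mm k := by
  obtain ⟨f, rfl⟩ := Ideal.Quotient.mk_surjective a
  induction f using MvPolynomial.induction_on with
  | C c =>
    rw [eps_mk, MvPolynomial.constantCoeff_C]
    have : algebraMap k (AA k) c = Ideal.Quotient.mk (I₀ k) (MvPolynomial.C c) := rfl
    rw [this, sub_self]
    exact zero_mem _
  | add p q hp hq =>
    rw [map_add, map_add, map_add]
    have := add_mem hp hq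
    convert this using 1
    ring
  | mul_X p i hp =>
    have h0 : MvPolynomial.constantCoeff (p * MvPolynomial.X i) = 0 := by
      rw [map_mul, MvPolynomial.constantCoeff_X, mul_zero]
    rw [eps_mk, h0, map_zero, sub_zero, map_mul]
    apply Ideal.mul_mem_left
    fin_cases i
    · exact xb_mem_mm k
    · exact yb_mem_mm k

lemma mm_eq_ker : mm k = RingHom.ker (eps k) := by
  apply le_antisymm
  · rw [Ideal.span_le]
    intro z hz
    rcases hz with rfl | rfl
    · exact eps_xb k
    · exact eps_yb k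
  · intro a ha
    have h := sub_eps_mem k a
    rw [RingHom.mem_ker] at ha
    rw [ha, map_zero, sub_zero] at h
    exact h

lemma eps_surjective : Function.Surjective (eps k) := by
  intro c
  exact ⟨algebraMap k (AA k) c, by
    have : algebraMap k (AA k) c = Ideal.Quotient.mk (I₀ k) (MvPolynomial.C c) := rfl
    rw [this, eps_mk, MvPolynomial.constantCoeff_C]⟩

instance mm_isMaximal : (mm k).IsMaximal := by
  rw [mm_eq_ker]
  exact RingHom.ker_isMaximal_of_surjective _ (eps_surjective k)

lemma span_xb_le : Ideal.span {xb k} ≤ mm k := Ideal.span_mono (by simp)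

lemma span_yb_le : Ideal.span {yb k} ≤ mm k := Ideal.span_mono (by simp)

end Ring


section Concrete

variable (k : Type u) [Field k]

/-- `A/(y) → A`, `a ↦ a x`. -/
noncomputable def phiX : (AA k ⧸ Ideal.span {yb k}) →ₗ[AA k] AA k :=
  Submodule.liftQ (Ideal.span {yb k}) (LinearMap.toSpanSingleton (AA k) (AA k) (xb k)) (by
    rw [Ideal.span_le]
    intro z hz
    rw [Set.mem_singleton_iff] at hz
    subst hz
    change LinearMap.toSpanSingleton (AA k) (AA k) (xb k) (yb k) = 0
    rw [LinearMap.toSpanSingleton_apply, smul_eq_mul, yb_mul_xb])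

/-- `A/(x) → A`, `a ↦ a y`. -/
noncomputable def phiY : (AA k ⧸ Ideal.span {xb k}) →ₗ[AA k] AA k :=
  Submodule.liftQ (Ideal.span {xb k}) (LinearMap.toSpanSingleton (AA k) (AA k) (yb k)) (by
    rw [Ideal.span_le]
    intro z hz
    rw [Set.mem_singleton_iff] at hz
    subst hz
    change LinearMap.toSpanSingleton (AA k) (AA k) (yb k) (xb k) = 0
    rw [LinearMap.toSpanSingleton_apply, smul_eq_mul, xb_mul_yb])

lemma phiX_mk (a : AA k) : phiX k (Submodule.Quotient.mk a) = a * xb k := rfl

lemma phiY_mk (a : AA k) : phiY k (Submodule.Quotient.mk a) = a * yb k := rfl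

lemma phiX_injective : Function.Injective (phiX k) := by
  rw [← LinearMap.ker_eq_bot, LinearMap.ker_eq_bot']
  intro z hz
  obtain ⟨a, rfl⟩ := Submodule.Quotient.mk_surjective _ z
  rw [phiX_mk] at hz
  exact (Submodule.Quotient.mk_eq_zero _).2 (mem_span_yb_of_mul_xb k a hz)

lemma phiY_injective : Function.Injective (phiY k) := by
  rw [← LinearMap.ker_eq_bot, LinearMap.ker_eq_bot']
  intro z hz
  obtain ⟨a, rfl⟩ := Submodule.Quotient.mk_surjective _ z
  rw [phiY_mk] at hz
  exact (Submodule.Quotient.mk_eq_zero _).2 (mem_span_xb_of_mul_yb k a hz)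

lemma range_phiX : LinearMap.range (phiX k) = Ideal.span {xb k} := by
  apply le_antisymm
  · rintro _ ⟨z, rfl⟩
    obtain ⟨a, rfl⟩ := Submodule.Quotient.mk_surjective _ z
    rw [phiX_mk]
    exact Ideal.mul_mem_left _ _ (Ideal.subset_span rfl)
  · change Ideal.span {xb k} ≤ _
    rw [Ideal.span_le]
    intro z hz
    rw [Set.mem_singleton_iff] at hz
    subst hz
    exact ⟨Submodule.Quotient.mk 1, by rw [phiX_mk, one_mul]⟩

lemma range_phiY : LinearMap.range (phiY k) = Ideal.span {yb k} := by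
  apply le_antisymm
  · rintro _ ⟨z, rfl⟩
    obtain ⟨a, rfl⟩ := Submodule.Quotient.mk_surjective _ z
    rw [phiY_mk]
    exact Ideal.mul_mem_left _ _ (Ideal.subset_span rfl)
  · change Ideal.span {yb k} ≤ _
    rw [Ideal.span_le]
    intro z hz
    rw [Set.mem_singleton_iff] at hz
    subst hz
    exact ⟨Submodule.Quotient.mk 1, by rw [phiY_mk, one_mul]⟩

/-- `A/(y) × A/(x) → A`. -/
noncomputable def phiM :
    ((AA k ⧸ Ideal.span {yb k}) × (AA k ⧸ Ideal.span {xb k})) →ₗ[AA k] AA k :=
  (phiX k).coprod (phiY k)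

lemma range_phiM : LinearMap.range (phiM k) = mm k := by
  rw [phiM, LinearMap.range_coprod, range_phiX, range_phiY]
  change Ideal.span {xb k} ⊔ Ideal.span {yb k} = Ideal.span {xb k, yb k}
  rw [← Ideal.span_union]
  congr 1

lemma phiM_injective : Function.Injective (phiM k) := by
  rw [← LinearMap.ker_eq_bot, LinearMap.ker_eq_bot']
  rintro ⟨z, w⟩ hz
  obtain ⟨a, rfl⟩ := Submodule.Quotient.mk_surjective _ z
  obtain ⟨b, rfl⟩ := Submodule.Quotient.mk_surjective _ w
  rw [phiM, LinearMap.coprod_apply, phiX_mk, phiY_mk] at hz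
  have h1 := mul_xb_eq_zero_of_add k a b hz
  have h2 := mul_yb_eq_zero_of_add k a b hz
  have h3 : (Submodule.Quotient.mk a : AA k ⧸ Ideal.span {yb k}) = 0 :=
    (Submodule.Quotient.mk_eq_zero _).2 (mem_span_yb_of_mul_xb k a h1)
  have h4 : (Submodule.Quotient.mk b : AA k ⧸ Ideal.span {xb k}) = 0 :=
    (Submodule.Quotient.mk_eq_zero _).2 (mem_span_xb_of_mul_yb k b h2)
  rw [h3, h4]
  rfl

end Concrete


section Prod

variable {A : Type u} [CommRing A]

lemma length_leftDerived_prod (F : ModuleCat.{u} A ⥤ ModuleCat.{u} A) [F.Additive] (n : ℕ)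
    (M N : Type u) [AddCommGroup M] [Module A M] [AddCommGroup N] [Module A N] :
    Module.length A ((F.leftDerived n).obj (ModuleCat.of A (M × N))) =
      Module.length A ((F.leftDerived n).obj (ModuleCat.of A M)) +
        Module.length A ((F.leftDerived n).obj (ModuleCat.of A N)) := by
  let S : ShortComplex (ModuleCat.{u} A) :=
    ModuleCat.shortComplexOfCompEqZero (LinearMap.inl A M N) (LinearMap.snd A M N)
      (by apply LinearMap.ext; intro x; simp)
  have hS : S.ShortExact := ModuleCat.shortComplex_shortExact S Function.Exact.inl_snd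
    LinearMap.inl_injective LinearMap.snd_surjective
  obtain ⟨⟨w₀, hex⟩, -⟩ := Groth.Agent.Lib.Helper73.leftDerived_les F hS n
  have hr : (F.leftDerived n).map S.f ≫
      (F.leftDerived n).map (ModuleCat.ofHom (LinearMap.fst A M N)) = 𝟙 _ := by
    have h0 : S.f ≫ ModuleCat.ofHom (LinearMap.fst A M N) = 𝟙 _ := rfl
    rw [← (F.leftDerived n).map_comp, h0, (F.leftDerived n).map_id]
  have hs : (F.leftDerived n).map (ModuleCat.ofHom (LinearMap.inr A M N)) ≫
      (F.leftDerived n).map S.g = 𝟙 _ := by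
    have h0 : ModuleCat.ofHom (LinearMap.inr A M N) ≫ S.g = 𝟙 _ := rfl
    rw [← (F.leftDerived n).map_comp, h0, (F.leftDerived n).map_id]
  have hinj : Function.Injective ((F.leftDerived n).map S.f) := by
    intro a b hab
    have h1 := congrArg (fun f => (ConcreteCategory.hom f) a) hr
    have h2 := congrArg (fun f => (ConcreteCategory.hom f) b) hr
    simp only [ModuleCat.hom_comp, LinearMap.comp_apply, ModuleCat.hom_id, LinearMap.id_apply] at h1 h2
    rw [← h1, ← h2, hab]
  have hsurj : Function.Surjective ((F.leftDerived n).map S.g) := by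
    intro c
    refine ⟨(F.leftDerived n).map (ModuleCat.ofHom (LinearMap.inr A M N)) c, ?_⟩
    have h1 := congrArg (fun f => (ConcreteCategory.hom f) c) hs
    simpa using h1
  have hexact := (ShortComplex.ShortExact.moduleCat_exact_iff_function_exact _).1 hex
  exact Module.length_eq_add_of_exact ((F.leftDerived n).map S.f).hom ((F.leftDerived n).map S.g).hom
    hinj hsurj hexact

end Prod

section Main

variable (k : Type u) [Field k]

/-- `F = κ ⊗ -`. -/
noncomputable abbrev FF : ModuleCat.{u} (AA k) ⥤ ModuleCat.{u} (AA k) :=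
  (tensoringLeft (ModuleCat.{u} (AA k))).obj (ModuleCat.of (AA k) (AA k ⧸ mm k))

/-- `A/(x)`. -/
noncomputable abbrev Mx : ModuleCat.{u} (AA k) := ModuleCat.of (AA k) (AA k ⧸ Ideal.span {xb k})

/-- `A/(y)`. -/
noncomputable abbrev My : ModuleCat.{u} (AA k) := ModuleCat.of (AA k) (AA k ⧸ Ideal.span {yb k})

/-- `κ`. -/
noncomputable abbrev Kp : ModuleCat.{u} (AA k) := ModuleCat.of (AA k) (AA k ⧸ mm k)

lemma shift_gen {M : Type u} [AddCommGroup M] [Module (AA k) M] (φ : M →ₗ[AA k] AA k)
    (J : Ideal (AA k)) (hr : LinearMap.range φ = J) (hφ : Function.Injective φ) (hJ : J ≤ mm k)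
    (n : ℕ) :
    Module.length (AA k) (((FF k).leftDerived (n + 1)).obj (ModuleCat.of (AA k) (AA k ⧸ J))) =
      Module.length (AA k) (((FF k).leftDerived n).obj (ModuleCat.of (AA k) M)) := by
  have hS := scOf_shortExact φ J hr hφ
  have hproj : Projective (scOf φ J hr).X₂ := by
    change Projective (ModuleCat.of (AA k) (AA k))
    infer_instance
  have hf : (FF k).map (scOf φ J hr).f = 0 := by
    apply whiskerLeft_eq_zero (mm k)
    intro m
    apply hJ
    have hm : φ m ∈ LinearMap.range φ := ⟨m, rfl⟩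
    rw [hr] at hm
    exact hm
  obtain ⟨e⟩ := leftDerived_shift (FF k) hS hf n
  exact length_eq_of_iso e

lemma length_zero (J : Ideal (AA k)) (hJ : J ≤ mm k) :
    Module.length (AA k) (((FF k).leftDerived 0).obj (ModuleCat.of (AA k) (AA k ⧸ J))) = 1 := by
  rw [length_eq_of_iso ((FF k).leftDerivedZeroIsoSelf.app _)]
  exact length_tensor_quot (mm k) J hJ

lemma length_xy (n : ℕ) :
    Module.length (AA k) (((FF k).leftDerived n).obj (Mx k)) = 1 ∧
    Module.length (AA k) (((FF k).leftDerived n).obj (My k)) = 1 := by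
  induction n with
  | zero => exact ⟨length_zero k _ (span_xb_le k), length_zero k _ (span_yb_le k)⟩
  | succ n ih =>
    refine ⟨?_, ?_⟩
    · rw [← ih.2]
      exact shift_gen k (phiX k) _ (range_phiX k) (phiX_injective k) (span_xb_le k) n
    · rw [← ih.1]
      exact shift_gen k (phiY k) _ (range_phiY k) (phiY_injective k) (span_yb_le k) n

theorem length_tor (n : ℕ) :
    Module.length (AA k) (((FF k).leftDerived (n + 1)).obj (Kp k)) = 2 := by
  have h := shift_gen k (phiM k) _ (range_phiM k) (phiM_injective k) le_rfl n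
  rw [h, length_leftDerived_prod, (length_xy k n).1, (length_xy k n).2]
  rfl

theorem not_hasProjectiveDimensionLT (n : ℕ) : ¬ HasProjectiveDimensionLT (Kp k) n := by
  intro h
  have h' : HasProjectiveDimensionLE (Kp k) n :=
    hasProjectiveDimensionLT_of_ge (Kp k) n (n + 1) (Nat.le_succ n)
  obtain ⟨P, hP⟩ := Groth.Agent.Lib.Helper73.exists_finite_resolution n (Kp k)
  have hz := Groth.Agent.Lib.Helper73.isZero_leftDerived_obj_of_isZero_resolution (FF k) P (n + 1)
    (hP (n + 1) (Nat.lt_succ_self n))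
  have hsub : Subsingleton (((FF k).leftDerived (n + 1)).obj (Kp k)) :=
    ModuleCat.subsingleton_of_isZero hz
  have h0 : Module.length (AA k) (((FF k).leftDerived (n + 1)).obj (Kp k)) = 0 :=
    Module.length_eq_zero_iff.2 hsub
  have h2 := length_tor k n
  rw [h0] at h2
  exact absurd h2 (by norm_num)

end Main

end Groth.Agent.Lib.Helper82.NodeTor
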