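import Mathlib
import Groth.Prelude.Def_GrSyz
import Groth.Agent.Lib.Helper82.NodeTor

set_option autoImplicit false
universe u
open CategoryTheory CategoryTheory.Limits MonoidalCategory

namespace Groth.Agent.Lib.Helper82.GrSyzTor

open Groth.Agent.Lib.Helper82.NodeTor

section General

variable {A : Type u} [CommRing A] (I : Ideal A)

/-- `κ ⊗ -` with `κ = A/I`. -/
noncomputable abbrev FI : ModuleCat.{u} A ⥤ ModuleCat.{u} A :=
  (tensoringLeft (ModuleCat.{u} A)).obj (ModuleCat.of A (A ⧸ I))

lemma lTensor_eq_zero {M N : Type u} [AddCommGroup M] [Module A M] [AddCommGroup N] [Module A N]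
    (f : M →ₗ[A] N) (hf : ∀ m, f m ∈ (I • ⊤ : Submodule A N)) :
    LinearMap.lTensor (A ⧸ I) f = 0 := by
  apply TensorProduct.ext'
  intro c m
  rw [LinearMap.lTensor_tmul, LinearMap.zero_apply]
  obtain ⟨c', rfl⟩ := Ideal.Quotient.mk_surjective c
  refine Submodule.smul_induction_on (hf m) ?_ ?_
  · intro r hr n _
    have h2 : r • (Ideal.Quotient.mk I c') = 0 := by
      rw [Algebra.smul_def, Ideal.Quotient.algebraMap_eq, ← map_mul,
        Ideal.Quotient.eq_zero_iff_mem]
      exact Ideal.mul_mem_right _ _ hr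
    rw [← TensorProduct.smul_tmul, h2, TensorProduct.zero_tmul]
  · intro x y hx hy
    rw [TensorProduct.tmul_add, hx, hy, add_zero]

lemma FI_map_eq_zero {M N : ModuleCat.{u} A} (f : M ⟶ N)
    (hf : ∀ m, f m ∈ (I • ⊤ : Submodule A N)) : (FI I).map f = 0 := by
  apply ModuleCat.hom_ext
  change f.hom.lTensor (A ⧸ I) = 0
  exact lTensor_eq_zero I f.hom hf

lemma length_shift {P N : Type u} [AddCommGroup P] [Module A P] [Module.Projective A P]
    [AddCommGroup N] [Module A N] (ψ : P →ₗ[A] N) (hψ : Function.Surjective ψ)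
    (hker : LinearMap.ker ψ ≤ (I • ⊤ : Submodule A P)) (n : ℕ) :
    Module.length A (((FI I).leftDerived (n + 1)).obj (ModuleCat.of A N)) =
      Module.length A (((FI I).leftDerived n).obj (ModuleCat.of A (LinearMap.ker ψ))) := by
  have hS := LinearMap.shortExact_shortComplexKer hψ
  have hproj : Projective (ψ.shortComplexKer).X₂ := by
    change Projective (ModuleCat.of A P)
    exact (IsProjective.iff_projective (R := A) P).1 inferInstance
  have hf : (FI I).map (ψ.shortComplexKer).f = 0 := by
    apply FI_map_eq_zero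
    intro m
    exact hker m.2
  obtain ⟨e⟩ := leftDerived_shift (FI I) hS hf n
  exact length_eq_of_iso e

lemma length_zero_of_surjective [I.IsMaximal] (n : ℕ) {N : Type u} [AddCommGroup N] [Module A N]
    (ψ : (Fin n → A) →ₗ[A] N) (hψ : Function.Surjective ψ)
    (hker : LinearMap.ker ψ ≤ (I • ⊤ : Submodule A (Fin n → A))) :
    Module.length A (((FI I).leftDerived 0).obj (ModuleCat.of A N)) = n := by
  rw [length_eq_of_iso ((FI I).leftDerivedZeroIsoSelf.app _)]
  change Module.length A (TensorProduct A (A ⧸ I) N) = n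
  have hsurj : Function.Surjective (LinearMap.lTensor (A ⧸ I) ψ) :=
    LinearMap.lTensor_surjective _ hψ
  have hex := lTensor_exact (A ⧸ I) (LinearMap.exact_subtype_ker_map ψ) hψ
  have hz : LinearMap.lTensor (A ⧸ I) (LinearMap.ker ψ).subtype = 0 :=
    lTensor_eq_zero I _ (fun m => hker m.2)
  have hinj : Function.Injective (LinearMap.lTensor (A ⧸ I) ψ) := by
    rw [← LinearMap.ker_eq_bot, hex.linearMap_ker_eq, hz, LinearMap.range_zero]
  let e : TensorProduct A (A ⧸ I) (Fin n → A) ≃ₗ[A] TensorProduct A (A ⧸ I) N :=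
    LinearEquiv.ofBijective _ ⟨hinj, hsurj⟩
  rw [← e.length_eq, (TensorProduct.piScalarRight A A (A ⧸ I) (Fin n)).length_eq,
    Module.length_pi]
  have : IsSimpleModule A (A ⧸ I) := by
    rw [isSimpleModule_iff_isCoatom]
    exact Ideal.isMaximal_def.1 inferInstance
  rw [Module.length_eq_one A (A ⧸ I)]
  simp

end General

section Irrel

variable (k : Type u) [Field k] (σ : Type)

/-- The irrelevant ideal of the standard grading. -/
noncomputable abbrev mI : Ideal (MvPolynomial σ k) := (GrSyz.irrel (GrSyz.stdGr k σ)).toIdeal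

lemma mI_def : mI k σ = Ideal.span {p : MvPolynomial σ k | ∃ n : ℤ, 0 < n ∧ p ∈ GrSyz.stdGr k σ n} :=
  rfl

lemma X_mem_mI (i : σ) : (MvPolynomial.X i : MvPolynomial σ k) ∈ mI k σ := by
  rw [mI_def]
  apply Ideal.subset_span
  exact ⟨1, one_pos, MvPolynomial.isWeightedHomogeneous_X k (fun _ : σ => (1 : ℤ)) i⟩

lemma sub_C_mem_mI (p : MvPolynomial σ k) :
    p - MvPolynomial.C (MvPolynomial.constantCoeff p) ∈ mI k σ := by
  induction p using MvPolynomial.induction_on with
  | C c =>
    rw [MvPolynomial.constantCoeff_C, sub_self]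
    exact zero_mem _
  | add p q hp hq =>
    rw [map_add, map_add]
    have := add_mem hp hq
    convert this using 1
    ring
  | mul_X p i hp =>
    have h0 : MvPolynomial.constantCoeff (p * MvPolynomial.X i) = 0 := by
      rw [map_mul, MvPolynomial.constantCoeff_X, mul_zero]
    rw [h0, map_zero, sub_zero]
    exact Ideal.mul_mem_left _ _ (X_mem_mI k σ i)

lemma mI_eq_ker : mI k σ = RingHom.ker (MvPolynomial.constantCoeff : MvPolynomial σ k →+* k) := by
  apply le_antisymm
  · rw [mI_def, Ideal.span_le]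
    rintro p ⟨n, hn, hp⟩
    rw [SetLike.mem_coe, RingHom.mem_ker, MvPolynomial.constantCoeff_eq]
    apply MvPolynomial.IsWeightedHomogeneous.coeff_eq_zero hp
    rw [map_zero]
    exact hn.ne
  · intro p hp
    rw [RingHom.mem_ker] at hp
    have h := sub_C_mem_mI k σ p
    rw [hp, map_zero, sub_zero] at h
    exact h

instance mI_isMaximal : (mI k σ).IsMaximal := by
  rw [mI_eq_ker]
  apply RingHom.ker_isMaximal_of_surjective
  intro c
  exact ⟨MvPolynomial.C c, MvPolynomial.constantCoeff_C _ c⟩

end Irrel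

section Vec

variable {A : Type u} [CommRing A] (I : Ideal A)

lemma mem_smul_top_of_forall_mem {n : ℕ} (v : Fin n → A) (hv : ∀ a, v a ∈ I) :
    v ∈ (I • ⊤ : Submodule A (Fin n → A)) := by
  rw [pi_eq_sum_univ' v]
  apply Submodule.sum_mem
  intro a _
  exact Submodule.smul_mem_smul (hv a) Submodule.mem_top

lemma range_mulVecLin_le {m n : ℕ} (d : Matrix (Fin m) (Fin n) A) (hd : ∀ a b, d a b ∈ I) :
    LinearMap.range (Matrix.mulVecLin d) ≤ (I • ⊤ : Submodule A (Fin m → A)) := by
  rintro _ ⟨u, rfl⟩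
  apply mem_smul_top_of_forall_mem
  intro a
  rw [Matrix.mulVecLin_apply]
  change ∑ b, d a b * u b ∈ I
  exact Ideal.sum_mem _ (fun b _ => Ideal.mul_mem_right _ _ (hd a b))

end Vec

section Main

variable (k : Type u) [Field k] (r : ℕ)
  (M : Type u) [AddCommGroup M] [Module k M] [Module (MvPolynomial (Fin (r + 1)) k) M]
  [IsScalarTower k (MvPolynomial (Fin (r + 1)) k) M]
  (ℳ : ℤ → Submodule k M) [DirectSum.Decomposition ℳ]
  [SetLike.GradedSMul (GrSyz.stdGr k (Fin (r + 1))) ℳ]
  (F : GrSyz.FreeRes (GrSyz.stdGr k (Fin (r + 1))) ℳ)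
  (hF : F.IsMinimal (mI k (Fin (r + 1))))

/-- The syzygy modules `Z i = im(d i) ⊆ F_i`. -/
noncomputable abbrev ZZ (i : ℕ) : Submodule (MvPolynomial (Fin (r + 1)) k)
    (Fin (F.rk i) → MvPolynomial (Fin (r + 1)) k) :=
  LinearMap.range (F.dLin i)

omit [IsScalarTower k (MvPolynomial (Fin (r + 1)) k) M] in
include hF in
lemma ZZ_le (i : ℕ) : ZZ k r M ℳ F i ≤
    (mI k (Fin (r + 1)) • ⊤ : Submodule (MvPolynomial (Fin (r + 1)) k)
      (Fin (F.rk i) → MvPolynomial (Fin (r + 1)) k)) :=
  range_mulVecLin_le _ (F.d i) (hF i)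

lemma length_congr_submodule {A : Type u} [CommRing A] (G : ModuleCat.{u} A ⥤ ModuleCat.{u} A)
    {N : Type u} [AddCommGroup N] [Module A N] {p q : Submodule A N} (h : p = q) :
    Module.length A (G.obj (ModuleCat.of A p)) = Module.length A (G.obj (ModuleCat.of A q)) := by
  subst h
  rfl

include hF in
lemma shift_chain (i : ℕ) : ∀ n m : ℕ, m = n + i + 1 →
    Module.length (MvPolynomial (Fin (r + 1)) k)
      (((FI (mI k (Fin (r + 1)))).leftDerived m).obj
        (ModuleCat.of (MvPolynomial (Fin (r + 1)) k) M)) =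
    Module.length (MvPolynomial (Fin (r + 1)) k)
      (((FI (mI k (Fin (r + 1)))).leftDerived n).obj
        (ModuleCat.of (MvPolynomial (Fin (r + 1)) k) (ZZ k r M ℳ F i))) := by
  induction i with
  | zero =>
    intro n m hm
    subst hm
    have h := length_shift (mI k (Fin (r + 1))) F.augLin F.aug_surjective
      (by rw [F.exact_zero]; exact ZZ_le k r M ℳ F hF 0) n
    rw [h]
    exact length_congr_submodule _ F.exact_zero
  | succ i ih =>
    intro n m hm
    rw [ih (n + 1) m (by omega)]
    have hsurj : Function.Surjective (F.dLin i).rangeRestrict :=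
      LinearMap.surjective_rangeRestrict _
    have hker : LinearMap.ker (F.dLin i).rangeRestrict = ZZ k r M ℳ F (i + 1) := by
      rw [LinearMap.ker_rangeRestrict]
      exact F.exact_succ i
    have h := length_shift (mI k (Fin (r + 1))) (F.dLin i).rangeRestrict hsurj
      (by rw [hker]; exact ZZ_le k r M ℳ F hF (i + 1)) n
    rw [h]
    exact length_congr_submodule _ hker

include hF in
theorem length_tor_eq_rk (i : ℕ) :
    Module.length (MvPolynomial (Fin (r + 1)) k)
      (((FI (mI k (Fin (r + 1)))).leftDerived i).obj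
        (ModuleCat.of (MvPolynomial (Fin (r + 1)) k) M)) = (F.rk i : ℕ∞) := by
  cases i with
  | zero =>
    exact length_zero_of_surjective (mI k (Fin (r + 1))) (F.rk 0) F.augLin F.aug_surjective
      (by rw [F.exact_zero]; exact ZZ_le k r M ℳ F hF 0)
  | succ j =>
    rw [shift_chain k r M ℳ F hF j 0 (j + 1) (by omega)]
    have hsurj : Function.Surjective (F.dLin j).rangeRestrict :=
      LinearMap.surjective_rangeRestrict _
    have hker : LinearMap.ker (F.dLin j).rangeRestrict = ZZ k r M ℳ F (j + 1) := by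
      rw [LinearMap.ker_rangeRestrict]
      exact F.exact_succ j
    exact length_zero_of_surjective (mI k (Fin (r + 1))) (F.rk (j + 1))
      (F.dLin j).rangeRestrict hsurj
      (by rw [hker]; exact ZZ_le k r M ℳ F hF (j + 1))

end Main

end Groth.Agent.Lib.Helper82.GrSyzTor
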