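import Groth.Agent.Lib.Helper82.AusBuch
import Groth.Agent.Lib.Helper82.GrSyzTor
import Groth.Agent.Lib.Helper29.DepthRees
import Groth.Agent.Lib.Helper66.PdVars

set_option autoImplicit false
universe u

namespace Groth.Agent.Lib.Helper82.PolyDepth

open LocCoh RingTheory.Sequence Groth.Agent.Lib.Helper93.Depth

/-- Depth along a regular sequence. -/
theorem idealDepth_eq_length_add {R : Type u} [CommRing R] [IsNoetherianRing R] (I : Ideal R) :
    ∀ (rs : List R) (M : Type u) [AddCommGroup M] [Module R M] [Module.Finite R M],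
      IsWeaklyRegular M rs → (∀ r ∈ rs, r ∈ I) →
      idealDepth I M = rs.length + idealDepth I (M ⧸ (Ideal.ofList rs • ⊤ : Submodule R M))
  | [], M, _, _, _, _, _ => by
      have hbot : (Ideal.ofList ([] : List R) • ⊤ : Submodule R M) = ⊥ := by
        rw [Ideal.ofList_nil, Submodule.bot_smul]
      have e : (M ⧸ (Ideal.ofList ([] : List R) • ⊤ : Submodule R M)) ≃ₗ[R] M :=
        Submodule.quotEquivOfEqBot _ hbot
      rw [idealDepth_congr (I := I) e]
      simp
  | r :: rs, M, _, _, _, h, hmem => by
      rw [isWeaklyRegular_cons_iff] at h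
      have h1 := Groth.Agent.Lib.Helper29.idealDepth_quotSMulTop_add_one I M
        (hmem r (by simp)) h.1
      have ih := idealDepth_eq_length_add I rs (QuotSMulTop r M) h.2
        (fun x hx => hmem x (List.mem_cons_of_mem _ hx))
      have e := Submodule.quotOfListConsSMulTopEquivQuotSMulTopInner M r rs
      rw [idealDepth_congr (I := I) e, ← h1, ih, List.length_cons]
      push_cast
      ring

section Poly

variable (k : Type u) [Field k] (n : ℕ)

open MvPolynomial Groth.Agent.Lib.Helper66.PdVars

/-- The first `j` variables, as a list. -/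
noncomputable def varList : ℕ → List (MvPolynomial (Fin n) k)
  | 0 => []
  | j + 1 => varList j ++ [if h : j < n then X ⟨j, h⟩ else 0]

lemma varList_length (j : ℕ) : (varList k n j).length = j := by
  induction j with
  | zero => rfl
  | succ j ih => rw [varList, List.length_append, ih]; rfl

lemma ofList_varList (j : ℕ) (hj : j ≤ n) : Ideal.ofList (varList k n j) = I k n j := by
  induction j with
  | zero =>
    rw [varList, Ideal.ofList_nil]
    unfold I
    simp
  | succ j ih =>
    have hj' : j < n := hj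
    rw [varList, Ideal.ofList_append, Ideal.ofList_singleton, dif_pos hj', ih (le_of_lt hj'),
      I_succ k n j hj']

lemma varList_isWeaklyRegular (j : ℕ) (hj : j ≤ n) :
    IsWeaklyRegular (MvPolynomial (Fin n) k) (varList k n j) := by
  induction j with
  | zero => exact IsWeaklyRegular.nil _ _
  | succ j ih =>
    have hj' : j < n := hj
    rw [varList, isWeaklyRegular_append_iff, isWeaklyRegular_singleton_iff, dif_pos hj']
    refine ⟨ih (le_of_lt hj'), ?_⟩
    rw [isSMulRegular_iff_right_eq_zero_of_smul]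
    intro q hq
    obtain ⟨p, rfl⟩ := Submodule.Quotient.mk_surjective _ q
    rw [← Submodule.Quotient.mk_smul, Submodule.Quotient.mk_eq_zero, smul_eq_mul, Ideal.mul_top,
      ofList_varList k n j (le_of_lt hj')] at hq
    rw [Submodule.Quotient.mk_eq_zero, smul_eq_mul, Ideal.mul_top,
      ofList_varList k n j (le_of_lt hj')]
    exact mem_I_of_X_mul_mem k n j hj' p hq

end Poly

section Irrel

variable (k : Type u) [Field k] (r : ℕ)

open MvPolynomial Groth.Agent.Lib.Helper66.PdVars Groth.Agent.Lib.Helper82.GrSyzTor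

lemma idealDepth_quot_mI :
    idealDepth (mI k (Fin (r + 1)))
      (MvPolynomial (Fin (r + 1)) k ⧸ (mI k (Fin (r + 1)) • ⊤ :
        Submodule (MvPolynomial (Fin (r + 1)) k) (MvPolynomial (Fin (r + 1)) k))) = 0 := by
  have hone : (Submodule.Quotient.mk (1 : MvPolynomial (Fin (r + 1)) k) :
      MvPolynomial (Fin (r + 1)) k ⧸ (mI k (Fin (r + 1)) • ⊤ :
        Submodule (MvPolynomial (Fin (r + 1)) k) (MvPolynomial (Fin (r + 1)) k))) ≠ 0 := by
    rw [Ne, Submodule.Quotient.mk_eq_zero, smul_eq_mul, Ideal.mul_top]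
    exact Groth.Agent.Lib.Helper66.one_notMem_irrel k (Fin (r + 1))
  have hkill : ∀ x ∈ mI k (Fin (r + 1)), ∀ q : MvPolynomial (Fin (r + 1)) k ⧸
      (mI k (Fin (r + 1)) • ⊤ :
        Submodule (MvPolynomial (Fin (r + 1)) k) (MvPolynomial (Fin (r + 1)) k)), x • q = 0 := by
    intro x hx q
    obtain ⟨p, rfl⟩ := Submodule.Quotient.mk_surjective _ q
    rw [← Submodule.Quotient.mk_smul, Submodule.Quotient.mk_eq_zero]
    exact Submodule.smul_mem_smul hx Submodule.mem_top
  by_contra hne
  have h1 := Order.one_le_iff_ne_zero.2 hne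
  rw [one_le_idealDepth_iff] at h1
  rcases h1 with h1 | ⟨x, hx, hreg⟩
  · have hle : (mI k (Fin (r + 1)) • ⊤ : Submodule (MvPolynomial (Fin (r + 1)) k)
        (MvPolynomial (Fin (r + 1)) k ⧸ (mI k (Fin (r + 1)) • ⊤ :
          Submodule (MvPolynomial (Fin (r + 1)) k) (MvPolynomial (Fin (r + 1)) k)))) ≤ ⊥ := by
      rw [Submodule.smul_le]
      intro a ha q _
      rw [Submodule.mem_bot]
      exact hkill a ha q
    rw [h1, top_le_iff] at hle
    apply hone
    have : (Submodule.Quotient.mk (1 : MvPolynomial (Fin (r + 1)) k) :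
      MvPolynomial (Fin (r + 1)) k ⧸ (mI k (Fin (r + 1)) • ⊤ :
        Submodule (MvPolynomial (Fin (r + 1)) k) (MvPolynomial (Fin (r + 1)) k))) ∈
        (⊤ : Submodule (MvPolynomial (Fin (r + 1)) k) _) := Submodule.mem_top
    rw [← hle, Submodule.mem_bot] at this
    exact this
  · apply hone
    rw [isSMulRegular_iff_right_eq_zero_of_smul] at hreg
    exact hreg _ (hkill x hx _)

theorem idealDepth_mI :
    idealDepth (mI k (Fin (r + 1))) (MvPolynomial (Fin (r + 1)) k) = ((r + 1 : ℕ) : ℕ∞) := by
  have hreg := varList_isWeaklyRegular k (r + 1) (r + 1) le_rfl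
  have hof : Ideal.ofList (varList k (r + 1) (r + 1)) = mI k (Fin (r + 1)) := by
    rw [ofList_varList _ _ _ le_rfl, I_top_eq_irrel]
  have hmem : ∀ x ∈ varList k (r + 1) (r + 1), x ∈ mI k (Fin (r + 1)) := by
    intro x hx
    rw [← hof]
    exact Ideal.subset_span hx
  rw [idealDepth_eq_length_add _ _ _ hreg hmem, varList_length, hof, idealDepth_quot_mI,
    add_zero]

end Irrel

end Groth.Agent.Lib.Helper82.PolyDepth
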