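import Mathlib

set_option autoImplicit false

/-!
Concrete description of the homology of a homological complex of modules: classes of cycles,
vanishing of classes, functoriality.
-/

namespace Groth.Agent.Lib.Helper82

open CategoryTheory HomologicalComplex

universe v u

variable {R : Type u} [Ring R] {ι : Type*} {c : ComplexShape ι}

section
variable (K : HomologicalComplex (ModuleCat.{v} R) c) (j k : ι) (hk : c.next j = k)

/-- The map from the kernel of the differential to the abstract cycles. -/
noncomputable def kerToCycles : ModuleCat.of R (LinearMap.ker (K.d j k).hom) ⟶ K.cycles j :=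
  K.liftCycles (ModuleCat.ofHom (LinearMap.ker (K.d j k).hom).subtype) k hk (by
    ext x
    exact x.2)

lemma iCycles_kerToCycles (x : K.X j) (hx : (K.d j k).hom x = 0) :
    (K.iCycles j).hom ((kerToCycles K j k hk).hom ⟨x, hx⟩) = x := by
  have h := K.liftCycles_i (ModuleCat.ofHom (LinearMap.ker (K.d j k).hom).subtype) k hk (by
    ext x
    exact x.2)
  exact LinearMap.congr_fun (congrArg ModuleCat.Hom.hom h) ⟨x, hx⟩

lemma iCycles_injective : Function.Injective (K.iCycles j).hom :=
  (ModuleCat.mono_iff_injective _).1 inferInstance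

lemma d_iCycles (z : K.cycles j) : (K.d j k).hom ((K.iCycles j).hom z) = 0 := by
  have h := K.iCycles_d j k
  exact LinearMap.congr_fun (congrArg ModuleCat.Hom.hom h) z

lemma kerToCycles_iCycles (z : K.cycles j) :
    (kerToCycles K j k hk).hom ⟨(K.iCycles j).hom z, d_iCycles K j k z⟩ = z :=
  iCycles_injective K j (iCycles_kerToCycles K j k hk _ _)

/-- The homology class of a cycle. -/
noncomputable def hcl (x : K.X j) (hx : (K.d j k).hom x = 0) : K.homology j :=
  (K.homologyπ j).hom ((kerToCycles K j k hk).hom ⟨x, hx⟩)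

lemma hcl_surjective (h : K.homology j) :
    ∃ (x : K.X j) (hx : (K.d j k).hom x = 0), hcl K j k hk x hx = h := by
  have hsurj : Function.Surjective (K.homologyπ j).hom :=
    (ModuleCat.epi_iff_surjective _).1 inferInstance
  obtain ⟨z, rfl⟩ := hsurj h
  refine ⟨(K.iCycles j).hom z, d_iCycles K j k z, ?_⟩
  rw [hcl, kerToCycles_iCycles]

lemma hcl_add (x y : K.X j) (hx : (K.d j k).hom x = 0) (hy : (K.d j k).hom y = 0) :
    hcl K j k hk (x + y) (by rw [map_add, hx, hy, add_zero]) =
      hcl K j k hk x hx + hcl K j k hk y hy := by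
  simp only [hcl]
  have : (⟨x + y, by rw [LinearMap.mem_ker, map_add, hx, hy, add_zero]⟩ :
      LinearMap.ker (K.d j k).hom) = ⟨x, hx⟩ + ⟨y, hy⟩ := rfl
  rw [this, map_add, map_add]

lemma hcl_sub (x y : K.X j) (hx : (K.d j k).hom x = 0) (hy : (K.d j k).hom y = 0) :
    hcl K j k hk (x - y) (by rw [map_sub, hx, hy, sub_zero]) =
      hcl K j k hk x hx - hcl K j k hk y hy := by
  simp only [hcl]
  have : (⟨x - y, by rw [LinearMap.mem_ker, map_sub, hx, hy, sub_zero]⟩ :
      LinearMap.ker (K.d j k).hom) = ⟨x, hx⟩ - ⟨y, hy⟩ := rfl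
  rw [this, map_sub, map_sub]

lemma toCycles_eq (i : ι) (y : K.X i) :
    (K.toCycles i j).hom y = (kerToCycles K j k hk).hom ⟨(K.d i j).hom y,
      LinearMap.congr_fun (congrArg ModuleCat.Hom.hom (K.d_comp_d i j k)) y⟩ := by
  apply iCycles_injective K j
  rw [iCycles_kerToCycles]
  exact LinearMap.congr_fun (congrArg ModuleCat.Hom.hom (K.toCycles_i i j)) y

lemma hcl_eq_zero_iff (i : ι) (hi : c.prev j = i) (x : K.X j) (hx : (K.d j k).hom x = 0) :
    hcl K j k hk x hx = 0 ↔ ∃ y : K.X i, (K.d i j).hom y = x := by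
  constructor
  · intro h
    have hex : (ShortComplex.mk (K.toCycles i j) (K.homologyπ j)
        (K.toCycles_comp_homologyπ i j)).Exact :=
      ShortComplex.exact_of_g_is_cokernel _ (K.homologyIsCokernel i j hi)
    rw [ShortComplex.moduleCat_exact_iff] at hex
    obtain ⟨y, hy⟩ := hex _ h
    refine ⟨y, ?_⟩
    have h2 := congrArg (K.iCycles j).hom hy
    rw [iCycles_kerToCycles] at h2
    rw [← h2]
    exact (LinearMap.congr_fun (congrArg ModuleCat.Hom.hom (K.toCycles_i i j)) y).symm
  · rintro ⟨y, rfl⟩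
    have h1 := toCycles_eq K j k hk i y
    rw [hcl, ← h1]
    exact LinearMap.congr_fun (congrArg ModuleCat.Hom.hom (K.toCycles_comp_homologyπ i j)) y

end

section
variable {K L : HomologicalComplex (ModuleCat.{v} R) c} (φ : K ⟶ L) (j k : ι) (hk : c.next j = k)

lemma d_map_eq_zero (x : K.X j) (hx : (K.d j k).hom x = 0) :
    (L.d j k).hom ((φ.f j).hom x) = 0 := by
  have h := φ.comm j k
  have := LinearMap.congr_fun (congrArg ModuleCat.Hom.hom h) x
  simp only [ModuleCat.hom_comp, LinearMap.comp_apply] at this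
  rw [this, hx, map_zero]

lemma homologyMap_hcl (x : K.X j) (hx : (K.d j k).hom x = 0) :
    (homologyMap φ j).hom (hcl K j k hk x hx) =
      hcl L j k hk ((φ.f j).hom x) (d_map_eq_zero φ j k x hx) := by
  simp only [hcl]
  have h := homologyπ_naturality φ j
  have h1 := LinearMap.congr_fun (congrArg ModuleCat.Hom.hom h) ((kerToCycles K j k hk).hom ⟨x, hx⟩)
  simp only [ModuleCat.hom_comp, LinearMap.comp_apply] at h1
  rw [h1]
  congr 1
  apply iCycles_injective L j
  rw [iCycles_kerToCycles]
  have h2 := cyclesMap_i φ j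
  have h3 := LinearMap.congr_fun (congrArg ModuleCat.Hom.hom h2) ((kerToCycles K j k hk).hom ⟨x, hx⟩)
  simp only [ModuleCat.hom_comp, LinearMap.comp_apply] at h3
  rw [h3, iCycles_kerToCycles]

end

end Groth.Agent.Lib.Helper82
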