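import Groth.Agent.Lib.Helper82.CxFunctor

set_option autoImplicit false

/-!
Low degree description of the tensor product of two ℕ-indexed chain complexes of modules, and the
comparison `H₁(C ⊗ P) ≅ H₁(C ⊗ G[0])` for a free resolution `P` of `G` when `C₀` is flat.
-/

namespace Groth.Agent.Lib.Helper82

open CategoryTheory MonoidalCategory HomologicalComplex

universe v

section lowdeg

variable {R : Type v} [CommRing R] (K L : ChainComplex (ModuleCat.{v} R) ℕ)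

/-- the inclusion of a summand of the tensor product complex -/
noncomputable abbrev ιT (p q n : ℕ) (h : p + q = n) : K.X p ⊗ L.X q ⟶ (K ⊗ L).X n :=
  HomologicalComplex.ιTensorObj K L p q n h

lemma d10 : ιT K L 1 0 1 rfl ≫ (K ⊗ L).d 1 0 = (K.d 1 0 ▷ L.X 0) ≫ ιT K L 0 0 0 rfl := by
  show ιT K L 1 0 1 rfl ≫ (HomologicalComplex.tensorObj K L).d 1 0 = _
  rw [mapBifunctor.d_eq, Preadditive.comp_add, mapBifunctor.ι_D₁, mapBifunctor.ι_D₂,
    mapBifunctor.d₁_eq K L _ _ (show (ComplexShape.down ℕ).Rel 1 0 by simp) 0 0 rfl,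
    mapBifunctor.d₂_eq_zero _ _ _ _ _ _ _ (by simp), add_zero]
  simp

lemma d01 : ιT K L 0 1 1 rfl ≫ (K ⊗ L).d 1 0 = (K.X 0 ◁ L.d 1 0) ≫ ιT K L 0 0 0 rfl := by
  show ιT K L 0 1 1 rfl ≫ (HomologicalComplex.tensorObj K L).d 1 0 = _
  rw [mapBifunctor.d_eq, Preadditive.comp_add, mapBifunctor.ι_D₁, mapBifunctor.ι_D₂,
    mapBifunctor.d₂_eq K L _ _ 0 (show (ComplexShape.down ℕ).Rel 1 0 by simp) 0 rfl,
    mapBifunctor.d₁_eq_zero _ _ _ _ _ _ _ (by simp), zero_add]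
  simp

lemma d20 : ιT K L 2 0 2 rfl ≫ (K ⊗ L).d 2 1 = (K.d 2 1 ▷ L.X 0) ≫ ιT K L 1 0 1 rfl := by
  show ιT K L 2 0 2 rfl ≫ (HomologicalComplex.tensorObj K L).d 2 1 = _
  rw [mapBifunctor.d_eq, Preadditive.comp_add, mapBifunctor.ι_D₁, mapBifunctor.ι_D₂,
    mapBifunctor.d₁_eq K L _ _ (show (ComplexShape.down ℕ).Rel 2 1 by simp) 0 1 rfl,
    mapBifunctor.d₂_eq_zero _ _ _ _ _ _ _ (by simp), add_zero]
  simp

lemma d02 : ιT K L 0 2 2 rfl ≫ (K ⊗ L).d 2 1 = (K.X 0 ◁ L.d 2 1) ≫ ιT K L 0 1 1 rfl := by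
  show ιT K L 0 2 2 rfl ≫ (HomologicalComplex.tensorObj K L).d 2 1 = _
  rw [mapBifunctor.d_eq, Preadditive.comp_add, mapBifunctor.ι_D₁, mapBifunctor.ι_D₂,
    mapBifunctor.d₂_eq K L _ _ 0 (show (ComplexShape.down ℕ).Rel 2 1 by simp) 1 rfl,
    mapBifunctor.d₁_eq_zero _ _ _ _ _ _ _ (by simp), zero_add]
  simp

lemma d11 : ιT K L 1 1 2 rfl ≫ (K ⊗ L).d 2 1 =
    (K.d 1 0 ▷ L.X 1) ≫ ιT K L 0 1 1 rfl - (K.X 1 ◁ L.d 1 0) ≫ ιT K L 1 0 1 rfl := by
  show ιT K L 1 1 2 rfl ≫ (HomologicalComplex.tensorObj K L).d 2 1 = _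
  rw [mapBifunctor.d_eq, Preadditive.comp_add, mapBifunctor.ι_D₁, mapBifunctor.ι_D₂,
    mapBifunctor.d₁_eq K L _ _ (show (ComplexShape.down ℕ).Rel 1 0 by simp) 1 1 rfl,
    mapBifunctor.d₂_eq K L _ _ 1 (show (ComplexShape.down ℕ).Rel 1 0 by simp) 1 rfl]
  simp
  exact (sub_eq_add_neg _ _).symm

variable {L} in
lemma ι_whiskerLeft {L' : ChainComplex (ModuleCat.{v} R) ℕ} (f : L ⟶ L') (p q n : ℕ)
    (h : p + q = n) :
    ιT K L p q n h ≫ (K ◁ f).f n = (K.X p ◁ f.f q) ≫ ιT K L' p q n h := by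
  show ιT K L p q n h ≫ (HomologicalComplex.tensorHom (𝟙 K) f).f n = _
  unfold HomologicalComplex.tensorHom
  rw [ι_mapBifunctorMap]
  simp


/-- projection to the `(0,0)` summand -/
noncomputable def proj00 : (K ⊗ L).X 0 ⟶ K.X 0 ⊗ L.X 0 :=
  HomologicalComplex.mapBifunctorDesc (K₁ := K) (K₂ := L) (F := curriedTensor _)
    (c := ComplexShape.down ℕ)
    (fun p q _ => match p, q with
      | 0, 0 => 𝟙 _
      | _, _ => 0)

lemma ι00_proj00 : ιT K L 0 0 0 rfl ≫ proj00 K L = 𝟙 _ := by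
  unfold proj00 ιT
  rw [HomologicalComplex.ι_mapBifunctorDesc]
  rfl

/-- projection to the `(1,0)` summand -/
noncomputable def proj10 : (K ⊗ L).X 1 ⟶ K.X 1 ⊗ L.X 0 :=
  HomologicalComplex.mapBifunctorDesc (K₁ := K) (K₂ := L) (F := curriedTensor _)
    (c := ComplexShape.down ℕ)
    (fun p q _ => match p, q with
      | 1, 0 => 𝟙 _
      | _, _ => 0)

lemma ι10_proj10 : ιT K L 1 0 1 rfl ≫ proj10 K L = 𝟙 _ := by
  unfold proj10 ιT
  rw [HomologicalComplex.ι_mapBifunctorDesc]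
  rfl

lemma ι00_injective : Function.Injective (ιT K L 0 0 0 rfl).hom := by
  intro x y hxy
  have := congrArg (proj00 K L).hom hxy
  rw [← LinearMap.comp_apply, ← LinearMap.comp_apply, ← ModuleCat.hom_comp, ι00_proj00] at this
  exact this

lemma ι10_injective : Function.Injective (ιT K L 1 0 1 rfl).hom := by
  intro x y hxy
  have := congrArg (proj10 K L).hom hxy
  rw [← LinearMap.comp_apply, ← LinearMap.comp_apply, ← ModuleCat.hom_comp, ι10_proj10] at this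
  exact this

/-- joint surjectivity of the inclusions in degree one -/
lemma exists_decomp_one (t : (K ⊗ L).X 1) :
    ∃ (x : (K.X 1 ⊗ L.X 0 : ModuleCat.{v} R)) (y : (K.X 0 ⊗ L.X 1 : ModuleCat.{v} R)),
      t = (ιT K L 1 0 1 rfl).hom x + (ιT K L 0 1 1 rfl).hom y := by
  let N : Submodule R ((K ⊗ L).X 1) :=
    LinearMap.range (ιT K L 1 0 1 rfl).hom ⊔ LinearMap.range (ιT K L 0 1 1 rfl).hom
  have hq : ModuleCat.ofHom N.mkQ = 0 := by
    apply mapBifunctor.hom_ext (K₁ := K) (K₂ := L) (F := curriedTensor _)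
      (c := ComplexShape.down ℕ)
    intro p q h
    have h' : p + q = 1 := h
    rw [Limits.comp_zero]
    obtain ⟨rfl, rfl⟩ | ⟨rfl, rfl⟩ : (p = 1 ∧ q = 0) ∨ (p = 0 ∧ q = 1) := by omega
    · ext x
      show N.mkQ ((ιT K L 1 0 1 rfl).hom x) = 0
      rw [Submodule.mkQ_apply, Submodule.Quotient.mk_eq_zero]
      exact Submodule.mem_sup_left ⟨x, rfl⟩
    · ext x
      show N.mkQ ((ιT K L 0 1 1 rfl).hom x) = 0
      rw [Submodule.mkQ_apply, Submodule.Quotient.mk_eq_zero]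
      exact Submodule.mem_sup_right ⟨x, rfl⟩
  have ht : t ∈ N := by
    have := LinearMap.congr_fun (congrArg ModuleCat.Hom.hom hq) t
    rw [ModuleCat.hom_ofHom, Submodule.mkQ_apply] at this
    exact (Submodule.Quotient.mk_eq_zero N).1 this
  obtain ⟨a, ⟨x, rfl⟩, b, ⟨y, rfl⟩, hab⟩ := Submodule.mem_sup.1 ht
  exact ⟨x, y, hab.symm⟩

/-- joint surjectivity of the inclusions in degree two -/
lemma exists_decomp_two (t : (K ⊗ L).X 2) :
    ∃ (x : (K.X 2 ⊗ L.X 0 : ModuleCat.{v} R)) (y : (K.X 1 ⊗ L.X 1 : ModuleCat.{v} R))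
      (z : (K.X 0 ⊗ L.X 2 : ModuleCat.{v} R)),
      t = (ιT K L 2 0 2 rfl).hom x + (ιT K L 1 1 2 rfl).hom y + (ιT K L 0 2 2 rfl).hom z := by
  let N : Submodule R ((K ⊗ L).X 2) :=
    LinearMap.range (ιT K L 2 0 2 rfl).hom ⊔ LinearMap.range (ιT K L 1 1 2 rfl).hom ⊔
      LinearMap.range (ιT K L 0 2 2 rfl).hom
  have hq : ModuleCat.ofHom N.mkQ = 0 := by
    apply mapBifunctor.hom_ext (K₁ := K) (K₂ := L) (F := curriedTensor _)
      (c := ComplexShape.down ℕ)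
    intro p q h
    have h' : p + q = 2 := h
    rw [Limits.comp_zero]
    obtain ⟨rfl, rfl⟩ | ⟨rfl, rfl⟩ | ⟨rfl, rfl⟩ :
      (p = 2 ∧ q = 0) ∨ (p = 1 ∧ q = 1) ∨ (p = 0 ∧ q = 2) := by omega
    · ext x
      show N.mkQ ((ιT K L 2 0 2 rfl).hom x) = 0
      rw [Submodule.mkQ_apply, Submodule.Quotient.mk_eq_zero]
      exact Submodule.mem_sup_left (Submodule.mem_sup_left ⟨x, rfl⟩)
    · ext x
      show N.mkQ ((ιT K L 1 1 2 rfl).hom x) = 0
      rw [Submodule.mkQ_apply, Submodule.Quotient.mk_eq_zero]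
      exact Submodule.mem_sup_left (Submodule.mem_sup_right ⟨x, rfl⟩)
    · ext x
      show N.mkQ ((ιT K L 0 2 2 rfl).hom x) = 0
      rw [Submodule.mkQ_apply, Submodule.Quotient.mk_eq_zero]
      exact Submodule.mem_sup_right ⟨x, rfl⟩
  have ht : t ∈ N := by
    have := LinearMap.congr_fun (congrArg ModuleCat.Hom.hom hq) t
    rw [ModuleCat.hom_ofHom, Submodule.mkQ_apply] at this
    exact (Submodule.Quotient.mk_eq_zero N).1 this
  obtain ⟨ab, hab, c, ⟨z, rfl⟩, habc⟩ := Submodule.mem_sup.1 ht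
  obtain ⟨a, ⟨x, rfl⟩, b, ⟨y, rfl⟩, hab'⟩ := Submodule.mem_sup.1 hab
  exact ⟨x, y, z, by rw [hab', habc]⟩

end lowdeg


section main

variable {R : Type v} [CommRing R]

lemma comp_apply_eq {A B C D : ModuleCat.{v} R} {f : A ⟶ B} {g : B ⟶ D} {h : A ⟶ C} {k : C ⟶ D}
    (e : f ≫ g = h ≫ k) (x : A) : g.hom (f.hom x) = k.hom (h.hom x) := by
  have := congrArg (fun m => m.hom x) e
  simpa using this

lemma whiskerLeft_hom (M : ModuleCat.{v} R) {X Y : ModuleCat.{v} R} (f : X ⟶ Y) :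
    (M ◁ f).hom = LinearMap.lTensor M f.hom := rfl

lemma subsingleton_tensor_right (M N : ModuleCat.{v} R) [Subsingleton N] :
    Subsingleton (M ⊗ N : ModuleCat.{v} R) := by
  refine ⟨fun a b => ?_⟩
  have h0 : ∀ t : TensorProduct R M N, t = 0 := by
    intro t
    induction t using TensorProduct.induction_on with
    | zero => rfl
    | tmul m n => rw [Subsingleton.elim n 0, TensorProduct.tmul_zero]
    | add x y hx hy => rw [hx, hy, add_zero]
  exact (h0 a).trans (h0 b).symm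

/-- `H₁(C ⊗ P) ≅ H₁(C ⊗ S)` when `P ⟶ S` looks like a resolution of `S = S₀[0]` in low degrees and
`C₀` is flat. -/
theorem isIso_homologyMap_one_whiskerLeft (C P S : ChainComplex (ModuleCat.{v} R) ℕ) (π : P ⟶ S)
    [Subsingleton (S.X 1)] [Subsingleton (S.X 2)]
    (hπ0 : Function.Surjective (π.f 0).hom)
    (hex0 : Function.Exact (P.d 1 0).hom (π.f 0).hom)
    (hex1 : Function.Exact (P.d 2 1).hom (P.d 1 0).hom)
    [Module.Flat R (C.X 0)] :
    IsIso (HomologicalComplex.homologyMap (C ◁ π) 1) := by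
  have hT1 : ∀ p, Function.Surjective (C.X p ◁ π.f 0).hom := fun p =>
    LinearMap.lTensor_surjective (C.X p) hπ0
  have hT2 : ∀ p, Function.Exact (C.X p ◁ P.d 1 0).hom (C.X p ◁ π.f 0).hom := fun p =>
    lTensor_exact (C.X p) hex0 hπ0
  have hT3 : Function.Exact (C.X 0 ◁ P.d 2 1).hom (C.X 0 ◁ P.d 1 0).hom :=
    Module.Flat.lTensor_exact (C.X 0) hex1
  have hsub01 : Subsingleton (C.X 0 ⊗ S.X 1 : ModuleCat.{v} R) := subsingleton_tensor_right _ _
  have hsub11 : Subsingleton (C.X 1 ⊗ S.X 1 : ModuleCat.{v} R) := subsingleton_tensor_right _ _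
  have hsub02 : Subsingleton (C.X 0 ⊗ S.X 2 : ModuleCat.{v} R) := subsingleton_tensor_right _ _
  -- elementwise formulas
  have hφ : ∀ (p q n : ℕ) (h : p + q = n) (x : (C.X p ⊗ P.X q : ModuleCat.{v} R)),
      ((C ◁ π).f n).hom ((ιT C P p q n h).hom x) = (ιT C S p q n h).hom ((C.X p ◁ π.f q).hom x) :=
    fun p q n h x => comp_apply_eq (ι_whiskerLeft C π p q n h) x
  have hmono : Mono (HomologicalComplex.homologyMap (C ◁ π) 1) := by
    rw [mono_homologyMap_one_iff]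
    rintro x hx ⟨y, hy⟩
    obtain ⟨x₁, y₁, rfl⟩ := exists_decomp_one C P x
    obtain ⟨s, s11, s02, rfl⟩ := exists_decomp_two C S y
    rw [Subsingleton.elim s11 0, Subsingleton.elim s02 0, map_zero, map_zero, add_zero,
      add_zero] at hy
    obtain ⟨s', rfl⟩ := hT1 2 s
    rw [comp_apply_eq (d20 C S), map_add, hφ, hφ, Subsingleton.elim ((C.X 0 ◁ π.f 1).hom y₁) 0,
      map_zero] at hy
    simp only [add_zero] at hy
    have h1 := ι10_injective C S hy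
    have h2 : (C.X 1 ◁ π.f 0).hom (x₁ - (C.d 2 1 ▷ P.X 0).hom s') = 0 := by
      rw [map_sub, ← h1, ← comp_apply_eq (whisker_exchange (C.d 2 1) (π.f 0)), sub_self]
    obtain ⟨v, hv⟩ := (hT2 1 _).1 h2
    rw [map_add, comp_apply_eq (d10 C P), comp_apply_eq (d01 C P), ← map_add] at hx
    have h3 := (map_eq_zero_iff _ (ι00_injective C P)).1 hx
    have h4 : (C.X 0 ◁ P.d 1 0).hom (y₁ + (C.d 1 0 ▷ P.X 1).hom v) = 0 := by
      rw [map_add, ← comp_apply_eq (whisker_exchange (C.d 1 0) (P.d 1 0)), hv, map_sub]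
      have h5 : (C.d 1 0 ▷ P.X 0).hom ((C.d 2 1 ▷ P.X 0).hom s') = 0 := by
        have : (C.d 2 1 ▷ P.X 0) ≫ (C.d 1 0 ▷ P.X 0) = 0 := by
          rw [← comp_whiskerRight, C.d_comp_d, MonoidalPreadditive.zero_whiskerRight]
        exact LinearMap.congr_fun (congrArg ModuleCat.Hom.hom this) s'
      rw [h5, sub_zero, add_comm]
      exact h3
    obtain ⟨r, hr⟩ := (hT3 _).1 h4
    refine ⟨(ιT C P 2 0 2 rfl).hom s' - (ιT C P 1 1 2 rfl).hom v + (ιT C P 0 2 2 rfl).hom r, ?_⟩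
    rw [map_add, map_sub, comp_apply_eq (d20 C P), comp_apply_eq (d02 C P), hr]
    have h6 : ((C ⊗ P).d 2 1).hom ((ιT C P 1 1 2 rfl).hom v) =
        (ιT C P 0 1 1 rfl).hom ((C.d 1 0 ▷ P.X 1).hom v) -
          (ιT C P 1 0 1 rfl).hom ((C.X 1 ◁ P.d 1 0).hom v) := by
      have := congrArg (fun m => m.hom v) (d11 C P)
      simpa using this
    rw [h6, hv, map_sub, map_add]
    abel
  have hepi : Epi (HomologicalComplex.homologyMap (C ◁ π) 1) := by
    rw [epi_homologyMap_one_iff]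
    intro y hy
    obtain ⟨a, b, rfl⟩ := exists_decomp_one C S y
    rw [Subsingleton.elim b 0, map_zero, add_zero] at hy ⊢
    rw [comp_apply_eq (d10 C S)] at hy
    have h1 := (map_eq_zero_iff _ (ι00_injective C S)).1 hy
    obtain ⟨x₀, rfl⟩ := hT1 1 a
    have h2 : (C.X 0 ◁ π.f 0).hom ((C.d 1 0 ▷ P.X 0).hom x₀) = 0 := by
      rw [← comp_apply_eq (whisker_exchange (C.d 1 0) (π.f 0))]
      exact h1
    obtain ⟨y₀, hy₀⟩ := (hT2 0 _).1 h2
    refine ⟨(ιT C P 1 0 1 rfl).hom x₀ - (ιT C P 0 1 1 rfl).hom y₀, 0, ?_, ?_⟩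
    · rw [map_sub, comp_apply_eq (d10 C P), comp_apply_eq (d01 C P), hy₀, sub_self]
    · rw [map_zero, map_sub, hφ, hφ, Subsingleton.elim ((C.X 0 ◁ π.f 1).hom y₀) 0,
        map_zero]
      simp only [add_zero, sub_zero]
  exact isIso_of_mono_of_epi _

end main

end Groth.Agent.Lib.Helper82
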