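import Groth.Agent.Lib.Helper73.ProjRes
import Groth.Agent.Lib.Helper82.ModHomology
import Groth.Agent.Lib.Helper82.TensorH1

set_option autoImplicit false
universe u

namespace Groth.Agent.Lib.Helper82.TorFactor

open CategoryTheory MonoidalCategory Limits

variable {R : Type u} [CommRing R]

lemma eq_zero_of_iso_comp {C : Type*} [Category C] [HasZeroMorphisms C] {A B A' B' : C}
    (e : A' ≅ A) (e' : B ≅ B') (f : A ⟶ B) (h : e.hom ≫ f ≫ e'.hom = 0) : f = 0 := by
  have : f = e.inv ≫ (e.hom ≫ f ≫ e'.hom) ≫ e'.inv := by simp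
  rw [this, h]
  simp

theorem rTensor_eq_zero_of_tor_map_zero {M M' P : Type u} [AddCommGroup M] [Module R M]
    [AddCommGroup M'] [Module R M'] [AddCommGroup P] [Module R P] [Module.Projective R P]
    (B : Submodule R P) (α : M →ₗ[R] M')
    (h : ((Tor (ModuleCat.{u} R) 1).map (ModuleCat.ofHom α)).app (ModuleCat.of R (P ⧸ B)) = 0)
    (t : TensorProduct R M B) (ht : LinearMap.lTensor M B.subtype t = 0) :
    LinearMap.rTensor B α t = 0 := by
  let p : ModuleCat.of R P ⟶ ModuleCat.of R (P ⧸ B) := ModuleCat.ofHom B.mkQ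
  have hp : Epi p := (ModuleCat.epi_iff_surjective _).2 (Submodule.mkQ_surjective B)
  have hproj : Projective (ModuleCat.of R P) := (IsProjective.iff_projective (R := R) P).1 inferInstance
  let Q : ProjectiveResolution (kernel p) := ProjectiveResolution.of _
  let Pres := Groth.Agent.Lib.Helper73.splice p Q
  let τ := (tensoringLeft (ModuleCat.{u} R)).map (ModuleCat.ofHom α)
  have h1 := ProjectiveResolution.leftDerived_app_eq τ Pres 1
  have h2 : HomologicalComplex.homologyMap
      ((NatTrans.mapHomologicalComplex τ (ComplexShape.down ℕ)).app Pres.complex) 1 = 0 := by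
    have h3 : (NatTrans.leftDerived τ 1).app (ModuleCat.of R (P ⧸ B)) = 0 := h
    rw [h1] at h3
    exact eq_zero_of_iso_comp
      (Pres.isoLeftDerivedObj ((tensoringLeft (ModuleCat.{u} R)).obj (ModuleCat.of R M)) 1)
      (Pres.isoLeftDerivedObj ((tensoringLeft (ModuleCat.{u} R)).obj (ModuleCat.of R M')) 1).symm
      _ h3
  -- the comparison map `Q₀ → B`
  have hcomp : ∀ x : Q.complex.X 0, (kernel.ι p).hom ((Q.π.f 0).hom x) ∈ B := by
    intro x
    have h4 : (kernel.ι p ≫ p) = 0 := kernel.condition p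
    have h5 := LinearMap.congr_fun (congrArg ModuleCat.Hom.hom h4) ((Q.π.f 0).hom x)
    rw [ModuleCat.hom_comp] at h5
    change B.mkQ _ = 0 at h5
    rwa [Submodule.mkQ_apply, Submodule.Quotient.mk_eq_zero] at h5
  let u : Q.complex.X 0 →ₗ[R] B :=
    LinearMap.codRestrict B ((kernel.ι p).hom ∘ₗ (Q.π.f 0).hom) hcomp
  have hu : Function.Surjective u := by
    rintro ⟨b, hb⟩
    have hex : (ShortComplex.mk (kernel.ι p) p (kernel.condition p)).Exact :=
      ShortComplex.exact_of_f_is_kernel _ (kernelIsKernel p)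
    rw [ShortComplex.moduleCat_exact_iff] at hex
    obtain ⟨c, hc⟩ := hex b (by
      change B.mkQ b = 0
      rwa [Submodule.mkQ_apply, Submodule.Quotient.mk_eq_zero])
    have hepi : Function.Surjective (Q.π.f 0).hom := (ModuleCat.epi_iff_surjective _).1 inferInstance
    obtain ⟨x, rfl⟩ := hepi c
    exact ⟨x, Subtype.ext hc⟩
  obtain ⟨ξ, hξ⟩ := LinearMap.lTensor_surjective M hu t
  let K := ((tensorLeft (ModuleCat.of R M)).mapHomologicalComplex (ComplexShape.down ℕ)).obj
    Pres.complex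
  let L := ((tensorLeft (ModuleCat.of R M')).mapHomologicalComplex (ComplexShape.down ℕ)).obj
    Pres.complex
  let φ : K ⟶ L := (NatTrans.mapHomologicalComplex τ (ComplexShape.down ℕ)).app Pres.complex
  have hd : (Pres.complex.d 1 0).hom = B.subtype ∘ₗ u := by
    ext x
    rfl
  have hcyc : (K.d 1 0).hom ξ = 0 := by
    have hK : (K.d 1 0).hom = LinearMap.lTensor M (Pres.complex.d 1 0).hom := rfl
    have h8 : LinearMap.lTensor M (B.subtype ∘ₗ u) =
        LinearMap.lTensor M B.subtype ∘ₗ LinearMap.lTensor M u := LinearMap.lTensor_comp _ _ _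
    rw [hK, hd]
    exact (LinearMap.congr_fun h8 ξ).trans (by rw [LinearMap.comp_apply, hξ]; exact ht)
  have hk : (ComplexShape.down ℕ).next 1 = 0 := by simp
  have hcl0 := homologyMap_hcl φ 1 0 hk ξ hcyc
  rw [h2] at hcl0
  have hz : hcl L 1 0 hk ((φ.f 1).hom ξ) (d_map_eq_zero φ 1 0 ξ hcyc) = 0 := hcl0.symm
  obtain ⟨y, hy⟩ := (hcl_eq_zero_iff L 1 0 hk 2 (by simp) _ _).1 hz
  have hL : (L.d 2 1).hom = LinearMap.lTensor M' (Q.complex.d 1 0).hom := rfl
  have hφ : (φ.f 1).hom = LinearMap.rTensor (Q.complex.X 0) α := rfl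
  have hud : u ∘ₗ (Q.complex.d 1 0).hom = 0 := by
    apply LinearMap.ext
    intro x
    apply Subtype.ext
    have h9 := LinearMap.congr_fun (congrArg ModuleCat.Hom.hom Q.complex_d_comp_π_f_zero) x
    rw [ModuleCat.hom_comp] at h9
    change (kernel.ι p).hom ((Q.π.f 0).hom ((Q.complex.d 1 0).hom x)) = 0
    have h10 : (Q.π.f 0).hom ((Q.complex.d 1 0).hom x) = 0 := h9
    rw [h10]
    exact map_zero _
  rw [hL, hφ] at hy
  have h6 := congrArg (LinearMap.lTensor M' u) hy
  have e1 : ∀ y' : TensorProduct R M' (Q.complex.X 1),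
      (LinearMap.lTensor M' u) ((LinearMap.lTensor M' (Q.complex.d 1 0).hom) y') = 0 := by
    intro y'
    rw [← LinearMap.comp_apply, ← LinearMap.lTensor_comp, hud, LinearMap.lTensor_zero,
      LinearMap.zero_apply]
  have e2 : (LinearMap.lTensor M' u) ((LinearMap.rTensor (Q.complex.X 0) α) ξ) =
      (LinearMap.rTensor B α) ((LinearMap.lTensor M u) ξ) := by
    rw [← LinearMap.comp_apply, ← LinearMap.comp_apply, LinearMap.lTensor_comp_rTensor,
      LinearMap.rTensor_comp_lTensor]
  have e3 : (LinearMap.rTensor B α) t = (LinearMap.rTensor B α) ((LinearMap.lTensor M u) ξ) := by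
    rw [hξ]
  exact e3.trans (e2.symm.trans (h6.symm.trans (e1 y)))

section Factor

open TensorProduct

variable {M M' : Type u} [AddCommGroup M] [Module R M]
  [AddCommGroup M'] [Module R M']

/-- `β` factors through a free module. -/
def FactorsFree (β : M →ₗ[R] M') : Prop :=
  ∃ (ι : Type u) (g : M →ₗ[R] (ι →₀ R)) (h : (ι →₀ R) →ₗ[R] M'), β = h ∘ₗ g

lemma factorsFree_zero : FactorsFree (0 : M →ₗ[R] M') :=
  ⟨PEmpty, 0, 0, by simp⟩

lemma factorsFree_add {β₁ β₂ : M →ₗ[R] M'} (h₁ : FactorsFree β₁) (h₂ : FactorsFree β₂) :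
    FactorsFree (β₁ + β₂) := by
  obtain ⟨ι₁, g₁, k₁, rfl⟩ := h₁
  obtain ⟨ι₂, g₂, k₂, rfl⟩ := h₂
  refine ⟨ι₁ ⊕ ι₂, (Finsupp.sumFinsuppLEquivProdFinsupp R).symm.toLinearMap ∘ₗ (g₁.prod g₂),
    (k₁.coprod k₂) ∘ₗ (Finsupp.sumFinsuppLEquivProdFinsupp R).toLinearMap, ?_⟩
  ext x
  simp

lemma factorsFree_smulRight (g : M →ₗ[R] R) (m' : M') : FactorsFree (g.smulRight m') := by
  refine ⟨PUnit, Finsupp.lsingle PUnit.unit ∘ₗ g,
    (LinearMap.toSpanSingleton R M' m') ∘ₗ Finsupp.lapply PUnit.unit, ?_⟩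
  ext x
  simp

/-- contraction `M' ⊗ Rⁿ → Hom(Rⁿ, M')`. -/
noncomputable def contr (n : ℕ) : M' ⊗[R] (Fin n → R) →ₗ[R] ((Fin n → R) →ₗ[R] M') :=
  TensorProduct.lift
    (LinearMap.mk₂ R (fun (m' : M') (w : Fin n → R) =>
      ((dotProductBilin R R : (Fin n → R) →ₗ[R] (Fin n → R) →ₗ[R] R) w).smulRight m')
      (by intro a b w; ext v; simp [smul_add])
      (by intro c a w; refine LinearMap.ext fun v => ?_; simp only [LinearMap.smulRight_apply, LinearMap.smul_apply]; rw [smul_comm])
      (by intro a w₁ w₂; ext v; simp [add_smul])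
      (by intro c a w; ext v; simp [mul_smul]))

lemma contr_tmul (n : ℕ) (m' : M') (w v : Fin n → R) :
    contr (R := R) n (m' ⊗ₜ w) v = (w ⬝ᵥ v) • m' := by
  simp [contr]

theorem factorsFree_of_kills {n m : ℕ} (f : (Fin n → R) →ₗ[R] M)
    (g : (Fin m → R) →ₗ[R] (Fin n → R)) (hf : Function.Surjective f)
    (hfg : Function.Exact g f) (α : M →ₗ[R] M') (T : (Fin n → R) →ₗ[R] (Fin m → R))
    (hT : ∀ z w, T z ⬝ᵥ w = z ⬝ᵥ g w)
    (hkill : ∀ t : M ⊗[R] LinearMap.range T,
      LinearMap.lTensor M (LinearMap.range T).subtype t = 0 →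
      LinearMap.rTensor (LinearMap.range T) α t = 0) :
    FactorsFree α := by
  classical
  let t : M ⊗[R] LinearMap.range T :=
    ∑ i, f (Pi.single i 1) ⊗ₜ[R] T.rangeRestrict (Pi.single i 1)
  have ht0 : LinearMap.lTensor M (LinearMap.range T).subtype t = 0 := by
    apply (TensorProduct.piScalarRight R R M (Fin m)).injective
    rw [map_zero]
    funext j
    simp only [t, map_sum, LinearMap.lTensor_tmul, TensorProduct.piScalarRight_apply,
      TensorProduct.piScalarRightHom_tmul, Finset.sum_apply, Pi.zero_apply,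
      Submodule.subtype_apply, LinearMap.codRestrict_apply]
    have h1 : ∀ i, T (Pi.single i 1) j = g (Pi.single j 1) i := by
      intro i
      have := hT (Pi.single i 1) (Pi.single j 1)
      rwa [dotProduct_single_one, single_one_dotProduct] at this
    simp only [h1]
    have h2 : f (g (Pi.single j 1)) = 0 := hfg.apply_apply_eq_zero _
    rw [← h2]
    conv_rhs => rw [pi_eq_sum_univ' (g (Pi.single j 1)), map_sum]
    refine Finset.sum_congr rfl fun i _ => ?_
    rw [map_smul]
  have hkt := hkill t ht0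
  let s : M' ⊗[R] (Fin n → R) := ∑ i, α (f (Pi.single i 1)) ⊗ₜ[R] (Pi.single i 1 : Fin n → R)
  have hs : LinearMap.lTensor M' T.rangeRestrict s = 0 := by
    rw [← hkt]
    simp only [s, t, map_sum, LinearMap.lTensor_tmul, LinearMap.rTensor_tmul]
  have hex : Function.Exact (LinearMap.lTensor M' (LinearMap.ker T).subtype)
      (LinearMap.lTensor M' T.rangeRestrict) := by
    apply lTensor_exact M'
    · intro v
      rw [Set.mem_range]
      constructor
      · intro hv
        exact ⟨⟨v, by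
          rw [LinearMap.mem_ker]
          exact congrArg Subtype.val hv⟩, rfl⟩
      · rintro ⟨w, rfl⟩
        apply Subtype.ext
        exact w.2
    · exact LinearMap.surjective_rangeRestrict T
  obtain ⟨ζ, hζ⟩ := (hex s).1 hs
  -- the claim
  have claim : ∀ ζ : M' ⊗[R] LinearMap.ker T, ∃ β : M →ₗ[R] M', FactorsFree β ∧
      β ∘ₗ f = contr n (LinearMap.lTensor M' (LinearMap.ker T).subtype ζ) := by
    intro ζ
    induction ζ using TensorProduct.induction_on with
    | zero => exact ⟨0, factorsFree_zero, by simp⟩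
    | tmul m' z =>
      let dz : (Fin n → R) →ₗ[R] R :=
        (dotProductBilin R R : (Fin n → R) →ₗ[R] (Fin n → R) →ₗ[R] R) z.1
      have hle : LinearMap.ker f ≤ LinearMap.ker dz := by
        intro v hv
        obtain ⟨w, rfl⟩ := (hfg v).1 hv
        rw [LinearMap.mem_ker]
        change z.1 ⬝ᵥ g w = 0
        rw [← hT, LinearMap.mem_ker.1 z.2, zero_dotProduct]
      let gz : M →ₗ[R] R := (LinearMap.ker f).liftQ dz hle ∘ₗ
        (f.quotKerEquivOfSurjective hf).symm.toLinearMap
      have hgz : ∀ v, gz (f v) = z.1 ⬝ᵥ v := by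
        intro v
        have : (f.quotKerEquivOfSurjective hf).symm (f v) = Submodule.Quotient.mk v := by
          rw [LinearEquiv.symm_apply_eq, LinearMap.quotKerEquivOfSurjective_apply_mk]
        simp only [gz, LinearMap.comp_apply, LinearEquiv.coe_coe, this, Submodule.liftQ_apply]
        rfl
      refine ⟨gz.smulRight m', factorsFree_smulRight gz m', ?_⟩
      refine LinearMap.ext fun v => ?_
      rw [LinearMap.lTensor_tmul, LinearMap.comp_apply, LinearMap.smulRight_apply, hgz, contr_tmul]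
      rfl
    | add ζ₁ ζ₂ h₁ h₂ =>
      obtain ⟨β₁, hβ₁, e₁⟩ := h₁
      obtain ⟨β₂, hβ₂, e₂⟩ := h₂
      exact ⟨β₁ + β₂, factorsFree_add hβ₁ hβ₂, by rw [LinearMap.add_comp, e₁, e₂, map_add, map_add]⟩
  obtain ⟨β, hβ, e⟩ := claim ζ
  have hβα : β = α := by
    apply LinearMap.ext
    intro x
    obtain ⟨v, rfl⟩ := hf x
    have h3 := LinearMap.congr_fun e v
    rw [LinearMap.comp_apply, hζ] at h3
    rw [h3]
    simp only [s, map_sum, LinearMap.sum_apply, contr_tmul, single_one_dotProduct]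
    conv_rhs => rw [pi_eq_sum_univ' v, map_sum, map_sum]
    refine Finset.sum_congr rfl fun i _ => ?_
    rw [map_smul, map_smul]
  rw [← hβα]
  exact hβ


/-- A map out of a finitely presented module inducing zero on `Tor₁(-, N)` for all `N`
factors through a free module. -/
theorem factorsFree_of_tor_one_zero [Module.FinitePresentation R M] (α : M →ₗ[R] M')
    (h : ∀ (N : Type u) [AddCommGroup N] [Module R N],
      ((CategoryTheory.Tor (ModuleCat.{u} R) 1).map (ModuleCat.ofHom α)).app (ModuleCat.of R N) = 0) :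
    FactorsFree α := by
  obtain ⟨n, m, f, g, hf, hfg⟩ := Module.FinitePresentation.exists_fin' R M
  let T : (Fin n → R) →ₗ[R] (Fin m → R) := Matrix.toLin' (LinearMap.toMatrix' g).transpose
  have hT : ∀ z w, T z ⬝ᵥ w = z ⬝ᵥ g w := by
    intro z w
    have hg : g w = (LinearMap.toMatrix' g).mulVec w := by
      rw [← Matrix.toLin'_apply, Matrix.toLin'_toMatrix']
    rw [hg, Matrix.dotProduct_mulVec]
    simp only [T, Matrix.toLin'_apply, Matrix.mulVec_transpose]
  exact factorsFree_of_kills f g hf hfg α T hT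
    (fun t ht => rTensor_eq_zero_of_tor_map_zero (LinearMap.range T) α
      (h ((Fin m → R) ⧸ LinearMap.range T)) t ht)

end Factor

end Groth.Agent.Lib.Helper82.TorFactor
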