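import Groth.Agent.Lib.Helper82.ModHomology
import Groth.Agent.Lib.Helper29.DepthExt

/-!
# The acyclicity lemma of Peskine–Szpiro
-/

set_option autoImplicit false

namespace Groth.Agent.Lib.Helper82

open CategoryTheory HomologicalComplex Groth.Agent.Lib.Helper29

universe u

section

variable {R : Type u} [CommRing R]
variable (C : ChainComplex (ModuleCat.{u} R) ℕ)

/-- Cycles at position `m + 1`. -/
abbrev Zs (m : ℕ) : Submodule R (C.X (m + 1)) := LinearMap.ker (C.d (m + 1) m).hom

/-- Boundaries at position `m + 1`. -/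
abbrev Bs (m : ℕ) : Submodule R (C.X (m + 1)) := LinearMap.range (C.d (m + 2) (m + 1)).hom

lemma Bs_le_Zs (m : ℕ) : Bs C m ≤ Zs C m := by
  rintro _ ⟨y, rfl⟩
  exact LinearMap.congr_fun (congrArg ModuleCat.Hom.hom (C.d_comp_d (m + 2) (m + 1) m)) y

lemma next_succ (m : ℕ) : (ComplexShape.down ℕ).next (m + 1) = m := by simp

lemma prev_succ (m : ℕ) : (ComplexShape.down ℕ).prev (m + 1) = m + 2 := by simp

lemma Zs_le_Bs_of_exactAt (m : ℕ) (h : C.ExactAt (m + 1)) : Zs C m ≤ Bs C m := by
  intro x hx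
  have hz : Limits.IsZero (C.homology (m + 1)) := (exactAt_iff_isZero_homology _ _).mp h
  have hsub : Subsingleton (C.homology (m + 1)) := ModuleCat.subsingleton_of_isZero hz
  have h0 : hcl C (m + 1) m (next_succ m) x hx = 0 := Subsingleton.elim _ _
  obtain ⟨y, hy⟩ := (hcl_eq_zero_iff C (m + 1) m (next_succ m) (m + 2) (prev_succ m) x hx).mp h0
  exact ⟨y, hy⟩

/-- The homology class map on cycles, as a linear map. -/
noncomputable def hclLin (m : ℕ) : Zs C m →ₗ[R] C.homology (m + 1) :=
  (C.homologyπ (m + 1)).hom ∘ₗ (kerToCycles C (m + 1) m (next_succ m)).hom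

lemma hclLin_apply (m : ℕ) (z : Zs C m) :
    hclLin C m z = hcl C (m + 1) m (next_succ m) z.1 (LinearMap.mem_ker.mp z.2) := rfl

lemma hclLin_surjective (m : ℕ) : Function.Surjective (hclLin C m) := by
  intro h
  obtain ⟨x, hx, rfl⟩ := hcl_surjective C (m + 1) m (next_succ m) h
  exact ⟨⟨x, hx⟩, rfl⟩

lemma hclLin_exact (m : ℕ) :
    Function.Exact (Submodule.inclusion (Bs_le_Zs C m)) (hclLin C m) := by
  intro z
  have key := hcl_eq_zero_iff C (m + 1) m (next_succ m) (m + 2) (prev_succ m) z.1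
    (LinearMap.mem_ker.mp z.2)
  rw [hclLin_apply]
  refine key.trans ?_
  constructor
  · rintro ⟨y, hy⟩
    exact ⟨⟨z.1, ⟨y, hy⟩⟩, Subtype.ext rfl⟩
  · rintro ⟨⟨b, ⟨y, hy⟩⟩, hb⟩
    refine ⟨y, ?_⟩
    rw [hy]
    exact congrArg Subtype.val hb

end

section Main

variable {R : Type u} [CommRing R] [IsLocalRing R] [IsNoetherianRing R]
variable (C : ChainComplex (ModuleCat.{u} R) ℕ)

theorem enat_le_sub_one {a : ℕ} {d : ℕ∞} (h : ((a + 1 : ℕ) : ℕ∞) ≤ d) : (a : ℕ∞) ≤ d - 1 := by
  induction d with
  | top => simp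
  | coe d =>
    have h1 : a + 1 ≤ d := by exact_mod_cast h
    have h2 : a ≤ d - 1 := by omega
    have h3 : ((d : ℕ∞) - 1) = ((d - 1 : ℕ) : ℕ∞) := by simp
    rw [h3]
    exact_mod_cast h2

theorem acyclicity_lemma (e : ℕ) (hzero : ∀ j, e < j → Limits.IsZero (C.X j))
    (hfin : ∀ j, Module.Finite R (C.X j))
    (hdepth : ∀ j, j ≤ e → (j : ℕ∞) ≤ LocCoh.depth R (C.X j))
    (i' : ℕ) (habove : ∀ j, i' + 1 < j → C.ExactAt j) :
    1 ≤ LocCoh.depth R (C.homology (i' + 1)) := by
  have hsub : ∀ j, e < j → Subsingleton (C.X j) := fun j hj =>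
    ModuleCat.subsingleton_of_isZero (hzero j hj)
  have hX : ∀ j : ℕ, (j : ℕ∞) ≤ LocCoh.depth R (C.X j) := by
    intro j
    by_cases hj : j ≤ e
    · exact hdepth j hj
    · have := hsub j (by omega)
      rw [depth_eq_top_of_subsingleton]
      exact le_top
  have hnoeth : ∀ j, IsNoetherian R (C.X j) := fun j =>
    have := hfin j
    isNoetherian_of_isNoetherianRing_of_finite R (C.X j)
  have finSub : ∀ j (N : Submodule R (C.X j)), Module.Finite R N := fun j N =>
    have := hnoeth j
    Module.Finite.iff_fg.mpr (IsNoetherian.noetherian N)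
  -- SES A(m)
  have sesA : ∀ m, min (LocCoh.depth R (C.X (m + 2))) (LocCoh.depth R (Zs C (m + 1)) - 1) ≤
      LocCoh.depth R (Bs C m) := by
    intro m
    have := hfin (m + 2)
    have := finSub (m + 2) (Zs C (m + 1))
    have := finSub (m + 1) (Bs C m)
    refine (idealDepth_shortExact (IsLocalRing.maximalIdeal R) (Zs C (m + 1)) (C.X (m + 2))
      (Bs C m) (Zs C (m + 1)).subtype (C.d (m + 2) (m + 1)).hom.rangeRestrict
      (Submodule.injective_subtype _) (LinearMap.surjective_rangeRestrict _) ?_).2.1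
    intro x
    constructor
    · intro hx
      have hx' : (C.d (m + 2) (m + 1)).hom x = 0 := congrArg Subtype.val hx
      exact ⟨⟨x, hx'⟩, rfl⟩
    · rintro ⟨z, rfl⟩
      exact Subtype.ext z.2
  -- downward induction
  have claim : ∀ k m, e < m + 1 + k → i' + 1 ≤ m →
      ((m + 2 : ℕ) : ℕ∞) ≤ LocCoh.depth R (Zs C m) := by
    intro k
    induction k with
    | zero =>
      intro m hm _
      have := hsub (m + 1) (by omega)
      rw [depth_eq_top_of_subsingleton]
      exact le_top
    | succ k ih =>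
      intro m hm him
      by_cases hem : e < m + 1
      · have := hsub (m + 1) hem
        rw [depth_eq_top_of_subsingleton]
        exact le_top
      · have h1 := ih (m + 1) (by omega) (by omega)
        have h2 := sesA m
        have hZB : Zs C m = Bs C m :=
          le_antisymm (Zs_le_Bs_of_exactAt C m (habove (m + 1) (by omega))) (Bs_le_Zs C m)
        rw [hZB]
        refine le_trans (le_min ?_ ?_) h2
        · exact hX (m + 2)
        · exact enat_le_sub_one h1
  have hB : ((i' + 2 : ℕ) : ℕ∞) ≤ LocCoh.depth R (Bs C i') := by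
    have h1 := claim (e + 1) (i' + 1) (by omega) le_rfl
    refine le_trans (le_min ?_ ?_) (sesA i')
    · exact hX (i' + 2)
    · exact enat_le_sub_one h1
  -- depth of cycles at position i'+1 is at least one
  have hZ : (1 : ℕ∞) ≤ LocCoh.depth R (Zs C i') := by
    have := hfin (i' + 1)
    have := finSub (i' + 1) (Zs C i')
    have h3 := (idealDepth_shortExact (IsLocalRing.maximalIdeal R) (Zs C i') (C.X (i' + 1))
      (C.X (i' + 1) ⧸ Zs C i') (Zs C i').subtype (Zs C i').mkQ
      (Submodule.injective_subtype _) (Submodule.mkQ_surjective _)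
      (LinearMap.exact_subtype_mkQ _)).2.2
    refine le_trans (le_min ?_ ?_) h3
    · refine le_trans ?_ (hX (i' + 1))
      exact_mod_cast Nat.succ_le_succ (Nat.zero_le i')
    · exact le_add_self
  -- final SES
  have := finSub (i' + 1) (Zs C i')
  have := finSub (i' + 1) (Bs C i')
  have : Module.Finite R (C.homology (i' + 1)) :=
    Module.Finite.of_surjective (hclLin C i') (hclLin_surjective C i')
  have h4 := (idealDepth_shortExact (IsLocalRing.maximalIdeal R) (Bs C i') (Zs C i')
    (C.homology (i' + 1)) (Submodule.inclusion (Bs_le_Zs C i')) (hclLin C i')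
    (Submodule.inclusion_injective _) (hclLin_surjective C i') (hclLin_exact C i')).2.1
  refine le_trans (le_min hZ ?_) h4
  have : ((1 : ℕ) : ℕ∞) ≤ LocCoh.idealDepth (IsLocalRing.maximalIdeal R) (Bs C i') - 1 :=
    enat_le_sub_one (le_trans (by exact_mod_cast Nat.succ_le_succ (Nat.succ_le_succ (Nat.zero_le i'))) hB)
  exact_mod_cast this

end Main

end Groth.Agent.Lib.Helper82
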