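import Groth.Agent.Lib.Helper82.AusBuch

set_option autoImplicit false
universe u

namespace Groth.Agent.Lib.Helper82.AusBuchGen

open LocCoh CategoryTheory Abelian Groth.Agent.Lib.Helper93.Depth Groth.Agent.Lib.Helper82.AusBuch

variable {R : Type u} [CommRing R] [IsNoetherianRing R] (I : Ideal R)

/-- Key step in projective dimension one, for a general ideal. -/
lemma not_le_idealDepth_of_minimal {K F M : Type u} [AddCommGroup K] [Module R K]
    [Module.Finite R K] [Module.Free R K] [AddCommGroup F] [Module R F] [Module.Finite R F]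
    [AddCommGroup M] [Module R M] [Module.Finite R M]
    (ι : K →ₗ[R] F) (π : F →ₗ[R] M) (hι : Function.Injective ι) (hex : Function.Exact ι π)
    (hπ : Function.Surjective π) (hmin : ∀ x, ι x ∈ (I • ⊤ : Submodule R F)) (d : ℕ)
    (hK : idealDepth I K = d) : ¬ ((d : ℕ∞) ≤ idealDepth I M) := by
  intro hM
  have hS := ModuleCat.shortComplex_shortExact
    (ModuleCat.shortComplexOfCompEqZero ι π hex.linearMap_comp_eq_zero) hex hι hπ
  have hK1 : ((d : ℕ) : ℕ∞) ≤ idealDepth I K := hK.ge
  have hK2 : ¬ (((d + 1 : ℕ) : ℕ∞) ≤ idealDepth I K) := by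
    rw [hK]
    intro h
    have : d + 1 ≤ d := by exact_mod_cast h
    omega
  rw [natCast_le_idealDepth_iff_ext_quotient] at hK1 hK2 hM
  have hne : ¬ Subsingleton (Ext (ModuleCat.of R (R ⧸ I)) (ModuleCat.of R K) d) := by
    intro hsub
    apply hK2
    intro i hi
    rcases Nat.lt_succ_iff_lt_or_eq.1 hi with h | h
    · exact hK1 i h
    · rw [h]; exact hsub
  rw [not_subsingleton_iff_nontrivial] at hne
  obtain ⟨e₀, he₀⟩ := exists_ne (0 : Ext (ModuleCat.of R (R ⧸ I)) (ModuleCat.of R K) d)
  have hzero : e₀.comp (Ext.mk₀ (ModuleCat.ofHom ι)) (add_zero d) = 0 :=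
    ext_comp_eq_zero_of_forall_mem I ι hmin e₀
  apply he₀
  cases d with
  | zero =>
    have := hS.mono_f
    apply Ext.postcomp_mk₀_injective_of_mono (ModuleCat.of R (R ⧸ I))
      (ModuleCat.shortComplexOfCompEqZero ι π hex.linearMap_comp_eq_zero).f
    rw [map_zero]
    exact hzero
  | succ d' =>
    obtain ⟨x₃, hx₃⟩ := Ext.covariant_sequence_exact₁ (ModuleCat.of R (R ⧸ I)) hS e₀
      hzero rfl
    have hsub := hM d' (Nat.lt_succ_self d')
    have hx0 : x₃ = 0 := Subsingleton.elim _ _
    rw [← hx₃, hx0, Ext.zero_comp]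

/-- `M` has an `I`-minimal finite free resolution of length exactly `ℓ`. -/
inductive MinRes : ℕ → ModuleCat.{u} R → Prop
  | zero (M : ModuleCat.{u} R) (n : ℕ) (hn : 0 < n) (e : M ≃ₗ[R] (Fin n → R)) : MinRes 0 M
  | succ (ℓ : ℕ) (K M : ModuleCat.{u} R) (n : ℕ) (ι : K →ₗ[R] (Fin n → R))
      (π : (Fin n → R) →ₗ[R] M) (hι : Function.Injective ι) (hex : Function.Exact ι π)
      (hπ : Function.Surjective π) (hmin : ∀ x, ι x ∈ (I • ⊤ : Submodule R (Fin n → R)))
      (h : MinRes ℓ K) : MinRes (ℓ + 1) M

/-- Auslander–Buchsbaum for `I`-minimal resolutions. -/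
theorem idealDepth_eq_of_minRes {ℓ : ℕ} {M : ModuleCat.{u} R} (h : MinRes I ℓ M) :
    idealDepth I R = ℓ + idealDepth I M := by
  induction h with
  | zero M n hn e =>
    rw [Nat.cast_zero, zero_add, idealDepth_congr (I := I) e]
    exact (idealDepth_pi_fin_self I n hn).symm
  | succ ℓ K M n ι π hι hex hπ hmin h ih =>
    have hfM : Module.Finite R M := Module.Finite.of_surjective π hπ
    have hfK : Module.Finite R K := Module.Finite.of_injective ι hι
    rcases Nat.eq_zero_or_pos n with rfl | hn
    · have hsM : Subsingleton M := ⟨fun a b => by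
        obtain ⟨x, rfl⟩ := hπ a
        obtain ⟨y, rfl⟩ := hπ b
        rw [Subsingleton.elim x y]⟩
      have hsK : Subsingleton K := ⟨fun a b => hι (Subsingleton.elim _ _)⟩
      rw [idealDepth_of_subsingleton (I := I) (M := K), add_top] at ih
      rw [ih, idealDepth_of_subsingleton (I := I) (M := M), add_top]
    · have hF : idealDepth I (Fin n → R) = idealDepth I R := idealDepth_pi_fin_self I n hn
      have hl := min_le_idealDepth_left I ι π hι hex hπ
      have hr := min_le_idealDepth_right I ι π hι hex hπ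
      rw [hF] at hl hr
      rcases Nat.eq_zero_or_pos ℓ with rfl | hpos
      · cases h with
        | zero _ n' hn' e' =>
          have hfree : Module.Free R K := Module.Free.of_equiv e'.symm
          rw [Nat.cast_zero, zero_add] at ih
          rw [← ih] at hr
          refine arith_zero _ _ hr ?_
          intro hd
          obtain ⟨d, hd'⟩ := ENat.ne_top_iff_exists.1 hd
          rw [← hd']
          exact not_le_idealDepth_of_minimal I ι π hι hex hπ hmin d (by rw [← ih, hd'])
      · exact arith_succ ℓ hpos _ _ _ ih hl hr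

end Groth.Agent.Lib.Helper82.AusBuchGen
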