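import Mathlib

set_option autoImplicit false

namespace Groth.Agent.Lib.Helper82

open scoped BigOperators

section
universe u v w
variable {A : Type u} [CommRing A] {Γ : Type v} [Group Γ] [Fintype Γ]
  {M : Type w} [AddCommGroup M] [Module A M] [DistribMulAction Γ M] [SMulCommClass Γ A M]

/-- The averaging operator `m ↦ c • ∑ γ, γ • m`. -/
noncomputable def avg (c : A) : M →ₗ[A] M :=
  c • ∑ γ : Γ, DistribSMul.toLinearMap A M γ

lemma avg_apply (c : A) (m : M) : avg (Γ := Γ) c m = c • ∑ γ : Γ, γ • m := by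
  simp [avg, LinearMap.sum_apply, DistribSMul.toLinearMap_apply]

lemma smul_avg (c : A) (m : M) (γ : Γ) : γ • avg (Γ := Γ) c m = avg (Γ := Γ) c m := by
  rw [avg_apply, smul_comm, Finset.smul_sum]
  congr 1
  simp_rw [← mul_smul]
  exact Fintype.sum_equiv (Equiv.mulLeft γ) _ _ (fun _ => rfl)

lemma avg_of_fixed (c : A) (hc : c * (Fintype.card Γ : A) = 1) (m : M) (hm : ∀ γ : Γ, γ • m = m) :
    avg (Γ := Γ) c m = m := by
  rw [avg_apply]
  simp_rw [hm]
  rw [Finset.sum_const, Finset.card_univ, ← Nat.cast_smul_eq_nsmul A, ← mul_smul, hc, one_smul]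

/-- `m - avg m` is `c • ∑ γ, (m - γ • m)`. -/
lemma sub_avg (c : A) (hc : c * (Fintype.card Γ : A) = 1) (m : M) :
    m - avg (Γ := Γ) c m = c • ∑ γ : Γ, (m - γ • m) := by
  rw [avg_apply, Finset.sum_sub_distrib, Finset.sum_const, Finset.card_univ,
    ← Nat.cast_smul_eq_nsmul A, smul_sub, ← mul_smul, hc, one_smul]

end

end Groth.Agent.Lib.Helper82
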