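import Groth.Agent.Lib.Helper82.ChainRingLocal
import Groth.Agent.Lib.Helper35.Bezout

/-!
# Finitely presented modules over Bézout domains
-/

namespace Groth.Agent.Lib.Helper82

universe u

open Submodule

section LocalDvd

variable {R : Type u} [CommRing R] [IsDomain R] [IsBezout R]

theorem dvd_total_localization_of_isBezout (m : Ideal R) [m.IsPrime]
    (a b : Localization.AtPrime m) : a ∣ b ∨ b ∣ a := by
  obtain ⟨⟨x, s⟩, hxs⟩ := IsLocalization.surj m.primeCompl a
  obtain ⟨⟨y, t⟩, hyt⟩ := IsLocalization.surj m.primeCompl b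
  simp only at hxs hyt
  have hs : IsUnit (algebraMap R (Localization.AtPrime m) s) :=
    IsLocalization.map_units _ s
  have ht : IsUnit (algebraMap R (Localization.AtPrime m) t) :=
    IsLocalization.map_units _ t
  -- reduce to numerators
  suffices h : algebraMap R (Localization.AtPrime m) x ∣ algebraMap R (Localization.AtPrime m) y ∨
      algebraMap R (Localization.AtPrime m) y ∣ algebraMap R (Localization.AtPrime m) x by
    rw [← hxs, ← hyt] at h
    rcases h with h | h
    · left
      exact (hs.mul_right_dvd.mp h) |> fun h' => (ht.dvd_mul_right.mp h')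
    · right
      exact (ht.mul_right_dvd.mp h) |> fun h' => (hs.dvd_mul_right.mp h')
  obtain ⟨d, hd⟩ := (IsBezout.span_pair_isPrincipal x y).principal
  have hx : x ∈ Ideal.span {d} := by
    have : x ∈ Ideal.span {x, y} := Ideal.subset_span (by simp)
    rw [hd] at this; exact this
  have hy : y ∈ Ideal.span {d} := by
    have : y ∈ Ideal.span {x, y} := Ideal.subset_span (by simp)
    rw [hd] at this; exact this
  have hdm : d ∈ Ideal.span {x, y} := by
    rw [hd]; exact Ideal.subset_span (by simp)
  obtain ⟨x', rfl⟩ := Ideal.mem_span_singleton'.mp hx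
  obtain ⟨y', rfl⟩ := Ideal.mem_span_singleton'.mp hy
  obtain ⟨u, v, huv⟩ := Ideal.mem_span_pair.mp hdm
  by_cases hd0 : d = 0
  · left
    subst hd0
    simp
  · have h1 : u * x' + v * y' = 1 := by
      have : (u * x' + v * y') * d = 1 * d := by
        calc (u * x' + v * y') * d = u * (x' * d) + v * (y' * d) := by ring
          _ = 1 * d := by rw [huv, one_mul]
      exact mul_right_cancel₀ hd0 this
    have hor : x' ∉ m ∨ y' ∉ m := by
      by_contra hcon
      rw [not_or, not_not, not_not] at hcon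
      have : (1 : R) ∈ m := by
        rw [← h1]
        exact m.add_mem (m.mul_mem_left _ hcon.1) (m.mul_mem_left _ hcon.2)
      exact (Ideal.IsPrime.ne_top ‹_›) ((Ideal.eq_top_iff_one _).mpr this)
    rcases hor with hx' | hy'
    · left
      have hu : IsUnit (algebraMap R (Localization.AtPrime m) x') :=
        IsLocalization.map_units _ (⟨x', hx'⟩ : m.primeCompl)
      rw [map_mul, map_mul]
      exact (hu.mul_left_dvd.mpr (Dvd.intro_left _ rfl))
    · right
      have hu : IsUnit (algebraMap R (Localization.AtPrime m) y') :=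
        IsLocalization.map_units _ (⟨y', hy'⟩ : m.primeCompl)
      rw [map_mul, map_mul]
      exact (hu.mul_left_dvd.mpr (Dvd.intro_left _ rfl))

end LocalDvd

section Tors

variable {R : Type u} [CommRing R] [IsDomain R] {M N : Type u} [AddCommGroup M] [Module R M]
  [AddCommGroup N] [Module R N]

theorem map_mem_torsion (g : M →ₗ[R] N) {x : M} (hx : x ∈ torsion R M) : g x ∈ torsion R N := by
  obtain ⟨a, ha⟩ := (mem_torsion_iff x).mp hx
  refine (mem_torsion_iff _).mpr ⟨a, ?_⟩
  rw [Submonoid.smul_def] at ha ⊢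
  rw [← map_smul, ha, map_zero]

theorem apply_eq_zero_of_mem_torsion (g : M →ₗ[R] R) {x : M} (hx : x ∈ torsion R M) :
    g x = 0 := by
  obtain ⟨a, ha⟩ := (mem_torsion_iff x).mp hx
  rw [Submonoid.smul_def] at ha
  have h1 : (a : R) * g x = 0 := by
    rw [← smul_eq_mul, ← map_smul, ha, map_zero]
  rcases mul_eq_zero.mp h1 with h | h
  · exact absurd h (nonZeroDivisors.coe_ne_zero a)
  · exact h

theorem mem_torsion_of_smul_eq_zero {c : R} (hc : c ≠ 0) {x : M} (hx : c • x = 0) :
    x ∈ torsion R M :=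
  (mem_torsion_iff x).mpr ⟨⟨c, mem_nonZeroDivisors_of_ne_zero hc⟩, hx⟩

end Tors

section Coord

variable {R : Type u} [CommRing R] [IsDomain R]

/-- `1` if `a = 0`, else `0`. -/
noncomputable def zeroInd (a : R) : R := by
  classical exact if a = 0 then 1 else 0

/-- `1` if `a = 0`, else `a`. -/
noncomputable def nzPart (a : R) : R := by
  classical exact if a = 0 then 1 else a

theorem nzPart_ne_zero (a : R) : nzPart a ≠ 0 := by
  unfold nzPart
  split_ifs with h
  · exact one_ne_zero
  · exact h

/-- The functional on `R ⧸ (a)`: identity if `a = 0`, zero otherwise. -/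
noncomputable def gammaC (a : R) : (R ⧸ Ideal.span {a}) →ₗ[R] R :=
  (Ideal.span {a}).liftQ (zeroInd a • LinearMap.id) (by
    rw [Ideal.span_le]
    intro x hx
    rw [Set.mem_singleton_iff] at hx
    subst hx
    simp only [SetLike.mem_coe, LinearMap.mem_ker, LinearMap.smul_apply, LinearMap.id_apply,
      smul_eq_mul, zeroInd]
    split_ifs with h
    · rw [h, mul_zero]
    · rw [zero_mul])

theorem gammaC_mk (a r : R) : gammaC a (Submodule.Quotient.mk r) = zeroInd a * r := rfl

/-- `R ⧸ (a) → R ⧸ (nzPart a)`. -/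
noncomputable def alphaC (a : R) : (R ⧸ Ideal.span {a}) →ₗ[R] (R ⧸ Ideal.span {nzPart a}) :=
  Submodule.mapQ (Ideal.span {a}) (Ideal.span {nzPart a}) LinearMap.id (by
    rw [Ideal.span_le]
    intro x hx
    rw [Set.mem_singleton_iff] at hx
    subst hx
    simp only [Submodule.comap_id, SetLike.mem_coe, nzPart]
    split_ifs with h
    · rw [h]; exact Submodule.zero_mem _
    · exact Ideal.subset_span rfl)

/-- `R ⧸ (nzPart a) → R ⧸ (a)`. -/
noncomputable def betaC (a : R) : (R ⧸ Ideal.span {nzPart a}) →ₗ[R] (R ⧸ Ideal.span {a}) :=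
  Submodule.mapQ (Ideal.span {nzPart a}) (Ideal.span {a}) ((1 - zeroInd a) • LinearMap.id) (by
    rw [Ideal.span_le]
    intro x hx
    rw [Set.mem_singleton_iff] at hx
    subst hx
    simp only [SetLike.mem_coe, Submodule.mem_comap, LinearMap.smul_apply, LinearMap.id_apply,
      smul_eq_mul, nzPart, zeroInd]
    split_ifs with h
    · simp
    · simp only [sub_zero, one_mul]
      exact Ideal.subset_span rfl)

theorem betaC_alphaC (a : R) (x : R ⧸ Ideal.span {a}) :
    betaC a (alphaC a x) = (1 - zeroInd a) • x := by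
  obtain ⟨r, rfl⟩ := Submodule.Quotient.mk_surjective _ x
  rfl

theorem zeroInd_smul_eq_zero_of_gammaC (a : R) (x : R ⧸ Ideal.span {a}) (hx : gammaC a x = 0) :
    zeroInd a • x = 0 := by
  obtain ⟨r, rfl⟩ := Submodule.Quotient.mk_surjective _ x
  rw [gammaC_mk] at hx
  rw [← Submodule.Quotient.mk_smul, smul_eq_mul, hx]
  rfl

theorem nzPart_smul_eq_zero_of_gammaC (a : R) (x : R ⧸ Ideal.span {a}) (hx : gammaC a x = 0) :
    nzPart a • x = 0 := by
  obtain ⟨r, rfl⟩ := Submodule.Quotient.mk_surjective _ x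
  rw [gammaC_mk] at hx
  rw [← Submodule.Quotient.mk_smul, smul_eq_mul, Submodule.Quotient.mk_eq_zero]
  unfold nzPart
  unfold zeroInd at hx
  split_ifs at hx ⊢ with h
  · rw [one_mul] at hx
    rw [hx, mul_zero]
    exact Submodule.zero_mem _
  · exact Ideal.mul_mem_right _ _ (Ideal.subset_span rfl)

theorem nzPart_smul_eq_zero (a : R) (y : R ⧸ Ideal.span {nzPart a}) : nzPart a • y = 0 := by
  obtain ⟨r, rfl⟩ := Submodule.Quotient.mk_surjective _ y
  rw [← Submodule.Quotient.mk_smul, smul_eq_mul, Submodule.Quotient.mk_eq_zero]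
  exact Ideal.mul_mem_right _ _ (Ideal.subset_span rfl)

end Coord

section Main

variable {R : Type u} [CommRing R] [IsDomain R] [IsBezout R]

/-- Structure of finitely presented modules over a Bézout domain. -/
theorem bezout_fp_structure (M : Type u) [AddCommGroup M] [Module R M]
    [Module.FinitePresentation R M] :
    (∃ r : ℕ, Nonempty (M ≃ₗ[R] ((Fin r → R) × torsion R M))) ∧
      ∃ (n : ℕ) (f : Fin n → R), (∀ j, f j ≠ 0) ∧
        ∃ (i : torsion R M →ₗ[R] ((j : Fin n) → R ⧸ Ideal.span {f j}))
          (p : ((j : Fin n) → R ⧸ Ideal.span {f j}) →ₗ[R] torsion R M),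
          p ∘ₗ i = LinearMap.id := by
  classical
  obtain ⟨n, f, i, q, hqi⟩ :=
    exists_summand_of_locally_dvd_total (R := R)
      (fun m _ => dvd_total_localization_of_isBezout (R := R) m) M
  have hqi' : ∀ x, q (i x) = x := fun x => LinearMap.congr_fun hqi x
  -- the functional γ
  let γ : ((j : Fin n) → R ⧸ Ideal.span {f j}) →ₗ[R] (Fin n → R) :=
    LinearMap.pi fun j => gammaC (f j) ∘ₗ LinearMap.proj j
  let c : R := ∏ j, nzPart (f j)
  have hc : c ≠ 0 := Finset.prod_ne_zero_iff.mpr fun j _ => nzPart_ne_zero _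
  have hdvd : ∀ j, nzPart (f j) ∣ c := fun j => Finset.dvd_prod_of_mem _ (Finset.mem_univ j)
  -- F1: γ kills torsion
  have hγtors : ∀ x ∈ torsion R ((j : Fin n) → R ⧸ Ideal.span {f j}), γ x = 0 := by
    intro x hx
    ext j
    exact apply_eq_zero_of_mem_torsion ((LinearMap.proj j) ∘ₗ γ) hx
  -- F2: ker γ is torsion
  have hkerγ : ∀ x, γ x = 0 → c • x = 0 := by
    intro x hx
    ext j
    have hj : gammaC (f j) (x j) = 0 := congrFun hx j
    obtain ⟨d, hd⟩ := hdvd j
    show c • x j = 0
    rw [hd, mul_comm, mul_smul, nzPart_smul_eq_zero_of_gammaC _ _ hj, smul_zero]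
  -- kernel of γ ∘ i is the torsion of M
  have hker : LinearMap.ker (γ ∘ₗ i) = torsion R M := by
    ext x
    rw [LinearMap.mem_ker, LinearMap.comp_apply]
    constructor
    · intro hx
      have := hkerγ _ hx
      apply mem_torsion_of_smul_eq_zero hc
      rw [← hqi' x, ← map_smul, this, map_zero]
    · intro hx
      exact hγtors _ (map_mem_torsion i hx)
  refine ⟨?_, ?_⟩
  · -- free part
    let F : Submodule R (Fin n → R) := LinearMap.range (γ ∘ₗ i)
    have hFfg : F.FG := by
      show (LinearMap.range (γ ∘ₗ i)).FG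
      rw [LinearMap.range_eq_map]; exact (Module.Finite.fg_top).map _
    have : Module.Free R F := Groth.Agent.Lib.Helper35.free_of_fg_submodule_of_free _ F hFfg
    have : Module.Finite R F := Module.Finite.iff_fg.mpr hFfg
    let g : M →ₗ[R] F := (γ ∘ₗ i).rangeRestrict
    have hg : Function.Surjective g := LinearMap.surjective_rangeRestrict _
    obtain ⟨s, hs⟩ := Module.projective_lifting_property g LinearMap.id hg
    let e1 : (F × LinearMap.ker g) ≃ₗ[R] M := prodKerEquivOfSplit s g hs
    have hkg : LinearMap.ker g = torsion R M := by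
      rw [LinearMap.ker_rangeRestrict]; exact hker
    let e2 : F ≃ₗ[R] (Fin (Module.finrank R F) → R) := (Module.finBasis R F).equivFun
    exact ⟨Module.finrank R F,
      ⟨e1.symm ≪≫ₗ LinearEquiv.prodCongr e2 (LinearEquiv.ofEq _ _ hkg)⟩⟩
  · -- torsion part
    refine ⟨n, fun j => nzPart (f j), fun j => nzPart_ne_zero _, ?_⟩
    let α : ((j : Fin n) → R ⧸ Ideal.span {f j}) →ₗ[R]
        ((j : Fin n) → R ⧸ Ideal.span {nzPart (f j)}) :=
      LinearMap.pi fun j => alphaC (f j) ∘ₗ LinearMap.proj j
    let β : ((j : Fin n) → R ⧸ Ideal.span {nzPart (f j)}) →ₗ[R]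
        ((j : Fin n) → R ⧸ Ideal.span {f j}) :=
      LinearMap.pi fun j => betaC (f j) ∘ₗ LinearMap.proj j
    have hP' : ∀ y : ((j : Fin n) → R ⧸ Ideal.span {nzPart (f j)}), c • y = 0 := by
      intro y
      ext j
      obtain ⟨d, hd⟩ := hdvd j
      show c • y j = 0
      rw [hd, mul_comm, mul_smul, nzPart_smul_eq_zero, smul_zero]
    have hβα : ∀ x, γ x = 0 → β (α x) = x := by
      intro x hx
      ext j
      have hj : gammaC (f j) (x j) = 0 := congrFun hx j
      show betaC (f j) (alphaC (f j) (x j)) = x j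
      rw [betaC_alphaC, sub_smul, one_smul, zeroInd_smul_eq_zero_of_gammaC _ _ hj, sub_zero]
    refine ⟨α ∘ₗ i ∘ₗ (torsion R M).subtype,
      LinearMap.codRestrict (torsion R M) (q ∘ₗ β) (fun y => ?_), ?_⟩
    · apply mem_torsion_of_smul_eq_zero hc
      rw [← map_smul, hP', map_zero]
    · ext t
      simp only [LinearMap.comp_apply, LinearMap.codRestrict_apply, Submodule.subtype_apply,
        LinearMap.id_apply]
      rw [hβα _ (hγtors _ (map_mem_torsion i t.2)), hqi']

end Main

end Groth.Agent.Lib.Helper82
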