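import Groth.Agent.Lib.Helper93.BlowUpRegReg
import Groth.Agent.S9862
import Groth.Agent.S9699
import Groth.Agent.H8.RegImmCM
import Groth.Agent.Lib.Helper87.ExtReesOpen1
import Groth.Agent.Lib.Helper29.FlatAscent2

/-!
# The blow-up of a Cohen–Macaulay scheme along a regular ideal is Cohen–Macaulay (helper82)
-/

set_option autoImplicit false
set_option linter.style.haveILetI false
universe u

open CategoryTheory CategoryTheory.Limits AlgebraicGeometry TopologicalSpace

namespace Groth.Agent.Lib.Helper82.BlowUpCM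

lemma isCohenMacaulayLocalRing_atPrime_congr {R : Type u} [CommRing R] {P Q : Ideal R} [P.IsPrime]
    [Q.IsPrime] (h : P = Q) (hP : LocCoh.IsCohenMacaulayLocalRing (Localization.AtPrime P)) :
    LocCoh.IsCohenMacaulayLocalRing (Localization.AtPrime Q) := by
  subst h; exact hP

/-- A locally Noetherian scheme is Cohen–Macaulay at the points of an effective Cartier divisor
whose own local ring is Cohen–Macaulay. -/
theorem isCohenMacaulayLocalRing_stalk_subschemeι {X' : Scheme.{u}} [IsLocallyNoetherian X']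
    (E : X'.IdealSheafData) (hE : BlowUp.IsEffCartierIdeal E) (y : E.subscheme)
    (hy : LocCoh.IsCohenMacaulayLocalRing (E.subscheme.presheaf.stalk y)) :
    LocCoh.IsCohenMacaulayLocalRing (X'.presheaf.stalk (E.subschemeι y)) := by
  obtain ⟨W, hyW, t, ht, hW⟩ := hE (E.subschemeι y)
  have hV : IsAffineOpen (E.subschemeι ⁻¹ᵁ W.1) := W.2.preimage E.subschemeι
  have hyV : y ∈ E.subschemeι ⁻¹ᵁ W.1 := hyW
  have : IsNoetherianRing Γ(X', W.1) := IsLocallyNoetherian.component_noetherian W
  set φ : Γ(X', W.1) →+* Γ(E.subscheme, E.subschemeι ⁻¹ᵁ W.1) := (E.subschemeι.app W.1).hom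
    with hφdef
  have hφ : Function.Surjective φ := E.subschemeι_app_surjective W
  have hker : RingHom.ker φ = Ideal.span {t} := by
    rw [← hW]; exact E.ker_subschemeι_app W
  obtain ⟨e1⟩ := Groth.Agent.Lib.Helper24.stalk_ringEquiv_atPrime hV y hyV
  have h1 : LocCoh.IsCohenMacaulayLocalRing
      (Localization.AtPrime (hV.primeIdealOf ⟨y, hyV⟩).asIdeal) :=
    Groth.Agent.Lib.Helper29.isCohenMacaulayLocalRing_of_ringEquiv e1 hy
  have h2 := (Groth.Agent.Lib.Helper87.ExtRees.isCohenMacaulayLocalRing_iff_of_surjective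
    Γ(X', W.1) t ht φ hφ hker (hV.primeIdealOf ⟨y, hyV⟩).asIdeal).mpr h1
  have h3 : (hV.primeIdealOf ⟨y, hyV⟩).asIdeal.comap φ =
      (W.2.primeIdealOf ⟨E.subschemeι y, hyW⟩).asIdeal := by
    have := IsAffineOpen.comap_primeIdealOf_appLE (f := E.subschemeι) W.1 W.2
      (E.subschemeι ⁻¹ᵁ W.1) hV le_rfl hyV
    rw [← this, hφdef, Scheme.Hom.app_eq_appLE]
    rfl
  have h4 := isCohenMacaulayLocalRing_atPrime_congr h3 h2
  obtain ⟨e2⟩ := Groth.Agent.Lib.Helper24.stalk_ringEquiv_atPrime W.2 (E.subschemeι y) hyW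
  exact Groth.Agent.Lib.Helper29.isCohenMacaulayLocalRing_of_ringEquiv e2.symm h4

/-- A scheme syntomic over a locally Noetherian Cohen–Macaulay scheme is Cohen–Macaulay. -/
theorem isCohenMacaulayLocalRing_stalk_of_isSyntomicMor {X S : Scheme.{u}} (g : X ⟶ S)
    (hg : Synt.IsSyntomicMor g) [IsLocallyNoetherian S]
    (hS : ∀ s : S, LocCoh.IsCohenMacaulayLocalRing (S.presheaf.stalk s)) (x : X) :
    LocCoh.IsCohenMacaulayLocalRing (X.presheaf.stalk x) := by
  let Xf : ULift.{u} Bool → Scheme.{u} := fun b => match b with | ⟨true⟩ => X | ⟨false⟩ => S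
  let f : ∀ b, Xf b ⟶ S := fun b => match b with | ⟨true⟩ => g | ⟨false⟩ => 𝟙 S
  have hsurj : ∀ s : S, ∃ b, s ∈ Set.range (f b).base := fun s => ⟨⟨false⟩, s, rfl⟩
  have hsyn : ∀ b, Synt.IsSyntomicMor (f b) := by
    rintro ⟨_ | _⟩
    · exact Groth.Agent.S9699.result (𝟙 S)
    · exact hg
  exact ((Groth.Agent.S9862.result f hsurj hsyn).mp ⟨inferInstance, hS⟩ ⟨true⟩).2 x

/-- A regular closed subscheme of a locally Noetherian Cohen–Macaulay scheme is
Cohen–Macaulay. -/
theorem isCohenMacaulayLocalRing_stalk_of_isRegularImmersion {X Z : Scheme.{u}}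
    [IsLocallyNoetherian X] (hCM : ∀ x : X, LocCoh.IsCohenMacaulayLocalRing (X.presheaf.stalk x))
    (i : Z ⟶ X) [IsClosedImmersion i] (hi : RegImm.IsRegularImmersion RegImm.Kind.regular i)
    (z : Z) : LocCoh.IsCohenMacaulayLocalRing (Z.presheaf.stalk z) := by
  obtain ⟨rs, hrs, hker⟩ := Groth.Agent.H8.RegImmStalk3.exists_isRegular_ker_stalkMap i hi z
  haveI := hCM (i z)
  haveI : IsLocallyNoetherian Z := LocallyOfFiniteType.isLocallyNoetherian i
  refine { supportDim_eq_depth := ?_ }
  rw [Module.supportDim_self_eq_ringKrullDim]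
  exact Groth.Agent.H8.RegImmCM.ringKrullDim_eq_depth_of_surjective (i.stalkMap z).hom
    (i.stalkMap_surjective z) rs hrs hker

/-- The blow-up of a locally Noetherian Cohen–Macaulay scheme along a regular ideal is
Cohen–Macaulay. -/
theorem isCohenMacaulayLocalRing_stalk_of_isBlowUp {W T : Scheme.{u}} [IsLocallyNoetherian W]
    (hcm : ∀ w : W, LocCoh.IsCohenMacaulayLocalRing (W.presheaf.stalk w))
    (I : W.IdealSheafData) (hI : RegImm.IsRegularIdeal RegImm.Kind.regular I)
    (π : T ⟶ W) (hπ : BlowUp.IsBlowUp π I) (t : T) :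
    LocCoh.IsCohenMacaulayLocalRing (T.presheaf.stalk t) := by
  set i := I.subschemeι with hidef
  have hker : i.ker = I := I.ker_subschemeι
  have hsupp : ∀ z : I.subscheme, i z ∈ I.support := fun z => by
    have : i z ∈ Set.range I.subschemeι := ⟨z, rfl⟩
    rwa [Scheme.IdealSheafData.range_subschemeι] at this
  have hi : Mor2.IsRegularClosedImmersion i := by
    refine ⟨inferInstance, fun z => ?_⟩
    obtain ⟨U, hzU, rs, hrs, hU⟩ := hI (i z) (hsupp z)
    exact ⟨U.1, U.2, hzU, rs, hrs, by rw [hker]; exact hU⟩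
  have hi' : RegImm.IsRegularImmersion RegImm.Kind.regular i := by
    refine ⟨inferInstance, fun z => ?_⟩
    obtain ⟨U, hzU, rs, hrs, hU⟩ := hI (i z) (hsupp z)
    refine ⟨U, hzU, inferInstance, rs, hrs, ?_⟩
    rw [← hU]
    have h1 : RingHom.ker (i.app U.1).hom = i.ker.ideal U := (Scheme.Hom.ker_apply i U).symm
    rw [h1, hker]
  have hb : BlowUp.IsBlowUp π i.ker := by rw [hker]; exact hπ
  have hft : BlowUp.IsFiniteTypeIdeal i.ker := fun U => by
    have : IsNoetherianRing Γ(W, U.1) := IsLocallyNoetherian.component_noetherian U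
    exact IsNoetherian.noetherian _
  have hproper : IsProper π :=
    Groth.Agent.Lib.Helper93.BlowUpProper.isProper_of_isBlowUp i.ker hft π hb
  have : IsLocallyNoetherian T := LocallyOfFiniteType.isLocallyNoetherian π
  have : IsLocallyNoetherian I.subscheme := LocallyOfFiniteType.isLocallyNoetherian i
  have hY : ∀ y : I.subscheme, LocCoh.IsCohenMacaulayLocalRing (I.subscheme.presheaf.stalk y) :=
    isCohenMacaulayLocalRing_stalk_of_isRegularImmersion hcm i hi'
  by_cases hz : π t ∈ i.ker.support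
  · have hzE : t ∈ (BlowUp.exceptional π i.ker).support := by
      rw [Scheme.IdealSheafData.support_comap]
      exact hz
    obtain ⟨y'', rfl⟩ : ∃ y'' : (BlowUp.exceptional π i.ker).subscheme,
        (BlowUp.exceptional π i.ker).subschemeι y'' = t := by
      have : t ∈ Set.range (BlowUp.exceptional π i.ker).subschemeι := by
        rw [Scheme.IdealSheafData.range_subschemeι]; exact hzE
      exact this
    let g : (BlowUp.exceptional π i.ker).subscheme ⟶ I.subscheme :=
      Scheme.IdealSheafData.subschemeMap _ _ π (i.ker.le_map_comap π) ≫ inv i.toImage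
    have hg : g ≫ i = (BlowUp.exceptional π i.ker).subschemeι ≫ π := by
      have h1 : inv i.toImage ≫ i = i.ker.subschemeι := by
        rw [IsIso.inv_comp_eq]
        exact (Scheme.Hom.toImage_imageι i).symm
      rw [Category.assoc, h1, Scheme.IdealSheafData.subschemeMap_subschemeι]
    have hsm : Smooth g := Groth.Agent.S2894.result i hi π hb g hg
    have hcmE : LocCoh.IsCohenMacaulayLocalRing
        ((BlowUp.exceptional π i.ker).subscheme.presheaf.stalk y'') :=
      isCohenMacaulayLocalRing_stalk_of_isSyntomicMor g (Groth.Agent.S9699.result g) hY y''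
    exact isCohenMacaulayLocalRing_stalk_subschemeι (BlowUp.exceptional π i.ker) hb.1 y'' hcmE
  · have hiso := Groth.Agent.Lib.Helper93.BlowUpRegular.isIso_stalkMap_of_notMem_support
      i.ker π hb t hz
    exact Groth.Agent.Lib.Helper29.isCohenMacaulayLocalRing_of_ringEquiv
      (asIso (π.stalkMap t)).commRingCatIsoToRingEquiv (hcm (π t))

end Groth.Agent.Lib.Helper82.BlowUpCM
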