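import Mathlib
import Groth.Prelude.Def_LCI2
import Groth.Agent.Lib.Helper10.KoszulFlat
import Groth.Agent.Lib.Helper12.KoszulLES
import Groth.Agent.Lib.Helper12.KoszulTop
import Groth.Agent.Lib.Helper94.KoszulBridge

/-!
# Dropping the head of a Koszul-regular sequence after inverting it (helper82)

Let `a :: g` be a Koszul-regular sequence in `R` such that `g` becomes Koszul-regular in `R[1/a]`.
Then `g` is Koszul-regular in `R` and `a` is a nonzerodivisor on `R ⧸ (g)`.

(The long exact sequence of the cone shows that `a` acts injectively on all `H^m(K(g))`, `m ≤ 0`;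
for `m < 0` these modules are `a`-power torsion, hence zero.)
-/

set_option autoImplicit false
universe u

namespace Groth.Agent.Lib.Helper82.KoszulLoc

open CategoryTheory CategoryTheory.Limits CochainComplex HomComplex
open Groth.Agent.Lib.Helper12.KoszulLES Groth.Agent.Lib.Helper12.KoszulTop
open Groth.Agent.Lib.Helper12.Koszul
open Groth.Agent.Lib.Helper10.KoszulFlat

variable {R : Type u} [CommRing R]

lemma homologyMap_smul_id_apply (K : CochainComplex (ModuleCat.{u} R) ℤ) (a : R) (n : ℤ)
    (y : K.homology n) : (HomologicalComplex.homologyMap (a • 𝟙 K) n).hom y = a • y := by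
  rw [homologyMap_smul', HomologicalComplex.homologyMap_id]
  rfl

/-- If `H^n` of the Koszul complex of `a :: g` vanishes then `a` acts injectively on
`H^{n+1}(K(g))`. -/
lemma smul_injective_homology (a : R) (g : List R) (n m : ℤ) (hnm : n + 1 = m)
    (h : IsZero ((Koszul.koszul R (a :: g)).homology n)) (y : (Koszul.koszul R g).homology m)
    (hy : a • y = 0) : y = 0 := by
  subst hnm
  obtain ⟨δ, w₃, w₁, h3, h1⟩ := cone_exact₃₁ (a • 𝟙 (Koszul.koszul R g)) n
  have hδ : δ = 0 := h.eq_of_src _ _
  have hmono : Mono (HomologicalComplex.homologyMap (a • 𝟙 (Koszul.koszul R g)) (n + 1)) :=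
    h1.mono_g hδ
  rw [ModuleCat.mono_iff_injective] at hmono
  apply hmono
  rw [homologyMap_smul_id_apply, hy, map_zero]

lemma isZero_homology_koszul_of_pos (g : List R) (m : ℤ) (hm : 0 < m) :
    IsZero ((Koszul.koszul R g).homology m) := by
  rw [Groth.Agent.Lib.Helper94.koszul_eq]
  exact isZero_homology_koszulCx_of_pos _ g m hm

section Away

variable {T : Type u} [CommRing T] [Algebra R T]

/-- A module over `R` that dies in `R[1/a]` and on which `a` is injective is zero. -/
lemma eq_zero_of_tensor_subsingleton (a : R) [IsLocalization.Away a T] {M : Type u}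
    [AddCommGroup M] [Module R M] (hs : Subsingleton (TensorProduct R T M))
    (hinj : ∀ y : M, a • y = 0 → y = 0) (x : M) : x = 0 := by
  have h0 : TensorProduct.mk R T M 1 x = 0 := Subsingleton.elim _ _
  rw [IsLocalizedModule.eq_zero_iff (Submonoid.powers a)] at h0
  obtain ⟨⟨_, k, rfl⟩, hk⟩ := h0
  change a ^ k • x = 0 at hk
  induction k with
  | zero => simpa using hk
  | succ k ih =>
    apply ih
    apply hinj
    rw [← mul_smul, ← pow_succ']
    exact hk

set_option backward.isDefEq.respectTransparency false in
/-- **Dropping the head**, ring hom form. -/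
theorem isKoszulRegularSeq_of_away' {T : Type u} [CommRing T] (φ : R →+* T) (a : R)
    (hloc : @IsLocalization.Away R _ a T _ φ.toAlgebra) (g : List R)
    (h1 : LCI.IsKoszulRegularSeq R (a :: g))
    (h2 : LCI.IsKoszulRegularSeq T (g.map φ)) : LCI.IsKoszulRegularSeq R g := by
  intro m hm
  rcases lt_or_gt_of_ne hm with hneg | hpos
  · obtain ⟨n, rfl⟩ : ∃ n, m = n + 1 := ⟨m - 1, by ring⟩
    algebraize [φ]
    have hflat : φ.Flat :=
      RingHom.flat_algebraMap_iff.mpr (IsLocalization.flat T (Submonoid.powers a))
    have hz : IsZero ((ModuleCat.extendScalars.{_, _, u} φ).obj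
        ((Koszul.koszul R g).homology (n + 1))) :=
      IsZero.of_iso (IsZero.of_iso (h2 (n + 1) hm)
        ((HomologicalComplex.homologyFunctor _ _ (n + 1)).mapIso (koszulIso φ g)))
        (homologyIso φ hflat _ (n + 1)).symm
    rw [ModuleCat.isZero_iff_subsingleton] at hz ⊢
    have hz' : Subsingleton (TensorProduct R T ((Koszul.koszul R g).homology (n + 1))) := hz
    refine subsingleton_of_forall_eq 0 fun x => ?_
    exact eq_zero_of_tensor_subsingleton (T := T) a hz'
      (smul_injective_homology a g n (n + 1) rfl (h1 n (by omega))) x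
  · exact isZero_homology_koszul_of_pos g m hpos

/-- **Dropping the head.**  If `a :: g` is Koszul-regular in `R` and `g` is Koszul-regular in
`R[1/a]`, then `g` is Koszul-regular in `R`. -/
theorem isKoszulRegularSeq_of_away (a : R) [IsLocalization.Away a T] (g : List R)
    (h1 : LCI.IsKoszulRegularSeq R (a :: g))
    (h2 : LCI.IsKoszulRegularSeq T (g.map (algebraMap R T))) : LCI.IsKoszulRegularSeq R g := by
  refine isKoszulRegularSeq_of_away' (algebraMap R T) a ?_ g h1 h2
  rw [toAlgebra_algebraMap]
  infer_instance

/-- `a` is a nonzerodivisor modulo `(g)` when `a :: g` is Koszul-regular. -/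
theorem mem_ofList_of_mul_mem (a : R) (g : List R) (h1 : LCI.IsKoszulRegularSeq R (a :: g))
    (x : R) (hx : a * x ∈ Ideal.ofList g) : x ∈ Ideal.ofList g := by
  obtain ⟨e⟩ := nonempty_top_equiv g R
  rw [← Groth.Agent.Lib.Helper94.koszul_eq] at e
  have hI : (Ideal.ofList g • (⊤ : Submodule R R)) = Ideal.ofList g := by
    rw [smul_eq_mul, Ideal.mul_top]
  have key : e.symm (Submodule.Quotient.mk x) = 0 := by
    apply smul_injective_homology a g (-1) 0 (by norm_num) (h1 (-1) (by norm_num))
    have h0 : (Submodule.Quotient.mk (a • x) : R ⧸ (Ideal.ofList g • (⊤ : Submodule R R))) = 0 := by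
      rw [Submodule.Quotient.mk_eq_zero, hI]
      exact hx
    rw [← map_smul, ← Submodule.Quotient.mk_smul, h0, map_zero]
  have h2 : (Submodule.Quotient.mk x : R ⧸ (Ideal.ofList g • (⊤ : Submodule R R))) = 0 := by
    have := congrArg e key
    rwa [e.apply_symm_apply, map_zero] at this
  rw [Submodule.Quotient.mk_eq_zero, hI] at h2
  exact h2

end Away

end Groth.Agent.Lib.Helper82.KoszulLoc
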