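import Mathlib
import Groth.Agent.Lib.Helper82.KoszulLoc
import Groth.Agent.Lib.Helper10.KoszulGen
import Groth.Agent.Lib.Helper10.KoszulFlat
import Groth.Agent.Lib.Helper51.SectionReg

/-!
# The chart relations of a blow-up in a Koszul-regular sequence (helper82)

Let `a :: b` be a Koszul-regular sequence in `A`.  In `R = A[X_1, …, X_m]` the sequence of chart
relations `a X_k - b_k` is Koszul-regular, and `a` is a nonzerodivisor modulo them.
-/

set_option autoImplicit false
universe u

namespace Groth.Agent.Lib.Helper82.BlowUpChartKoszul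

open MvPolynomial

attribute [local instance] MvPolynomial.algebraMvPolynomial

variable {A : Type u} [CommRing A] (a : A) {m : ℕ} (b : Fin m → A)

theorem ofList_ofFn {R : Type u} [CommRing R] {c : ℕ} (f : Fin c → R) :
    Ideal.ofList (List.ofFn f) = Ideal.span (Set.range f) := by
  have : ({x | x ∈ List.ofFn f} : Set R) = Set.range f := by
    ext x
    simp [List.mem_ofFn']
  rw [← this]

/-- The chart relations `a X_k - b_k`. -/
noncomputable def rel (k : Fin m) : MvPolynomial (Fin m) A := C a * X k - C (b k)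

lemma ofList_cons_rel :
    Ideal.ofList (C a :: List.ofFn (rel a b)) =
      Ideal.ofList ((a :: List.ofFn b).map (C : A →+* MvPolynomial (Fin m) A)) := by
  rw [List.map_cons, List.map_ofFn, Ideal.ofList_cons, Ideal.ofList_cons, ofList_ofFn,
    ofList_ofFn]
  have hCa : ∀ J : Ideal (MvPolynomial (Fin m) A), (C a : MvPolynomial (Fin m) A) ∈
      Ideal.span {(C a : MvPolynomial (Fin m) A)} ⊔ J := fun J =>
    Ideal.mem_sup_left (Ideal.mem_span_singleton_self _)
  apply le_antisymm
  · refine sup_le le_sup_left ?_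
    rw [Ideal.span_le]
    rintro _ ⟨k, rfl⟩
    refine Ideal.sub_mem _ (Ideal.mul_mem_right _ _ (hCa _)) ?_
    exact Ideal.mem_sup_right (Ideal.subset_span ⟨k, rfl⟩)
  · refine sup_le le_sup_left ?_
    rw [Ideal.span_le]
    rintro _ ⟨k, rfl⟩
    have h1 : (C (b k) : MvPolynomial (Fin m) A) = C a * X k - rel a b k := by
      rw [rel]; ring
    change (C (b k) : MvPolynomial (Fin m) A) ∈ _
    rw [h1]
    refine Ideal.sub_mem _ (Ideal.mul_mem_right _ _ (hCa _)) ?_
    exact Ideal.mem_sup_right (Ideal.subset_span ⟨k, rfl⟩)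

theorem isKoszulRegularSeq_cons_rel (h : LCI.IsKoszulRegularSeq A (a :: List.ofFn b)) :
    LCI.IsKoszulRegularSeq (MvPolynomial (Fin m) A) (C a :: List.ofFn (rel a b)) := by
  have hflat : (C : A →+* MvPolynomial (Fin m) A).Flat := by
    have : (C : A →+* MvPolynomial (Fin m) A) = algebraMap A (MvPolynomial (Fin m) A) := rfl
    rw [this, RingHom.flat_algebraMap_iff]
    infer_instance
  have h1 := Groth.Agent.Lib.Helper10.KoszulFlat.isKoszulRegularSeq_map
    (C : A →+* MvPolynomial (Fin m) A) hflat _ h
  refine Groth.Agent.Lib.Helper10.KoszulGen.isKoszulRegularSeq_of_ofList_eq _ _ h1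
    (ofList_cons_rel a b) ?_
  simp

/-- In `A[1/a][X]` the chart relations are Koszul-regular. -/
theorem isKoszulRegularSeq_map_rel :
    LCI.IsKoszulRegularSeq (MvPolynomial (Fin m) (Localization.Away a))
      ((List.ofFn (rel a b)).map
        (algebraMap (MvPolynomial (Fin m) A) (MvPolynomial (Fin m) (Localization.Away a)))) := by
  obtain ⟨u, hu⟩ : ∃ u : Localization.Away a, u * algebraMap A (Localization.Away a) a = 1 := by
    obtain ⟨u, hu⟩ := (IsLocalization.Away.algebraMap_isUnit (S := Localization.Away a) a).exists_left_inv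
    exact ⟨u, hu⟩
  set a' := algebraMap A (Localization.Away a) a with ha'
  let c : Fin m → Localization.Away a := fun k => u * algebraMap A (Localization.Away a) (b k)
  have h1 : RingTheory.Sequence.IsWeaklyRegular (MvPolynomial (Fin m) (Localization.Away a))
      (List.ofFn fun j : Fin m => (X j - C (c j) : MvPolynomial (Fin m) (Localization.Away a))) :=
    Groth.Agent.Lib.Helper51.SectionReg.isWeaklyRegular_X_sub_C c
  have h2 := Groth.Agent.Lib.Helper94.isKoszulRegularSeq_of_isWeaklyRegular _ _ h1
  refine Groth.Agent.Lib.Helper10.KoszulGen.isKoszulRegularSeq_of_ofList_eq _ _ h2 ?_ (by simp)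
  rw [List.map_ofFn, ofList_ofFn, ofList_ofFn]
  have himg : ∀ k, algebraMap (MvPolynomial (Fin m) A) (MvPolynomial (Fin m) (Localization.Away a))
      (rel a b k) = C a' * (X k - C (c k)) := by
    intro k
    rw [MvPolynomial.algebraMap_def, rel, map_sub, map_mul, map_C, map_C, map_X, mul_sub, ← C_mul]
    congr 2
    change _ = a' * (u * _)
    rw [← mul_assoc, mul_comm a' u, hu, one_mul]
  apply le_antisymm
  · rw [Ideal.span_le]
    rintro _ ⟨k, rfl⟩
    change algebraMap _ _ (rel a b k) ∈ _
    rw [himg]
    exact Ideal.mul_mem_left _ _ (Ideal.subset_span ⟨k, rfl⟩)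
  · rw [Ideal.span_le]
    rintro _ ⟨k, rfl⟩
    have h3 : (X k - C (c k) : MvPolynomial (Fin m) (Localization.Away a)) =
        C u * algebraMap (MvPolynomial (Fin m) A) (MvPolynomial (Fin m) (Localization.Away a))
          (rel a b k) := by
      rw [himg, ← mul_assoc, ← C_mul, hu, C_1, one_mul]
    change (X k - C (c k) : MvPolynomial (Fin m) (Localization.Away a)) ∈ _
    rw [h3]
    exact Ideal.mul_mem_left _ _ (Ideal.subset_span ⟨k, rfl⟩)

instance isLocalization_away_C :
    IsLocalization.Away (C a : MvPolynomial (Fin m) A)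
      (MvPolynomial (Fin m) (Localization.Away a)) := by
  have h := MvPolynomial.isLocalization (σ := Fin m) (Submonoid.powers a) (Localization.Away a)
  rw [Submonoid.map_powers] at h
  exact h

variable (h : LCI.IsKoszulRegularSeq A (a :: List.ofFn b))
include h

/-- **The chart relations are Koszul-regular.** -/
theorem isKoszulRegularSeq_rel :
    LCI.IsKoszulRegularSeq (MvPolynomial (Fin m) A) (List.ofFn (rel a b)) :=
  Groth.Agent.Lib.Helper82.KoszulLoc.isKoszulRegularSeq_of_away
    (T := MvPolynomial (Fin m) (Localization.Away a)) (C a) _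
    (isKoszulRegularSeq_cons_rel a b h) (isKoszulRegularSeq_map_rel a b)

/-- **`a` is a nonzerodivisor modulo the chart relations.** -/
theorem mem_of_C_mul_mem (x : MvPolynomial (Fin m) A)
    (hx : C a * x ∈ Ideal.span (Set.range (rel a b))) : x ∈ Ideal.span (Set.range (rel a b)) := by
  rw [← ofList_ofFn] at hx ⊢
  exact Groth.Agent.Lib.Helper82.KoszulLoc.mem_ofList_of_mul_mem (C a) _
    (isKoszulRegularSeq_cons_rel a b h) x hx

end Groth.Agent.Lib.Helper82.BlowUpChartKoszul
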