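import Mathlib
import Groth.Agent.Lib.Helper82.BlowUpChartKoszul
import Groth.Agent.Lib.Helper93.AffineBlowUpAlg
import Groth.Agent.Lib.Helper10.LciSmooth

/-!
# The charts of a blow-up in a Koszul-regular sequence are local complete intersections (helper82)

Let `a :: b` be a Koszul-regular sequence in `A` generating the ideal `I`.  The chart ring
`B a = (R(I)_{aT})₀` of `Proj R(I)` is `A[X_1, …, X_m] ⧸ (a X_k - b_k)`, and so `A → B a` is a local
complete intersection ring map.
-/

set_option autoImplicit false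
universe u

namespace Groth.Agent.Lib.Helper82.BlowUpChartLci

open MvPolynomial
open Groth.Agent.Lib.Helper82.BlowUpChartKoszul
open Groth.Agent.Lib.Helper93.BlowUpProjAlg Groth.Agent.Lib.Helper93.AffineBlowUpAlg
open Groth.Agent.Lib.Helper10.LciComp Groth.Agent.Lib.Helper10.LciSmooth
open Groth.Agent.Lib.Helper10.LciPoly Groth.Agent.Lib.Helper10.RegDescent
open Groth.Agent.Lib.Helper10.RegDescentKoszul

variable {A : Type u} [CommRing A] (a : A) {m : ℕ} (b : Fin m → A)

/-- The ideal of chart relations. -/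
noncomputable abbrev J : Ideal (MvPolynomial (Fin m) A) := Ideal.span (Set.range (rel a b))

/-- The presented chart ring `A[X] ⧸ (a X_k - b_k)`. -/
abbrev Q : Type u := MvPolynomial (Fin m) A ⧸ J a b

/-- The structure map `A → Q`. -/
noncomputable def φ : A →+* Q a b := (Ideal.Quotient.mk (J a b)).comp C

lemma φ_mul_mk_X (k : Fin m) : φ a b a * Ideal.Quotient.mk (J a b) (X k) = φ a b (b k) := by
  change Ideal.Quotient.mk (J a b) (C a) * _ = Ideal.Quotient.mk (J a b) (C (b k))
  rw [← map_mul, ← sub_eq_zero, ← map_sub, Ideal.Quotient.eq_zero_iff_mem]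
  exact Ideal.subset_span ⟨k, rfl⟩

variable (h : LCI.IsKoszulRegularSeq A (a :: List.ofFn b))

include h in
lemma φ_mem_nonZeroDivisors : φ a b a ∈ nonZeroDivisors (Q a b) := by
  refine (mem_nonZeroDivisors_iff_right (M₀ := Q a b)).mpr ?_
  intro z hz
  obtain ⟨x, rfl⟩ := Ideal.Quotient.mk_surjective z
  change Ideal.Quotient.mk (J a b) x * Ideal.Quotient.mk (J a b) (C a) = 0 at hz
  rw [← map_mul, Ideal.Quotient.eq_zero_iff_mem, mul_comm] at hz
  rw [Ideal.Quotient.eq_zero_iff_mem]
  exact mem_of_C_mul_mem a b h x hz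

include h in
theorem isLCIHom_φ : IsLCIHom (φ a b) := by
  refine isLCIHom_comp_of_isPolyHom (isPolyHom_C m) (Ideal.Quotient.mk (J a b))
    Ideal.Quotient.mk_surjective ?_
  rw [Ideal.mk_ker]
  exact isLoc_of_ofList _ _ (isKoszulRegularSeq_rel a b h) (ofList_ofFn _).symm

variable {I : Ideal A} (hI : I = Ideal.ofList (a :: List.ofFn b))

include hI in
lemma map_φ_eq : I.map (φ a b) = Ideal.span {φ a b a} := by
  rw [hI, Ideal.ofList_cons, ofList_ofFn, Ideal.map_sup, Ideal.map_span, Ideal.map_span,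
    Set.image_singleton]
  refine le_antisymm (sup_le le_rfl ?_) le_sup_left
  rw [Ideal.span_le]
  rintro _ ⟨_, ⟨k, rfl⟩, rfl⟩
  rw [← φ_mul_mk_X]
  exact Ideal.mul_mem_right _ _ (Ideal.mem_span_singleton_self _)

variable (ha : a ∈ I)

include hI in
lemma b_mem (k : Fin m) : b k ∈ I := by
  rw [hI, Ideal.ofList_cons, ofList_ofFn]
  exact Ideal.mem_sup_right (Ideal.subset_span ⟨k, rfl⟩)

/-- The fractions `b_k / a` in the chart ring. -/
noncomputable def xx (k : Fin m) : B a ha :=
  frac a ha 1 (b k) (by rw [pow_one]; exact b_mem a b hI k)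

set_option backward.isDefEq.respectTransparency false in
lemma xx_mul (k : Fin m) : ψ a ha a * xx a b hI ha k = ψ a ha (b k) := by
  exact (mul_comm (ψ a ha a) (xx a b hI ha k)).trans (frac_one_mul a ha (b k) (b_mem a b hI k))

/-- `Q → B a`. -/
noncomputable def toB : Q a b →+* B a ha :=
  Ideal.Quotient.lift (J a b) (eval₂Hom (ψ a ha) (xx a b hI ha)) (by
    have hle : J a b ≤ RingHom.ker (eval₂Hom (ψ a ha) (xx a b hI ha)) := by
      rw [Ideal.span_le]
      rintro _ ⟨k, rfl⟩
      change eval₂Hom (ψ a ha) (xx a b hI ha) (rel a b k) = 0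
      rw [rel, map_sub, map_mul]
      rw [eval₂Hom_C, eval₂Hom_C, eval₂Hom_X', xx_mul a b hI ha k, sub_self]
    exact fun x hx => (RingHom.mem_ker (f := eval₂Hom (ψ a ha) (xx a b hI ha))).mp (hle hx))

lemma toB_comp_φ : (toB a b hI ha).comp (φ a b) = ψ a ha := by
  ext c
  rw [RingHom.comp_apply, toB, φ, RingHom.comp_apply, Ideal.Quotient.lift_mk, eval₂Hom_C]

lemma toB_mk_X (k : Fin m) :
    toB a b hI ha (Ideal.Quotient.mk (J a b) (X k)) = xx a b hI ha k := by
  rw [toB, Ideal.Quotient.lift_mk, eval₂Hom_X']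

/-- `B a → Q`. -/
noncomputable def ofB : B a ha →+* Q a b :=
  chartLift a ha (φ a b) (φ_mem_nonZeroDivisors a b h) (map_φ_eq a b hI)

lemma ofB_comp_ψ : (ofB a b h hI ha).comp (ψ a ha) = φ a b :=
  chartLift_comp_ψ a ha _ _ _

lemma toB_comp_ofB : (toB a b hI ha).comp (ofB a b h hI ha) = RingHom.id (B a ha) := by
  apply hom_ext a ha
  · rw [RingHom.comp_assoc, ofB_comp_ψ, toB_comp_φ, RingHom.id_comp]
  · have h1 : ((toB a b hI ha).comp (ofB a b h hI ha)) (ψ a ha a) = ψ a ha a := by
      rw [← RingHom.comp_apply, RingHom.comp_assoc, ofB_comp_ψ, toB_comp_φ]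
    rw [h1]
    exact ψ_mem_nonZeroDivisors a ha

lemma ofB_comp_toB : (ofB a b h hI ha).comp (toB a b hI ha) = RingHom.id (Q a b) := by
  apply Ideal.Quotient.ringHom_ext
  apply MvPolynomial.ringHom_ext
  · intro c
    change ofB a b h hI ha (toB a b hI ha (φ a b c)) = φ a b c
    rw [← RingHom.comp_apply (toB a b hI ha), toB_comp_φ, ← RingHom.comp_apply, ofB_comp_ψ]
  · intro k
    change ofB a b h hI ha (toB a b hI ha (Ideal.Quotient.mk (J a b) (X k))) =
      Ideal.Quotient.mk (J a b) (X k)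
    rw [toB_mk_X]
    have e1 : ∀ c, ofB a b h hI ha (ψ a ha c) = φ a b c := fun c =>
      RingHom.congr_fun (ofB_comp_ψ a b h hI ha) c
    have h1 : φ a b a * ofB a b h hI ha (xx a b hI ha k) =
        φ a b a * Ideal.Quotient.mk (J a b) (X k) := by
      rw [φ_mul_mk_X, ← e1 a, ← map_mul, xx_mul, e1]
    exact (mul_cancel_left_mem_nonZeroDivisors (φ_mem_nonZeroDivisors a b h)).mp h1

/-- The presentation of the chart ring. -/
noncomputable def equivB : Q a b ≃+* B a ha :=
  RingEquiv.ofRingHom (toB a b hI ha) (ofB a b h hI ha) (toB_comp_ofB a b h hI ha)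
    (ofB_comp_toB a b h hI ha)

include h hI in
/-- **The structure map of a chart of the blow-up in a Koszul-regular sequence is a local complete
intersection map.** -/
theorem isLCIHom_ψ : IsLCIHom (ψ a ha) := by
  have h1 := isLCIHom_comp (φ a b) ((equivB a b h hI ha : Q a b ≃+* B a ha) : Q a b →+* B a ha)
    (isLCIHom_φ a b h) (isLCIHom_ringEquiv _)
  have h2 : ((equivB a b h hI ha : Q a b ≃+* B a ha) : Q a b →+* B a ha).comp (φ a b) = ψ a ha :=
    toB_comp_φ a b hI ha
  rwa [h2] at h1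

end Groth.Agent.Lib.Helper82.BlowUpChartLci
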