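import Mathlib
import Groth.Agent.Lib.Helper82.BlowUpChartLci

/-!
# Base change of the presented chart ring `A[X] ⧸ (a X_k - b_k)` (helper82)

For `α : A → A'` the square `A → A'`, `A → Q a b`, `A' → Q (α a) (α ∘ b)`, `Q a b → Q (α a) (α ∘ b)` is a
pushout of commutative rings.
-/

set_option autoImplicit false
universe u

namespace Groth.Agent.Lib.Helper82.BlowUpChartBC

open MvPolynomial CategoryTheory CategoryTheory.Limits
open Groth.Agent.Lib.Helper82.BlowUpChartKoszul Groth.Agent.Lib.Helper82.BlowUpChartLci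

variable {A A' : Type u} [CommRing A] [CommRing A'] (α : A →+* A') (a : A) {m : ℕ} (b : Fin m → A)

lemma map_rel (k : Fin m) :
    MvPolynomial.map α (rel a b k) = rel (α a) (fun k => α (b k)) k := by
  rw [rel, rel, map_sub, map_mul, map_C, map_C, map_X]

/-- The base change map of presented chart rings. -/
noncomputable def Qmap : Q a b →+* Q (α a) (fun k => α (b k)) :=
  Ideal.Quotient.lift (J a b)
    ((Ideal.Quotient.mk (J (α a) (fun k => α (b k)))).comp (MvPolynomial.map α)) (by
    have hle : J a b ≤ RingHom.ker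
        ((Ideal.Quotient.mk (J (α a) (fun k => α (b k)))).comp (MvPolynomial.map α)) := by
      rw [Ideal.span_le]
      rintro _ ⟨k, rfl⟩
      change ((Ideal.Quotient.mk (J (α a) (fun k => α (b k)))).comp (MvPolynomial.map α))
        (rel a b k) = 0
      rw [RingHom.comp_apply, map_rel, Ideal.Quotient.eq_zero_iff_mem]
      exact Ideal.subset_span ⟨k, rfl⟩
    exact fun x hx => (RingHom.mem_ker (f := (Ideal.Quotient.mk
      (J (α a) (fun k => α (b k)))).comp (MvPolynomial.map α))).mp (hle hx))

lemma Qmap_mk (x : MvPolynomial (Fin m) A) :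
    Qmap α a b (Ideal.Quotient.mk (J a b) x) =
      Ideal.Quotient.mk (J (α a) (fun k => α (b k))) (MvPolynomial.map α x) := by
  rw [Qmap, Ideal.Quotient.lift_mk, RingHom.comp_apply]

lemma Qmap_comp_φ : (Qmap α a b).comp (φ a b) = (φ (α a) (fun k => α (b k))).comp α := by
  ext c
  rw [RingHom.comp_apply, RingHom.comp_apply, φ, φ, RingHom.comp_apply, RingHom.comp_apply,
    Qmap_mk, map_C]

section Desc

variable {D : Type u} [CommRing D] (u : Q a b →+* D) (v : A' →+* D)
  (huv : u.comp (φ a b) = v.comp α)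

include huv in
lemma desc_aux (k : Fin m) :
    eval₂Hom v (fun k => u (Ideal.Quotient.mk (J a b) (X k))) (rel (α a) (fun k => α (b k)) k) =
      0 := by
  have h1 : ∀ c, v (α c) = u (φ a b c) := fun c => (RingHom.congr_fun huv c).symm
  rw [rel, map_sub, map_mul, eval₂Hom_C, eval₂Hom_C, eval₂Hom_X', h1, h1, ← map_mul,
    φ_mul_mk_X, sub_self]

/-- The map out of the base-changed chart ring. -/
noncomputable def desc : Q (α a) (fun k => α (b k)) →+* D :=
  Ideal.Quotient.lift (J (α a) (fun k => α (b k)))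
    (eval₂Hom v (fun k => u (Ideal.Quotient.mk (J a b) (X k)))) (by
    have hle : J (α a) (fun k => α (b k)) ≤ RingHom.ker
        (eval₂Hom v (fun k => u (Ideal.Quotient.mk (J a b) (X k)))) := by
      rw [Ideal.span_le]
      rintro _ ⟨k, rfl⟩
      exact desc_aux α a b u v huv k
    exact fun x hx => (RingHom.mem_ker
      (f := eval₂Hom v (fun k => u (Ideal.Quotient.mk (J a b) (X k))))).mp (hle hx))

lemma desc_mk (x : MvPolynomial (Fin m) A') :
    desc α a b u v huv (Ideal.Quotient.mk _ x) =
      eval₂Hom v (fun k => u (Ideal.Quotient.mk (J a b) (X k))) x := by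
  rw [desc, Ideal.Quotient.lift_mk]

lemma desc_comp_φ : (desc α a b u v huv).comp (φ (α a) (fun k => α (b k))) = v := by
  ext c
  rw [RingHom.comp_apply, φ, RingHom.comp_apply, desc_mk, eval₂Hom_C]

lemma desc_comp_Qmap : (desc α a b u v huv).comp (Qmap α a b) = u := by
  apply Ideal.Quotient.ringHom_ext
  apply MvPolynomial.ringHom_ext
  · intro c
    have h1 : v (α c) = u (φ a b c) := (RingHom.congr_fun huv c).symm
    change desc α a b u v huv (Qmap α a b (Ideal.Quotient.mk (J a b) (C c))) =
      u (Ideal.Quotient.mk (J a b) (C c))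
    rw [Qmap_mk, map_C, desc_mk, eval₂Hom_C, h1]
    rfl
  · intro k
    change desc α a b u v huv (Qmap α a b (Ideal.Quotient.mk (J a b) (X k))) =
      u (Ideal.Quotient.mk (J a b) (X k))
    rw [Qmap_mk, map_X, desc_mk, eval₂Hom_X']

lemma desc_unique (w : Q (α a) (fun k => α (b k)) →+* D) (h1 : w.comp (Qmap α a b) = u)
    (h2 : w.comp (φ (α a) (fun k => α (b k))) = v) : w = desc α a b u v huv := by
  apply Ideal.Quotient.ringHom_ext
  apply MvPolynomial.ringHom_ext
  · intro c
    change w (Ideal.Quotient.mk _ (C c)) = desc α a b u v huv (Ideal.Quotient.mk _ (C c))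
    rw [desc_mk, eval₂Hom_C, ← h2]
    rfl
  · intro k
    change w (Ideal.Quotient.mk _ (X k)) = desc α a b u v huv (Ideal.Quotient.mk _ (X k))
    rw [desc_mk, eval₂Hom_X', ← h1, RingHom.comp_apply, Qmap_mk, map_X]

end Desc

/-- **Base change of the presented chart ring.** -/
theorem isPushout_Q :
    IsPushout (CommRingCat.ofHom (φ a b)) (CommRingCat.ofHom α)
      (CommRingCat.ofHom (Qmap α a b)) (CommRingCat.ofHom (φ (α a) (fun k => α (b k)))) := by
  have w : CommRingCat.ofHom (φ a b) ≫ CommRingCat.ofHom (Qmap α a b) =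
      CommRingCat.ofHom α ≫ CommRingCat.ofHom (φ (α a) (fun k => α (b k))) := by
    rw [← CommRingCat.ofHom_comp, ← CommRingCat.ofHom_comp, Qmap_comp_φ]
  have hs : ∀ s : PushoutCocone (CommRingCat.ofHom (φ a b)) (CommRingCat.ofHom α),
      s.inl.hom.comp (φ a b) = s.inr.hom.comp α := fun s =>
    congrArg CommRingCat.Hom.hom s.condition
  refine ⟨⟨w⟩, ⟨PushoutCocone.IsColimit.mk w
    (fun s => CommRingCat.ofHom (desc α a b s.inl.hom s.inr.hom (hs s))) ?_ ?_ ?_⟩⟩
  · intro s
    apply CommRingCat.hom_ext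
    exact desc_comp_Qmap α a b s.inl.hom s.inr.hom (hs s)
  · intro s
    apply CommRingCat.hom_ext
    exact desc_comp_φ α a b s.inl.hom s.inr.hom (hs s)
  · intro s w' h1 h2
    apply CommRingCat.hom_ext
    refine desc_unique α a b s.inl.hom s.inr.hom (hs s) w'.hom ?_ ?_
    · exact congrArg CommRingCat.Hom.hom h1
    · exact congrArg CommRingCat.Hom.hom h2

end Groth.Agent.Lib.Helper82.BlowUpChartBC
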