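import Mathlib
import Groth.Agent.Lib.Helper82.BlowUpChartLci
import Groth.Agent.Lib.Helper93.BlowUpRegLocal
import Groth.Agent.Lib.Helper10.LciMor
import Groth.Agent.Lib.Helper10.KoszulPerm
import Groth.Agent.H8.BlowUpOffCenter
import Groth.Prelude.Def_Mor2

/-!
# The blow-up of a regularly immersed centre is a local complete intersection morphism (helper82)
-/

set_option autoImplicit false
universe u

namespace Groth.Agent.Lib.Helper82.BlowUpLci

open CategoryTheory CategoryTheory.Limits AlgebraicGeometry TopologicalSpace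
open Groth.Agent.Lib.Helper93.BlowUpProjAlg Groth.Agent.Lib.Helper93.BlowUpProj
open Groth.Agent.Lib.Helper93.BlowUpRegAlg Groth.Agent.Lib.Helper93.BlowUpRegChart
open Groth.Agent.Lib.Helper93.BlowUpRegLocal
open Groth.Agent.Lib.Helper10.LciComp Groth.Agent.Lib.Helper10.LciMor
open Groth.Agent.Lib.Helper82.BlowUpChartKoszul Groth.Agent.Lib.Helper82.BlowUpChartLci

section Affine

variable {A : Type u} [CommRing A] {n : ℕ} (f : Fin n → A)
  (hf : LCI.IsKoszulRegularSeq A (List.ofFn f))

lemma ofList_eq_of_perm {l l' : List A} (h : l.Perm l') : Ideal.ofList l = Ideal.ofList l' :=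
  congrArg Ideal.span (Set.ext fun _ => h.mem_iff)

include hf in
/-- The chart ring maps of the blow-up in a Koszul-regular sequence are local complete
intersections. -/
theorem isLCIHom_ψψ (k : Fin n) : IsLCIHom (ψψ f k) := by
  have hk : (k : ℕ) < (List.ofFn f).length := by rw [List.length_ofFn]; exact k.2
  have hLk : (List.ofFn f)[(k : ℕ)] = f k := by simp
  have hperm : (f k :: (List.ofFn f).eraseIdx k).Perm (List.ofFn f) := by
    rw [← hLk]
    exact List.getElem_cons_eraseIdx_perm hk
  have h1 : LCI.IsKoszulRegularSeq A (f k :: List.ofFn ((List.ofFn f).eraseIdx k).get) := by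
    rw [List.ofFn_get]
    exact Groth.Agent.Lib.Helper10.KoszulPerm.isKoszulRegularSeq_of_perm hperm.symm hf
  have hI : II f = Ideal.ofList (f k :: List.ofFn ((List.ofFn f).eraseIdx k).get) := by
    rw [List.ofFn_get, ofList_eq_of_perm hperm, ofList_ofFn]
  exact isLCIHom_ψ (f k) ((List.ofFn f).eraseIdx k).get h1 hI (f_mem f k)

include hf in
/-- `Proj R(I) ⟶ Spec A` is a local complete intersection morphism for `I` generated by a
Koszul-regular sequence. -/
theorem lciMor_p : lciMor (p (II f)) := by
  refine IsZariskiLocalAtSource.of_openCover (P := lciMor) (chartCover f) fun k => ?_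
  change lciMor (chart (f k) (f_mem f k) ≫ p (II f))
  rw [chart_p, HasRingHomProperty.Spec_iff (P := lciMor)]
  exact isLCIHom_ψψ f hf k

include hf in
/-- Any blow-up of `Spec A` in the ideal of a Koszul-regular sequence is a local complete
intersection morphism. -/
theorem lciMor_of_isBlowUp_affine {X' : Scheme.{u}} (b : X' ⟶ Spec (CommRingCat.of A))
    (hb : BlowUp.IsBlowUp b (idealSheaf (II f))) : lciMor b := by
  obtain ⟨θ, hθ⟩ := Groth.Agent.Lib.Helper93.BlowUpLocal.exists_iso_of_isBlowUp _ b hb
    (p (II f)) isBlowUp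
  rw [← hθ]
  exact (MorphismProperty.cancel_left_of_respectsIso lciMor θ.hom (p (II f))).mpr (lciMor_p f hf)

end Affine

/-- **The blow-up of a scheme along a regular closed immersion is a local complete intersection
morphism.** -/
theorem lciMor_of_isBlowUp {Y X X' : Scheme.{u}} (i : Y ⟶ X)
    (hi : Mor2.IsRegularClosedImmersion i) (f : X' ⟶ X) (hf : BlowUp.IsBlowUp f i.ker) :
    lciMor f := by
  obtain ⟨hci, hloc⟩ := hi
  have : IsClosedImmersion i := hci
  refine IsZariskiLocalAtTarget.of_forall_exists_morphismRestrict (P := lciMor) fun x => ?_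
  by_cases hx : x ∈ Set.range i
  · obtain ⟨z, rfl⟩ := hx
    obtain ⟨U, hU, hzU, rs, hrs, hI⟩ := hloc z
    refine ⟨hU.fromSpec.opensRange, ?_, ?_⟩
    · rw [hU.opensRange_fromSpec]
      exact hzU
    · rw [MorphismProperty.arrow_mk_iso_iff lciMor (morphismRestrictOpensRange f hU.fromSpec)]
      change lciMor (pullback.snd f hU.fromSpec)
      have hb_c : BlowUp.IsBlowUp (pullback.snd f hU.fromSpec) (i.ker.comap hU.fromSpec) :=
        Groth.Agent.Lib.Helper93.BlowUpProper.isBlowUp_of_isPullback
          (IsPullback.of_hasPullback f hU.fromSpec).flip _ hf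
      have hI' : i.ker.ideal ⟨U, hU⟩ = II (fun k : Fin rs.length => rs.get k) := by
        rw [hI]
        change Ideal.ofList rs = Ideal.span (Set.range fun k : Fin rs.length => rs.get k)
        rw [← ofList_ofFn, List.ofFn_get]
      rw [comap_fromSpec, hI'] at hb_c
      refine lciMor_of_isBlowUp_affine (fun k : Fin rs.length => rs.get k) ?_ _ hb_c
      rw [List.ofFn_get]
      exact Groth.Agent.Lib.Helper94.isKoszulRegularSeq_of_isRegular _ rs hrs
  · have hiso : IsIso (f ∣_ i.ker.support.compl) :=
      Groth.Agent.H8.blowUp_isIso_off_center i.ker f hf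
    refine ⟨i.ker.support.compl, ?_, lciMor_of_isOpenImmersion _⟩
    change x ∉ (i.ker.support : Set X)
    rw [Scheme.Hom.support_ker, i.isClosedEmbedding.isClosed_range.closure_eq]
    exact hx

end Groth.Agent.Lib.Helper82.BlowUpLci
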