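import Mathlib
import Groth.Agent.Lib.Helper82.BlowUpChartBC
import Groth.Agent.Lib.Helper82.BlowUpLci

/-!
# Base change of the blow-up of a Koszul-regular ideal along a Tor-independent morphism (helper82)
-/

set_option autoImplicit false
universe u

namespace Groth.Agent.Lib.Helper82.BlowUpKoszulBC

open CategoryTheory CategoryTheory.Limits AlgebraicGeometry TopologicalSpace
open Groth.Agent.Lib.Helper93.BlowUpProjAlg Groth.Agent.Lib.Helper93.BlowUpProj
open Groth.Agent.Lib.Helper93.BlowUpRegAlg Groth.Agent.Lib.Helper93.BlowUpRegChart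
open Groth.Agent.Lib.Helper93.BlowUpRegLocal
open Groth.Agent.Lib.Helper82.BlowUpChartKoszul Groth.Agent.Lib.Helper82.BlowUpChartLci
open Groth.Agent.Lib.Helper82.BlowUpChartBC Groth.Agent.Lib.Helper82.BlowUpLci

/-- A base change of a blow-up is a blow-up as soon as the inverse image ideal is effective
Cartier. -/
theorem isBlowUp_snd_of_isEffCartier {X X' B : Scheme.{u}} (𝓘 : X.IdealSheafData) (g : X' ⟶ X)
    (b : B ⟶ X) (hb : BlowUp.IsBlowUp b 𝓘)
    (hC : BlowUp.IsEffCartierIdeal ((𝓘.comap g).comap (pullback.snd b g))) :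
    BlowUp.IsBlowUp (pullback.snd b g) (𝓘.comap g) := by
  refine ⟨hC, ?_⟩
  intro Y h hh
  rw [← Scheme.IdealSheafData.comap_comp] at hh
  obtain ⟨k₀, hk₀, huniq⟩ := hb.2 Y (h ≫ g) hh
  refine ⟨pullback.lift k₀ h hk₀, pullback.lift_snd _ _ _, ?_⟩
  intro k' hk'
  apply pullback.hom_ext
  · rw [pullback.lift_fst]
    apply huniq
    rw [Category.assoc, pullback.condition, ← Category.assoc, hk']
  · rw [pullback.lift_snd, hk']

lemma isEffCartierIdeal_of_forall_exists {W : Scheme.{u}} (K : W.IdealSheafData)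
    (h : ∀ w : W, ∃ (T : Scheme.{u}) (j : T ⟶ W), IsOpenImmersion j ∧ w ∈ Set.range j ∧
      BlowUp.IsEffCartierIdeal (K.comap j)) : BlowUp.IsEffCartierIdeal K := by
  choose T j hj hw hK using h
  have := hj
  refine Groth.Agent.Lib.Helper93.IdealClopenCover.isEffCartierIdeal_of_comap j ?_ K hK
  rw [eq_top_iff]
  intro w _
  exact Opens.mem_iSup.mpr ⟨w, hw w⟩

section Chart

variable {A : Type u} [CommRing A] {n : ℕ} (f : Fin n → A)

lemma chart_data (hf : LCI.IsKoszulRegularSeq A (List.ofFn f)) (k : Fin n) :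
    ∃ (m : ℕ) (bb : Fin m → A), LCI.IsKoszulRegularSeq A (f k :: List.ofFn bb) ∧
      II f = Ideal.ofList (f k :: List.ofFn bb) ∧ (f k :: List.ofFn bb).Perm (List.ofFn f) := by
  have hk : (k : ℕ) < (List.ofFn f).length := by rw [List.length_ofFn]; exact k.2
  have hLk : (List.ofFn f)[(k : ℕ)] = f k := by simp
  have hperm : (f k :: (List.ofFn f).eraseIdx k).Perm (List.ofFn f) := by
    rw [← hLk]
    exact List.getElem_cons_eraseIdx_perm hk
  refine ⟨_, ((List.ofFn f).eraseIdx k).get, ?_, ?_, ?_⟩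
  · rw [List.ofFn_get]
    exact Groth.Agent.Lib.Helper10.KoszulPerm.isKoszulRegularSeq_of_perm hperm.symm hf
  · rw [List.ofFn_get, ofList_eq_of_perm hperm, ofList_ofFn]
  · rw [List.ofFn_get]
    exact hperm

variable (a : A) {m : ℕ} (bb : Fin m → A) (h1 : LCI.IsKoszulRegularSeq A (a :: List.ofFn bb))
  {I : Ideal A} (hI : I = Ideal.ofList (a :: List.ofFn bb)) (ha : a ∈ I)

/-- `Spec` of the presented chart ring is `Spec` of the chart ring. -/
noncomputable def specQIso :
    Spec (CommRingCat.of (Q a bb)) ≅ Spec (CommRingCat.of (B a ha)) where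
  hom := Spec.map (CommRingCat.ofHom (ofB a bb h1 hI ha))
  inv := Spec.map (CommRingCat.ofHom (toB a bb hI ha))
  hom_inv_id := by
    rw [← Spec.map_comp, ← CommRingCat.ofHom_comp, ofB_comp_toB]
    exact Spec.map_id _
  inv_hom_id := by
    rw [← Spec.map_comp, ← CommRingCat.ofHom_comp, toB_comp_ofB]
    exact Spec.map_id _

lemma specQIso_hom_comp :
    (specQIso a bb h1 hI ha).hom ≫ Spec.map (CommRingCat.ofHom (ψ a ha)) =
      Spec.map (CommRingCat.ofHom (φ a bb)) := by
  change Spec.map _ ≫ Spec.map _ = _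
  rw [← Spec.map_comp, ← CommRingCat.ofHom_comp, ofB_comp_ψ]

end Chart

section Local

variable {X X' B : Scheme.{u}} (𝓘 : X.IdealSheafData) (g : X' ⟶ X) (b : B ⟶ X)
  (hb : BlowUp.IsBlowUp b 𝓘)

include hb in
/-- Around a point of `B ×_X X'` lying over an affine open `V ⊆ g⁻¹ U` with `𝓘(U)` generated by a
Koszul-regular sequence which stays Koszul-regular on `V`, the inverse image ideal is effective
Cartier. -/
theorem exists_openImmersion_of_mem {U : X.Opens} (hU : IsAffineOpen U) {V : X'.Opens}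
    (hV : IsAffineOpen V) (e : V ≤ g ⁻¹ᵁ U) (rs : List Γ(X, U))
    (hrs : LCI.IsKoszulRegularSeq Γ(X, U) rs) (hI : 𝓘.ideal ⟨U, hU⟩ = Ideal.ofList rs)
    (hrs' : LCI.IsKoszulRegularSeq Γ(X', V) (rs.map (g.appLE U V e).hom))
    (w : ↥(pullback b g)) (hw : pullback.snd b g w ∈ V) :
    ∃ (T : Scheme.{u}) (j : T ⟶ pullback b g), IsOpenImmersion j ∧ w ∈ Set.range j ∧
      BlowUp.IsEffCartierIdeal (((𝓘.comap g).comap (pullback.snd b g)).comap j) := by
  -- the sequence as a function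
  set f : Fin rs.length → Γ(X, U) := fun k => rs.get k with hf
  have hofFn : List.ofFn f = rs := List.ofFn_get rs
  have hfK : LCI.IsKoszulRegularSeq Γ(X, U) (List.ofFn f) := by rw [hofFn]; exact hrs
  have hI' : 𝓘.ideal ⟨U, hU⟩ = II f := by
    rw [hI]
    change Ideal.ofList rs = Ideal.span (Set.range f)
    rw [← ofList_ofFn, hofFn]
  -- the blow-up over `U`
  have hb_c : BlowUp.IsBlowUp (pullback.snd b hU.fromSpec) (𝓘.comap hU.fromSpec) :=
    Groth.Agent.Lib.Helper93.BlowUpProper.isBlowUp_of_isPullback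
      (IsPullback.of_hasPullback b hU.fromSpec).flip _ hb
  rw [comap_fromSpec, hI'] at hb_c
  obtain ⟨θ, hθ⟩ := Groth.Agent.Lib.Helper93.BlowUpLocal.exists_iso_of_isBlowUp _
    (pullback.snd b hU.fromSpec) hb_c (p (II f)) isBlowUp
  have hθ' : θ.inv ≫ pullback.snd b hU.fromSpec = p (II f) := by
    rw [Iso.inv_comp_eq, hθ]
  -- the point
  have hbw : b (pullback.fst b g w) ∈ U := by
    have h1 : b (pullback.fst b g w) = g (pullback.snd b g w) := by
      rw [← Scheme.Hom.comp_apply, ← Scheme.Hom.comp_apply, pullback.condition]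
    rw [h1]
    exact e hw
  obtain ⟨z, hz⟩ : ∃ z, hU.fromSpec z = b (pullback.fst b g w) := by
    have : b (pullback.fst b g w) ∈ Set.range hU.fromSpec := by
      rw [hU.range_fromSpec]; exact hbw
    exact this
  obtain ⟨y₁, hy₁, -⟩ := Scheme.Pullback.exists_preimage_pullback (pullback.fst b g w) z hz.symm
  have hx : θ.hom y₁ ∈ ⨆ k : Fin rs.length, (chart (f k) (f_mem f k)).opensRange :=
    iSup_opensRange_chart_gen f ▸ trivial
  obtain ⟨k, y₂, hy₂⟩ := Opens.mem_iSup.mp hx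
  -- the chart data
  obtain ⟨m, bb, h1, hIf, hperm⟩ := chart_data f hfK k
  set α : Γ(X, U) →+* Γ(X', V) := (g.appLE U V e).hom with hα
  have h1' : LCI.IsKoszulRegularSeq Γ(X', V) (α (f k) :: List.ofFn fun i => α (bb i)) := by
    have hp2 := hperm.map α
    rw [hofFn, List.map_cons, List.map_ofFn] at hp2
    exact Groth.Agent.Lib.Helper10.KoszulPerm.isKoszulRegularSeq_of_perm hp2.symm hrs'
  have hIf' : (II f).map α = Ideal.ofList (α (f k) :: List.ofFn fun i => α (bb i)) := by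
    rw [hIf, Ideal.map_ofList, List.map_cons, List.map_ofFn]
    rfl
  -- the maps
  let sQ := specQIso (f k) bb h1 hIf (f_mem f k)
  let i₁ : Spec (CommRingCat.of (Q (f k) bb)) ⟶ B :=
    sQ.hom ≫ chart (f k) (f_mem f k) ≫ θ.inv ≫ pullback.fst b hU.fromSpec
  have e₁ : Spec.map (CommRingCat.ofHom (φ (f k) bb)) ≫ hU.fromSpec = i₁ ≫ b := by
    simp only [i₁, Category.assoc]
    rw [pullback.condition, reassoc_of% hθ', ← Category.assoc (chart (f k) (f_mem f k)), chart_p,
      ← Category.assoc, specQIso_hom_comp]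
  have e₂ : Spec.map (CommRingCat.ofHom α) ≫ hU.fromSpec = hV.fromSpec ≫ g :=
    IsAffineOpen.SpecMap_appLE_fromSpec g hU hV e
  let jm := pullback.map (Spec.map (CommRingCat.ofHom (φ (f k) bb)))
    (Spec.map (CommRingCat.ofHom α)) b g i₁ hV.fromSpec hU.fromSpec e₁ e₂
  have hPB := isPullback_SpecMap_of_isPushout _ _ _ _ (isPushout_Q α (f k) bb)
  let ε := hPB.isoPullback
  refine ⟨_, ε.hom ≫ jm, inferInstance, ?_, ?_⟩
  · have hwm : w ∈ Set.range jm := by
      rw [Scheme.Pullback.range_map]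
      refine ⟨⟨sQ.inv y₂, ?_⟩, ?_⟩
      · change (sQ.hom ≫ chart (f k) (f_mem f k) ≫ θ.inv ≫ pullback.fst b hU.fromSpec)
          (sQ.inv y₂) = _
        rw [← Scheme.Hom.comp_apply, Iso.inv_hom_id_assoc, Scheme.Hom.comp_apply,
          Scheme.Hom.comp_apply]
        have h3 : chart (f k) (f_mem f k) y₂ = θ.hom y₁ := hy₂
        rw [h3, ← Scheme.Hom.comp_apply θ.hom θ.inv, Iso.hom_inv_id]
        exact hy₁
      · change pullback.snd b g w ∈ Set.range hV.fromSpec
        rw [hV.range_fromSpec]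
        exact hw
    obtain ⟨t, rfl⟩ := hwm
    refine ⟨ε.inv t, ?_⟩
    rw [← Scheme.Hom.comp_apply, Iso.inv_hom_id_assoc]
  · rw [← Scheme.IdealSheafData.comap_comp, ← Scheme.IdealSheafData.comap_comp]
    have h2 : jm ≫ pullback.snd b g = pullback.snd _ _ ≫ hV.fromSpec := pullback.lift_snd _ _ _
    have h3 : ε.hom ≫ pullback.snd _ _ =
        Spec.map (CommRingCat.ofHom (φ (α (f k)) fun i => α (bb i))) :=
      hPB.isoPullback_hom_snd
    have key : ((ε.hom ≫ jm) ≫ pullback.snd b g) ≫ g =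
        Spec.map (CommRingCat.ofHom ((φ (α (f k)) fun i => α (bb i)).comp α)) ≫ hU.fromSpec := by
      simp only [Category.assoc]
      rw [reassoc_of% h2, reassoc_of% h3, ← e₂, ← Spec.map_comp_assoc, ← CommRingCat.ofHom_comp]
    rw [key, Scheme.IdealSheafData.comap_comp, comap_fromSpec, hI']
    refine isEffCartierIdeal_comap_SpecMap (II f) _ ((φ (α (f k)) fun i => α (bb i)) (α (f k)))
      (φ_mem_nonZeroDivisors _ _ h1') ?_
    rw [← Ideal.map_map, map_φ_eq _ _ hIf']

include hb in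
/-- **Base change of the blow-up of a Koszul-regular ideal along a Tor-independent morphism.** -/
theorem isBlowUp_baseChange (h𝓘 : RegImm.IsRegularIdeal .koszul 𝓘)
    (hg : ∀ (U : X.affineOpens) (rs : List Γ(X, U.1)), LCI.IsKoszulRegularSeq Γ(X, U.1) rs →
      𝓘.ideal U = Ideal.ofList rs → ∀ (V : X'.affineOpens) (e : V.1 ≤ g ⁻¹ᵁ U.1),
        LCI.IsKoszulRegularSeq Γ(X', V.1) (rs.map fun r => (g.appLE U.1 V.1 e).hom r)) :
    BlowUp.IsBlowUp (pullback.snd b g) (𝓘.comap g) := by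
  refine isBlowUp_snd_of_isEffCartier 𝓘 g b hb ?_
  refine isEffCartierIdeal_of_forall_exists _ fun w => ?_
  by_cases hx : g (pullback.snd b g w) ∈ 𝓘.support
  · obtain ⟨U, hxU, rs, hrs, hI⟩ := h𝓘 _ hx
    obtain ⟨V, hV, hwV, hVU⟩ := Opens.isBasis_iff_nbhd.mp X'.isBasis_affineOpens
      (show pullback.snd b g w ∈ g ⁻¹ᵁ U.1 from hxU)
    exact exists_openImmersion_of_mem 𝓘 g b hb U.2 hV hVU rs hrs hI
      (hg U rs hrs hI ⟨V, hV⟩ hVU) w hwV
  · refine ⟨_, ((pullback.snd b g ≫ g) ⁻¹ᵁ 𝓘.support.compl).ι, inferInstance, ?_, ?_⟩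
    · rw [Scheme.Opens.range_ι]
      exact hx
    · rw [← Scheme.IdealSheafData.comap_comp, ← Scheme.IdealSheafData.comap_comp,
        Groth.Agent.H8.comap_eq_top_of_range]
      · exact Groth.Agent.H8.isEffCartierIdeal_top _
      · intro y
        exact y.2

end Local

end Groth.Agent.Lib.Helper82.BlowUpKoszulBC
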