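import Groth.Agent.Lib.Helper82.SmoothRegLoc
import Groth.Agent.Lib.Helper82.RegFibCISch
import Groth.Agent.Lib.Helper82.CIOpen
import Groth.Agent.S9699

/-!
# Smoothness of the ambient scheme along a smooth closed subscheme (scheme level)
-/

set_option autoImplicit false
universe u

namespace Groth.Agent.Lib.Helper82.SmoothRegSch

open AlgebraicGeometry CategoryTheory RingTheory.Sequence

variable {X Y S : Scheme.{u}}

/-- if the kernel of the stalk map of a closed immersion at a smooth point of the subscheme is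
generated by a regular sequence, the ambient scheme is smooth there. -/
theorem mem_smoothLocus_of_isRegularIdeal (f : X ⟶ S) [LocallyOfFinitePresentation f]
    (ι : Y ⟶ X) [IsClosedImmersion ι] [LocallyOfFinitePresentation (ι ≫ f)] (x : Y)
    (hY : x ∈ (ι ≫ f).smoothLocus)
    (h : CInt.IsRegularIdeal (RingHom.ker (ι.stalkMap x).hom)) : ι x ∈ f.smoothLocus := by
  obtain ⟨rs, hrs, hrsker⟩ := h
  obtain ⟨W, hW, hxW, -⟩ := (TopologicalSpace.Opens.isBasis_iff_nbhd.mp S.isBasis_affineOpens)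
    (TopologicalSpace.Opens.mem_top (f (ι x)))
  obtain ⟨U, hU, hxU, e⟩ :=
    (TopologicalSpace.Opens.isBasis_iff_nbhd.mp X.isBasis_affineOpens)
      (show ι x ∈ f ⁻¹ᵁ W from hxW)
  let algB : Algebra Γ(S, W) Γ(X, U) := (f.appLE W U e).hom.toAlgebra
  have hfpB : Algebra.FinitePresentation Γ(S, W) Γ(X, U) :=
    RingHom.finitePresentation_algebraMap.mp (f.finitePresentation_appLE hW hU e)
  have hU' : IsAffineOpen (ι ⁻¹ᵁ U) := hU.preimage ι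
  have eU : ι ⁻¹ᵁ U ≤ (ι ≫ f) ⁻¹ᵁ W := fun y hy => e hy
  let algC : Algebra Γ(S, W) Γ(Y, ι ⁻¹ᵁ U) := ((ι ≫ f).appLE W (ι ⁻¹ᵁ U) eU).hom.toAlgebra
  have hcomp : ((ι ≫ f).appLE W (ι ⁻¹ᵁ U) eU).hom =
      (ι.app U).hom.comp (f.appLE W U e).hom := by
    rw [← CommRingCat.hom_comp]
    congr 1
    rw [Scheme.Hom.app_eq_appLE, Scheme.Hom.appLE_comp_appLE]
  let φ : Γ(X, U) →ₐ[Γ(S, W)] Γ(Y, ι ⁻¹ᵁ U) :=
    { (ι.app U).hom with
      commutes' := fun a => by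
        change (ι.app U).hom (algebraMap Γ(S, W) Γ(X, U) a) =
          algebraMap Γ(S, W) Γ(Y, ι ⁻¹ᵁ U) a
        rw [RingHom.algebraMap_toAlgebra, RingHom.algebraMap_toAlgebra, hcomp]
        rfl }
  have hφ : Function.Surjective φ := ι.app_surjective U hU
  have h𝔮𝔭 : (hU.primeIdealOf ⟨ι x, hxU⟩).asIdeal =
      (hU'.primeIdealOf ⟨x, hxU⟩).asIdeal.comap (φ : Γ(X, U) →+* Γ(Y, ι ⁻¹ᵁ U)) := by
    have h1 := IsAffineOpen.comap_primeIdealOf_appLE (f := ι) (x := x) U hU (ι ⁻¹ᵁ U) hU' le_rfl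
      hxU
    rw [← Scheme.Hom.app_eq_appLE] at h1
    exact congr($(h1).1).symm
  rw [Scheme.Hom.mem_smoothLocus, formallySmooth_stalkMap_iff W hW U hU e hxU]
  have hY' := (formallySmooth_stalkMap_iff W hW (ι ⁻¹ᵁ U) hU' eU hxU).mp hY
  change Algebra.FormallySmooth Γ(S, W)
    (Localization.AtPrime (hU.primeIdealOf ⟨ι x, hxU⟩).asIdeal)
  have hY'' : Algebra.FormallySmooth Γ(S, W)
    (Localization.AtPrime (hU'.primeIdealOf ⟨x, hxU⟩).asIdeal) := hY'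
  -- the local homomorphism
  have hψ₀ : ∀ b : Γ(Y, ι ⁻¹ᵁ U), ∃ a s : Γ(X, U),
      (φ : Γ(X, U) →+* Γ(Y, ι ⁻¹ᵁ U)) s ∉ (hU'.primeIdealOf ⟨x, hxU⟩).asIdeal ∧
        (φ : Γ(X, U) →+* Γ(Y, ι ⁻¹ᵁ U)) s * b = (φ : Γ(X, U) →+* Γ(Y, ι ⁻¹ᵁ U)) a := by
    intro b
    obtain ⟨a, rfl⟩ := hφ b
    refine ⟨a, 1, ?_, ?_⟩
    · rw [map_one]
      exact (Ideal.ne_top_iff_one _).mp (Ideal.IsPrime.ne_top inferInstance)
    · rw [map_one, one_mul]
      rfl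
  have hsurj := Groth.Agent.Lib.Helper82.CISpreadA.localRingHom_surjective
    (φ : Γ(X, U) →+* Γ(Y, ι ⁻¹ᵁ U)) (hU'.primeIdealOf ⟨x, hxU⟩).asIdeal
    (hU.primeIdealOf ⟨ι x, hxU⟩).asIdeal h𝔮𝔭 hψ₀
  have hkerψ := Groth.Agent.Lib.Helper82.CISpreadA.ker_localRingHom
    (φ : Γ(X, U) →+* Γ(Y, ι ⁻¹ᵁ U)) (hU'.primeIdealOf ⟨x, hxU⟩).asIdeal
    (hU.primeIdealOf ⟨ι x, hxU⟩).asIdeal h𝔮𝔭 hψ₀
  let ψ : Localization.AtPrime (hU.primeIdealOf ⟨ι x, hxU⟩).asIdeal →ₐ[Γ(S, W)]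
      Localization.AtPrime (hU'.primeIdealOf ⟨x, hxU⟩).asIdeal :=
    { Localization.localRingHom (hU.primeIdealOf ⟨ι x, hxU⟩).asIdeal
        (hU'.primeIdealOf ⟨x, hxU⟩).asIdeal (φ : Γ(X, U) →+* Γ(Y, ι ⁻¹ᵁ U)) h𝔮𝔭 with
      commutes' := fun a => by
        change Localization.localRingHom _ _ (φ : Γ(X, U) →+* Γ(Y, ι ⁻¹ᵁ U)) h𝔮𝔭
          (algebraMap Γ(S, W) _ a) = algebraMap Γ(S, W) _ a
        rw [IsScalarTower.algebraMap_apply Γ(S, W) Γ(X, U)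
          (Localization.AtPrime (hU.primeIdealOf ⟨ι x, hxU⟩).asIdeal),
          Localization.localRingHom_to_map,
          IsScalarTower.algebraMap_apply Γ(S, W) Γ(Y, ι ⁻¹ᵁ U)
            (Localization.AtPrime (hU'.primeIdealOf ⟨x, hxU⟩).asIdeal)]
        congr 1
        exact φ.commutes a }
  have hψ : Function.Surjective ψ := hsurj
  -- the regular sequence
  let algSt : Algebra Γ(X, U) (X.presheaf.stalk (ι x)) :=
    TopCat.Presheaf.algebra_section_stalk X.presheaf ⟨ι x, hxU⟩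
  have hloc : IsLocalization.AtPrime (X.presheaf.stalk (ι x))
      (hU.primeIdealOf ⟨ι x, hxU⟩).asIdeal := hU.isLocalization_stalk ⟨ι x, hxU⟩
  let ε : X.presheaf.stalk (ι x) ≃ₐ[Γ(X, U)]
      Localization.AtPrime (hU.primeIdealOf ⟨ι x, hxU⟩).asIdeal :=
    IsLocalization.algEquiv (hU.primeIdealOf ⟨ι x, hxU⟩).asIdeal.primeCompl _ _
  have hrs' : IsRegular (Localization.AtPrime (hU.primeIdealOf ⟨ι x, hxU⟩).asIdeal)
      (rs.map ε.toRingEquiv) :=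
    Groth.Agent.Lib.Helper82.CIOpen.isRegular_map_ringEquiv ε.toRingEquiv rs hrs
  have hker : RingHom.ker ψ = Ideal.ofList (rs.map ε.toRingEquiv) := by
    have h1 : RingHom.ker ψ = (RingHom.ker (φ : Γ(X, U) →+* Γ(Y, ι ⁻¹ᵁ U))).map
        (algebraMap Γ(X, U) (Localization.AtPrime (hU.primeIdealOf ⟨ι x, hxU⟩).asIdeal)) :=
      hkerψ
    have h2 : Ideal.ofList (rs.map ε.toRingEquiv) =
        (Ideal.ofList rs).map (ε.toRingEquiv : X.presheaf.stalk (ι x) →+*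
          Localization.AtPrime (hU.primeIdealOf ⟨ι x, hxU⟩).asIdeal) := by
      rw [Ideal.ofList, Ideal.ofList, Ideal.map_span]
      congr 1
      ext y
      simp
    rw [h1, h2, hrsker,
      Groth.Agent.H8.RegImmStalk.ker_stalkMap ι x ⟨U, hU⟩ hxU, Ideal.map_map,
      Scheme.Hom.ker_apply]
    congr 1
    ext b
    exact (ε.commutes b).symm
  exact Groth.Agent.Lib.Helper82.SmoothRegLoc.formallySmooth_of_surjective_of_isWeaklyRegular
    Γ(S, W) (hU.primeIdealOf ⟨ι x, hxU⟩).asIdeal ψ hψ _ hrs'.toIsWeaklyRegular hker hY''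

/-- if the ambient scheme is smooth at a smooth point of the closed subscheme, the kernel of the
stalk map there is generated by a regular sequence. -/
theorem isRegularIdeal_of_mem_smoothLocus (f : X ⟶ S) [LocallyOfFinitePresentation f]
    (ι : Y ⟶ X) [IsClosedImmersion ι] [LocallyOfFinitePresentation (ι ≫ f)] (x : Y)
    (hY : x ∈ (ι ≫ f).smoothLocus) (hX : ι x ∈ f.smoothLocus) :
    CInt.IsRegularIdeal (RingHom.ker (ι.stalkMap x).hom) := by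
  obtain ⟨V₂, hV₂, hV₂eq⟩ := (ι.isEmbedding.isInducing.isOpen_iff).mp (ι ≫ f).smoothLocus.2
  let V : X.Opens := f.smoothLocus ⊓ ⟨V₂, hV₂⟩
  have hxV₂ : ι x ∈ V₂ := by
    have : x ∈ (ι : Y → X) ⁻¹' V₂ := by rw [hV₂eq]; exact hY
    exact this
  have hxV : ι x ∈ V := ⟨hX, hxV₂⟩
  have hsmV : Smooth (V.ι ≫ f) := by
    rw [← Scheme.Hom.smoothLocus_eq_top_iff, ← Scheme.Hom.preimage_smoothLocus_eq,
      ← top_le_iff]
    rintro ⟨y, hy⟩ -
    exact hy.1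
  have hsmY : Smooth ((ι ⁻¹ᵁ V).ι ≫ ι ≫ f) := by
    rw [← Scheme.Hom.smoothLocus_eq_top_iff, ← Scheme.Hom.preimage_smoothLocus_eq,
      ← top_le_iff]
    rintro ⟨y, hy⟩ -
    have h1 : ι y ∈ V₂ := hy.2
    have h2 : y ∈ (ι : Y → X) ⁻¹' V₂ := h1
    rw [hV₂eq] at h2
    exact h2
  have hsyn : Synt.IsSyntomicMor ((ι ∣_ V) ≫ V.ι ≫ f) := by
    have h1 : (ι ∣_ V) ≫ V.ι ≫ f = (ι ⁻¹ᵁ V).ι ≫ ι ≫ f := by
      rw [← Category.assoc, morphismRestrict_ι, Category.assoc]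
    rw [h1]
    exact Groth.Agent.S9699.result _
  have hreg : Mor2.IsRegularClosedImmersion (ι ∣_ V) :=
    Groth.Agent.Lib.Helper82.RegImmSch.isRegularClosedImmersion_of_smooth (V.ι ≫ f) (ι ∣_ V) hsyn
  obtain ⟨rs, hrs, hker⟩ := Groth.Agent.H8.RegImmStalk.forward ι x V hxV hreg
  exact ⟨rs, hrs, hker.symm⟩

end Groth.Agent.Lib.Helper82.SmoothRegSch
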