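import Mathlib
import Groth.Agent.Lib.Helper82.BlowUpLci
import Groth.Agent.Lib.Helper82.SmoothRegSch
import Groth.Agent.Lib.Helper82.RegImmSch
import Groth.Agent.S2894
import Groth.Agent.S9699
import Groth.Agent.H8.SubschemeStalk2
import Groth.Agent.Lib.Helper62.RegSmooth3

/-!
# Blowing up a smooth pair (helper82)

* `finitePresentation_of_isLCIHom`, `locallyOfFinitePresentation_of_lciMor`: local complete
  intersection morphisms are locally of finite presentation.
* `smooth_blowUp_of_smooth_pair`: for `X` smooth over `S` and `Z ⊆ X` closed and smooth over `S`,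
  the blow-up of `X` along `Z` and its exceptional divisor are smooth over `S`.
-/

set_option autoImplicit false
set_option linter.style.haveILetI false
universe u

namespace Groth.Agent.Lib.Helper82.BlowUpSmoothPair

open CategoryTheory CategoryTheory.Limits AlgebraicGeometry TopologicalSpace
open Groth.Agent.Lib.Helper10.LciComp Groth.Agent.Lib.Helper10.LciMor
open Groth.Agent.Lib.Helper10.RegDescent Groth.Agent.Lib.Helper10.RegDescentKoszul

theorem finitePresentation_of_isLCIHom {A B : Type u} [CommRing A] [CommRing B] (φ : A →+* B)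
    (h : IsLCIHom φ) : φ.FinitePresentation := by
  letI := φ.toAlgebra
  obtain ⟨-, n, α, hα, hker⟩ := h
  have hfg : (RingHom.ker α.toRingHom).FG := ((isLoc_koszulKind_iff _).mpr hker).fg
  exact ⟨n, α, hα, hfg⟩

theorem locallyOfFinitePresentation_of_lciMor {X Y : Scheme.{u}} (f : X ⟶ Y) (h : lciMor f) :
    LocallyOfFinitePresentation f := by
  rw [HasRingHomProperty.iff_appLE (P := @LocallyOfFinitePresentation)]
  intro V U e
  exact finitePresentation_of_isLCIHom _ (HasRingHomProperty.appLE lciMor f h V U e)

/-- **Blowing up a smooth pair.** -/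
theorem smooth_blowUp_of_smooth_pair {Z X X' S : Scheme.{u}} (q : X ⟶ S) [Smooth q] (i : Z ⟶ X)
    [IsClosedImmersion i] [Smooth (i ≫ q)] (b : X' ⟶ X) (hb : BlowUp.IsBlowUp b i.ker) :
    Smooth (b ≫ q) ∧ Smooth ((BlowUp.exceptional b i.ker).subschemeι ≫ b ≫ q) := by
  have hreg : Mor2.IsRegularClosedImmersion i :=
    Groth.Agent.Lib.Helper82.RegImmSch.isRegularClosedImmersion_of_smooth q i
      (Groth.Agent.S9699.result (i ≫ q))
  have hlci := Groth.Agent.Lib.Helper82.BlowUpLci.lciMor_of_isBlowUp i hreg b hb
  haveI hbfp : LocallyOfFinitePresentation b := locallyOfFinitePresentation_of_lciMor b hlci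
  set E := BlowUp.exceptional b i.ker with hE
  have hle : i.ker ≤ (E.subschemeι ≫ b).ker := Scheme.IdealSheafData.le_map_comap i.ker b
  let g : E.subscheme ⟶ Z := IsClosedImmersion.lift i (E.subschemeι ≫ b) hle
  have hg : g ≫ i = E.subschemeι ≫ b := IsClosedImmersion.lift_fac _ _ _
  haveI : Smooth g := Groth.Agent.S2894.result i hreg b hb g hg
  have h2 : Smooth (E.subschemeι ≫ b ≫ q) := by
    rw [← Category.assoc, ← hg, Category.assoc]
    infer_instance
  refine ⟨?_, h2⟩
  haveI : LocallyOfFinitePresentation (b ≫ q) := inferInstance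
  rw [← Scheme.Hom.smoothLocus_eq_top_iff, eq_top_iff]
  intro x' _
  by_cases hx : b x' ∈ i.ker.support
  · have hx'E : x' ∈ E.support := by
      rw [hE, Scheme.IdealSheafData.support_comap]
      exact hx
    obtain ⟨e, rfl⟩ : ∃ e, E.subschemeι e = x' := by
      have : x' ∈ Set.range E.subschemeι := by rw [E.range_subschemeι]; exact hx'E
      exact this
    haveI : Smooth (E.subschemeι ≫ b ≫ q) := h2
    obtain ⟨t, ht, htu, hker⟩ := Groth.Agent.H8.SubschemeStalk.exists_generator_stalk E hb.1 e
    apply Groth.Agent.Lib.Helper82.SmoothRegSch.mem_smoothLocus_of_isRegularIdeal (b ≫ q)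
      E.subschemeι e
    · rw [Scheme.Hom.smoothLocus_eq_top]
      trivial
    · refine ⟨[t], ?_, ?_⟩
      · refine ⟨?_, ?_⟩
        · rw [RingTheory.Sequence.isWeaklyRegular_singleton_iff]
          intro x y hxy
          simp only [smul_eq_mul] at hxy
          exact (mul_cancel_left_mem_nonZeroDivisors ht).mp hxy
        · rw [Ideal.ofList_singleton, smul_eq_mul, Ideal.mul_top]
          intro htop
          exact htu (Ideal.span_singleton_eq_top.mp htop.symm)
      · rw [hker, Ideal.ofList_singleton]
  · rw [← Groth.Agent.Lib.Helper62.RegSmooth.exists_smooth_nhd_iff_mem_smoothLocus]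
    refine ⟨b ⁻¹ᵁ i.ker.support.compl, hx, ?_⟩
    have hiso : IsIso (b ∣_ i.ker.support.compl) :=
      Groth.Agent.H8.blowUp_isIso_off_center i.ker b hb
    rw [← Category.assoc, ← morphismRestrict_ι, Category.assoc]
    infer_instance

end Groth.Agent.Lib.Helper82.BlowUpSmoothPair
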