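import Mathlib
import Groth.Prelude.Def_RegImm
import Groth.Agent.Lib.Helper82.SyntLocal
import Groth.Agent.Lib.Helper82.RelGCIRegLocal

/-!
# A relative global complete intersection is locally cut out by a regular sequence in a
polynomial ring
-/

set_option autoImplicit false
universe u

namespace Groth.Agent.Lib.Helper82.SyntRegSeq

open MvPolynomial RingTheory.Sequence Groth.Agent.Lib.Helper82.RelGCIAway
  Groth.Agent.Lib.Helper82.RelGCIReg Groth.Agent.Lib.Helper82.RelGCIRegLocal
  Groth.Agent.Lib.Helper82.RelGCIFlat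

section Conv

variable {A : Type u} [CommRing A]

/-- regularity on the quotient ring as a module over itself versus over the ring -/
theorem isSMulRegular_quot_of_ring (I J : Ideal A)
    (hIJ : (J • (⊤ : Submodule A A)) = I) (r : A)
    (h : IsSMulRegular (A ⧸ I) (Ideal.Quotient.mk I r)) :
    IsSMulRegular (A ⧸ (J • ⊤ : Submodule A A)) r := by
  rw [hIJ]
  intro x y hxy
  apply h
  have h1 : ∀ z : A ⧸ I, r • z = Ideal.Quotient.mk I r • z := fun z => by
    rw [Algebra.smul_def, smul_eq_mul]
    rfl
  change r • x = r • y at hxy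
  rw [h1, h1] at hxy
  exact hxy

end Conv

section Main

variable (R : Type u) [CommRing R] (n c : ℕ) (F : Fin c → MvPolynomial (Fin n) R)

local notation "P" => MvPolynomial (Fin n) R
local notation "P'" => MvPolynomial (Fin (n + 1)) R

/-- the sequence `g x_{n+1} - 1, F_1, …, F_c` -/
noncomputable def seq (g : P) : Fin (c + 1) → P' :=
  Fin.cons (rename Fin.castSucc g * X (Fin.last n) - 1) (fun i => rename Fin.castSucc (F i))

theorem ofFn_seq (g : P) : List.ofFn (seq R n c F g) =
    (rename Fin.castSucc g * X (Fin.last n) - 1) ::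
      List.ofFn (fun i => rename Fin.castSucc (F i) : Fin c → P') := by
  rw [List.ofFn_succ]
  rfl

theorem span_F'_eq (i : ℕ) (hi : i ≤ c) (g : P) :
    Ideal.span (Set.range (F' R n i (pre F i hi) g)) =
      Ideal.ofList ((rename Fin.castSucc g * X (Fin.last n) - 1) ::
        (List.ofFn (fun i => rename Fin.castSucc (F i) : Fin c → P')).take i) := by
  rw [span_range_eq_sup, Ideal.ofList_cons, sup_comm, F'_last,
    take_ofFn (fun i => rename Fin.castSucc (F i) : Fin c → P') i hi,
    Groth.Agent.Lib.Helper82.RelGCIFlat.ofList_ofFn]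
  congr 3
  funext j
  rw [F'_castSucc]
  rfl


/-- **Regular presentation**: near a prime, a relative global complete intersection is the
quotient of a polynomial ring by a regular sequence. -/
theorem exists_regular_presentation (h : Synt.IsRelGCI R n c F) (q' : Ideal P) [q'.IsPrime]
    (hq' : Ideal.span (Set.range F) ≤ q') :
    ∃ g : P, g ∉ q' ∧ IsRegular P' (List.ofFn (seq R n c F g)) ∧
      Nonempty (Localization.Away (Ideal.Quotient.mk (Ideal.span (Set.range F)) g) ≃ₐ[R]
        P' ⧸ Ideal.ofList (List.ofFn (seq R n c F g))) := by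
  classical
  have hex : ∀ i : Fin (c + 1), ∃ g : P, g ∉ q' ∧
      ∀ q₁ : PrimeSpectrum (Synt.RelGCIRing R n i (pre F i (Fin.is_le i))),
        Ideal.Quotient.mk (Ideal.span (Set.range (pre F i (Fin.is_le i)))) g ∉ q₁.asIdeal →
          q₁ ∈ fibLocus R (Synt.RelGCIRing R n i (pre F i (Fin.is_le i))) (n - i) :=
    fun i => (exists_basicOpen_prefix R n c F h q' hq' i (Fin.is_le i)).2
  have hin : ∀ i : Fin (c + 1), (i : ℕ) ≤ n :=
    fun i => (exists_basicOpen_prefix R n c F h q' hq' i (Fin.is_le i)).1
  choose gi hgiq hgi using hex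
  set g : P := ∏ i, gi i with hgdef
  have hgq : g ∉ q' := by
    intro hmem
    obtain ⟨i, -, hi⟩ := Ideal.IsPrime.prod_mem_iff.mp hmem
    exact hgiq i hi
  have hG : ∀ (i : ℕ) (hi : i ≤ c),
      Synt.IsRelGCI R (n + 1) (i + 1) (F' R n i (pre F i hi) g) := by
    intro i hi
    refine isRelGCI_F'_prefix R n c F i hi (hin ⟨i, Nat.lt_succ_of_le hi⟩) g ?_
    intro q₁ hq₁
    apply hgi ⟨i, Nat.lt_succ_of_le hi⟩ q₁
    intro hmem
    apply hq₁
    obtain ⟨r, hr⟩ := Finset.dvd_prod_of_mem gi (Finset.mem_univ (⟨i, Nat.lt_succ_of_le hi⟩ : Fin (c + 1)))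
    rw [hgdef, hr, map_mul]
    exact Ideal.mul_mem_right _ _ hmem
  have hspanc : Ideal.span (Set.range (F' R n c F g)) =
      Ideal.ofList (List.ofFn (seq R n c F g)) := by
    have := span_F'_eq R n c F c le_rfl g
    have hpre : pre F c le_rfl = F := rfl
    rw [hpre, List.take_of_length_le (by simp)] at this
    rw [ofFn_seq]
    exact this
  have hweak : IsWeaklyRegular P' (List.ofFn (seq R n c F g)) := by
    rw [ofFn_seq, isWeaklyRegular_iff_Fin]
    rintro ⟨j, hj⟩
    have hlen : ((rename Fin.castSucc g * X (Fin.last n) - 1) ::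
        List.ofFn (fun i => rename Fin.castSucc (F i) : Fin c → P')).length = c + 1 := by
      simp
    rw [hlen] at hj
    cases j with
    | zero =>
      have h0 := hG 0 (Nat.zero_le c)
      have hreg := isSMulRegular_of_isRelGCI_snoc (n + 1) 0
        (fun i : Fin 0 => rename Fin.castSucc (pre F 0 (Nat.zero_le c) i))
        (rename Fin.castSucc g * X (Fin.last n) - 1) h0
      refine isSMulRegular_quot_of_ring _ _ ?_ _ hreg
      have hempty : Set.range (fun i : Fin 0 => (rename Fin.castSucc (pre F 0 (Nat.zero_le c) i) : P')) = ∅ :=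
        Set.range_eq_empty _
      rw [hempty, Ideal.span_empty]
      simp
    | succ i =>
      have hi : i + 1 ≤ c := by omega
      have hG' : Synt.IsRelGCI R (n + 1) (i + 1 + 1)
          (Fin.snoc (F' R n i (pre F i (Nat.le_of_succ_le hi)) g)
            (rename Fin.castSucc (F ⟨i, hi⟩))) :=
        isRelGCI_of_span_eq _ _ (span_snoc_F'_eq R n c F i hi g).symm (hG (i + 1) hi)
      have hreg := isSMulRegular_of_isRelGCI_snoc (n + 1) (i + 1) _ _ hG'
      have hget : ((rename Fin.castSucc g * X (Fin.last n) - 1) ::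
          List.ofFn (fun i => rename Fin.castSucc (F i) : Fin c → P'))[i + 1] =
          rename Fin.castSucc (F ⟨i, hi⟩) := by
        simp
      change IsSMulRegular (P' ⧸ (Ideal.ofList (((rename Fin.castSucc g * X (Fin.last n) - 1) ::
          List.ofFn (fun i => rename Fin.castSucc (F i) : Fin c → P')).take (i + 1)) •
            (⊤ : Submodule P' P'))) (((rename Fin.castSucc g * X (Fin.last n) - 1) ::
          List.ofFn (fun i => rename Fin.castSucc (F i) : Fin c → P'))[i + 1])
      rw [hget, List.take_succ_cons]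
      refine isSMulRegular_quot_of_ring _ _ ?_ _ hreg
      rw [smul_eq_mul, Ideal.mul_top, span_F'_eq R n c F i (Nat.le_of_succ_le hi) g]
  refine ⟨g, hgq, ⟨hweak, ?_⟩, ?_⟩
  · intro htop
    rw [smul_eq_mul, Ideal.mul_top, ← hspanc] at htop
    have hsub : Subsingleton (Synt.RelGCIRing R (n + 1) (c + 1) (F' R n c F g)) :=
      Ideal.Quotient.subsingleton_iff.mpr htop.symm
    have hsub' : Subsingleton (Localization.Away
        (Ideal.Quotient.mk (Ideal.span (Set.range F)) g)) :=
      (awayEquiv R n c F g).injective.subsingleton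
    have h01 : (algebraMap (Synt.RelGCIRing R n c F) (Localization.Away
        (Ideal.Quotient.mk (Ideal.span (Set.range F)) g))) 1 =
        (algebraMap (Synt.RelGCIRing R n c F) _) 0 := Subsingleton.elim _ _
    obtain ⟨⟨_, k, rfl⟩, hk⟩ := IsLocalization.exists_of_eq
      (M := Submonoid.powers (Ideal.Quotient.mk (Ideal.span (Set.range F)) g)) h01
    simp only [mul_one, mul_zero] at hk
    rw [← map_pow, Ideal.Quotient.eq_zero_iff_mem] at hk
    exact hgq (Ideal.IsPrime.mem_of_pow_mem inferInstance k (hq' hk))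
  · exact ⟨(awayEquiv R n c F g).trans (Ideal.quotientEquivAlgOfEq R hspanc)⟩

end Main


section Final

/-- a basic open of a basic open is a basic open -/
theorem exists_algEquiv_away_away (R : Type u) [CommRing R] {S : Type u} [CommRing S]
    [Algebra R S] (g : S) (g' : Localization.Away g) (q : Ideal S) [q.IsPrime] (hg : g ∉ q)
    (qT : Ideal (Localization.Away g)) [qT.IsPrime]
    (hcomap : qT.comap (algebraMap S (Localization.Away g)) = q) (hg' : g' ∉ qT) :
    ∃ g'' : S, g'' ∉ q ∧ Nonempty (Localization.Away g'' ≃ₐ[R] Localization.Away g') := by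
  set z : S := (IsLocalization.Away.sec g g').1 with hz
  have hassoc : Associated (algebraMap S (Localization.Away g) z) g' :=
    IsLocalization.Away.associated_sec_fst g g'
  have hloc : IsLocalization.Away (g * z) (Localization.Away g') :=
    IsLocalization.Away.mul_of_associated g z g' hassoc
  have hzq : z ∉ q := by
    intro hzq
    apply hg'
    obtain ⟨u, hu⟩ := hassoc
    rw [← hu]
    apply Ideal.mul_mem_right
    rw [← hcomap] at hzq
    exact hzq
  have htower : IsScalarTower R S (Localization.Away g') := inferInstance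
  refine ⟨g * z, fun hmem => (Ideal.IsPrime.mem_or_mem inferInstance hmem).elim hg hzq, ⟨?_⟩⟩
  exact (IsLocalization.algEquiv (Submonoid.powers (g * z)) (Localization.Away (g * z))
    (Localization.Away g')).restrictScalars R

/-- **S18938**: a syntomic algebra is locally the quotient of a polynomial ring by a regular
sequence. -/
theorem exists_away_regular (A : Type u) [CommRing A] (B : Type u) [CommRing B] [Algebra A B]
    (h : Synt.IsSyntomic A B) (q : PrimeSpectrum B) :
    ∃ g : B, g ∉ q.asIdeal ∧
      ∃ (n d : ℕ) (P : Fin d → MvPolynomial (Fin n) A),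
        RingTheory.Sequence.IsRegular (MvPolynomial (Fin n) A) (List.ofFn P) ∧
        Nonempty (Localization.Away g ≃ₐ[A]
          (MvPolynomial (Fin n) A ⧸ Ideal.ofList (List.ofFn P))) := by
  obtain ⟨g₀, hg₀, n, c, F, hrel, ⟨e₀⟩⟩ :=
    Groth.Agent.Lib.Helper82.SyntLocal.exists_relGCI_of_isSyntomic A B h q.asIdeal
  have hP' := Groth.Agent.Lib.Helper82.CIField.map_isPrime_of_notMem q.asIdeal g₀ hg₀
  have hdisj : Disjoint (Submonoid.powers g₀ : Set B) (q.asIdeal : Set B) := by
    rw [Set.disjoint_left]
    rintro _ ⟨m, rfl⟩ hm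
    exact hg₀ (Ideal.IsPrime.mem_of_pow_mem inferInstance m hm)
  have hcomap : (q.asIdeal.map (algebraMap B (Localization.Away g₀))).comap
      (algebraMap B (Localization.Away g₀)) = q.asIdeal :=
    IsLocalization.under_map_of_isPrime_disjoint (Submonoid.powers g₀) _ inferInstance hdisj
  set qT : Ideal (Localization.Away g₀) := q.asIdeal.map (algebraMap B (Localization.Away g₀))
    with hqT
  set q₁ : Ideal (Synt.RelGCIRing A n c F) := qT.comap e₀.symm with hq₁
  have hq₁p : q₁.IsPrime := Ideal.comap_isPrime _ _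
  set q' : Ideal (MvPolynomial (Fin n) A) :=
    q₁.comap (Ideal.Quotient.mk (Ideal.span (Set.range F))) with hq'def
  have hq'p : q'.IsPrime := Ideal.comap_isPrime _ _
  have hq' : Ideal.span (Set.range F) ≤ q' := fun x hx => by
    rw [hq'def, Ideal.mem_comap, Ideal.Quotient.eq_zero_iff_mem.mpr hx]
    exact zero_mem _
  obtain ⟨g, hgq', hreg, ⟨e₁⟩⟩ := exists_regular_presentation A n c F hrel q' hq'
  set g' : Localization.Away g₀ := e₀.symm (Ideal.Quotient.mk (Ideal.span (Set.range F)) g)
    with hg'def
  have hg' : g' ∉ qT := fun hmem => hgq' hmem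
  have H : Submonoid.map e₀ (Submonoid.powers g') =
      Submonoid.powers (Ideal.Quotient.mk (Ideal.span (Set.range F)) g) := by
    rw [Submonoid.map_powers, hg'def, AlgEquiv.apply_symm_apply]
  have e₂ : Localization.Away g' ≃ₐ[A]
      Localization.Away (Ideal.Quotient.mk (Ideal.span (Set.range F)) g) :=
    IsLocalization.algEquivOfAlgEquiv (Localization.Away g')
      (Localization.Away (Ideal.Quotient.mk (Ideal.span (Set.range F)) g)) e₀ H
  obtain ⟨g'', hg'', ⟨e₃⟩⟩ := exists_algEquiv_away_away A g₀ g' q.asIdeal hg₀ qT hcomap hg'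
  exact ⟨g'', hg'', n + 1, c + 1, seq A n c F g, hreg, ⟨e₃.trans (e₂.trans e₁)⟩⟩

end Final

end Groth.Agent.Lib.Helper82.SyntRegSeq
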