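import Groth.Agent.Lib.Helper82.CIGood
import Groth.Agent.Lib.Helper10.SyntBC
import Groth.Agent.S9169

/-!
# Base change of the local complete intersection property along a finitely generated field
extension
-/

set_option autoImplicit false

namespace Groth.Agent.Lib.Helper82.CIFieldBC

open IsLocalRing TensorProduct Groth.Agent.Lib.Helper82.CIGood

universe u

/-- the localisation of a domain at `⊥` is a regular local ring -/
theorem isRegularLocalRing_atPrime_bot (D : Type u) [CommRing D] [IsDomain D] :
    IsRegularLocalRing (Localization.AtPrime (⊥ : Ideal D)) := by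
  have hle : (⊥ : Ideal D).primeCompl ≤ nonZeroDivisors D := by
    intro x hx
    rw [mem_nonZeroDivisors_iff_ne_zero]
    intro h0
    exact hx (h0 ▸ Ideal.zero_mem _)
  have hdom : IsDomain (Localization.AtPrime (⊥ : Ideal D)) :=
    IsLocalization.isDomain_localization hle
  have hm : maximalIdeal (Localization.AtPrime (⊥ : Ideal D)) = ⊥ := by
    rw [← Localization.AtPrime.map_eq_maximalIdeal, Ideal.map_bot]
  have hF : IsField (Localization.AtPrime (⊥ : Ideal D)) :=
    IsLocalRing.isField_iff_maximalIdeal_eq.mpr hm
  have hpid : IsPrincipalIdealRing (Localization.AtPrime (⊥ : Ideal D)) := hF.isPrincipalIdealRing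
  infer_instance

/-- a domain of finite type over a field is generically syntomic -/
theorem exists_isSyntomic_away (k D : Type u) [Field k] [CommRing D] [IsDomain D] [Algebra k D]
    [Algebra.FiniteType k D] :
    ∃ g : D, g ≠ 0 ∧ Synt.IsSyntomic k (Localization.Away g) := by
  have hinj : Function.Injective (algebraMap k D) := (algebraMap k D).injective
  have hp : (⊥ : Ideal D).comap (algebraMap k D) = ⊥ := Ideal.comap_bot_of_injective _ hinj
  have hlies : (⊥ : Ideal D).LiesOver (⊥ : Ideal k) := ⟨hp.symm⟩
  obtain ⟨Q, hQp, hQ⟩ := Groth.Agent.Lib.Helper29.exists_fiber_prime (⊥ : Ideal k) (⊥ : Ideal D)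
  have key := (Groth.Agent.S9169.result k D ⊥ ⊥ Q hQ).2
  -- the fibre local ring is a field
  obtain ⟨eA⟩ := Groth.Agent.Lib.Helper82.FibReg.nonempty_ringEquiv_fibLocRing k D ⊥ Q ⊥ hQ hp
  have hJ : ((⊥ : Ideal D).comap (algebraMap k D)).map
      (algebraMap k (Localization.AtPrime (⊥ : Ideal D))) = ⊥ := by
    rw [hp, Ideal.map_bot]
  have hregF := isRegularLocalRing_atPrime_bot D
  have hreg1 : IsRegularLocalRing (EGA4.FibLocRing k D (⊥ : Ideal D)) :=
    IsRegularLocalRing.of_ringEquiv (R := Localization.AtPrime (⊥ : Ideal D))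
      ((Ideal.quotEquivOfEq hJ).trans (RingEquiv.quotientBot _)).symm
  have hreg : IsRegularLocalRing (Localization.AtPrime Q) :=
    IsRegularLocalRing.of_ringEquiv (R := EGA4.FibLocRing k D (⊥ : Ideal D)) eA.symm
  have hCI : Synt.IsCIOver (⊥ : Ideal k).ResidueField (Localization.AtPrime Q) := by
    refine ⟨Localization.AtPrime Q, inferInstance, hreg, inferInstance, ?_, [], by simp, ?_, ?_⟩
    · have : Algebra.FiniteType (⊥ : Ideal k).ResidueField ((⊥ : Ideal k).Fiber D) :=
        inferInstanceAs (Algebra.FiniteType (⊥ : Ideal k).ResidueField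
          ((⊥ : Ideal k).ResidueField ⊗[k] D))
      have h1 : Algebra.EssFiniteType (⊥ : Ideal k).ResidueField ((⊥ : Ideal k).Fiber D) :=
        inferInstance
      have h2 : Algebra.EssFiniteType ((⊥ : Ideal k).Fiber D) (Localization.AtPrime Q) :=
        Algebra.EssFiniteType.of_isLocalization _ Q.primeCompl
      exact Algebra.EssFiniteType.comp _ ((⊥ : Ideal k).Fiber D) _
    · refine ⟨RingTheory.Sequence.IsWeaklyRegular.nil _ _, ?_⟩
      rw [Ideal.ofList_nil, Submodule.bot_smul]
      exact top_ne_bot
    · rw [Ideal.ofList_nil]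
      exact ⟨(AlgEquiv.quotientBot _ _).symm⟩
  have h1 : (1 : D) ∉ (⊥ : Ideal D) := by
    intro h
    exact one_ne_zero ((Ideal.mem_bot).mp h)
  have hfp : Algebra.FinitePresentation k (Localization.Away (1 : D)) := by
    have : Algebra.FiniteType k (Localization.Away (1 : D)) :=
      Algebra.FiniteType.trans (inferInstance : Algebra.FiniteType k D) inferInstance
    exact Algebra.FinitePresentation.of_finiteType.mp this
  obtain ⟨g, hg, hsyn⟩ := key.mpr ⟨1, h1, hfp, inferInstance, hCI⟩
  exact ⟨g, fun h0 => hg (h0 ▸ Ideal.zero_mem _), hsyn⟩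

theorem good_tensor_of_fg (k K R : Type u) [Field k] [Field K] [Algebra k K]
    (hK : ∃ s : Finset K, IntermediateField.adjoin k (s : Set K) = ⊤)
    [CommRing R] [Algebra k R] (hR : Good R) : Good (K ⊗[k] R) := by
  obtain ⟨s, hs⟩ := hK
  let D : Subalgebra k K := Algebra.adjoin k (s : Set K)
  have hft : Algebra.FiniteType k D :=
    (Subalgebra.fg_iff_finiteType _).mp (Subalgebra.fg_adjoin_finset s)
  have hfrac : IsFractionRing D K := by
    apply IsFractionRing.of_field
    intro z
    have hz : z ∈ IntermediateField.adjoin k (s : Set K) := by rw [hs]; trivial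
    obtain ⟨x, hx, y, hy, rfl⟩ := IntermediateField.mem_adjoin_iff_div.mp hz
    exact ⟨⟨x, hx⟩, ⟨y, hy⟩, rfl⟩
  obtain ⟨g, hg, hsyn⟩ := exists_isSyntomic_away k D
  have hgK : IsUnit (algebraMap D K g) := by
    rw [isUnit_iff_ne_zero]
    intro h0
    apply hg
    exact (FaithfulSMul.algebraMap_injective D K) (h0.trans (map_zero _).symm)
  let φ : Localization.Away g →+* K := IsLocalization.Away.lift g hgK
  let _ : Algebra (Localization.Away g) K := φ.toAlgebra
  have ht1 : IsScalarTower D (Localization.Away g) K :=
    IsScalarTower.of_algebraMap_eq (fun x => (IsLocalization.Away.lift_eq g hgK x).symm)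
  have ht2 : IsScalarTower k (Localization.Away g) K :=
    IsScalarTower.of_algebraMap_eq (fun x => by
      rw [IsScalarTower.algebraMap_apply k D K,
        IsScalarTower.algebraMap_apply D (Localization.Away g) K,
        ← IsScalarTower.algebraMap_apply k D (Localization.Away g)])
  have hfracE : IsFractionRing (Localization.Away g) K :=
    IsFractionRing.isFractionRing_of_isDomain_of_isLocalization (Submonoid.powers g)
      (Localization.Away g) K
  have h1 : Synt.IsSyntomic R (R ⊗[k] Localization.Away g) :=
    Groth.Agent.Lib.Helper10.SyntBC.isSyntomic_tensor hsyn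
  have h2 : Good (R ⊗[k] Localization.Away g) := Good.of_isSyntomic h1 hR
  have h3 : Good (Localization.Away g ⊗[k] R) :=
    Good.of_ringEquiv (Algebra.TensorProduct.comm k R (Localization.Away g)).toRingEquiv h2
  let _ : Algebra (Localization.Away g ⊗[k] R)
      (K ⊗[Localization.Away g] (Localization.Away g ⊗[k] R)) :=
    Algebra.TensorProduct.rightAlgebra
  have hloc : IsLocalization (Algebra.algebraMapSubmonoid (Localization.Away g ⊗[k] R)
      (nonZeroDivisors (Localization.Away g)))
      (K ⊗[Localization.Away g] (Localization.Away g ⊗[k] R)) :=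
    IsLocalization.tensorRight K (nonZeroDivisors (Localization.Away g))
  have h4 : Good (K ⊗[Localization.Away g] (Localization.Away g ⊗[k] R)) :=
    Good.of_isLocalization (Algebra.algebraMapSubmonoid (Localization.Away g ⊗[k] R)
      (nonZeroDivisors (Localization.Away g))) h3
  exact Good.of_ringEquiv (Algebra.TensorProduct.cancelBaseChange k (Localization.Away g)
    (Localization.Away g) K R).toRingEquiv h4

end Groth.Agent.Lib.Helper82.CIFieldBC
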