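import Groth.Agent.Lib.Helper82.CICore

/-!
# Noetherian rings all of whose local rings are complete intersections

`Good T`: `T` is Noetherian and all localisations at primes are complete intersections
(`Pi1.IsCompleteIntersection`).  Stability under ring isomorphisms, localisations and syntomic
algebras.
-/

set_option autoImplicit false

namespace Groth.Agent.Lib.Helper82.CIGood

open IsLocalRing

universe u

/-- Noetherian with complete intersection local rings. -/
def Good (T : Type u) [CommRing T] : Prop :=
  IsNoetherianRing T ∧
    ∀ (P : Ideal T) [P.IsPrime], Pi1.IsCompleteIntersection (Localization.AtPrime P)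

theorem Good.of_ringEquiv {T T' : Type u} [CommRing T] [CommRing T'] (e : T ≃+* T')
    (h : Good T) : Good T' := by
  obtain ⟨hN, hCI⟩ := h
  refine ⟨isNoetherianRing_of_ringEquiv T e, fun P hP => ?_⟩
  have e' : Localization.AtPrime (P.comap e) ≃+* Localization.AtPrime P :=
    IsLocalization.ringEquivOfRingEquiv (Localization.AtPrime (P.comap e))
      (Localization.AtPrime P) e (e.map_primeCompl_comap_eq P)
  exact Groth.Agent.Lib.Helper82.CIOpen.isCI_of_ringEquiv e' (hCI (P.comap e))

theorem Good.of_isLocalization {T T' : Type u} [CommRing T] [CommRing T'] [Algebra T T']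
    (M : Submonoid T) [IsLocalization M T'] (h : Good T) : Good T' := by
  obtain ⟨hN, hCI⟩ := h
  refine ⟨IsLocalization.isNoetherianRing M T' hN, fun P' hP' => ?_⟩
  have hloc := IsLocalization.isLocalization_isLocalization_atPrime_isLocalization
    M (Localization.AtPrime P') P'
  let e := IsLocalization.algEquiv (P'.comap (algebraMap T T')).primeCompl
    (Localization.AtPrime (P'.comap (algebraMap T T'))) (Localization.AtPrime P')
  exact Groth.Agent.Lib.Helper82.CIOpen.isCI_of_ringEquiv e.toRingEquiv
    (hCI (P'.comap (algebraMap T T')))

theorem Good.of_isSyntomic {R C : Type u} [CommRing R] [CommRing C] [Algebra R C]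
    (hsyn : Synt.IsSyntomic R C) (h : Good R) : Good C := by
  obtain ⟨hN, hCI⟩ := h
  have hfp : Algebra.FinitePresentation R C := hsyn.2.1
  have hft : Algebra.FiniteType R C := inferInstance
  refine ⟨Algebra.FiniteType.isNoetherianRing R C, fun P hP => ?_⟩
  have hNp : IsNoetherianRing (Localization.AtPrime (P.comap (algebraMap R C))) :=
    IsLocalization.isNoetherianRing (P.comap (algebraMap R C)).primeCompl _ hN
  exact Groth.Agent.Lib.Helper82.CICore.isCI_localization_of_isSyntomic R C hsyn P
    (P.comap (algebraMap R C)) rfl (hCI (P.comap (algebraMap R C)))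

end Groth.Agent.Lib.Helper82.CIGood
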