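import Groth.Agent.Lib.Helper82.KoszH1Pres
import Groth.Agent.Lib.Helper85.RegularGens
import Groth.Agent.Lib.Helper85.RegularSeq
import Groth.Agent.Lib.Helper10.RegImmKinds

/-!
# Independence of the presentation: number of generators of the kernel of a surjection from a
regular local ring

For a surjection `π : B → C` from a regular local ring onto a local ring,
`μ(ker π) + embdim C = ε₁(C) + embdim B`, where `ε₁(C)` is the minimal number of generators of the
first Koszul homology of a minimal generating family of the maximal ideal of `C`.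
-/

set_option autoImplicit false

namespace Groth.Agent.Lib.Helper82.CIPres

open IsLocalRing Groth.Agent.Lib.Helper82.KoszH1 Groth.Agent.Lib.Helper85

universe u

section Reindex

variable {R : Type u} [CommRing R]

theorem isH1Regular_of_comp_equiv {c c' : ℕ} (σ : Fin c ≃ Fin c') (f : Fin c' → R)
    (h : CAlgX.IsH1Regular (f ∘ σ)) : CAlgX.IsH1Regular f := by
  classical
  intro a ha
  have ha' : ∑ j, (a ∘ σ) j * (f ∘ σ) j = 0 := by
    rw [← ha]
    exact Equiv.sum_comp σ (fun i => a i * f i)
  have hmem := h (a ∘ σ) ha'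
  have hle : Submodule.span R {v : Fin c → R | ∃ i j : Fin c,
      v = Pi.single i ((f ∘ σ) j) - Pi.single j ((f ∘ σ) i)} ≤
      (Submodule.span R {v : Fin c' → R | ∃ i j : Fin c',
        v = Pi.single i (f j) - Pi.single j (f i)}).comap
        (LinearMap.funLeft R R σ.symm) := by
    rw [Submodule.span_le]
    rintro _ ⟨i, j, rfl⟩
    refine Submodule.subset_span ⟨σ i, σ j, ?_⟩
    ext n
    simp only [LinearMap.funLeft_apply, Pi.sub_apply, Pi.single_apply, Function.comp_apply]
    congr 1
    · by_cases hn : n = σ i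
      · subst hn; simp
      · have : σ.symm n ≠ i := fun h' => hn (by rw [← h', Equiv.apply_symm_apply])
        simp [hn, this]
    · by_cases hn : n = σ j
      · subst hn; simp
      · have : σ.symm n ≠ j := fun h' => hn (by rw [← h', Equiv.apply_symm_apply])
        simp [hn, this]
  have h2 := hle hmem
  have h3 : (LinearMap.funLeft R R σ.symm) (a ∘ σ) = a := by
    ext n
    simp [LinearMap.funLeft_apply]
  rw [Submodule.mem_comap, h3] at h2
  exact h2

theorem isH1Regular_of_isRegular_ofFn {e : ℕ} (t : Fin e → R)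
    (h : RingTheory.Sequence.IsRegular R (List.ofFn t)) : CAlgX.IsH1Regular t := by
  have h1 := Groth.Agent.Lib.Helper10.KoszulH1.isH1Regular_of_isKoszulRegularSeq (List.ofFn t)
    (Groth.Agent.Lib.Helper94.isKoszulRegularSeq_of_isRegular R (List.ofFn t) h)
  let σ : Fin (List.ofFn t).length ≃ Fin e := finCongr (List.length_ofFn (f := t))
  have h2 : (List.ofFn t).get = t ∘ σ := by
    funext i
    simp [σ]
    rfl
  rw [h2] at h1
  exact isH1Regular_of_comp_equiv σ t h1

end Reindex


section Step

variable {B : Type u} [CommRing B] [IsLocalRing B]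

/-- Killing an element `z ∈ I \ 𝔪²` lowers the number of generators of `I` by exactly one. -/
theorem exists_generators_succ_iff (I : Ideal B) (hI : I ≠ ⊤) (z : B) (hzI : z ∈ I)
    (hz2 : z ∉ maximalIdeal B ^ 2) (s : ℕ) :
    (∃ f : Fin (s + 1) → B, Ideal.span (Set.range f) = I) ↔
      ∃ f₁ : Fin s → B ⧸ Ideal.span {z},
        Ideal.span (Set.range f₁) = I.map (Ideal.Quotient.mk (Ideal.span {z})) := by
  classical
  have hIm : I ≤ maximalIdeal B := IsLocalRing.le_maximalIdeal hI
  have hzle : Ideal.span {z} ≤ I := (Ideal.span_singleton_le_iff_mem _).mpr hzI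
  constructor
  · rintro ⟨f, hf⟩
    have hfI : ∀ k, f k ∈ I := fun k => by rw [← hf]; exact Ideal.subset_span ⟨k, rfl⟩
    have hz' : z ∈ Ideal.span (Set.range f) := by rw [hf]; exact hzI
    obtain ⟨c, hc⟩ := (Ideal.mem_span_range_iff_exists_fun).mp hz'
    obtain ⟨k₀, hk₀⟩ : ∃ k₀, IsUnit (c k₀) := by
      by_contra hcon
      push Not at hcon
      apply hz2
      rw [← hc, pow_two]
      exact Ideal.sum_mem _ fun k _ =>
        Ideal.mul_mem_mul ((mem_maximalIdeal _).mpr (hcon k)) (hIm (hfI k))
    refine ⟨fun j => Ideal.Quotient.mk _ (f (k₀.succAbove j)), le_antisymm ?_ ?_⟩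
    · rw [Ideal.span_le]
      rintro _ ⟨j, rfl⟩
      exact Ideal.mem_map_of_mem _ (hfI _)
    · rw [← hf, Ideal.map_span, Ideal.span_le]
      rintro _ ⟨_, ⟨k, rfl⟩, rfl⟩
      by_cases hk : k = k₀
      · subst hk
        -- `mk (f k₀)` is a combination of the others
        have h0 : (Ideal.Quotient.mk (Ideal.span {z})) (∑ i, c i * f i) = 0 := by
          rw [hc]
          exact Ideal.Quotient.eq_zero_iff_mem.mpr (Ideal.mem_span_singleton_self z)
        rw [map_sum, Fin.sum_univ_succAbove _ k] at h0
        simp only [map_mul] at h0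
        have hu : IsUnit ((Ideal.Quotient.mk (Ideal.span {z})) (c k)) := hk₀.map _
        obtain ⟨w, hw⟩ := hu.exists_left_inv
        have h1 : (Ideal.Quotient.mk (Ideal.span {z})) (f k) =
            - (w * ∑ j, (Ideal.Quotient.mk (Ideal.span {z})) (c (k.succAbove j)) *
              (Ideal.Quotient.mk (Ideal.span {z})) (f (k.succAbove j))) := by
          have h2 := congrArg (fun y => w * y) h0
          simp only [mul_add, mul_zero, ← mul_assoc, hw, one_mul] at h2
          rw [eq_neg_iff_add_eq_zero]
          rw [← h2]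
        change (Ideal.Quotient.mk (Ideal.span {z})) (f k) ∈ _
        rw [h1]
        refine Ideal.neg_mem_iff _ |>.mpr (Ideal.mul_mem_left _ _ (Ideal.sum_mem _ fun j _ => ?_))
        exact Ideal.mul_mem_left _ _ (Ideal.subset_span ⟨j, rfl⟩)
      · obtain ⟨j, rfl⟩ := Fin.exists_succAbove_eq hk
        exact Ideal.subset_span ⟨j, rfl⟩
  · rintro ⟨f₁, hf₁⟩
    have hmem : ∀ k, ∃ b ∈ I, (Ideal.Quotient.mk (Ideal.span {z})) b = f₁ k := fun k => by
      have : f₁ k ∈ I.map (Ideal.Quotient.mk (Ideal.span {z})) := by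
        rw [← hf₁]; exact Ideal.subset_span ⟨k, rfl⟩
      exact (Ideal.mem_map_iff_of_surjective _ Ideal.Quotient.mk_surjective).mp this
    choose f hfI hff using hmem
    refine ⟨Fin.cons z f, ?_⟩
    rw [Fin.range_cons, Ideal.span_insert]
    have hmap : (Ideal.span (Set.range f)).map (Ideal.Quotient.mk (Ideal.span {z})) =
        I.map (Ideal.Quotient.mk (Ideal.span {z})) := by
      rw [Ideal.map_span, ← hf₁]
      congr 1
      ext y
      constructor
      · rintro ⟨_, ⟨k, rfl⟩, rfl⟩; exact ⟨k, (hff k).symm⟩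
      · rintro ⟨k, rfl⟩; exact ⟨f k, ⟨k, rfl⟩, hff k⟩
    have h3 := sup_eq_sup_of_map_mk_eq (Ideal.span {z}) _ _ hmap
    rw [sup_comm, h3, sup_eq_left.mpr hzle]

end Step

section Embdim

variable {B C : Type u} [CommRing B] [CommRing C] [IsLocalRing B] [IsLocalRing C]

theorem mem_maximalIdeal_of_map_mem (π : B →+* C) (hπ : Function.Surjective π) {b : B}
    (hb : π b ∈ maximalIdeal C) : b ∈ maximalIdeal B := by
  have := IsLocalHom.of_surjective π hπ
  rw [← maximalIdeal_comap π]
  exact hb

/-- If the kernel is inside `𝔪²`, the embedding dimension does not drop. -/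
theorem spanFinrank_le_of_ker_le_sq [IsNoetherianRing B] (π : B →+* C)
    (hπ : Function.Surjective π) (hker : RingHom.ker π ≤ maximalIdeal B ^ 2) {e' : ℕ}
    (x : Fin e' → C) (hx : Ideal.span (Set.range x) = maximalIdeal C) :
    (maximalIdeal B).spanFinrank ≤ e' := by
  classical
  choose t ht using fun k => hπ (x k)
  have htm : ∀ k, t k ∈ maximalIdeal B := fun k => by
    apply mem_maximalIdeal_of_map_mem π hπ
    rw [ht k, ← hx]; exact Ideal.subset_span ⟨k, rfl⟩
  have hle1 : Ideal.span (Set.range t) ≤ maximalIdeal B := by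
    rw [Ideal.span_le]; rintro _ ⟨k, rfl⟩; exact htm k
  have hle2 : maximalIdeal B ≤ Ideal.span (Set.range t) ⊔ maximalIdeal B • maximalIdeal B := by
    intro b hb
    have hb' : π b ∈ Ideal.span (Set.range x) := by
      rw [hx, ← map_maximalIdeal_of_surjective π hπ]
      exact Ideal.mem_map_of_mem _ hb
    obtain ⟨cbar, hc⟩ := (Ideal.mem_span_range_iff_exists_fun).mp hb'
    choose c hcc using fun k => hπ (cbar k)
    have hdiff : b - ∑ k, c k * t k ∈ RingHom.ker π := by
      rw [RingHom.mem_ker, map_sub, map_sum, ← hc, sub_eq_zero]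
      apply Finset.sum_congr rfl
      intro k _
      rw [map_mul, hcc, ht]
    have h1 : b = ∑ k, c k * t k + (b - ∑ k, c k * t k) := by ring
    rw [h1]
    refine Submodule.add_mem _ (Submodule.mem_sup_left ?_) (Submodule.mem_sup_right ?_)
    · exact Ideal.sum_mem _ fun k _ => Ideal.mul_mem_left _ _ (Ideal.subset_span ⟨k, rfl⟩)
    · have := hker hdiff
      rwa [pow_two] at this
  have hle3 : maximalIdeal B ≤ Ideal.span (Set.range t) :=
    Submodule.le_of_le_smul_of_le_jacobson_bot (IsNoetherian.noetherian _)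
      (by rw [IsLocalRing.jacobson_eq_maximalIdeal ⊥ bot_ne_top]) hle2
  rw [← le_antisymm hle1 hle3]
  exact spanFinrank_span_range_le t

/-- `embdim B ≤ embdim C + (number of generators of the kernel)`. -/
theorem spanFinrank_le_add (π : B →+* C) (hπ : Function.Surjective π) {e' s : ℕ}
    (x : Fin e' → C) (hx : Ideal.span (Set.range x) = maximalIdeal C)
    (f : Fin s → B) (hf : Ideal.span (Set.range f) = RingHom.ker π)
    (hker : RingHom.ker π ≠ ⊤) :
    (maximalIdeal B).spanFinrank ≤ e' + s := by
  classical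
  choose t ht using fun k => hπ (x k)
  have htm : ∀ k, t k ∈ maximalIdeal B := fun k => by
    apply mem_maximalIdeal_of_map_mem π hπ
    rw [ht k, ← hx]; exact Ideal.subset_span ⟨k, rfl⟩
  have hIm : RingHom.ker π ≤ maximalIdeal B := IsLocalRing.le_maximalIdeal hker
  have heq : maximalIdeal B = Ideal.span (Set.range t ∪ Set.range f) := by
    apply le_antisymm
    · intro b hb
      have hb' : π b ∈ Ideal.span (Set.range x) := by
        rw [hx, ← map_maximalIdeal_of_surjective π hπ]
        exact Ideal.mem_map_of_mem _ hb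
      obtain ⟨cbar, hc⟩ := (Ideal.mem_span_range_iff_exists_fun).mp hb'
      choose c hcc using fun k => hπ (cbar k)
      have hdiff : b - ∑ k, c k * t k ∈ RingHom.ker π := by
        rw [RingHom.mem_ker, map_sub, map_sum, ← hc, sub_eq_zero]
        apply Finset.sum_congr rfl
        intro k _
        rw [map_mul, hcc, ht]
      have h1 : b = ∑ k, c k * t k + (b - ∑ k, c k * t k) := by ring
      rw [h1, Ideal.span_union]
      refine Submodule.add_mem _ (Submodule.mem_sup_left ?_) (Submodule.mem_sup_right ?_)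
      · exact Ideal.sum_mem _ fun k _ => Ideal.mul_mem_left _ _ (Ideal.subset_span ⟨k, rfl⟩)
      · rw [hf]; exact hdiff
    · rw [Ideal.span_le]
      rintro b (⟨k, rfl⟩ | ⟨k, rfl⟩)
      · exact htm k
      · exact hIm (by rw [← hf]; exact Ideal.subset_span ⟨k, rfl⟩)
  rw [heq]
  refine (Submodule.spanFinrank_span_le_ncard_of_finite
    ((Set.finite_range t).union (Set.finite_range f))).trans ?_
  refine (Set.ncard_union_le _ _).trans ?_
  have h1 : (Set.range t).ncard ≤ e' := by
    rw [← Set.image_univ]
    refine (Set.ncard_image_le Set.finite_univ).trans ?_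
    simp
  have h2 : (Set.range f).ncard ≤ s := by
    rw [← Set.image_univ]
    refine (Set.ncard_image_le Set.finite_univ).trans ?_
    simp
  omega

end Embdim


section Main

theorem ker_ne_top {B C : Type u} [CommRing B] [CommRing C] [Nontrivial C] (π : B →+* C) :
    RingHom.ker π ≠ ⊤ := by
  intro h
  have h1 : (1 : B) ∈ RingHom.ker π := by rw [h]; trivial
  rw [RingHom.mem_ker, map_one] at h1
  exact one_ne_zero h1

theorem spanFinrank_maximalIdeal_le_of_surjective {B C : Type u} [CommRing B] [CommRing C]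
    [IsLocalRing B] [IsNoetherianRing B] [IsLocalRing C] (π : B →+* C)
    (hπ : Function.Surjective π) :
    (maximalIdeal C).spanFinrank ≤ (maximalIdeal B).spanFinrank := by
  rw [← map_maximalIdeal_of_surjective π hπ]
  exact Ideal.spanFinrank_map_le_of_fg π (maximalIdeal B).fg_of_isNoetherianRing

/-- The case `ker π ≤ 𝔪²`. -/
theorem genBy_iff_of_ker_le_sq (B : Type u) [CommRing B] [IsRegularLocalRing B]
    (C : Type u) [CommRing C] [IsLocalRing C] (π : B →+* C) (hπ : Function.Surjective π)
    (hk : RingHom.ker π ≤ maximalIdeal B ^ 2)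
    (e' : ℕ) (x : Fin e' → C) (hx : Ideal.span (Set.range x) = maximalIdeal C)
    (hmin : (maximalIdeal C).spanFinrank = e') (r : ℕ) :
    (maximalIdeal B).spanFinrank = e' ∧
      (GenBy x r ↔ ∃ f : Fin r → B, Ideal.span (Set.range f) = RingHom.ker π) := by
  have he : (maximalIdeal B).spanFinrank = e' :=
    le_antisymm (spanFinrank_le_of_ker_le_sq π hπ hk x hx)
      (hmin ▸ spanFinrank_maximalIdeal_le_of_surjective π hπ)
  refine ⟨he, ?_⟩
  obtain ⟨t, ht⟩ := exists_fin_span_range_eq (maximalIdeal B)
    (maximalIdeal B).fg_of_isNoetherianRing he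
  have hdim : ringKrullDim B = e' := by
    rw [← IsRegularLocalRing.spanFinrank_maximalIdeal (R := B), he]
  have hreg := isRegular_ofFn_of_span_eq_maximalIdeal e' hdim t ht
  have hH1 := isH1Regular_of_isRegular_ofFn t hreg
  have hx₁ : Ideal.span (Set.range (π ∘ t)) = maximalIdeal C := by
    rw [Set.range_comp, ← Ideal.map_span, ht, map_maximalIdeal_of_surjective π hπ]
  rw [genBy_iff hx hx₁ hmin r]
  exact genBy_iff_exists_generators π hπ (ker_ne_top π) t ht hH1 r

/-- Main induction on the embedding dimension of `B`. -/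
theorem genBy_iff_exists_generators_aux : ∀ (e : ℕ) (B : Type u) [CommRing B]
    [IsRegularLocalRing B] (C : Type u) [CommRing C] [IsLocalRing C] (π : B →+* C),
    Function.Surjective π → (maximalIdeal B).spanFinrank = e →
    ∀ (e' : ℕ) (x : Fin e' → C), Ideal.span (Set.range x) = maximalIdeal C →
      (maximalIdeal C).spanFinrank = e' →
      ∀ r s : ℕ, s + e' = r + e →
        (GenBy x r ↔ ∃ f : Fin s → B, Ideal.span (Set.range f) = RingHom.ker π) := by
  intro e
  induction e with
  | zero =>
    intro B _ _ C _ _ π hπ he e' x hx hmin r s hrs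
    have hk : RingHom.ker π ≤ maximalIdeal B ^ 2 := by
      have hbot : maximalIdeal B = ⊥ :=
        (Submodule.spanFinrank_eq_zero_iff_eq_bot (maximalIdeal B).fg_of_isNoetherianRing).mp he
      intro b hb
      have : b ∈ maximalIdeal B := IsLocalRing.le_maximalIdeal (ker_ne_top π) hb
      rw [hbot] at this
      rw [(Submodule.mem_bot B).mp this]
      exact Ideal.zero_mem _
    obtain ⟨he2, hiff⟩ := genBy_iff_of_ker_le_sq B C π hπ hk e' x hx hmin r
    have : s = r := by omega
    subst this
    exact hiff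
  | succ n ih =>
    intro B _ _ C _ _ π hπ he e' x hx hmin r s hrs
    by_cases hk : RingHom.ker π ≤ maximalIdeal B ^ 2
    · obtain ⟨he2, hiff⟩ := genBy_iff_of_ker_le_sq B C π hπ hk e' x hx hmin r
      have : s = r := by omega
      subst this
      exact hiff
    · obtain ⟨z, hzk, hz2⟩ := Set.not_subset.mp hk
      have hzm : z ∈ maximalIdeal B := IsLocalRing.le_maximalIdeal (ker_ne_top π) hzk
      obtain ⟨hreg₁, he₁⟩ := isRegularLocalRing_quotient_span_singleton z hzm hz2
      have hle : Ideal.span {z} ≤ RingHom.ker π := (Ideal.span_singleton_le_iff_mem _).mpr hzk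
      have hπ₁ : Function.Surjective (Ideal.Quotient.lift (Ideal.span {z}) π hle) :=
        Ideal.Quotient.lift_surjective_of_surjective _ hle hπ
      have he₁' : (maximalIdeal (B ⧸ Ideal.span {z})).spanFinrank = n := by omega
      have hle' : e' ≤ n := by
        rw [← hmin, ← he₁']
        exact spanFinrank_maximalIdeal_le_of_surjective _ hπ₁
      obtain ⟨s₁, rfl⟩ : ∃ s₁, s = s₁ + 1 := ⟨s - 1, by omega⟩
      have hrs₁ : s₁ + e' = r + n := by omega
      have h1 := ih (B ⧸ Ideal.span {z}) C (Ideal.Quotient.lift (Ideal.span {z}) π hle) hπ₁ he₁'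
        e' x hx hmin r s₁ hrs₁
      rw [h1, Ideal.ker_quotient_lift π hle]
      exact (exists_generators_succ_iff (RingHom.ker π) (ker_ne_top π) z hzk hz2 s₁).symm

end Main

end Groth.Agent.Lib.Helper82.CIPres
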