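import Groth.Agent.Lib.Helper82.CMHeight
import Mathlib.RingTheory.RegularLocalRing.Polynomial

/-!
# Complete intersection ideals of `k[x_0..x_n]` are saturated
-/

set_option autoImplicit false

namespace Groth.Agent.Lib.Helper82.CISaturated

open LocCoh RingTheory.Sequence Groth.Agent.Lib.Helper29 Groth.Agent.Lib.Helper93.Depth
open Groth.Agent.Lib.Helper82.GrSyzTor Groth.Agent.Lib.Helper82.PolyDepth
open Groth.Agent.Lib.Helper82.CMHeight Groth.Agent.Lib.Helper82.DepthGens
open MvPolynomial

universe u

variable (k : Type u) [Field k] (n : ℕ)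

/-- `p - C (p 0)` lies in the ideal generated by the variables. -/
lemma sub_C_mem_span_X {σ : Type*} (p : MvPolynomial σ k) :
    p - C (constantCoeff p) ∈ Ideal.span (Set.range (X : σ → MvPolynomial σ k)) := by
  induction p using MvPolynomial.induction_on with
  | C c =>
    rw [constantCoeff_C, sub_self]
    exact zero_mem _
  | add p q hp hq =>
    rw [map_add, map_add]
    have := add_mem hp hq
    convert this using 1
    ring
  | mul_X p i hp =>
    have h0 : constantCoeff (p * X i) = 0 := by
      rw [map_mul, constantCoeff_X, mul_zero]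
    rw [h0, map_zero, sub_zero]
    exact Ideal.mul_mem_left _ _ (Ideal.subset_span ⟨i, rfl⟩)

lemma mI_le_span_X (σ : Type) : mI k σ ≤ Ideal.span (Set.range (X : σ → MvPolynomial σ k)) := by
  intro p hp
  rw [mI_eq_ker, RingHom.mem_ker] at hp
  have h := sub_C_mem_span_X k p
  rw [hp, map_zero, sub_zero] at h
  exact h

lemma mem_mI_of_isHomogeneous {σ : Type} {p : MvPolynomial σ k} {d : ℕ} (hp : p.IsHomogeneous d)
    (hd : 0 < d) : p ∈ mI k σ := by
  rw [mI_eq_ker, RingHom.mem_ker, constantCoeff_eq]
  apply hp.coeff_eq_zero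
  rw [map_zero]
  exact hd.ne

lemma varList_mem_mI (j : ℕ) : ∀ x ∈ varList k (n + 1) j, x ∈ mI k (Fin (n + 1)) := by
  induction j with
  | zero => intro x hx; simp [varList] at hx
  | succ j ih =>
    intro x hx
    rw [varList, List.mem_append, List.mem_singleton] at hx
    rcases hx with hx | rfl
    · exact ih x hx
    · split_ifs with h
      · exact X_mem_mI k _ _
      · exact zero_mem _

theorem enat_one_le_of_le_add {n r : ℕ} (hr : r ≤ n) {dd : ℕ∞}
    (h : ((n + 1 : ℕ) : ℕ∞) ≤ (r : ℕ∞) + dd) : 1 ≤ dd := by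
  induction dd with
  | top => exact le_top
  | coe dd =>
    have h' : n + 1 ≤ r + dd := by exact_mod_cast h
    have : 1 ≤ dd := by omega
    exact_mod_cast this

/-- A homogeneous complete intersection ideal of height `r ≤ n` in `k[x_0..x_n]` is saturated
with respect to the irrelevant ideal. -/
theorem mem_of_forall_X_pow_mul_mem (r : ℕ) (hr : r ≤ n)
    (f : Fin r → MvPolynomial (Fin (n + 1)) k) (d : Fin r → ℕ)
    (hf : ∀ i, (f i).IsHomogeneous (d i)) (hd : ∀ i, 0 < d i)
    (hJ : (Ideal.span (Set.range f)).height = r) (g : MvPolynomial (Fin (n + 1)) k)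
    (hg : ∀ i : Fin (n + 1), ∃ e : ℕ, X i ^ e * g ∈ Ideal.span (Set.range f)) :
    g ∈ Ideal.span (Set.range f) := by
  classical
  -- the colon ideal `K = (J : g)`
  let K : Ideal (MvPolynomial (Fin (n + 1)) k) :=
    Submodule.comap (LinearMap.mulRight (MvPolynomial (Fin (n + 1)) k) g)
      (Ideal.span (Set.range f))
  have hKmem : ∀ s, s ∈ K ↔ s * g ∈ Ideal.span (Set.range f) := fun s => Iff.rfl
  have hmK : mI k (Fin (n + 1)) ≤ K.radical := by
    refine le_trans (mI_le_span_X k _) ?_
    rw [Ideal.span_le]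
    rintro _ ⟨i, rfl⟩
    obtain ⟨e, he⟩ := hg i
    exact ⟨e, (hKmem _).mpr he⟩
  have hfg : (mI k (Fin (n + 1))).FG := IsNoetherian.noetherian _
  obtain ⟨N, hN⟩ := Ideal.exists_pow_le_of_le_radical_of_fg hmK hfg
  -- it suffices to find `s ∉ m` with `s g ∈ J`
  suffices hs : ∃ s, s ∉ mI k (Fin (n + 1)) ∧ s * g ∈ Ideal.span (Set.range f) by
    obtain ⟨s, hsm, hsg⟩ := hs
    by_contra hgJ
    have hK : K ≠ ⊤ := by
      intro h
      have h1 : (1 : MvPolynomial (Fin (n + 1)) k) ∈ K := h ▸ Submodule.mem_top
      rw [hKmem, one_mul] at h1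
      exact hgJ h1
    have hrad : K.radical ≠ ⊤ := fun h => hK (Ideal.radical_eq_top.mp h)
    have heq : mI k (Fin (n + 1)) = K.radical :=
      Ideal.IsMaximal.eq_of_le inferInstance hrad hmK
    exact hsm (heq ▸ Ideal.le_radical ((hKmem s).mpr hsg))
  -- the local part
  have hfm : ∀ i, f i ∈ mI k (Fin (n + 1)) := fun i => mem_mI_of_isHomogeneous k (hf i) (hd i)
  let fs : List (Localization.AtPrime (mI k (Fin (n + 1)))) :=
    (List.ofFn f).map (algebraMap _ (Localization.AtPrime (mI k (Fin (n + 1)))))
  have hfs_len : fs.length = r := by simp [fs]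
  have hfs_mem : ∀ x ∈ fs, x ∈ IsLocalRing.maximalIdeal
      (Localization.AtPrime (mI k (Fin (n + 1)))) := by
    intro x hx
    obtain ⟨y, hy, rfl⟩ := List.mem_map.mp hx
    obtain ⟨i, rfl⟩ := (List.mem_ofFn' f y).mp hy
    exact (IsLocalization.AtPrime.to_map_mem_maximal_iff _ (mI k (Fin (n + 1))) (f i)).mpr (hfm i)
  have hset : ({x | x ∈ fs} : Set (Localization.AtPrime (mI k (Fin (n + 1))))) =
      (algebraMap _ (Localization.AtPrime (mI k (Fin (n + 1))))) '' Set.range f := by
    ext x
    simp only [fs, Set.mem_ofPred_eq, List.mem_map, List.mem_ofFn', Set.mem_image, Set.mem_range]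
  have hofList : Ideal.ofList fs = (Ideal.span (Set.range f)).map
      (algebraMap _ (Localization.AtPrime (mI k (Fin (n + 1))))) := by
    rw [Ideal.map_span, ← hset]
  have hht : (fs.length : ℕ∞) ≤ (Ideal.ofList fs).height := by
    have h1 := IsLocalization.height_under (mI k (Fin (n + 1))).primeCompl
      ((Ideal.span (Set.range f)).map
        (algebraMap _ (Localization.AtPrime (mI k (Fin (n + 1))))))
    have h2 : (Ideal.span (Set.range f)).height ≤
        (((Ideal.span (Set.range f)).map
          (algebraMap _ (Localization.AtPrime (mI k (Fin (n + 1)))))).under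
            (MvPolynomial (Fin (n + 1)) k)).height :=
      Ideal.height_mono (Ideal.le_comap_map (f := algebraMap (MvPolynomial (Fin (n + 1)) k)
        (Localization.AtPrime (mI k (Fin (n + 1))))))
    rw [hfs_len, hofList, ← h1, ← hJ]
    exact h2
  have hRR : IsRegularRing (MvPolynomial (Fin (n + 1)) k) :=
    MvPolynomial.isRegularRing_of_isRegularRing k
  have hRLR : IsRegularLocalRing (Localization.AtPrime (mI k (Fin (n + 1)))) :=
    IsRegularRing.isRegularLocalRing_localization _
  have hCM := Groth.Agent.Lib.Helper28.isCohenMacaulayModule_self_of_isRegularLocalRing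
    (Localization.AtPrime (mI k (Fin (n + 1))))
  have hreg : IsWeaklyRegular (Localization.AtPrime (mI k (Fin (n + 1)))) fs :=
    isWeaklyRegular_of_length_le_height hCM fs hfs_mem hht
  -- depth of the localization is at least `n + 1`
  have hvars : IsWeaklyRegular (Localization.AtPrime (mI k (Fin (n + 1))))
      ((varList k (n + 1) (n + 1)).map (algebraMap _ (Localization.AtPrime (mI k (Fin (n + 1)))))) :=
    (varList_isWeaklyRegular k (n + 1) (n + 1) le_rfl).of_flat
  have hdepthA : ((n + 1 : ℕ) : ℕ∞) ≤ idealDepth (IsLocalRing.maximalIdeal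
      (Localization.AtPrime (mI k (Fin (n + 1))))) (Localization.AtPrime (mI k (Fin (n + 1)))) := by
    have := length_le_idealDepth (IsLocalRing.maximalIdeal
      (Localization.AtPrime (mI k (Fin (n + 1))))) (Localization.AtPrime (mI k (Fin (n + 1)))) _
      hvars (by
        intro x hx
        obtain ⟨y, hy, rfl⟩ := List.mem_map.mp hx
        exact (IsLocalization.AtPrime.to_map_mem_maximal_iff _ (mI k (Fin (n + 1))) y).mpr
          (varList_mem_mI k n _ y hy))
    rw [List.length_map, varList_length] at this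
    exact this
  have hadd := idealDepth_eq_length_add (IsLocalRing.maximalIdeal
    (Localization.AtPrime (mI k (Fin (n + 1))))) fs (Localization.AtPrime (mI k (Fin (n + 1))))
    hreg hfs_mem
  rw [hadd, hfs_len] at hdepthA
  have hQ1 := enat_one_le_of_le_add hr hdepthA
  -- the class of `g`
  have hkill : (mI k (Fin (n + 1)) ^ N).map
      (algebraMap _ (Localization.AtPrime (mI k (Fin (n + 1))))) ≤
      LinearMap.ker (LinearMap.toSpanSingleton (Localization.AtPrime (mI k (Fin (n + 1))))
        (Localization.AtPrime (mI k (Fin (n + 1))) ⧸ (Ideal.ofList fs • ⊤ :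
          Submodule (Localization.AtPrime (mI k (Fin (n + 1))))
            (Localization.AtPrime (mI k (Fin (n + 1))))))
        (Submodule.Quotient.mk (algebraMap _ (Localization.AtPrime (mI k (Fin (n + 1)))) g))) := by
    rw [Ideal.map_le_iff_le_comap]
    intro y hy
    have hyK : y * g ∈ Ideal.span (Set.range f) := (hKmem y).mp (hN hy)
    have hI : (Ideal.ofList fs • ⊤ : Submodule (Localization.AtPrime (mI k (Fin (n + 1))))
        (Localization.AtPrime (mI k (Fin (n + 1))))) = Ideal.ofList fs := by
      rw [smul_eq_mul, Ideal.mul_top]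
    rw [Ideal.mem_comap, LinearMap.mem_ker, LinearMap.toSpanSingleton_apply,
      ← Submodule.Quotient.mk_smul, Submodule.Quotient.mk_eq_zero, hI, hofList,
      smul_eq_mul, ← map_mul]
    exact Ideal.mem_map_of_mem _ hyK
  have hgbar : (Submodule.Quotient.mk (algebraMap _ (Localization.AtPrime (mI k (Fin (n + 1)))) g) :
      Localization.AtPrime (mI k (Fin (n + 1))) ⧸ (Ideal.ofList fs • ⊤ :
          Submodule (Localization.AtPrime (mI k (Fin (n + 1))))
            (Localization.AtPrime (mI k (Fin (n + 1)))))) = 0 := by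
    rw [one_le_idealDepth_iff] at hQ1
    rcases hQ1 with htop | ⟨z, hz, hzreg⟩
    · have hbot := Submodule.eq_bot_of_le_smul_of_le_jacobson_bot (IsLocalRing.maximalIdeal
        (Localization.AtPrime (mI k (Fin (n + 1))))) (⊤ : Submodule _ (Localization.AtPrime (mI k (Fin (n + 1))) ⧸ (Ideal.ofList fs • ⊤ :
          Submodule (Localization.AtPrime (mI k (Fin (n + 1))))
            (Localization.AtPrime (mI k (Fin (n + 1))))))) Module.Finite.fg_top htop.ge
        (IsLocalRing.maximalIdeal_le_jacobson ⊥)
      have : (Submodule.Quotient.mk (algebraMap _ (Localization.AtPrime (mI k (Fin (n + 1)))) g) :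
        Localization.AtPrime (mI k (Fin (n + 1))) ⧸ (Ideal.ofList fs • ⊤ :
          Submodule (Localization.AtPrime (mI k (Fin (n + 1))))
            (Localization.AtPrime (mI k (Fin (n + 1)))))) ∈
          (⊤ : Submodule (Localization.AtPrime (mI k (Fin (n + 1)))) _) := Submodule.mem_top
      rw [hbot] at this
      exact this
    · have hzN : z ^ N ∈ (mI k (Fin (n + 1)) ^ N).map
          (algebraMap _ (Localization.AtPrime (mI k (Fin (n + 1))))) := by
        rw [Ideal.map_pow, Localization.AtPrime.map_eq_maximalIdeal]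
        exact Ideal.pow_mem_pow hz N
      have h0 := hkill hzN
      rw [LinearMap.mem_ker, LinearMap.toSpanSingleton_apply] at h0
      exact (isSMulRegular_iff_right_eq_zero_of_smul.mp (hzreg.pow N)) _ h0
  rw [Submodule.Quotient.mk_eq_zero, smul_eq_mul, Ideal.mul_top, hofList,
    IsLocalization.mem_map_algebraMap_iff (mI k (Fin (n + 1))).primeCompl] at hgbar
  obtain ⟨⟨j, s⟩, hjs⟩ := hgbar
  rw [← map_mul, IsLocalization.eq_iff_exists (mI k (Fin (n + 1))).primeCompl] at hjs
  obtain ⟨c, hc⟩ := hjs
  refine ⟨c * s, ?_, ?_⟩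
  · exact fun h => ((Ideal.IsPrime.mem_or_mem inferInstance h).elim c.2 s.2)
  · have : (c : MvPolynomial (Fin (n + 1)) k) * s * g = c * j := by
      rw [← hc]; ring
    rw [this]
    exact Ideal.mul_mem_left _ _ j.2

end Groth.Agent.Lib.Helper82.CISaturated
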