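import Groth.Agent.Lib.Helper82.CISpreadB
import Groth.Agent.Lib.Helper82.CICompl

/-!
# Spreading out a local complete intersection to a global complete intersection neighbourhood
-/

set_option autoImplicit false

namespace Groth.Agent.Lib.Helper82.CISpreadC

open MvPolynomial RingTheory.Sequence

universe u

section General

variable {A : Type*} [CommRing A]

/-- Prime avoidance (easy case): an element outside `q` lying in finitely many ideals, none of
which is contained in `q`. -/
theorem exists_notMem_forall_mem (q : Ideal A) [q.IsPrime] (Bad : Set (Ideal A))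
    (hfin : Bad.Finite) (h : ∀ p₀ ∈ Bad, ¬ p₀ ≤ q) :
    ∃ h' : A, h' ∉ q ∧ ∀ p₀ ∈ Bad, h' ∈ p₀ := by
  classical
  have hex : ∀ p₀ : Ideal A, ∃ a : A, p₀ ∈ Bad → a ∈ p₀ ∧ a ∉ q := by
    intro p₀
    by_cases hp₀ : p₀ ∈ Bad
    · obtain ⟨a, ha, haq⟩ := Set.not_subset.mp (h p₀ hp₀)
      exact ⟨a, fun _ => ⟨ha, haq⟩⟩
    · exact ⟨0, fun h => absurd h hp₀⟩
  choose a ha using hex
  refine ⟨∏ p₀ ∈ hfin.toFinset, a p₀, ?_, ?_⟩
  · rw [Ideal.IsPrime.prod_mem_iff]
    rintro ⟨p₀, hp₀, hmem⟩
    exact (ha p₀ (hfin.mem_toFinset.mp hp₀)).2 hmem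
  · intro p₀ hp₀
    exact Ideal.mem_of_dvd _ (Finset.dvd_prod_of_mem a (hfin.mem_toFinset.mpr hp₀))
      (ha p₀ hp₀).1

/-- A finite set of cardinality at most `c` is the range of a family indexed by `Fin c`, up to
adding `0`. -/
theorem exists_fin_fun_span_eq (s : Finset A) (c : ℕ) (hs : s.card ≤ c) :
    ∃ F : Fin c → A, Ideal.span (Set.range F) = Ideal.span (s : Set A) := by
  classical
  let e := s.equivFin
  refine ⟨fun i => if h : i.1 < s.card then ((e.symm ⟨i.1, h⟩ : s) : A) else 0, ?_⟩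
  apply le_antisymm
  · rw [Ideal.span_le]
    rintro _ ⟨i, rfl⟩
    dsimp only
    split_ifs with h
    · exact Ideal.subset_span (e.symm ⟨i.1, h⟩).2
    · exact zero_mem _
  · rw [Ideal.span_le]
    intro x hx
    apply Ideal.subset_span
    refine ⟨⟨(e ⟨x, hx⟩).1, lt_of_lt_of_le (e ⟨x, hx⟩).2 hs⟩, ?_⟩
    dsimp only
    rw [dif_pos (e ⟨x, hx⟩).2]
    simp

end General

section Quot

variable (R : Type*) [CommRing R] {A : Type*} [CommRing A] [Algebra R A]
  {J I : Ideal A} (hJI : J ≤ I) (H : A) (hH : ∀ a ∈ I, H * a ∈ J)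

include hH in
/-- If `H I ≤ J ≤ I`, then `(A/J)_H ≃ (A/I)_H`. -/
theorem nonempty_algEquiv_away :
    Nonempty (Localization.Away (Ideal.Quotient.mk J H) ≃ₐ[R]
      Localization.Away (Ideal.Quotient.factorₐ R hJI (Ideal.Quotient.mk J H))) := by
  let ψ := IsLocalization.Away.mapₐ (R := R) (Localization.Away (Ideal.Quotient.mk J H))
    (Localization.Away (Ideal.Quotient.factorₐ R hJI (Ideal.Quotient.mk J H)))
    (Ideal.Quotient.factorₐ R hJI) (Ideal.Quotient.mk J H)
  have hsurj : Function.Surjective ψ :=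
    IsLocalization.Away.mapₐ_surjective_of_surjective _
      (Ideal.Quotient.factor_surjective hJI)
  have hinj : Function.Injective ψ := by
    change Function.Injective (IsLocalization.Away.map _ _ (Ideal.Quotient.factorₐ R hJI).toRingHom
      (Ideal.Quotient.mk J H))
    rw [IsLocalization.Away.map_injective_iff]
    intro a ha
    obtain ⟨d, rfl⟩ := Ideal.Quotient.mk_surjective a
    have hd : d ∈ I := by
      rw [← Ideal.Quotient.eq_zero_iff_mem]
      exact ha
    refine ⟨1, ?_⟩
    rw [pow_one, ← map_mul, Ideal.Quotient.eq_zero_iff_mem]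
    exact hH d hd
  exact ⟨AlgEquiv.ofBijective ψ ⟨hinj, hsurj⟩⟩

end Quot

section Main

variable (k : Type u) [Field k] (n : ℕ) (I : Ideal (MvPolynomial (Fin n) k))
  (q : Ideal (MvPolynomial (Fin n) k ⧸ I)) [q.IsPrime]

local notation "P" => MvPolynomial (Fin n) k
local notation "q'" => Ideal.comap (Ideal.Quotient.mk I) q
local notation "L" => Localization.AtPrime (Ideal.comap (Ideal.Quotient.mk I) q)
local notation "IL" => Ideal.map (algebraMap (MvPolynomial (Fin n) k)
  (Localization.AtPrime (Ideal.comap (Ideal.Quotient.mk I) q))) I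

instance : IsRegularLocalRing L := by
  have hRR : IsRegularRing P := MvPolynomial.isRegularRing_of_isRegularRing k
  exact IsRegularRing.isRegularLocalRing_localization _

theorem ringKrullDim_L : ringKrullDim L = (q').height :=
  IsLocalization.AtPrime.ringKrullDim_eq_height q' L

variable {k n I q}

theorem length_eq (c : ℕ) (hc : (c : ℕ∞) + q.height = (q').height) (rs : List L)
    (hreg : IsRegular L rs) (hrs : Ideal.ofList rs = IL) : rs.length = c := by
  have h1 := ringKrullDim_add_length_eq_ringKrullDim_of_isRegular rs hreg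
  rw [hrs, Groth.Agent.Lib.Helper82.CIPoly.ringKrullDim_quotient_map_eq_height I q,
    ringKrullDim_L, ← hc] at h1
  have hqtop : q.height ≠ ⊤ := Ideal.height_ne_top_of_isPrime
  generalize q.height = y at h1 hqtop
  induction y using ENat.recTopCoe with
  | top => exact absurd rfl hqtop
  | coe y =>
    have h2 : y + rs.length = c + y := by exact_mod_cast h1
    omega

theorem le_of_height (c : ℕ) (hc : (c : ℕ∞) + q.height = (q').height) : c ≤ n := by
  have h1 := Groth.Agent.Lib.Helper82.CISpreadB.height_le k n q'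
  rw [← hc] at h1
  have h2 : (c : ℕ∞) ≤ n := le_trans le_self_add h1
  exact_mod_cast h2

theorem spanFinrank_le_length (rs : List L) (hrs : Ideal.ofList rs = IL) :
    (IL).spanFinrank ≤ rs.length := by
  rw [← hrs]
  refine (Submodule.spanFinrank_span_le_ncard_of_finite (List.finite_toSet rs)).trans ?_
  have := Groth.Agent.Lib.Helper82.CMHeight.encard_setOf_mem_le_length rs
  rw [← Set.Finite.cast_ncard_eq (List.finite_toSet rs)] at this
  exact_mod_cast this

/-- Generators of `I L` coming from `I`. -/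
theorem exists_generators (c : ℕ) (hμ : (IL).spanFinrank ≤ c) :
    ∃ F : Fin c → P, Ideal.span (Set.range F) ≤ I ∧
      (Ideal.span (Set.range F)).map (algebraMap P L) = IL := by
  classical
  have hfg : (IL).FG := IsNoetherian.noetherian _
  obtain ⟨t, htG, htcard, htspan⟩ :=
    Groth.Agent.Lib.Helper47.exists_finset_subset_span_eq_of_isLocalRing
      (IL) hfg (algebraMap P L '' (I : Set P)) rfl
  choose! x hxm hx using fun y (hy : y ∈ (t : Set L)) => htG hy
  let s : Finset P := t.image x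
  have hsI : ∀ a ∈ s, a ∈ I := by
    intro a ha
    obtain ⟨y, hy, rfl⟩ := Finset.mem_image.mp ha
    exact hxm y (Finset.mem_coe.mpr hy)
  have hsmap : (Ideal.span (s : Set P)).map (algebraMap P L) = IL := by
    rw [Ideal.map_span, ← htspan]
    congr 1
    ext y
    simp only [Set.mem_image, Finset.mem_coe, s, Finset.mem_image]
    constructor
    · rintro ⟨a, ⟨y', hy', rfl⟩, rfl⟩
      rw [hx y' (Finset.mem_coe.mpr hy')]; exact hy'
    · intro hy
      exact ⟨x y, ⟨y, hy, rfl⟩, hx y (Finset.mem_coe.mpr hy)⟩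
  have hscard : s.card ≤ c := Finset.card_image_le.trans (htcard.trans hμ)
  obtain ⟨F, hF⟩ := exists_fin_fun_span_eq s c hscard
  refine ⟨F, ?_, ?_⟩
  · rw [hF, Ideal.span_le]
    exact fun a ha => hsI a (Finset.mem_coe.mp ha)
  · rw [hF, hsmap]

/-- Primes inside `q'` containing `J` (which agrees with `I` locally at `q'`) have height at least
the length of a regular sequence generating `I L`. -/
theorem length_le_height_of_le (rs : List L) (hreg : IsRegular L rs) (hrs : Ideal.ofList rs = IL)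
    (J : Ideal P) (hJmap : J.map (algebraMap P L) = IL) (p₀ : Ideal P) [p₀.IsPrime]
    (hJp₀ : J ≤ p₀) (hle : p₀ ≤ q') : (rs.length : ℕ∞) ≤ p₀.height := by
  have hdisj : Disjoint ((q').primeCompl : Set P) (p₀ : Set P) := by
    rw [Set.disjoint_left]
    intro a ha hap
    exact ha (hle hap)
  have h𝔓 : (p₀.map (algebraMap P L)).IsPrime :=
    IsLocalization.isPrime_of_isPrime_disjoint (q').primeCompl L p₀ inferInstance hdisj
  have hht := IsLocalization.height_map_of_disjoint (S := L) (q').primeCompl p₀ hdisj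
  rw [← hht]
  apply Groth.Agent.Lib.Helper82.CISpreadA.length_le_height_of_isWeaklyRegular rs
    hreg.toIsWeaklyRegular
  intro r hr
  have : r ∈ Ideal.ofList rs := Ideal.subset_span hr
  rw [hrs, ← hJmap] at this
  exact Ideal.map_mono hJp₀ this

variable (k n) in
/-- The height bound at primes of `P/J` avoiding `h'`. -/
theorem height_bound (c : ℕ) (J : Ideal P) (h' : P)
    (hh' : ∀ p₀ ∈ J.minimalPrimes, p₀.height < c → h' ∈ p₀)
    (𝔮 : Ideal (P ⧸ J)) [𝔮.IsPrime] (hh'𝔐 : h' ∉ 𝔮.comap (Ideal.Quotient.mk J)) :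
    (c : ℕ∞) + 𝔮.height ≤ n := by
  have hgood' : ∀ p₀ ∈ J.minimalPrimes,
      p₀ ≤ 𝔮.comap (Ideal.Quotient.mk J) → (c : ℕ∞) ≤ p₀.height := by
    intro p₀ hp₀ hle
    by_contra hlt
    exact hh'𝔐 (hle (hh' p₀ hp₀ (not_le.mp hlt)))
  have h1 := Groth.Agent.Lib.Helper82.CISpreadA.le_height_map_of_forall_minimalPrimes
    J (𝔮.comap (Ideal.Quotient.mk J)) c hgood'
  have h2 := Groth.Agent.Lib.Helper82.CISpreadB.height_map_add_height_le J 𝔮
  have h3 := Groth.Agent.Lib.Helper82.CISpreadB.height_le k n (𝔮.comap (Ideal.Quotient.mk J))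
  have h4 : ((c : ℕ∞) : WithBot ℕ∞) + (𝔮.height : WithBot ℕ∞) ≤ ((n : ℕ∞) : WithBot ℕ∞) := by
    refine le_trans ?_ (h2.trans (WithBot.coe_le_coe.mpr h3))
    gcongr
    exact WithBot.coe_le_coe.mpr h1
  exact_mod_cast h4

/-- If `I P_{q'}` is generated by a regular sequence, then some basic open neighbourhood of `q` in
`Spec P/I` is a global complete intersection. -/
theorem exists_isGlobalCI_away (c : ℕ) (hc : (c : ℕ∞) + q.height = (q').height)
    (rs : List L) (hreg : IsRegular L rs) (hrs : Ideal.ofList rs = IL) :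
    ∃ g : P ⧸ I, g ∉ q ∧ Synt.IsGlobalCI k (Localization.Away g) := by
  classical
  have hlen := length_eq c hc rs hreg hrs
  have hcn := le_of_height c hc
  obtain ⟨F, hJI, hJmap⟩ := exists_generators (I := I) (q := q) c
    (hlen ▸ spanFinrank_le_length rs hrs)
  -- `h I ≤ J`
  obtain ⟨h, hhq, hhI⟩ := Groth.Agent.Lib.Helper82.CISpreadA.exists_notMem_forall_mul_mem
    q' I (Ideal.span (Set.range F)) (IsNoetherian.noetherian _) (le_of_eq hJmap.symm)
  -- bad primes
  obtain ⟨h', hh'q, hh'⟩ := exists_notMem_forall_mem q'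
    {p₀ | p₀ ∈ (Ideal.span (Set.range F)).minimalPrimes ∧ p₀.height < c}
    ((Ideal.finite_minimalPrimes_of_isNoetherianRing _ _).subset (fun _ h => h.1))
    (fun p₀ hp₀ hle => by
      have : p₀.IsPrime := hp₀.1.1.1
      exact not_le.mpr hp₀.2 (hlen ▸ length_le_height_of_le rs hreg hrs _ hJmap p₀ hp₀.1.1.2 hle))
  have hHq : h * h' ∉ q' := by
    intro hmem
    rcases Ideal.IsPrime.mem_or_mem inferInstance hmem with h1 | h1
    · exact hhq h1
    · exact hh'q h1
  have hHI : ∀ a ∈ I, (h * h') * a ∈ Ideal.span (Set.range F) := by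
    intro a ha
    rw [mul_comm h h', mul_assoc]
    exact Ideal.mul_mem_left _ _ (hhI a ha)
  obtain ⟨e⟩ := nonempty_algEquiv_away k hJI (h * h') hHI
  refine ⟨Ideal.Quotient.factorₐ k hJI (Ideal.Quotient.mk _ (h * h')), hHq, ?_⟩
  have hnt : Nontrivial (Localization.Away
      (Ideal.Quotient.mk (Ideal.span (Set.range F)) (h * h'))) := by
    rw [← not_subsingleton_iff_nontrivial,
      IsLocalization.subsingleton_iff (M := Submonoid.powers
        (Ideal.Quotient.mk (Ideal.span (Set.range F)) (h * h')))]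
    rintro ⟨m, hm⟩
    dsimp only at hm
    rw [← map_pow, Ideal.Quotient.eq_zero_iff_mem] at hm
    exact hHq (Ideal.IsPrime.mem_of_pow_mem inferInstance m
      (show (h * h') ^ m ∈ q' from by
        rw [Ideal.mem_comap, Ideal.Quotient.eq_zero_iff_mem.mpr (hJI hm)]
        exact zero_mem _))
  refine Groth.Agent.H46.isGlobalCI_of_algEquiv e ?_
  apply Groth.Agent.Lib.Helper82.CISpreadB.isGlobalCI_away_of_forall_height_le c hcn F
  intro 𝔮 h𝔮 hg'
  have hH𝔐 : h * h' ∉ 𝔮.comap (Ideal.Quotient.mk (Ideal.span (Set.range F))) := hg'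
  have hh'𝔐 : h' ∉ 𝔮.comap (Ideal.Quotient.mk (Ideal.span (Set.range F))) := fun hmem =>
    hH𝔐 (Ideal.mul_mem_left _ _ hmem)
  exact height_bound k n c _ h' (fun p₀ hp₀ hlt => hh' p₀ ⟨hp₀, hlt⟩) 𝔮 hh'𝔐

end Main

end Groth.Agent.Lib.Helper82.CISpreadC
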