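import Groth.Agent.Lib.Helper82.CISpreadC
import Groth.Agent.Lib.Helper82.CMEquidim

/-!
# From a global complete intersection neighbourhood to a local regular sequence, and the purely
local equivalences
-/

set_option autoImplicit false

namespace Groth.Agent.Lib.Helper82.CISpreadD

open MvPolynomial RingTheory.Sequence

universe u

section Main

variable {k : Type u} [Field k] {n : ℕ} {I : Ideal (MvPolynomial (Fin n) k)}
  {q : Ideal (MvPolynomial (Fin n) k ⧸ I)} [q.IsPrime]

local notation "P" => MvPolynomial (Fin n) k
local notation "q'" => Ideal.comap (Ideal.Quotient.mk I) q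
local notation "L" => Localization.AtPrime (Ideal.comap (Ideal.Quotient.mk I) q)
local notation "IL" => Ideal.map (algebraMap (MvPolynomial (Fin n) k)
  (Localization.AtPrime (Ideal.comap (Ideal.Quotient.mk I) q))) I

instance isLocalRing_quotient : IsLocalRing (L ⧸ IL) := by
  have hnt : Nontrivial (L ⧸ IL) := by
    apply Ideal.Quotient.nontrivial_iff.mpr
    intro htop
    have := Groth.Agent.Lib.Helper82.CIPoly.map_le_maximalIdeal I q
    rw [htop] at this
    exact (IsLocalRing.maximalIdeal.isMaximal L).ne_top (top_le_iff.mp this)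
  exact IsLocalRing.of_surjective' (Ideal.Quotient.mk _) Ideal.Quotient.mk_surjective

/-- `I L` is generated by a regular sequence iff it is generated by `c` elements. -/
theorem exists_isRegular_iff_spanFinrank (c : ℕ) (hc : (c : ℕ∞) + q.height = (q').height) :
    (∃ rs : List L, IsRegular L rs ∧ Ideal.ofList rs = IL) ↔ (IL).spanFinrank = c := by
  have h := Groth.Agent.Lib.Helper82.CICrit.exists_isRegular_iff L (L ⧸ IL)
    (Ideal.Quotient.mk (IL)) Ideal.Quotient.mk_surjective
  rw [Ideal.mk_ker] at h
  rw [h, Groth.Agent.Lib.Helper82.CIPoly.ringKrullDim_quotient_map_eq_height I q,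
    Groth.Agent.Lib.Helper82.CISpreadC.ringKrullDim_L, ← hc]
  have hqtop : q.height ≠ ⊤ := Ideal.height_ne_top_of_isPrime
  generalize q.height = y at hqtop
  generalize (IL).spanFinrank = μ
  induction y using ENat.recTopCoe with
  | top => exact absurd rfl hqtop
  | coe y =>
    constructor
    · intro h1
      have h2 : μ + y = c + y := by exact_mod_cast h1
      omega
    · intro h1
      subst h1
      rfl

/-- Krull's bound: `c ≤ μ(I L)`. -/
theorem le_spanFinrank (c : ℕ) (hc : (c : ℕ∞) + q.height = (q').height) :
    c ≤ (IL).spanFinrank := by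
  have hIm : IL ≤ IsLocalRing.maximalIdeal L :=
    Groth.Agent.Lib.Helper82.CIPoly.map_le_maximalIdeal I q
  have hge : ringKrullDim L ≤ ringKrullDim (L ⧸ IL) + ((IL).spanFinrank : WithBot ℕ∞) :=
    ringKrullDim_le_ringKrullDim_quotient_add_spanFinrank _
      (by rw [IsLocalRing.ringJacobson_eq_maximalIdeal]; exact hIm)
  rw [Groth.Agent.Lib.Helper82.CIPoly.ringKrullDim_quotient_map_eq_height I q,
    Groth.Agent.Lib.Helper82.CISpreadC.ringKrullDim_L, ← hc] at hge
  have hqtop : q.height ≠ ⊤ := Ideal.height_ne_top_of_isPrime
  generalize q.height = y at hqtop hge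
  generalize (IL).spanFinrank = μ at hge
  induction y using ENat.recTopCoe with
  | top => exact absurd rfl hqtop
  | coe y =>
    have h2 : c + y ≤ y + μ := by exact_mod_cast hge
    omega

/-- `I L` is generated by a set of exactly `c` elements iff `μ(I L) = c`. -/
theorem exists_finset_iff_spanFinrank (c : ℕ) (hc : (c : ℕ∞) + q.height = (q').height) :
    (∃ s : Finset L, s.card = c ∧ Ideal.span (s : Set L) = IL) ↔ (IL).spanFinrank = c := by
  classical
  constructor
  · rintro ⟨s, hs, hspan⟩
    apply le_antisymm _ (le_spanFinrank c hc)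
    rw [← hspan, ← hs]
    calc (Ideal.span (s : Set L)).spanFinrank ≤ (s : Set L).ncard :=
          Submodule.spanFinrank_span_le_ncard_of_finite s.finite_toSet
      _ = s.card := Set.ncard_coe_finset s
  · intro hμ
    obtain ⟨s, hscard, hs⟩ := Submodule.FG.exists_span_finset_card_eq_spanFinrank
      (IsNoetherian.noetherian (IL))
    exact ⟨s, hscard.trans hμ, hs⟩

end Main

end Groth.Agent.Lib.Helper82.CISpreadD
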