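import Groth.Agent.Lib.Helper82.CISpreadD

/-!
# From a global complete intersection neighbourhood to a local regular sequence
-/

set_option autoImplicit false

namespace Groth.Agent.Lib.Helper82.CISpreadE

open MvPolynomial RingTheory.Sequence

universe u

section GCI

variable {k : Type u} [Field k]

/-- The relations of a global complete intersection presentation form a regular sequence in the
local ring of the polynomial ring at every prime containing them. -/
theorem isRegular_of_presentation {T : Type u} [CommRing T] [Algebra k T] [Nontrivial T]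
    (m c' : ℕ) (hc' : c' ≤ m)
    (φ : MvPolynomial (Fin m) k →ₐ[k] T) (r : Fin c' → MvPolynomial (Fin m) k)
    (hφ : Function.Surjective φ) (hker : RingHom.ker φ.toRingHom = Ideal.span (Set.range r))
    (hdim : ringKrullDim T = ((m - c' : ℕ) : WithBot ℕ∞))
    (Q₂ : Ideal (MvPolynomial (Fin m) k)) [Q₂.IsPrime] (hQ₂ : RingHom.ker φ.toRingHom ≤ Q₂) :
    IsRegular (Localization.AtPrime Q₂)
      ((List.ofFn r).map (algebraMap (MvPolynomial (Fin m) k) (Localization.AtPrime Q₂))) := by
  have hRR : IsRegularRing (MvPolynomial (Fin m) k) :=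
    MvPolynomial.isRegularRing_of_isRegularRing k
  have hCM : LocCoh.IsCohenMacaulayRing (MvPolynomial (Fin m) k) :=
    Groth.Agent.Lib.Helper82.CMPoly.isCohenMacaulayRing_of_isRegularRing _
  have hofList : Ideal.ofList (List.ofFn r) = RingHom.ker φ.toRingHom := by
    rw [Groth.Agent.Lib.Helper82.CICrit.ofList_ofFn', hker]
  have heq : ∀ p ∈ minimalPrimes (MvPolynomial (Fin m) k),
      ringKrullDim (MvPolynomial (Fin m) k ⧸ p) = m := by
    intro p hp
    rw [IsDomain.minimalPrimes_eq_singleton_bot, Set.mem_singleton_iff] at hp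
    subst hp
    rw [ringKrullDim_eq_of_ringEquiv (RingEquiv.quotientBot (MvPolynomial (Fin m) k)),
      Groth.Agent.Lib.Helper82.CISpreadB.ringKrullDim_mvPolynomial]
  have hi : (List.ofFn r).length ≤ m := by rw [List.length_ofFn]; exact hc'
  have hle : ringKrullDim (MvPolynomial (Fin m) k ⧸ Ideal.ofList (List.ofFn r)) ≤
      ((m - (List.ofFn r).length : ℕ) : WithBot ℕ∞) := by
    rw [List.length_ofFn, ringKrullDim_eq_of_ringEquiv (Ideal.quotEquivOfEq hofList),
      ringKrullDim_eq_of_ringEquiv (RingHom.quotientKerEquivOfSurjective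
        (f := φ.toRingHom) hφ), hdim]
  have hne : Ideal.ofList (List.ofFn r) ≠ ⊤ := by
    rw [hofList]
    exact RingHom.ker_ne_top _
  exact (Groth.Agent.Lib.Helper82.CMEquidim.main k m heq (List.ofFn r) hi hle hne).2 Q₂
    (hofList ▸ hQ₂)

end GCI

section Main

variable {k : Type u} [Field k] {n : ℕ} {I : Ideal (MvPolynomial (Fin n) k)}
  {q : Ideal (MvPolynomial (Fin n) k ⧸ I)} [q.IsPrime]

local notation "P" => MvPolynomial (Fin n) k
local notation "q'" => Ideal.comap (Ideal.Quotient.mk I) q
local notation "L" => Localization.AtPrime (Ideal.comap (Ideal.Quotient.mk I) q)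
local notation "IL" => Ideal.map (algebraMap (MvPolynomial (Fin n) k)
  (Localization.AtPrime (Ideal.comap (Ideal.Quotient.mk I) q))) I

/-- If some basic open neighbourhood of `q` is a global complete intersection, then `I L` is
generated by a regular sequence. -/
theorem exists_isRegular_of_isGlobalCI_away (G : P) (hg : Ideal.Quotient.mk I G ∉ q)
    (hG : Synt.IsGlobalCI k (Localization.Away (Ideal.Quotient.mk I G))) :
    ∃ rs : List L, IsRegular L rs ∧ Ideal.ofList rs = IL := by
  classical
  have hdisj : Disjoint (Submonoid.powers (Ideal.Quotient.mk I G) : Set (P ⧸ I))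
      (q : Set (P ⧸ I)) := by
    rw [Set.disjoint_left]
    rintro _ ⟨N, rfl⟩ hmem
    exact hg (Ideal.IsPrime.mem_of_pow_mem inferInstance N hmem)
  have hQ : (q.map (algebraMap (P ⧸ I) (Localization.Away (Ideal.Quotient.mk I G)))).IsPrime :=
    IsLocalization.isPrime_of_isPrime_disjoint (Submonoid.powers (Ideal.Quotient.mk I G)) _ q
      inferInstance hdisj
  have hQcomap : (q.map (algebraMap (P ⧸ I)
      (Localization.Away (Ideal.Quotient.mk I G)))).comap
      (algebraMap (P ⧸ I) (Localization.Away (Ideal.Quotient.mk I G))) = q :=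
    IsLocalization.under_map_of_isPrime_disjoint (Submonoid.powers (Ideal.Quotient.mk I G)) _
      inferInstance hdisj
  have hnt : Nontrivial (Localization.Away (Ideal.Quotient.mk I G)) := by
    rw [← not_subsingleton_iff_nontrivial]
    intro hsub
    exact hQ.ne_top (Subsingleton.elim _ _)
  rcases hG with hsub | ⟨m, c', hc', φ, r, hφ, hker, hdim⟩
  · exact absurd hsub (not_subsingleton _)
  -- the presentation `π : L → C`
  have hq' : q' = (q.map (algebraMap (P ⧸ I)
      (Localization.Away (Ideal.Quotient.mk I G)))).comap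
      ((algebraMap (P ⧸ I) (Localization.Away (Ideal.Quotient.mk I G))).comp
        (Ideal.Quotient.mk I)) := by
    rw [← Ideal.comap_comap, hQcomap]
  have hψ₁ : ∀ b : Localization.Away (Ideal.Quotient.mk I G), ∃ a s : P,
      ((algebraMap (P ⧸ I) (Localization.Away (Ideal.Quotient.mk I G))).comp
        (Ideal.Quotient.mk I)) s ∉ q.map (algebraMap (P ⧸ I)
          (Localization.Away (Ideal.Quotient.mk I G))) ∧
      ((algebraMap (P ⧸ I) (Localization.Away (Ideal.Quotient.mk I G))).comp
        (Ideal.Quotient.mk I)) s * b =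
      ((algebraMap (P ⧸ I) (Localization.Away (Ideal.Quotient.mk I G))).comp
        (Ideal.Quotient.mk I)) a := by
    intro b
    obtain ⟨N, σ, hσ⟩ := IsLocalization.Away.surj (Ideal.Quotient.mk I G) b
    obtain ⟨a, rfl⟩ := Ideal.Quotient.mk_surjective σ
    refine ⟨a, G ^ N, ?_, ?_⟩
    · intro hmem
      apply hQ.ne_top
      refine Ideal.eq_top_of_isUnit_mem _ hmem ?_
      rw [RingHom.comp_apply, map_pow, map_pow]
      exact IsLocalization.Away.algebraMap_pow_isUnit (Ideal.Quotient.mk I G) N
    · rw [RingHom.comp_apply, RingHom.comp_apply, map_pow, map_pow, mul_comm]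
      exact hσ
  have hπ := Groth.Agent.Lib.Helper82.CISpreadA.localRingHom_surjective _ _ q' hq' hψ₁
  have hkerπ := Groth.Agent.Lib.Helper82.CISpreadA.ker_localRingHom _ _ q' hq' hψ₁
  have hkerIL : (RingHom.ker ((algebraMap (P ⧸ I)
      (Localization.Away (Ideal.Quotient.mk I G))).comp (Ideal.Quotient.mk I))).map
      (algebraMap P L) = IL := by
    apply le_antisymm
    · rw [Ideal.map_le_iff_le_comap]
      intro a ha
      rw [RingHom.mem_ker, RingHom.comp_apply,
        IsLocalization.map_eq_zero_iff (Submonoid.powers (Ideal.Quotient.mk I G))] at ha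
      obtain ⟨⟨_, N, rfl⟩, hN⟩ := ha
      rw [Ideal.mem_comap, IsLocalization.algebraMap_mem_map_algebraMap_iff (q').primeCompl]
      refine ⟨G ^ N, ?_, ?_⟩
      · change ¬ (G ^ N ∈ q')
        intro hmem
        rw [Ideal.mem_comap, map_pow] at hmem
        exact hg (Ideal.IsPrime.mem_of_pow_mem inferInstance N hmem)
      · rw [← Ideal.Quotient.eq_zero_iff_mem, map_mul, map_pow]
        exact hN
    · apply Ideal.map_mono
      intro a ha
      rw [RingHom.mem_ker, RingHom.comp_apply, Ideal.Quotient.eq_zero_iff_mem.mpr ha, map_zero]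
  -- the presentation `π₂ : L₂ → C`
  have hφ' : ∀ b : Localization.Away (Ideal.Quotient.mk I G),
      ∃ a s : MvPolynomial (Fin m) k, φ.toRingHom s ∉ q.map (algebraMap (P ⧸ I)
          (Localization.Away (Ideal.Quotient.mk I G))) ∧
        φ.toRingHom s * b = φ.toRingHom a := by
    intro b
    obtain ⟨a, ha⟩ := hφ b
    refine ⟨a, 1, ?_, ?_⟩
    · rw [map_one]
      exact (Ideal.ne_top_iff_one _).mp hQ.ne_top
    · rw [map_one, one_mul]
      exact ha.symm
  have hπ₂ := Groth.Agent.Lib.Helper82.CISpreadA.localRingHom_surjective φ.toRingHom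
    (q.map (algebraMap (P ⧸ I) (Localization.Away (Ideal.Quotient.mk I G)))) _ rfl hφ'
  have hkerπ₂ := Groth.Agent.Lib.Helper82.CISpreadA.ker_localRingHom φ.toRingHom
    (q.map (algebraMap (P ⧸ I) (Localization.Away (Ideal.Quotient.mk I G)))) _ rfl hφ'
  have hreg₂ := isRegular_of_presentation m c' hc' φ r hφ hker hdim
    ((q.map (algebraMap (P ⧸ I) (Localization.Away (Ideal.Quotient.mk I G)))).comap
      φ.toRingHom) (fun a ha => by
        rw [Ideal.mem_comap, (RingHom.mem_ker).mp ha]
        exact zero_mem _)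
  have hRR₂ : IsRegularRing (MvPolynomial (Fin m) k) :=
    MvPolynomial.isRegularRing_of_isRegularRing k
  have hL₂ : IsRegularLocalRing (Localization.AtPrime
      ((q.map (algebraMap (P ⧸ I) (Localization.Away (Ideal.Quotient.mk I G)))).comap
        φ.toRingHom)) := IsRegularRing.isRegularLocalRing_localization _
  obtain ⟨rs, hrs, hrsker⟩ :=
    Groth.Agent.Lib.Helper82.CICrit.exists_isRegular_of_exists_isRegular _ _ _ hπ₂ L _ hπ
      ⟨_, hreg₂, by
        rw [hkerπ₂, hker, ← Groth.Agent.Lib.Helper82.CICrit.ofList_ofFn' r, Ideal.map_ofList]⟩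
  exact ⟨rs, hrs, hrsker.trans (hkerπ.trans hkerIL)⟩

end Main

end Groth.Agent.Lib.Helper82.CISpreadE
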