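import Groth.Agent.Lib.Helper82.ChainSplit

set_option autoImplicit false

/-!
Retractions of degreewise split injective quasi-isomorphisms of bounded below complexes, and
uniqueness of such retractions up to homotopy vanishing on the subcomplex.
-/

namespace Groth.Agent.Lib.Helper82

open CategoryTheory HomologicalComplex Limits

universe v u

section

variable {R : Type u} [Ring R]

/-- The quotient data: for a degreewise injective quasi-isomorphism `f : A' ⟶ A` with degreewise
projective quotients, there is a contractible complex `A''`, a degreewise surjective `p : A ⟶ A''`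
with degreewise `ker p = im f`, and a chain map section `h` of `p`. -/
theorem exists_quotient_data (A' A : ChainComplex (ModuleCat.{v} R) ℕ) (f : A' ⟶ A)
    (hf : ∀ q, Function.Injective (f.f q).hom)
    (hq : ∀ q, Module.Projective R ((A.X q) ⧸ LinearMap.range (f.f q).hom)) [QuasiIso f] :
    ∃ (A'' : ChainComplex (ModuleCat.{v} R) ℕ) (p : A ⟶ A'') (h : A'' ⟶ A),
      Nonempty (Homotopy (𝟙 A'') 0) ∧ f ≫ p = 0 ∧ h ≫ p = 𝟙 A'' ∧
      (∀ q, Function.Exact (f.f q).hom (p.f q).hom) := by
  have : Mono f :=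
    HomologicalComplex.mono_of_mono_f f fun q => (ModuleCat.mono_iff_injective _).2 (hf q)
  let S : ShortComplex (ChainComplex (ModuleCat.{v} R) ℕ) :=
    ShortComplex.mk f (cokernel.π f) (cokernel.condition f)
  have hS : S.ShortExact :=
    { exact := ShortComplex.exact_cokernel f
      mono_f := inferInstanceAs (Mono f)
      epi_g := inferInstanceAs (Epi (cokernel.π f)) }
  have hSq : ∀ q, (S.map (HomologicalComplex.eval _ _ q)).ShortExact := fun q =>
    (HomologicalComplex.shortExact_iff_degreewise_shortExact S).1 hS q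
  have hp : ∀ q, Function.Surjective ((cokernel.π f).f q).hom := fun q =>
    (hSq q).moduleCat_surjective_g
  have hfp : ∀ q, Function.Exact (f.f q).hom ((cokernel.π f).f q).hom := fun q =>
    (ShortComplex.ShortExact.moduleCat_exact_iff_function_exact _).1 (hSq q).exact
  have : ∀ q, Module.Projective R ((cokernel f).X q) := fun q => by
    have := hq q
    exact Module.Projective.of_equiv ((hfp q).linearEquivOfSurjective (hp q))
  have hqi : QuasiIso S.f := inferInstanceAs (QuasiIso f)
  have hacyc : (cokernel f).Acyclic := hS.acyclic_X₃ hqi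
  let H := contraction (cokernel f) hacyc
  obtain ⟨h, hh⟩ := exists_chain_section A' A (cokernel f) f (cokernel.π f) hf hp hfp H
  exact ⟨cokernel f, cokernel.π f, h, ⟨H⟩, cokernel.condition f, hh, hfp⟩

/-- A retraction from a chain-map section. -/
theorem exists_retraction_of_section (A' A A'' : ChainComplex (ModuleCat.{v} R) ℕ) (f : A' ⟶ A)
    (p : A ⟶ A'')
    (hf : ∀ q, Function.Injective (f.f q).hom)
    (hfp : ∀ q, Function.Exact (f.f q).hom (p.f q).hom) (h : A'' ⟶ A) (hh : h ≫ p = 𝟙 A'') :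
    ∃ g : A ⟶ A', f ≫ g = 𝟙 A' := by
  have hph : ∀ q x, (p.f q).hom ((h.f q).hom x) = x := fun q x =>
    LinearMap.congr_fun (congrArg ModuleCat.Hom.hom (congrArg (fun φ => φ.f q) hh)) x
  have hpf : ∀ q x, (p.f q).hom ((f.f q).hom x) = 0 := fun q x => (hfp q).apply_apply_eq_zero x
  have hr : ∀ q, ∃ r : A.X q →ₗ[R] A'.X q,
      ∀ a, (f.f q).hom (r a) = a - (h.f q).hom ((p.f q).hom a) := by
    intro q
    have hmem : ∀ a, a - (h.f q).hom ((p.f q).hom a) ∈ LinearMap.range (f.f q).hom := by
      intro a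
      rw [← (hfp q).linearMap_ker_eq, LinearMap.mem_ker, map_sub, hph, sub_self]
    let e := LinearEquiv.ofInjective (f.f q).hom (hf q)
    refine ⟨e.symm.toLinearMap ∘ₗ
      ((LinearMap.id - (h.f q).hom ∘ₗ (p.f q).hom).codRestrict
        (LinearMap.range (f.f q).hom) hmem), ?_⟩
    intro a
    simp [e]
  choose r hr using hr
  refine ⟨{ f := fun q => ModuleCat.ofHom (r q), comm' := ?_ }, ?_⟩
  · intro i j hij
    ext x
    apply hf j
    show (f.f j).hom ((A'.d i j).hom (r i x)) = (f.f j).hom (r j ((A.d i j).hom x))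
    rw [← hom_comm_apply f, hr, hr, map_sub, hom_comm_apply h, hom_comm_apply p]
  · ext q x
    apply hf q
    show (f.f q).hom (r q ((f.f q).hom x)) = (f.f q).hom x
    rw [hr, hpf, map_zero, sub_zero]

/-- Existence of a retraction. -/
theorem exists_retraction (A' A : ChainComplex (ModuleCat.{v} R) ℕ) (f : A' ⟶ A)
    (hf : ∀ q, Function.Injective (f.f q).hom)
    (hq : ∀ q, Module.Projective R ((A.X q) ⧸ LinearMap.range (f.f q).hom)) [QuasiIso f] :
    ∃ g : A ⟶ A', f ≫ g = 𝟙 A' := by
  obtain ⟨A'', p, h, -, -, hh, hfp⟩ := exists_quotient_data A' A f hf hq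
  exact exists_retraction_of_section A' A A'' f p hf hfp h hh

/-- Any map killing the subcomplex is nullhomotopic by a homotopy vanishing on the subcomplex. -/
theorem exists_homotopy_zero (A' A : ChainComplex (ModuleCat.{v} R) ℕ) (f : A' ⟶ A)
    (hf : ∀ q, Function.Injective (f.f q).hom)
    (hq : ∀ q, Module.Projective R ((A.X q) ⧸ LinearMap.range (f.f q).hom)) [QuasiIso f]
    {B : ChainComplex (ModuleCat.{v} R) ℕ} (δ : A ⟶ B) (hδ : f ≫ δ = 0) :
    ∃ H : Homotopy δ 0, ∀ i j : ℕ, f.f i ≫ H.hom i j = 0 := by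
  obtain ⟨A'', p, h, ⟨Hc⟩, hfp0, hh, hfp⟩ := exists_quotient_data A' A f hf hq
  have hph : ∀ q x, (p.f q).hom ((h.f q).hom x) = x := fun q x =>
    LinearMap.congr_fun (congrArg ModuleCat.Hom.hom (congrArg (fun φ => φ.f q) hh)) x
  have hδf : ∀ q x, (δ.f q).hom ((f.f q).hom x) = 0 := fun q x =>
    LinearMap.congr_fun (congrArg ModuleCat.Hom.hom (congrArg (fun φ => φ.f q) hδ)) x
  have e1 : δ = (p ≫ 𝟙 A'') ≫ (h ≫ δ) := by
    ext q a
    show (δ.f q).hom a = (δ.f q).hom ((h.f q).hom ((𝟙 A'' : A'' ⟶ A'').f q ((p.f q).hom a)))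
    have hmem : a - (h.f q).hom ((p.f q).hom a) ∈ LinearMap.range (f.f q).hom := by
      rw [← (hfp q).linearMap_ker_eq, LinearMap.mem_ker, map_sub, hph, sub_self]
    obtain ⟨b, hb⟩ := hmem
    have h0 := hδf q b
    rw [hb, map_sub, sub_eq_zero] at h0
    exact h0
  have e2 : (p ≫ (0 : A'' ⟶ A'')) ≫ (h ≫ δ) = 0 := by simp
  let H0 : Homotopy δ 0 :=
    (Homotopy.ofEq e1).trans (((Hc.compLeft p).compRight (h ≫ δ)).trans (Homotopy.ofEq e2))
  refine ⟨H0, fun i j => ?_⟩
  have hfpi : f.f i ≫ p.f i = 0 := by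
    have := congrArg (fun φ => φ.f i) hfp0
    simpa using this
  simp only [H0, Homotopy.trans_hom, Homotopy.ofEq_hom, Homotopy.compLeft_hom,
    Homotopy.compRight_hom, Pi.zero_apply, zero_add, add_zero]
  rw [Category.assoc, reassoc_of% hfpi, zero_comp]

end

/-- transport freeness of a quotient between the two `ℤ`-module structures -/
lemma free_quotient_int {M : Type*} [AddCommGroup M] [Module ℤ M] (N : Submodule ℤ M)
    (h : @Module.Free ℤ (M ⧸ N) _ _ (AddCommGroup.toIntModule _)) :
    @Module.Free ℤ (M ⧸ N) _ _ (Submodule.Quotient.module N) :=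
  @Module.Free.of_equiv ℤ ℤ (M ⧸ N) (M ⧸ N) _ _ (AddCommGroup.toIntModule _) _ _
    (Submodule.Quotient.module N) _ _ _ _
    (@AddEquiv.toIntLinearEquiv _ _ _ _ (AddCommGroup.toIntModule _)
      (Submodule.Quotient.module N) (AddEquiv.refl _)) h

lemma projective_quotient_int {M : Type*} [AddCommGroup M] [Module ℤ M] (N : Submodule ℤ M)
    (h : @Module.Free ℤ (M ⧸ N) _ _ (AddCommGroup.toIntModule _)) :
    @Module.Projective ℤ _ (M ⧸ N) _ (Submodule.Quotient.module N) :=
  have := free_quotient_int N h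
  @Module.Projective.of_free ℤ _ (M ⧸ N) _ (Submodule.Quotient.module N) this

section

variable {R : Type u} [Ring R]

/-- Two retractions are homotopic by a homotopy vanishing on the subcomplex. -/
theorem exists_homotopy_of_retractions (A' A : ChainComplex (ModuleCat.{v} R) ℕ) (f : A' ⟶ A)
    (hf : ∀ q, Function.Injective (f.f q).hom)
    (hq : ∀ q, Module.Projective R ((A.X q) ⧸ LinearMap.range (f.f q).hom)) [QuasiIso f]
    (g₁ g₂ : A ⟶ A') (h₁ : f ≫ g₁ = 𝟙 A') (h₂ : f ≫ g₂ = 𝟙 A') :
    ∃ H : Homotopy g₁ g₂, ∀ i j : ℕ, f.f i ≫ H.hom i j = 0 := by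
  obtain ⟨H, hH⟩ := exists_homotopy_zero A' A f hf hq (g₁ - g₂)
    (by rw [Preadditive.comp_sub, h₁, h₂, sub_self])
  exact ⟨Homotopy.equivSubZero.symm H, fun i j => hH i j⟩

end

end Groth.Agent.Lib.Helper82
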