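import Mathlib

/-!
# Finitely presented modules over rings with total divisibility

`IsCyclicProd R M` : `M` is a finite product of cyclic modules `R ⧸ (f i)`.
Main result: `isCyclicProd_of_dvd_total`.
-/

namespace Groth.Agent.Lib.Helper82

universe u

/-- `M` is isomorphic to a finite product of cyclic modules `R ⧸ (f i)`. -/
def IsCyclicProd (R : Type u) [CommRing R] (M : Type u) [AddCommGroup M] [Module R M] : Prop :=
  ∃ (n : ℕ) (f : Fin n → R), Nonempty (M ≃ₗ[R] ((i : Fin n) → R ⧸ Ideal.span {f i}))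

section

variable {R : Type u} [CommRing R] {M N : Type u} [AddCommGroup M] [Module R M]
  [AddCommGroup N] [Module R N]

theorem IsCyclicProd.of_equiv (e : M ≃ₗ[R] N) (h : IsCyclicProd R N) : IsCyclicProd R M := by
  obtain ⟨n, f, ⟨e'⟩⟩ := h
  exact ⟨n, f, ⟨e ≪≫ₗ e'⟩⟩

theorem IsCyclicProd.of_subsingleton [Subsingleton M] : IsCyclicProd R M :=
  ⟨0, Fin.elim0, ⟨LinearEquiv.ofSubsingleton _ _⟩⟩

theorem IsCyclicProd.prod (a : R) (h : IsCyclicProd R N) :
    IsCyclicProd R ((R ⧸ Ideal.span {a}) × N) := by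
  obtain ⟨n, f, ⟨e'⟩⟩ := h
  refine ⟨n + 1, Fin.cons a f, ⟨?_⟩⟩
  exact (LinearEquiv.prodCongr (LinearEquiv.refl R _) e') ≪≫ₗ
    (Fin.consLinearEquiv R (fun i : Fin (n + 1) => R ⧸ Ideal.span {(Fin.cons a f : Fin (n + 1) → R) i}))

/-- The quotient of a product by a product submodule. -/
noncomputable def quotProdEquiv (I : Submodule R M) (K : Submodule R N) :
    ((M × N) ⧸ I.prod K) ≃ₗ[R] (M ⧸ I) × (N ⧸ K) :=
  (Submodule.quotEquivOfEq _ _ (by
    rw [LinearMap.ker_prodMap, Submodule.ker_mkQ, Submodule.ker_mkQ])) ≪≫ₗ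
  LinearMap.quotKerEquivOfSurjective (LinearMap.prodMap I.mkQ K.mkQ)
    (fun x => by
      obtain ⟨a, ha⟩ := I.mkQ_surjective x.1
      obtain ⟨b, hb⟩ := K.mkQ_surjective x.2
      exact ⟨(a, b), Prod.ext ha hb⟩)

/-- Splitting off a cyclic summand. -/
theorem exists_split (K₀ : Submodule R (R × N)) (hK₀ : K₀.FG) (a : R) (g0 : N)
    (hw : a • ((1 : R), g0) ∈ K₀) (hdiv : ∀ u ∈ K₀, a ∣ u.1) :
    ∃ K' : Submodule R N, K'.FG ∧
      Nonempty (((R × N) ⧸ K₀) ≃ₗ[R] (R ⧸ Ideal.span {a}) × (N ⧸ K')) := by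
  classical
  let σ : (R × N) ≃ₗ[R] (R × N) :=
    LinearEquiv.skewProd (LinearEquiv.refl R R) (LinearEquiv.refl R N)
      (LinearMap.toSpanSingleton R N (-g0))
  have hσ : ∀ x : R × N, σ x = (x.1, x.2 + x.1 • (-g0)) := fun x => rfl
  let K₁ : Submodule R (R × N) := K₀.map σ.toLinearMap
  let K' : Submodule R N := K₁.map (LinearMap.snd R R N)
  have ha0 : ((a, 0) : R × N) ∈ K₁ := by
    refine ⟨_, hw, ?_⟩
    show σ (a • ((1 : R), g0)) = (a, 0)
    rw [hσ]
    simp
  have hfst : ∀ u ∈ K₁, a ∣ u.1 := by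
    rintro u ⟨u₀, hu₀, rfl⟩
    exact hdiv u₀ hu₀
  have hsnd : ∀ u ∈ K₁, ((0, u.2) : R × N) ∈ K₁ := by
    intro u hu
    obtain ⟨t, ht⟩ := hfst u hu
    have : ((0, u.2) : R × N) = u - t • ((a, 0) : R × N) := by
      ext
      · simp [ht, mul_comm]
      · simp
    rw [this]
    exact K₁.sub_mem hu (K₁.smul_mem _ ha0)
  have hK₁ : K₁ = (Submodule.span R {a} : Submodule R R).prod K' := by
    apply le_antisymm
    · intro u hu
      refine ⟨?_, ⟨u, hu, rfl⟩⟩
      obtain ⟨t, ht⟩ := hfst u hu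
      exact Submodule.mem_span_singleton.mpr ⟨t, by simp [ht, mul_comm]⟩
    · rintro ⟨r, g⟩ ⟨hr, hg⟩
      obtain ⟨t, ht⟩ := Submodule.mem_span_singleton.mp hr
      obtain ⟨u, hu, hug⟩ := hg
      have h0g : ((0, g) : R × N) ∈ K₁ := by
        have := hsnd u hu
        have hug' : u.2 = g := hug
        rw [← hug']
        exact this
      have : ((r, g) : R × N) = t • ((a, 0) : R × N) + (0, g) := by
        ext
        · simpa using ht.symm
        · simp
      rw [this]
      exact K₁.add_mem (K₁.smul_mem _ ha0) h0g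
  refine ⟨K', (hK₀.map _).map _, ⟨?_⟩⟩
  refine (Submodule.Quotient.equiv K₀ K₁ σ rfl) ≪≫ₗ (Submodule.quotEquivOfEq _ _ hK₁) ≪≫ₗ ?_
  exact quotProdEquiv (Submodule.span R {a} : Submodule R R) K'

end

section Main

variable {R : Type u} [CommRing R]

theorem exists_dvd_all_of_total (h : ∀ a b : R, a ∣ b ∨ b ∣ a) (T : Finset R) (hT : T.Nonempty) :
    ∃ a ∈ T, ∀ b ∈ T, a ∣ b := by
  classical
  induction hT using Finset.Nonempty.cons_induction with
  | singleton a => exact ⟨a, by simp, by simp⟩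
  | cons a s ha hs ih =>
    obtain ⟨c, hc, hcs⟩ := ih
    rcases h a c with hac | hca
    · refine ⟨a, by simp, fun b hb => ?_⟩
      rcases Finset.mem_cons.mp hb with rfl | hb
      · exact dvd_rfl
      · exact hac.trans (hcs b hb)
    · refine ⟨c, by simp [hc], fun b hb => ?_⟩
      rcases Finset.mem_cons.mp hb with rfl | hb
      · exact hca
      · exact hcs b hb

theorem isCyclicProd_quotient_of_dvd_total (h : ∀ a b : R, a ∣ b ∨ b ∣ a) :
    ∀ (n : ℕ) (K : Submodule R (Fin n → R)), K.FG → IsCyclicProd R ((Fin n → R) ⧸ K) := by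
  classical
  intro n
  induction n with
  | zero =>
    intro K _
    exact IsCyclicProd.of_subsingleton
  | succ n ih =>
    intro K hK
    obtain ⟨S, hS⟩ := hK
    -- all coordinates of all generators (and of 0)
    let T : Finset R := ((insert 0 S) ×ˢ (Finset.univ : Finset (Fin (n + 1)))).image fun p => p.1 p.2
    have hT : T.Nonempty := ⟨(0 : Fin (n + 1) → R) 0,
      Finset.mem_image.mpr ⟨(0, 0), by simp, rfl⟩⟩
    obtain ⟨a, haT, hmin⟩ := exists_dvd_all_of_total h T hT
    obtain ⟨⟨v0, i0⟩, hv0, hv0a⟩ := Finset.mem_image.mp haT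
    simp only at hv0a
    have hv0K : v0 ∈ K := by
      rw [Finset.mem_product] at hv0
      rcases Finset.mem_insert.mp hv0.1 with h0 | h0
      · have h0' : v0 = 0 := h0
        rw [h0']; exact K.zero_mem
      · rw [← hS]; exact Submodule.subset_span h0
    -- `a` divides all coordinates of all elements of `K`
    have hdivK : ∀ u ∈ K, ∀ i, a ∣ u i := by
      intro u hu
      rw [← hS] at hu
      induction hu using Submodule.span_induction with
      | mem x hx =>
        intro i
        exact hmin _ (Finset.mem_image.mpr ⟨(x, i), by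
          simp only [Finset.mem_product, Finset.mem_insert, Finset.mem_univ, and_true]
          exact Or.inr hx, rfl⟩)
      | zero => intro i; simp
      | add x y _ _ hx hy => intro i; exact dvd_add (hx i) (hy i)
      | smul r x _ hx => intro i; exact Dvd.dvd.mul_left (hx i) r
    choose c hc using hdivK v0 hv0K
    let w : Fin (n + 1) → R := fun i => if i = i0 then 1 else c i
    have haw : a • w = v0 := by
      ext i
      by_cases hi : i = i0
      · subst hi; simp [w, hv0a]
      · simp [w, hi, hc i]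
    -- move coordinate `i0` to the front
    let e : (Fin (n + 1) → R) ≃ₗ[R] R × (Fin n → R) :=
      (LinearEquiv.funCongrLeft R R (Equiv.swap 0 i0)) ≪≫ₗ
        (Fin.consLinearEquiv R (fun _ : Fin (n + 1) => R)).symm
    have he1 : ∀ x, (e x).1 = x i0 := by
      intro x
      simp [e, LinearEquiv.funCongrLeft_apply, Fin.consLinearEquiv]
    let K₀ : Submodule R (R × (Fin n → R)) := K.map e.toLinearMap
    have hK₀ : K₀.FG := (Submodule.fg_def.mpr ⟨S, S.finite_toSet, hS⟩).map _
    have hw1 : (e w).1 = 1 := by rw [he1]; simp [w]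
    have hwK : a • ((1 : R), (e w).2) ∈ K₀ := by
      refine ⟨v0, hv0K, ?_⟩
      show e v0 = _
      rw [← haw, map_smul]
      congr 1
      exact Prod.ext hw1 rfl
    have hdiv : ∀ u ∈ K₀, a ∣ u.1 := by
      rintro _ ⟨u, hu, rfl⟩
      show a ∣ (e u).1
      rw [he1]
      exact hdivK u hu i0
    obtain ⟨K', hK', ⟨E⟩⟩ := exists_split K₀ hK₀ a (e w).2 hwK hdiv
    have h1 : IsCyclicProd R ((Fin n → R) ⧸ K') := ih K' hK'
    exact ((h1.prod a).of_equiv E).of_equiv (Submodule.Quotient.equiv K K₀ e rfl)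

/-- Over a ring with total divisibility, every finitely presented module is a finite product of
cyclic modules. -/
theorem isCyclicProd_of_dvd_total (h : ∀ a b : R, a ∣ b ∨ b ∣ a)
    (M : Type u) [AddCommGroup M] [Module R M] [Module.FinitePresentation R M] :
    IsCyclicProd R M := by
  obtain ⟨n, K, e, hK⟩ := Module.FinitePresentation.exists_fin R M
  exact (isCyclicProd_quotient_of_dvd_total h n K hK).of_equiv e

end Main

end Groth.Agent.Lib.Helper82
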