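import Groth.Agent.Lib.Helper82.ChainRing

/-!
# Finitely presented modules over rings whose local rings have total divisibility

Main result: `exists_summand_of_locally_dvd_total`.
-/

namespace Groth.Agent.Lib.Helper82

universe u

section

variable {R : Type u} [CommRing R] {M N : Type u} [AddCommGroup M] [Module R M]
  [AddCommGroup N] [Module R N]

theorem isCyclicProd_pi_prod (hN : IsCyclicProd R N) :
    ∀ (n : ℕ) (f : Fin n → R), IsCyclicProd R (((i : Fin n) → R ⧸ Ideal.span {f i}) × N) := by
  intro n
  induction n with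
  | zero =>
    intro f
    exact hN.of_equiv LinearEquiv.uniqueProd
  | succ n ih =>
    intro f
    let e1 := (Fin.consLinearEquiv R (fun i : Fin (n + 1) => R ⧸ Ideal.span {f i})).symm
    have h2 : IsCyclicProd R (((i : Fin n) → R ⧸ Ideal.span {f i.succ}) × N) :=
      ih (fun i => f i.succ)
    exact ((h2.prod (f 0)).of_equiv (LinearEquiv.prodAssoc R _ _ _)).of_equiv
      (LinearEquiv.prodCongr e1 (LinearEquiv.refl R N))

theorem IsCyclicProd.prod' (hM : IsCyclicProd R M) (hN : IsCyclicProd R N) :
    IsCyclicProd R (M × N) := by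
  obtain ⟨n, f, ⟨e⟩⟩ := hM
  exact (isCyclicProd_pi_prod hN n f).of_equiv (LinearEquiv.prodCongr e (LinearEquiv.refl R N))

variable (R M) in
/-- `s • id_M` factors through a finite product of cyclic modules. -/
def FactorsCyclic (s : R) : Prop :=
  ∃ (N : Type u) (_ : AddCommGroup N) (_ : Module R N), IsCyclicProd R N ∧
    ∃ (ψ : N →ₗ[R] M) (τ : M →ₗ[R] N), ψ ∘ₗ τ = s • LinearMap.id

variable (R M) in
/-- The ideal of those `s` such that `s • id_M` factors through a product of cyclic modules. -/
def factorsCyclicIdeal : Ideal R where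
  carrier := {s | FactorsCyclic R M s}
  zero_mem' := ⟨PUnit, inferInstance, inferInstance, .of_subsingleton, 0, 0, by simp⟩
  add_mem' := by
    rintro s s' ⟨N, _, _, hN, ψ, τ, h⟩ ⟨N', _, _, hN', ψ', τ', h'⟩
    exact ⟨N × N', inferInstance, inferInstance, hN.prod' hN', ψ.coprod ψ', τ.prod τ', by
      rw [LinearMap.coprod_comp_prod, h, h', add_smul]⟩
  smul_mem' := by
    rintro c s ⟨N, _, _, hN, ψ, τ, h⟩
    exact ⟨N, inferInstance, inferInstance, hN, c • ψ, τ, by
      rw [LinearMap.smul_comp, h, smul_eq_mul, mul_smul]⟩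

theorem mem_factorsCyclicIdeal {s : R} : s ∈ factorsCyclicIdeal R M ↔ FactorsCyclic R M s :=
  Iff.rfl

end

section Local

variable {R : Type u} [CommRing R]

theorem exists_factorsCyclic_of_local (p : Ideal R) [p.IsPrime]
    (h : ∀ a b : Localization.AtPrime p, a ∣ b ∨ b ∣ a)
    (M : Type u) [AddCommGroup M] [Module R M] [Module.FinitePresentation R M] :
    ∃ s : p.primeCompl, FactorsCyclic R M (s : R) := by
  classical
  obtain ⟨n, φ, ⟨E⟩⟩ := isCyclicProd_of_dvd_total h (LocalizedModule p.primeCompl M)
  -- numerators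
  have hφ : ∀ i, ∃ a : R, Ideal.span {φ i} =
      Ideal.span {algebraMap R (Localization.AtPrime p) a} := by
    intro i
    obtain ⟨⟨a, s⟩, has⟩ := IsLocalization.surj p.primeCompl (φ i)
    refine ⟨a, ?_⟩
    rw [← has]
    exact (Ideal.span_singleton_mul_right_unit
      (IsLocalization.map_units (Localization.AtPrime p) s) _).symm
  choose a ha using hφ
  let f : R →ₗ[R] Localization.AtPrime p := Algebra.linearMap R (Localization.AtPrime p)
  let I : Fin n → Submodule R R := fun i => Ideal.span {a i}
  have hI : ∀ i, (I i).localized' (Localization.AtPrime p) p.primeCompl f = Ideal.span {φ i} := by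
    intro i
    rw [ha i]
    show (Submodule.span R {a i}).localized' (Localization.AtPrime p) p.primeCompl f = _
    rw [Submodule.localized'_span, Set.image_singleton]
    rfl
  let lam : ((i : Fin n) → R ⧸ I i) →ₗ[R]
      ((i : Fin n) → Localization.AtPrime p ⧸
        (I i).localized' (Localization.AtPrime p) p.primeCompl f) :=
    LinearMap.pi fun i =>
      ((I i).toLocalizedQuotient' (Localization.AtPrime p) p.primeCompl f) ∘ₗ LinearMap.proj i
  have hlam : IsLocalizedModule p.primeCompl lam := inferInstance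
  let E' : LocalizedModule p.primeCompl M ≃ₗ[Localization.AtPrime p]
      ((i : Fin n) → Localization.AtPrime p ⧸
        (I i).localized' (Localization.AtPrime p) p.primeCompl f) :=
    E ≪≫ₗ LinearEquiv.piCongrRight (fun i => Submodule.quotEquivOfEq _ _ (hI i).symm)
  let E'' : M →ₗ[R] ((i : Fin n) → Localization.AtPrime p ⧸
        (I i).localized' (Localization.AtPrime p) p.primeCompl f) :=
    (E'.restrictScalars R).toLinearMap ∘ₗ LocalizedModule.mkLinearMap p.primeCompl M
  have hE'' : IsLocalizedModule p.primeCompl E'' :=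
    IsLocalizedModule.of_linearEquiv p.primeCompl (LocalizedModule.mkLinearMap p.primeCompl M)
      (E'.restrictScalars R)
  have : ∀ i, Module.FinitePresentation R (R ⧸ I i) := fun i =>
    Module.finitePresentation_of_surjective (I i).mkQ (I i).mkQ_surjective (by
      rw [Submodule.ker_mkQ]; exact ⟨{a i}, by simp [I]⟩)
  obtain ⟨τ, s, hτ⟩ :=
    Module.FinitePresentation.exists_lift_of_isLocalizedModule p.primeCompl lam E''
  obtain ⟨ψ, t, hψ⟩ :=
    Module.FinitePresentation.exists_lift_of_isLocalizedModule p.primeCompl E'' lam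
  have hcomp : E'' ∘ₗ (ψ ∘ₗ τ) = E'' ∘ₗ ((t * s : p.primeCompl) • LinearMap.id) := by
    rw [← LinearMap.comp_assoc, hψ, LinearMap.smul_comp, hτ, LinearMap.comp_smul, mul_smul]
    simp
  obtain ⟨u, hu⟩ :=
    Module.Finite.exists_smul_of_comp_eq_of_isLocalizedModule p.primeCompl E'' _ _ hcomp
  refine ⟨u * (t * s), (i : Fin n) → R ⧸ I i, inferInstance, inferInstance, ⟨n, a, ⟨LinearEquiv.refl R _⟩⟩,
    u • ψ, τ, ?_⟩
  rw [LinearMap.smul_comp, hu]
  simp only [Submonoid.smul_def, Submonoid.coe_mul, mul_smul]

end Local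

section Global

variable {R : Type u} [CommRing R]

theorem factorsCyclic_one_of_locally_dvd_total
    (h : ∀ (m : Ideal R) [m.IsMaximal], ∀ a b : Localization.AtPrime m, a ∣ b ∨ b ∣ a)
    (M : Type u) [AddCommGroup M] [Module R M] [Module.FinitePresentation R M] :
    FactorsCyclic R M 1 := by
  rw [← mem_factorsCyclicIdeal]
  suffices factorsCyclicIdeal R M = ⊤ by rw [this]; trivial
  by_contra hne
  obtain ⟨m, hm, hle⟩ := Ideal.exists_le_maximal _ hne
  obtain ⟨s, hs⟩ := exists_factorsCyclic_of_local m (h m) M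
  exact s.2 (hle (mem_factorsCyclicIdeal.mpr hs))

/-- If all localizations at maximal ideals have total divisibility, every finitely presented
module is a direct summand of a finite product of cyclic modules. -/
theorem exists_summand_of_locally_dvd_total
    (h : ∀ (m : Ideal R) [m.IsMaximal], ∀ a b : Localization.AtPrime m, a ∣ b ∨ b ∣ a)
    (M : Type u) [AddCommGroup M] [Module R M] [Module.FinitePresentation R M] :
    ∃ (n : ℕ) (f : Fin n → R) (i : M →ₗ[R] ((j : Fin n) → R ⧸ Ideal.span {f j}))
      (q : ((j : Fin n) → R ⧸ Ideal.span {f j}) →ₗ[R] M), q ∘ₗ i = LinearMap.id := by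
  obtain ⟨N, _, _, ⟨n, f, ⟨e⟩⟩, ψ, τ, hψτ⟩ := factorsCyclic_one_of_locally_dvd_total h M
  refine ⟨n, f, e.toLinearMap ∘ₗ τ, ψ ∘ₗ e.symm.toLinearMap, ?_⟩
  ext x
  simpa using LinearMap.congr_fun hψτ x

end Global

end Groth.Agent.Lib.Helper82

namespace Groth.Agent.Lib.Helper82

universe u

/-- A split injection `i` with retraction `q` identifies the target with `M × ker q`. -/
noncomputable def prodKerEquivOfSplit {R : Type u} [CommRing R] {M P : Type u}
    [AddCommGroup M] [Module R M] [AddCommGroup P] [Module R P]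
    (i : M →ₗ[R] P) (q : P →ₗ[R] M) (h : q ∘ₗ i = LinearMap.id) :
    (M × LinearMap.ker q) ≃ₗ[R] P :=
  LinearEquiv.ofLinearMap (i.coprod (LinearMap.ker q).subtype)
    (q.prod (LinearMap.codRestrict (LinearMap.ker q) (LinearMap.id - i ∘ₗ q) (fun x => by
      have := LinearMap.congr_fun h (q x)
      simp only [LinearMap.comp_apply, LinearMap.id_apply] at this
      simp [LinearMap.mem_ker, this])))
    (by
      ext x
      simp)
    (by
      have h' : ∀ m, q (i m) = m := fun m => LinearMap.congr_fun h m
      apply LinearMap.ext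
      rintro ⟨m, k⟩
      have hk : q k.1 = 0 := k.2
      apply Prod.ext
      · simp [h', hk]
      · apply Subtype.ext
        simp [h', hk])

end Groth.Agent.Lib.Helper82
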