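import Groth.Agent.Lib.Helper82.ModHomology

set_option autoImplicit false

/-!
Contractibility of acyclic bounded-below complexes of projective modules, and splitting of
degreewise split short exact sequences of complexes with acyclic cokernel.
-/

namespace Groth.Agent.Lib.Helper82

open CategoryTheory HomologicalComplex Limits

universe v u

section contraction

variable {V : Type u} [Category.{v} V] [Abelian V]
variable (K : ChainComplex V ℕ) (hK : ∀ n, K.ExactAt n)

include hK in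
lemma exact_sc'_zero : (K.sc' 1 0 0).Exact :=
  (K.exactAt_iff' 1 0 0 (by simp) (by simp)).1 (hK 0)

include hK in
lemma exact_sc'_succ (n : ℕ) : (K.sc' (n + 2) (n + 1) n).Exact :=
  (K.exactAt_iff' (n + 2) (n + 1) n (by simp) (by simp)).1 (hK (n + 1))

variable [∀ n, Projective (K.X n)]

/-- first step of the contraction -/
noncomputable def contrZero : K.X 0 ⟶ K.X 1 :=
  (exact_sc'_zero K hK).liftFromProjective (𝟙 (K.X 0)) (by
    show 𝟙 (K.X 0) ≫ K.d 0 0 = 0
    rw [K.shape 0 0 (by simp), comp_zero])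

lemma contrZero_comp : contrZero K hK ≫ K.d 1 0 = 𝟙 (K.X 0) :=
  (exact_sc'_zero K hK).liftFromProjective_comp _ _

/-- second step of the contraction -/
noncomputable def contrOne : K.X 1 ⟶ K.X 2 :=
  (exact_sc'_succ K hK 0).liftFromProjective (𝟙 (K.X 1) - K.d 1 0 ≫ contrZero K hK) (by
    show (𝟙 (K.X 1) - K.d 1 0 ≫ contrZero K hK) ≫ K.d 1 0 = 0
    rw [Preadditive.sub_comp, Category.assoc, contrZero_comp, Category.id_comp, Category.comp_id,
      sub_self])

lemma contrOne_comp :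
    contrOne K hK ≫ K.d 2 1 = 𝟙 (K.X 1) - K.d 1 0 ≫ contrZero K hK :=
  (exact_sc'_succ K hK 0).liftFromProjective_comp _ _

/-- inductive step of the contraction -/
noncomputable def contrSucc (n : ℕ) (g : K.X n ⟶ K.X (n + 1)) (g' : K.X (n + 1) ⟶ K.X (n + 2))
    (w : (𝟙 K : K ⟶ K).f (n + 1) = K.d (n + 1) n ≫ g + g' ≫ K.d (n + 2) (n + 1)) :
    K.X (n + 2) ⟶ K.X (n + 3) :=
  (exact_sc'_succ K hK (n + 1)).liftFromProjective (𝟙 (K.X (n + 2)) - K.d (n + 2) (n + 1) ≫ g') (by
    show (𝟙 (K.X (n + 2)) - K.d (n + 2) (n + 1) ≫ g') ≫ K.d (n + 2) (n + 1) = 0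
    have w' : 𝟙 (K.X (n + 1)) = K.d (n + 1) n ≫ g + g' ≫ K.d (n + 2) (n + 1) := w
    have h1 : g' ≫ K.d (n + 2) (n + 1) = 𝟙 (K.X (n + 1)) - K.d (n + 1) n ≫ g := by
      rw [w']; abel
    rw [Preadditive.sub_comp, Category.assoc, h1, Preadditive.comp_sub, Category.id_comp,
      Category.comp_id, K.d_comp_d_assoc, zero_comp, sub_zero, sub_self])

lemma contrSucc_comp (n : ℕ) (g : K.X n ⟶ K.X (n + 1)) (g' : K.X (n + 1) ⟶ K.X (n + 2))
    (w : (𝟙 K : K ⟶ K).f (n + 1) = K.d (n + 1) n ≫ g + g' ≫ K.d (n + 2) (n + 1)) :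
    contrSucc K hK n g g' w ≫ K.d (n + 3) (n + 2) =
      𝟙 (K.X (n + 2)) - K.d (n + 2) (n + 1) ≫ g' :=
  (exact_sc'_succ K hK (n + 1)).liftFromProjective_comp _ _

/-- An acyclic bounded below complex of projective objects is contractible. -/
noncomputable def contraction : Homotopy (𝟙 K) 0 :=
  Homotopy.mkInductive _ (contrZero K hK) (by simp [contrZero_comp])
    (contrOne K hK) (by simp [contrOne_comp]) fun n ⟨g, g', w⟩ =>
    ⟨contrSucc K hK n g g' w, by
      show 𝟙 (K.X (n + 2)) = K.d (n + 2) (n + 1) ≫ g' + contrSucc K hK n g g' w ≫ K.d (n + 3) (n + 2)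
      rw [contrSucc_comp]; abel⟩

end contraction

section concrete

variable {R : Type u} [Ring R]

lemma contraction_zero (K : ChainComplex (ModuleCat.{v} R) ℕ) (H : Homotopy (𝟙 K) 0) (x : K.X 0) :
    (K.d 1 0).hom ((H.hom 0 1).hom x) = x := by
  have h := H.comm 0
  rw [Homotopy.dNext_zero_chainComplex, Homotopy.prevD_chainComplex] at h
  have := LinearMap.congr_fun (congrArg ModuleCat.Hom.hom h) x
  simpa using this.symm

lemma contraction_succ (K : ChainComplex (ModuleCat.{v} R) ℕ) (H : Homotopy (𝟙 K) 0) (q : ℕ)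
    (x : K.X (q + 1)) :
    (H.hom q (q + 1)).hom ((K.d (q + 1) q).hom x) +
      (K.d (q + 2) (q + 1)).hom ((H.hom (q + 1) (q + 2)).hom x) = x := by
  have h := H.comm (q + 1)
  rw [Homotopy.dNext_succ_chainComplex, Homotopy.prevD_chainComplex] at h
  have := LinearMap.congr_fun (congrArg ModuleCat.Hom.hom h) x
  simpa using this.symm

lemma hom_comm_apply {A B : ChainComplex (ModuleCat.{v} R) ℕ} (φ : A ⟶ B) (i j : ℕ) (x : A.X i) :
    (B.d i j).hom ((φ.f i).hom x) = (φ.f j).hom ((A.d i j).hom x) :=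
  LinearMap.congr_fun (congrArg ModuleCat.Hom.hom (φ.comm i j)) x

lemma d_d_apply (A : ChainComplex (ModuleCat.{v} R) ℕ) (i j k : ℕ) (x : A.X i) :
    (A.d j k).hom ((A.d i j).hom x) = 0 :=
  LinearMap.congr_fun (congrArg ModuleCat.Hom.hom (A.d_comp_d i j k)) x

/-- A degreewise split short exact sequence of complexes with contractible cokernel has a
chain-map section. -/
theorem exists_chain_section (A' A A'' : ChainComplex (ModuleCat.{v} R) ℕ) (f : A' ⟶ A)
    (p : A ⟶ A'') [∀ q, Module.Projective R (A''.X q)]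
    (hf : ∀ q, Function.Injective (f.f q).hom) (hp : ∀ q, Function.Surjective (p.f q).hom)
    (hfp : ∀ q, Function.Exact (f.f q).hom (p.f q).hom) (H : Homotopy (𝟙 A'') 0) :
    ∃ h : A'' ⟶ A, h ≫ p = 𝟙 A'' := by
  classical
  -- degreewise sections
  have hσ : ∀ q, ∃ σ : A''.X q →ₗ[R] A.X q, (p.f q).hom ∘ₗ σ = LinearMap.id := fun q =>
    Module.projective_lifting_property (p.f q).hom LinearMap.id (hp q)
  choose σ hσ using hσ
  have hσ' : ∀ q x, (p.f q).hom (σ q x) = x := fun q x => LinearMap.congr_fun (hσ q) x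
  -- retractions up to the sections
  have hr : ∀ q, ∃ r : A.X q →ₗ[R] A'.X q, ∀ a, (f.f q).hom (r a) = a - σ q ((p.f q).hom a) := by
    intro q
    have hmem : ∀ a, a - σ q ((p.f q).hom a) ∈ LinearMap.range (f.f q).hom := by
      intro a
      rw [← (hfp q).linearMap_ker_eq, LinearMap.mem_ker, map_sub, hσ', sub_self]
    let e := LinearEquiv.ofInjective (f.f q).hom (hf q)
    refine ⟨e.symm.toLinearMap ∘ₗ
      ((LinearMap.id - σ q ∘ₗ (p.f q).hom).codRestrict (LinearMap.range (f.f q).hom) hmem), ?_⟩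
    intro a
    have : ((e (e.symm ⟨a - σ q ((p.f q).hom a), hmem a⟩) : LinearMap.range (f.f q).hom) : A.X q)
        = a - σ q ((p.f q).hom a) := by rw [e.apply_symm_apply]
    simpa [e] using this
  choose r hr using hr
  have hpf : ∀ q x, (p.f q).hom ((f.f q).hom x) = 0 := fun q x => (hfp q).apply_apply_eq_zero x
  -- the obstruction
  let τ : ∀ q, A''.X (q + 1) →ₗ[R] A'.X q := fun q =>
    r q ∘ₗ ((A.d (q + 1) q).hom ∘ₗ σ (q + 1) - σ q ∘ₗ (A''.d (q + 1) q).hom)
  have K1 : ∀ q x, (f.f q).hom (τ q x) =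
      (A.d (q + 1) q).hom (σ (q + 1) x) - σ q ((A''.d (q + 1) q).hom x) := by
    intro q x
    have h0 : (p.f q).hom ((A.d (q + 1) q).hom (σ (q + 1) x) - σ q ((A''.d (q + 1) q).hom x))
        = 0 := by
      rw [map_sub, ← hom_comm_apply p, hσ', hσ', sub_self]
    show (f.f q).hom (r q ((A.d (q + 1) q).hom (σ (q + 1) x) - σ q ((A''.d (q + 1) q).hom x))) = _
    rw [hr, h0, map_zero, sub_zero]
  have K2 : ∀ q x, (A'.d (q + 1) q).hom (τ (q + 1) x) = - τ q ((A''.d (q + 2) (q + 1)).hom x) := by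
    intro q x
    apply hf q
    rw [← hom_comm_apply f, K1, map_neg, K1, map_sub, d_d_apply, d_d_apply, map_zero, zero_sub,
      sub_zero]
  let s : ∀ q, A''.X q →ₗ[R] A''.X (q + 1) := fun q => (H.hom q (q + 1)).hom
  have K3 : ∀ q (x : A''.X (q + 1)),
      s q ((A''.d (q + 1) q).hom x) + (A''.d (q + 2) (q + 1)).hom (s (q + 1) x) = x :=
    fun q x => contraction_succ A'' H q x
  let hq : ∀ q, A''.X q →ₗ[R] A.X q := fun q => σ q + (f.f q).hom ∘ₗ τ q ∘ₗ s q
  have hq_apply : ∀ q x, hq q x = σ q x + (f.f q).hom (τ q (s q x)) := fun q x => rfl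
  have hcomm : ∀ q (x : A''.X (q + 1)),
      (A.d (q + 1) q).hom (hq (q + 1) x) = hq q ((A''.d (q + 1) q).hom x) := by
    intro q x
    rw [hq_apply, hq_apply, map_add, hom_comm_apply f, K2, map_neg]
    have h3 : (A''.d (q + 2) (q + 1)).hom (s (q + 1) x) = x - s q ((A''.d (q + 1) q).hom x) :=
      eq_sub_of_add_eq' (K3 q x)
    rw [h3, map_sub, map_sub, K1 q x]
    abel
  refine ⟨{ f := fun q => ModuleCat.ofHom (hq q), comm' := ?_ }, ?_⟩
  · intro i j hij
    have hij' : j + 1 = i := hij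
    subst hij'
    ext x
    exact (hcomm j x)
  · ext q x
    show (p.f q).hom (hq q x) = x
    rw [hq_apply, map_add, hσ', hpf, add_zero]

/-- From a chain-map section of `p` one gets the direct sum decomposition. -/
lemma bijective_of_section (A' A A'' : ChainComplex (ModuleCat.{v} R) ℕ) (f : A' ⟶ A)
    (p : A ⟶ A'')
    (hf : ∀ q, Function.Injective (f.f q).hom)
    (hfp : ∀ q, Function.Exact (f.f q).hom (p.f q).hom) (h : A'' ⟶ A) (hh : h ≫ p = 𝟙 A'')
    (q : ℕ) :
    Function.Bijective (fun x : A''.X q × A'.X q => (h.f q).hom x.1 + (f.f q).hom x.2) := by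
  have hph : ∀ x, (p.f q).hom ((h.f q).hom x) = x := fun x =>
    LinearMap.congr_fun (congrArg ModuleCat.Hom.hom (congrArg (fun φ => φ.f q) hh)) x
  have hpf : ∀ x, (p.f q).hom ((f.f q).hom x) = 0 := fun x => (hfp q).apply_apply_eq_zero x
  constructor
  · rintro ⟨a, b⟩ ⟨a', b'⟩ hab
    simp only at hab
    have h1 := congrArg (p.f q).hom hab
    rw [map_add, map_add, hph, hph, hpf, hpf, add_zero, add_zero] at h1
    subst h1
    have h2 := add_left_cancel hab
    rw [hf q h2]
  · intro a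
    have hmem : a - (h.f q).hom ((p.f q).hom a) ∈ LinearMap.range (f.f q).hom := by
      rw [← (hfp q).linearMap_ker_eq, LinearMap.mem_ker, map_sub, hph, sub_self]
    obtain ⟨b, hb⟩ := hmem
    exact ⟨((p.f q).hom a, b), by simp only; rw [hb]; abel⟩

end concrete

end Groth.Agent.Lib.Helper82
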