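import Mathlib
import Groth.Prelude.Def_W4c3cyccovratcurvTree

/-!
# Connectivity of marked trees under conic deformations (helper82)
-/

set_option autoImplicit false

open W4c3cyccovratcurv

namespace Groth.Agent.Lib.Helper82

namespace ConicTree

variable {n : ℕ}

/-- The graph of a parent function. -/
def pgraph (p : Fin n → Fin n) : SimpleGraph (Fin n) := SimpleGraph.fromRel (fun a b => p a = b)

lemma pgraph_adj (p : Fin n → Fin n) (a b : Fin n) :
    (pgraph p).Adj a b ↔ a ≠ b ∧ (p a = b ∨ p b = a) :=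
  SimpleGraph.fromRel_adj _ _ _

/-- A parent function with root `r` and a height function `d`. -/
structure Valid (r : Fin n) (d : Fin n → ℕ) (p : Fin n → Fin n) : Prop where
  root : p r = r
  lt : ∀ v, v ≠ r → d (p v) < d v

namespace Valid

variable {r : Fin n} {d : Fin n → ℕ} {p : Fin n → Fin n}

lemma ne (h : Valid r d p) {v : Fin n} (hv : v ≠ r) : p v ≠ v := fun e => by
  have := h.lt v hv
  rw [e] at this
  exact lt_irrefl _ this

lemma adj (h : Valid r d p) {v : Fin n} (hv : v ≠ r) : (pgraph p).Adj v (p v) :=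
  (pgraph_adj p v (p v)).2 ⟨(h.ne hv).symm, Or.inl rfl⟩

lemma reachable (h : Valid r d p) (v : Fin n) : (pgraph p).Reachable v r := by
  induction' hk : d v using Nat.strong_induction_on with k ih generalizing v
  by_cases hv : v = r
  · subst hv
    exact SimpleGraph.Reachable.refl _
  · have hlt := h.lt v hv
    exact (h.adj hv).reachable.trans (ih (d (p v)) (hk ▸ hlt) (p v) rfl)

lemma connected (h : Valid r d p) : (pgraph p).Connected :=
  (SimpleGraph.connected_iff_exists_forall_reachable _).2 ⟨r, fun w => (h.reachable w).symm⟩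

/-- The edge attached to a non-root vertex. -/
def edgeOf (h : Valid r d p) (v : {v : Fin n // v ≠ r}) : (pgraph p).edgeSet :=
  ⟨s(v.1, p v.1), (SimpleGraph.mem_edgeSet _).2 (h.adj v.2)⟩

lemma edgeOf_bijective (h : Valid r d p) : Function.Bijective h.edgeOf := by
  constructor
  · rintro ⟨v, hv⟩ ⟨v', hv'⟩ e
    have e' : s(v, p v) = s(v', p v') := congrArg Subtype.val e
    rw [Sym2.eq_iff] at e'
    rcases e' with ⟨e1, -⟩ | ⟨e1, e2⟩
    · exact Subtype.ext e1
    · exfalso
      have h1 := h.lt v hv
      have h2 := h.lt v' hv'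
      rw [e2] at h1
      rw [← e1] at h2
      exact lt_asymm h1 h2
  · rintro ⟨e, he⟩
    induction e using Sym2.ind with
    | _ a b =>
      rw [SimpleGraph.mem_edgeSet, pgraph_adj] at he
      obtain ⟨hab, hp | hp⟩ := he
      · have ha : a ≠ r := by
          rintro rfl
          exact hab (h.root.symm.trans hp)
        exact ⟨⟨a, ha⟩, Subtype.ext (by simp [edgeOf, hp])⟩
      · have hb : b ≠ r := by
          rintro rfl
          exact hab (hp.symm.trans h.root)
        exact ⟨⟨b, hb⟩, Subtype.ext (by simp [edgeOf, hp, Sym2.eq_swap])⟩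

lemma isTree (h : Valid r d p) : (pgraph p).IsTree := by
  rw [SimpleGraph.isTree_iff_connected_and_card]
  refine ⟨h.connected, ?_⟩
  rw [← Nat.card_congr (Equiv.ofBijective _ h.edgeOf_bijective), Nat.card_eq_fintype_card,
    Nat.card_eq_fintype_card, Fintype.card_subtype_compl, Fintype.card_subtype_eq, Fintype.card_fin]
  have : 0 < n := r.pos
  omega

end Valid

/-- Every tree on `Fin n` is the graph of a valid parent function, for any choice of root. -/
lemma exists_valid (G : SimpleGraph (Fin n)) (hG : G.IsTree) (r : Fin n) :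
    ∃ (d : Fin n → ℕ) (p : Fin n → Fin n), Valid r d p ∧ G = pgraph p := by
  classical
  have hstep : ∀ v : Fin n, v ≠ r → ∃ w, G.Adj v w ∧ G.dist w r < G.dist v r := by
    intro v hv
    obtain ⟨q, hq⟩ := hG.connected.exists_walk_length_eq_dist v r
    cases q with
    | nil => exact absurd rfl hv
    | cons hadj q' =>
      refine ⟨_, hadj, ?_⟩
      rw [← hq, SimpleGraph.Walk.length_cons]
      exact Nat.lt_succ_of_le (SimpleGraph.dist_le q')
  choose f hf using hstep
  let p : Fin n → Fin n := fun v => if hv : v = r then r else f v hv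
  have hp : ∀ v (hv : v ≠ r), p v = f v hv := fun v hv => dif_neg hv
  have hval : Valid r (fun v => G.dist v r) p := by
    refine ⟨dif_pos rfl, fun v hv => ?_⟩
    rw [hp v hv]
    exact (hf v hv).2
  refine ⟨_, p, hval, ?_⟩
  have hle : pgraph p ≤ G := by
    intro a b hab
    rw [pgraph_adj] at hab
    obtain ⟨hne, h1 | h1⟩ := hab
    · have ha : a ≠ r := by
        rintro rfl
        exact hne (hval.root.symm.trans h1)
      rw [← h1, hp a ha]
      exact (hf a ha).1
    · have hb : b ≠ r := by
        rintro rfl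
        exact hne (h1.symm.trans hval.root)
      rw [← h1, hp b hb]
      exact (hf b hb).1.symm
  have hcard : (pgraph p).edgeFinset.card = G.edgeFinset.card := by
    have h1 := hval.isTree.card_edgeFinset
    have h2 := hG.card_edgeFinset
    omega
  have hsub : (pgraph p).edgeFinset ⊆ G.edgeFinset := SimpleGraph.edgeFinset_subset_edgeFinset.2 hle
  have heq := Finset.eq_of_subset_of_card_le hsub hcard.ge
  exact (SimpleGraph.edgeFinset_inj.1 heq).symm

variable {k : ℕ}

lemma conicAdj_symm {T₁ T₂ : MarkedTree k} (h : ConicAdj T₁ T₂) : ConicAdj T₂ T₁ := by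
  obtain ⟨u₁, w₁, u₂, w₂, h₁, h₂, φ, hφ, hm⟩ := h
  refine ⟨u₂, w₂, u₁, w₁, h₂, h₁, φ.symm, ?_, fun i => ?_⟩
  · rw [← hφ, RelIso.symm_apply_apply]
  · rw [← hm i, RelIso.symm_apply_apply]

/-- The marked tree of a valid parent function. -/
def mkTree {r : Fin n} {d : Fin n → ℕ} {p : Fin n → Fin n} (h : Valid r d p)
    (m : Fin k → Fin n) : MarkedTree k := ⟨n, pgraph p, h.isTree, m⟩

lemma mkTree_congr {r : Fin n} {d d' : Fin n → ℕ} {p p' : Fin n → Fin n} (h : Valid r d p)
    (h' : Valid r d' p') (m m' : Fin k → Fin n) (hp : p = p') (hm : m = m') :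
    mkTree h m = mkTree h' m' := by
  subst hp hm
  rfl

/-- Moving a mark from a vertex to its parent is a conic deformation. -/
lemma conicAdj_mark {r : Fin n} {d : Fin n → ℕ} {p : Fin n → Fin n} (h : Valid r d p)
    (m : Fin k → Fin n) (i : Fin k) (hi : m i ≠ r) :
    ConicAdj (mkTree h m) (mkTree h (Function.update m i (p (m i)))) := by
  have hadj : (pgraph p).Adj (p (m i)) (m i) := (h.adj hi).symm
  refine ⟨p (m i), m i, p (m i), m i, hadj, hadj, SimpleGraph.Iso.refl, rfl, fun j => ?_⟩
  change contractMark m (p (m i)) (m i) hadj.ne j =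
    contractMark (Function.update m i (p (m i))) (p (m i)) (m i) hadj.ne j
  unfold contractMark
  by_cases hj : j = i
  · subst hj
    simp [h.ne hi]
  · simp [Function.update_of_ne hj]

lemma Valid.reparent {r : Fin n} {d : Fin n → ℕ} {p : Fin n → Fin n} (h : Valid r d p)
    (v : Fin n) (hv : v ≠ r) (hu : p v ≠ r) : Valid r d (Function.update p v (p (p v))) := by
  refine ⟨?_, fun x hx => ?_⟩
  · rw [Function.update_of_ne hv.symm, h.root]
  · by_cases hxv : x = v
    · subst hxv
      rw [Function.update_self]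
      exact (h.lt _ hu).trans (h.lt _ hx)
    · rw [Function.update_of_ne hxv]
      exact h.lt x hx

lemma contract_reparent_adj {r : Fin n} {d : Fin n → ℕ} {p : Fin n → Fin n} (h : Valid r d p)
    (v : Fin n) (hv : v ≠ r) (hu : p v ≠ r) (a b : {x : Fin n // x ≠ p v}) :
    (contract (pgraph (Function.update p v (p (p v)))) (p (p v)) (p v)).Adj a b ↔
      (contract (pgraph p) (p (p v)) (p v)).Adj a b := by
  have huv : p v ≠ v := h.ne hv
  have hqu : p (p v) ≠ p v := h.ne hu
  have hqv : p (p v) ≠ v := fun e => by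
    have h1 := h.lt _ hu
    have h2 := h.lt _ hv
    rw [e] at h1
    exact lt_asymm h1 h2
  obtain ⟨a, ha⟩ := a
  obtain ⟨b, hb⟩ := b
  simp only [contract, SimpleGraph.fromRel_adj, pgraph_adj, ne_eq,
    Subtype.mk.injEq, Function.update_apply]
  grind

/-- Re-attaching a vertex to its grandparent is a conic deformation. -/
lemma conicAdj_reparent {r : Fin n} {d : Fin n → ℕ} {p : Fin n → Fin n} (h : Valid r d p)
    (m : Fin k → Fin n) (v : Fin n) (hv : v ≠ r) (hu : p v ≠ r) :
    ConicAdj (mkTree h m) (mkTree (h.reparent v hv hu) m) := by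
  have huv : p v ≠ v := h.ne hv
  have hadj : (pgraph p).Adj (p (p v)) (p v) := (h.adj hu).symm
  have hadj' : (pgraph (Function.update p v (p (p v)))).Adj (p (p v)) (p v) := by
    have := ((h.reparent v hv hu).adj hu).symm
    rwa [Function.update_of_ne huv] at this
  exact ⟨p (p v), p v, p (p v), p v, hadj, hadj',
    ⟨Equiv.refl _, fun {a b} => contract_reparent_adj h v hv hu a b⟩, rfl, fun j => rfl⟩

lemma Valid.root_lt {r : Fin n} {d : Fin n → ℕ} {p : Fin n → Fin n} (h : Valid r d p)
    (v : Fin n) (hv : v ≠ r) : d r < d v := by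
  induction' hk : d v using Nat.strong_induction_on with k ih generalizing v
  have hlt := h.lt v hv
  by_cases hpv : p v = r
  · rw [hpv] at hlt
    exact hk ▸ hlt
  · exact (ih (d (p v)) (hk ▸ hlt) (p v) hpv rfl).trans (hk ▸ hlt)

lemma Valid.star {r : Fin n} {d : Fin n → ℕ} {p : Fin n → Fin n} (h : Valid r d p) :
    Valid r d (fun _ => r) :=
  ⟨rfl, fun v hv => h.root_lt v hv⟩

open Relation in
lemma to_star_aux {r : Fin n} {d : Fin n → ℕ} (m : Fin k → Fin n) (N : ℕ) :
    ∀ {p : Fin n → Fin n} (h : Valid r d p),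
      (Finset.univ.filter (fun v => p v ≠ r)).card = N →
      ReflTransGen ConicAdj (mkTree h m) (mkTree h.star m) := by
  induction N with
  | zero =>
    intro p h hN
    have hp : p = fun _ => r := by
      funext v
      by_contra hv
      have : v ∈ Finset.univ.filter (fun v => p v ≠ r) :=
        Finset.mem_filter.2 ⟨Finset.mem_univ _, hv⟩
      rw [Finset.card_eq_zero.1 hN] at this
      exact absurd this (Finset.notMem_empty _)
    rw [mkTree_congr h h.star m m hp rfl]
  | succ N ih =>
    intro p h hN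
    have hne : (Finset.univ.filter (fun v => p v ≠ r)).Nonempty :=
      Finset.card_pos.1 (by omega)
    obtain ⟨v, hvmem, hvmin⟩ := Finset.exists_min_image _ d hne
    have hpv : p v ≠ r := (Finset.mem_filter.1 hvmem).2
    have hv : v ≠ r := by
      rintro rfl
      exact hpv h.root
    have hppv : p (p v) = r := by
      by_contra hc
      have := hvmin (p v) (Finset.mem_filter.2 ⟨Finset.mem_univ _, hc⟩)
      exact absurd (h.lt v hv) (not_lt.2 this)
    refine ReflTransGen.head (conicAdj_reparent h m v hv hpv) (ih (h.reparent v hv hpv) ?_)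
    have : Finset.univ.filter (fun x => Function.update p v (p (p v)) x ≠ r) =
        (Finset.univ.filter (fun x => p x ≠ r)).erase v := by
      ext x
      by_cases hx : x = v
      · subst hx
        simp [hppv]
      · simp [hx]
    rw [this, Finset.card_erase_of_mem hvmem, hN]
    rfl

open Relation in
lemma to_star {r : Fin n} {d : Fin n → ℕ} {p : Fin n → Fin n} (h : Valid r d p)
    (m : Fin k → Fin n) : ReflTransGen ConicAdj (mkTree h m) (mkTree h.star m) :=
  to_star_aux m _ h rfl

open Relation in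
lemma star_marks_aux {r : Fin n} {d : Fin n → ℕ} (h0 : Valid r d (fun _ => r)) (N : ℕ) :
    ∀ (m : Fin k → Fin n), (Finset.univ.filter (fun i => m i ≠ r)).card = N →
      ReflTransGen ConicAdj (mkTree h0 m) (mkTree h0 (fun _ => r)) := by
  induction N with
  | zero =>
    intro m hN
    have hm : m = fun _ => r := by
      funext i
      by_contra hi
      have : i ∈ Finset.univ.filter (fun i => m i ≠ r) :=
        Finset.mem_filter.2 ⟨Finset.mem_univ _, hi⟩
      rw [Finset.card_eq_zero.1 hN] at this
      exact absurd this (Finset.notMem_empty _)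
    rw [hm]
  | succ N ih =>
    intro m hN
    have hne : (Finset.univ.filter (fun i => m i ≠ r)).Nonempty :=
      Finset.card_pos.1 (by omega)
    obtain ⟨i, himem⟩ := hne
    have hi : m i ≠ r := (Finset.mem_filter.1 himem).2
    have hadj : ConicAdj (mkTree h0 m) (mkTree h0 (Function.update m i r)) :=
      conicAdj_mark h0 m i hi
    refine ReflTransGen.head hadj (ih _ ?_)
    have : Finset.univ.filter (fun j => Function.update m i r j ≠ r) =
        (Finset.univ.filter (fun j => m j ≠ r)).erase i := by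
      ext j
      by_cases hj : j = i
      · subst hj
        simp
      · simp [hj]
    rw [this, Finset.card_erase_of_mem himem, hN]
    rfl

open Relation in
lemma rtg_symm {T₁ T₂ : MarkedTree k} (h : ReflTransGen ConicAdj T₁ T₂) :
    ReflTransGen ConicAdj T₂ T₁ := by
  induction h with
  | refl => exact .refl
  | tail _ hbc ih => exact ReflTransGen.head (conicAdj_symm hbc) ih

open Relation in
theorem connected (T₁ T₂ : MarkedTree k) (h : T₁.n = T₂.n) :
    ReflTransGen ConicAdj T₁ T₂ := by
  obtain ⟨n, G₁, hG₁, m₁⟩ := T₁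
  obtain ⟨n₂, G₂, hG₂, m₂⟩ := T₂
  change n = n₂ at h
  subst h
  have hn : 0 < n := by
    obtain ⟨v⟩ := hG₁.connected.nonempty
    exact v.pos
  obtain ⟨d₁, p₁, hv₁, rfl⟩ := exists_valid G₁ hG₁ ⟨0, hn⟩
  obtain ⟨d₂, p₂, hv₂, rfl⟩ := exists_valid G₂ hG₂ ⟨0, hn⟩
  have c₁ : ReflTransGen ConicAdj (mkTree hv₁ m₁) (mkTree hv₁.star (fun _ => ⟨0, hn⟩)) :=
    (to_star hv₁ m₁).trans (star_marks_aux hv₁.star _ m₁ rfl)
  have c₂ : ReflTransGen ConicAdj (mkTree hv₂ m₂) (mkTree hv₂.star (fun _ => ⟨0, hn⟩)) :=
    (to_star hv₂ m₂).trans (star_marks_aux hv₂.star _ m₂ rfl)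
  have e : mkTree (k := k) hv₁.star (fun _ => ⟨0, hn⟩) = mkTree hv₂.star (fun _ => ⟨0, hn⟩) :=
    mkTree_congr _ _ _ _ rfl rfl
  have c₂' := rtg_symm c₂
  rw [← e] at c₂'
  change ReflTransGen ConicAdj (mkTree hv₁ m₁) (mkTree hv₂ m₂)
  exact c₁.trans c₂'

end ConicTree

end Groth.Agent.Lib.Helper82
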