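import Groth.Prelude.Def_W4c3irrattreebunCvg
import Mathlib

set_option autoImplicit false

/-!
Covering gonality does not change when the ground field is replaced by the field of constants.
-/

namespace Groth.Agent.Lib.Helper82

open W4c3irrattreebun

universe u

lemma sInf_eq_of_cofinal {S T : Set ℕ} (h1 : T ⊆ S) (h2 : ∀ e ∈ S, ∃ e' ∈ T, e' ≤ e) :
    sInf S = sInf T := by
  by_cases hS : S.Nonempty
  · have hm : sInf S ∈ S := Nat.sInf_mem hS
    obtain ⟨e', he'T, he'⟩ := h2 _ hm
    have h3 : sInf S ≤ e' := Nat.sInf_le (h1 he'T)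
    have h4 : e' = sInf S := le_antisymm he' h3
    have hmT : sInf S ∈ T := h4 ▸ he'T
    have h5 : sInf T ≤ sInf S := Nat.sInf_le hmT
    have h6 : sInf T ∈ T := Nat.sInf_mem ⟨_, hmT⟩
    have h7 : sInf S ≤ sInf T := Nat.sInf_le (h1 h6)
    exact le_antisymm h7 h5
  · have hS' : S = ∅ := Set.not_nonempty_iff_eq_empty.1 hS
    have hT' : T = ∅ := by
      rw [Set.eq_empty_iff_forall_notMem]
      intro x hx
      exact hS ⟨x, h1 hx⟩
    rw [hS', hT']

/-- If the image of `A` in `L` is contained in the image of `B`, then `L` is finite over `B` of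
smaller degree. -/
lemma finrank_le_of_range_le {A B L : Type*} [Field A] [Field B] [Field L] [Algebra A L]
    [Algebra B L] (h : ∀ a : A, ∃ b : B, algebraMap B L b = algebraMap A L a)
    [Module.Finite A L] :
    Module.Finite B L ∧ Module.finrank B L ≤ Module.finrank A L := by
  classical
  let b := Module.finBasis A L
  have hspan : Submodule.span B (Set.range b) = ⊤ := by
    rw [eq_top_iff]
    rintro x -
    have hx : x ∈ Submodule.span A (Set.range b) := by rw [b.span_eq]; trivial
    induction hx using Submodule.span_induction with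
    | mem y hy => exact Submodule.subset_span hy
    | zero => exact Submodule.zero_mem _
    | add y z _ _ hy hz => exact Submodule.add_mem _ hy hz
    | smul a y _ hy =>
      obtain ⟨c, hc⟩ := h a
      have : a • y = c • y := by rw [Algebra.smul_def, Algebra.smul_def, hc]
      rw [this]
      exact Submodule.smul_mem _ _ hy
  refine ⟨Module.finite_def.2 ⟨Finset.univ.image b, ?_⟩, ?_⟩
  · rw [Finset.coe_image, Finset.coe_univ, Set.image_univ]; exact hspan
  · have := finrank_le_of_span_eq_top hspan
    rwa [Fintype.card_fin] at this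

variable (k K : Type u) [Field k] [Field K] [Algebra k K]

theorem covDiag_down {e : ℕ} (D : CovDiag.{u} (algebraicClosure k K) K e) :
    ∃ D' : CovDiag.{u} k K e, (Algebra.IsSeparable K D.KC → Algebra.IsSeparable K D'.KC) := by
  have e1 : @algebraMap (algebraicClosure k K) D.KC _ _ D.algkC =
      (algebraMap K D.KC).comp (algebraMap (algebraicClosure k K) K) :=
    @IsScalarTower.algebraMap_eq (algebraicClosure k K) K D.KC _ _ _ _ _ D.algkC D.towerK
  have e2 : @algebraMap (algebraicClosure k K) D.KC _ _ D.algkC =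
      (algebraMap D.KB D.KC).comp (algebraMap (algebraicClosure k K) D.KB) :=
    @IsScalarTower.algebraMap_eq (algebraicClosure k K) D.KB D.KC _ _ _ D.algkB D.algBC D.algkC
      D.towerB
  let algkC : Algebra k D.KC :=
    ((@algebraMap (algebraicClosure k K) D.KC _ _ D.algkC).comp
      (algebraMap k (algebraicClosure k K))).toAlgebra
  let algkB : Algebra k D.KB :=
    ((algebraMap (algebraicClosure k K) D.KB).comp
      (algebraMap k (algebraicClosure k K))).toAlgebra
  have towerK : IsScalarTower k K D.KC := IsScalarTower.of_algebraMap_eq (fun x => by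
    show @algebraMap (algebraicClosure k K) D.KC _ _ D.algkC
        (algebraMap k (algebraicClosure k K) x) = algebraMap K D.KC (algebraMap k K x)
    rw [e1]
    rfl)
  have towerB : IsScalarTower k D.KB D.KC := IsScalarTower.of_algebraMap_eq (fun x => by
    show @algebraMap (algebraicClosure k K) D.KC _ _ D.algkC
        (algebraMap k (algebraicClosure k K) x) =
      algebraMap D.KB D.KC
        (algebraMap (algebraicClosure k K) D.KB (algebraMap k (algebraicClosure k K) x))
    rw [e2]
    rfl)
  exact ⟨@CovDiag.mk k K _ _ _ e D.KC D.KB _ _ _ algkC towerK algkB _ towerB _ D.t D.transc _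
    D.finrank_eq, fun h => h⟩

theorem covDiag_up {e : ℕ} (D : CovDiag.{u} k K e) :
    ∃ e' ≤ e, ∃ D' : CovDiag.{u} (algebraicClosure k K) K e',
      (Algebra.IsSeparable K D.KC → Algebra.IsSeparable K D'.KC) := by
  let KB' : IntermediateField D.KB D.KC := algebraicClosure D.KB D.KC
  have hmem : ∀ x : algebraicClosure k K,
      algebraMap (algebraicClosure k K) D.KC x ∈ KB' := by
    intro x
    have hx : IsAlgebraic k (x : K) := (mem_algebraicClosure_iff).1 x.2
    have h1 : IsAlgebraic k (algebraMap K D.KC x) := hx.algebraMap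
    have h2 : IsAlgebraic D.KB (algebraMap K D.KC x) := h1.tower_top D.KB
    exact mem_algebraicClosure_iff.2 h2
  let algkB : Algebra (algebraicClosure k K) KB' :=
    ((algebraMap (algebraicClosure k K) D.KC).codRestrict KB' hmem).toAlgebra
  have towerB : IsScalarTower (algebraicClosure k K) KB' D.KC :=
    IsScalarTower.of_algebraMap_eq (fun x => rfl)
  have halg : Algebra.IsAlgebraic D.KB KB' := algebraicClosure.isAlgebraic D.KB D.KC
  have htr : Transcendental KB' D.t := fun h => D.transc (h.restrictScalars D.KB)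
  have hle : ∀ a : IntermediateField.adjoin D.KB ({D.t} : Set D.KC),
      ∃ b : IntermediateField.adjoin KB' ({D.t} : Set D.KC),
        algebraMap (IntermediateField.adjoin KB' ({D.t} : Set D.KC)) D.KC b =
          algebraMap (IntermediateField.adjoin D.KB ({D.t} : Set D.KC)) D.KC a := by
    intro a
    have hsub : IntermediateField.adjoin D.KB ({D.t} : Set D.KC) ≤
        (IntermediateField.adjoin KB' ({D.t} : Set D.KC)).restrictScalars D.KB := by
      rw [IntermediateField.adjoin_le_iff]
      rintro _ rfl
      exact IntermediateField.mem_adjoin_simple_self KB' D.t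
    exact ⟨⟨a.1, hsub a.2⟩, rfl⟩
  obtain ⟨hfin, hrank⟩ := finrank_le_of_range_le hle
  refine ⟨Module.finrank (IntermediateField.adjoin KB' ({D.t} : Set D.KC)) D.KC, ?_, ?_⟩
  · exact hrank.trans D.finrank_eq.le
  · exact ⟨@CovDiag.mk (algebraicClosure k K) K _ _ _ _ D.KC KB' _ _ _ _ inferInstance algkB _
      towerB _ D.t htr hfin rfl, fun h => h⟩

theorem cvg_eq : cvg k K = cvg (algebraicClosure k K) K := by
  unfold cvg
  apply sInf_eq_of_cofinal
  · rintro e ⟨D⟩
    obtain ⟨D', -⟩ := covDiag_down k K D
    exact ⟨D'⟩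
  · rintro e ⟨D⟩
    obtain ⟨e', he', D', -⟩ := covDiag_up k K D
    exact ⟨e', ⟨D'⟩, he'⟩

theorem scvg_eq : scvg k K = scvg (algebraicClosure k K) K := by
  unfold scvg
  apply sInf_eq_of_cofinal
  · rintro e ⟨D, hD⟩
    obtain ⟨D', h⟩ := covDiag_down k K D
    exact ⟨D', h hD⟩
  · rintro e ⟨D, hD⟩
    obtain ⟨e', he', D', h⟩ := covDiag_up k K D
    exact ⟨e', ⟨D', h hD⟩, he'⟩

end Groth.Agent.Lib.Helper82
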