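import Groth.Prelude.Def_W4c3biextchowCx
import Groth.Agent.Lib.Helper82.ModHomology

set_option autoImplicit false

/-!
Concrete reformulations of the properties of `W4c3biextchow.cxFunctor` and of injectivity /
surjectivity of the maps on `H₀`, `H₁` of ℕ-indexed chain complexes of modules.
-/

namespace Groth.Agent.Lib.Helper82

open CategoryTheory HomologicalComplex W4c3biextchow

universe v u

variable {R : Type u} [Ring R] {C D : ChainComplex (ModuleCat.{v} R) ℕ} (f : C ⟶ D)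

lemma next_one : (ComplexShape.down ℕ).next 1 = 0 := by simp
lemma prev_one : (ComplexShape.down ℕ).prev 1 = 2 := by simp
lemma next_zero : (ComplexShape.down ℕ).next 0 = 0 := by simp
lemma prev_zero : (ComplexShape.down ℕ).prev 0 = 1 := by simp

lemma d_zero_zero (C : ChainComplex (ModuleCat.{v} R) ℕ) (x : C.X 0) : (C.d 0 0).hom x = 0 := by
  rw [C.shape 0 0 (by simp)]
  rfl

/-- Injectivity on `H₁`, concretely. -/
lemma mono_homologyMap_one_iff :
    Mono (homologyMap f 1) ↔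
      ∀ x : C.X 1, (C.d 1 0).hom x = 0 → (∃ y : D.X 2, (D.d 2 1).hom y = (f.f 1).hom x) →
        ∃ y' : C.X 2, (C.d 2 1).hom y' = x := by
  rw [ModuleCat.mono_iff_injective, injective_iff_map_eq_zero]
  constructor
  · intro h x hx hy
    have h1 := h (hcl C 1 0 next_one x hx)
    rw [homologyMap_hcl f 1 0 next_one x hx, hcl_eq_zero_iff D 1 0 next_one 2 prev_one,
      hcl_eq_zero_iff C 1 0 next_one 2 prev_one] at h1
    exact h1 hy
  · intro h a
    obtain ⟨x, hx, rfl⟩ := hcl_surjective C 1 0 next_one a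
    rw [homologyMap_hcl f 1 0 next_one x hx, hcl_eq_zero_iff D 1 0 next_one 2 prev_one,
      hcl_eq_zero_iff C 1 0 next_one 2 prev_one]
    exact h x hx

/-- Surjectivity on `H₁`, concretely. -/
lemma epi_homologyMap_one_iff :
    Epi (homologyMap f 1) ↔
      ∀ y : D.X 1, (D.d 1 0).hom y = 0 →
        ∃ (x : C.X 1) (z : D.X 2), (C.d 1 0).hom x = 0 ∧ y = (f.f 1).hom x + (D.d 2 1).hom z := by
  rw [ModuleCat.epi_iff_surjective]
  constructor
  · intro h y hy
    obtain ⟨a, ha⟩ := h (hcl D 1 0 next_one y hy)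
    obtain ⟨x, hx, rfl⟩ := hcl_surjective C 1 0 next_one a
    rw [homologyMap_hcl f 1 0 next_one x hx] at ha
    have h0 : hcl D 1 0 next_one (y - (f.f 1).hom x)
        (by rw [map_sub, hy, d_map_eq_zero f 1 0 x hx, sub_zero]) = 0 := by
      rw [hcl_sub D 1 0 next_one y _ hy (d_map_eq_zero f 1 0 x hx), ha, sub_self]
    rw [hcl_eq_zero_iff D 1 0 next_one 2 prev_one] at h0
    obtain ⟨z, hz⟩ := h0
    exact ⟨x, z, hx, by rw [hz]; abel⟩
  · intro h b
    obtain ⟨y, hy, rfl⟩ := hcl_surjective D 1 0 next_one b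
    obtain ⟨x, z, hx, hxy⟩ := h y hy
    refine ⟨hcl C 1 0 next_one x hx, ?_⟩
    rw [homologyMap_hcl f 1 0 next_one x hx]
    have h0 : hcl D 1 0 next_one (y - (f.f 1).hom x)
        (by rw [map_sub, hy, d_map_eq_zero f 1 0 x hx, sub_zero]) = 0 := by
      rw [hcl_eq_zero_iff D 1 0 next_one 2 prev_one]
      exact ⟨z, by rw [hxy]; abel⟩
    rw [hcl_sub D 1 0 next_one y _ hy (d_map_eq_zero f 1 0 x hx), sub_eq_zero] at h0
    exact h0.symm

/-- Injectivity on `H₀`, concretely. -/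
lemma mono_homologyMap_zero_iff :
    Mono (homologyMap f 0) ↔
      ∀ x : C.X 0, (∃ y : D.X 1, (D.d 1 0).hom y = (f.f 0).hom x) →
        ∃ y' : C.X 1, (C.d 1 0).hom y' = x := by
  rw [ModuleCat.mono_iff_injective, injective_iff_map_eq_zero]
  constructor
  · intro h x hy
    have h1 := h (hcl C 0 0 next_zero x (d_zero_zero C x))
    rw [homologyMap_hcl f 0 0 next_zero x _, hcl_eq_zero_iff D 0 0 next_zero 1 prev_zero,
      hcl_eq_zero_iff C 0 0 next_zero 1 prev_zero] at h1
    exact h1 hy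
  · intro h a
    obtain ⟨x, hx, rfl⟩ := hcl_surjective C 0 0 next_zero a
    rw [homologyMap_hcl f 0 0 next_zero x hx, hcl_eq_zero_iff D 0 0 next_zero 1 prev_zero,
      hcl_eq_zero_iff C 0 0 next_zero 1 prev_zero]
    exact h x

/-- Surjectivity on `H₀`, concretely. -/
lemma epi_homologyMap_zero_iff :
    Epi (homologyMap f 0) ↔
      ∀ y : D.X 0, ∃ (x : C.X 0) (z : D.X 1), y = (f.f 0).hom x + (D.d 1 0).hom z := by
  rw [ModuleCat.epi_iff_surjective]
  constructor
  · intro h y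
    obtain ⟨a, ha⟩ := h (hcl D 0 0 next_zero y (d_zero_zero D y))
    obtain ⟨x, hx, rfl⟩ := hcl_surjective C 0 0 next_zero a
    rw [homologyMap_hcl f 0 0 next_zero x hx] at ha
    have h0 : hcl D 0 0 next_zero (y - (f.f 0).hom x) (d_zero_zero D _) = 0 := by
      rw [hcl_sub D 0 0 next_zero y _ (d_zero_zero D y) (d_map_eq_zero f 0 0 x hx), ha, sub_self]
    rw [hcl_eq_zero_iff D 0 0 next_zero 1 prev_zero] at h0
    obtain ⟨z, hz⟩ := h0
    exact ⟨x, z, by rw [hz]; abel⟩
  · intro h b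
    obtain ⟨y, hy, rfl⟩ := hcl_surjective D 0 0 next_zero b
    obtain ⟨x, z, hxy⟩ := h y
    refine ⟨hcl C 0 0 next_zero x (d_zero_zero C x), ?_⟩
    rw [homologyMap_hcl f 0 0 next_zero x _]
    have h0 : hcl D 0 0 next_zero (y - (f.f 0).hom x) (d_zero_zero D _) = 0 := by
      rw [hcl_eq_zero_iff D 0 0 next_zero 1 prev_zero]
      exact ⟨z, by rw [hxy]; abel⟩
    rw [hcl_sub D 0 0 next_zero y _ hy (d_map_eq_zero f 0 0 x (d_zero_zero C x)), sub_eq_zero] at h0
    exact h0.symm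

end Groth.Agent.Lib.Helper82
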