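import Groth.Prelude.Def_W4c3biextchowCx
import Mathlib

set_option autoImplicit false

/-!
A chain homotopy between chain maps of ℕ-indexed complexes of modules induces a natural
isomorphism between the functors `W4c3biextchow.cxFunctor` on the attached groupoids.
-/

namespace Groth.Agent.Lib.Helper82

open CategoryTheory HomologicalComplex W4c3biextchow

universe v u

variable {R : Type u} [Ring R] {C D : ChainComplex (ModuleCat.{v} R) ℕ}

/-- every morphism of the groupoid of a complex is an isomorphism -/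
def homIso {a b : Obj C} (φ : a ⟶ b) : a ≅ b where
  hom := φ
  inv := (⟨-(φ : Hom C a b).cl, by rw [map_neg, (φ : Hom C a b).delta_cl]; abel⟩ : Hom C b a)
  hom_inv_id := W4c3biextchow.Hom.ext (by
    show (φ : Hom C a b).cl + -(φ : Hom C a b).cl = 0
    abel)
  inv_hom_id := W4c3biextchow.Hom.ext (by
    show -(φ : Hom C a b).cl + (φ : Hom C a b).cl = 0
    abel)

lemma homotopy_comm_zero {φ ψ : C ⟶ D} (H : Homotopy φ ψ) (a : C.X 0) :
    (φ.f 0).hom a = (D.d 1 0).hom ((H.hom 0 1).hom a) + (ψ.f 0).hom a := by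
  have h := H.comm 0
  rw [Homotopy.dNext_zero_chainComplex, Homotopy.prevD_chainComplex] at h
  have := LinearMap.congr_fun (congrArg ModuleCat.Hom.hom h) a
  simpa using this

lemma homotopy_comm_one {φ ψ : C ⟶ D} (H : Homotopy φ ψ) (x : C.X 1) :
    (φ.f 1).hom x = (H.hom 0 1).hom ((C.d 1 0).hom x) + (D.d 2 1).hom ((H.hom 1 2).hom x)
      + (ψ.f 1).hom x := by
  have h := H.comm 1
  rw [Homotopy.dNext_succ_chainComplex, Homotopy.prevD_chainComplex] at h
  have := LinearMap.congr_fun (congrArg ModuleCat.Hom.hom h) x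
  simpa using this

/-- the component of the natural transformation attached to a homotopy -/
def homotopyComponent {φ ψ : C ⟶ D} (H : Homotopy φ ψ) (a : Obj C) :
    (cxFunctor φ).obj a ⟶ (cxFunctor ψ).obj a :=
  (⟨-Submodule.Quotient.mk ((H.hom 0 1).hom a.pt), by
    rw [map_neg, delta_mk, cxFunctor_obj_pt, cxFunctor_obj_pt, homotopy_comm_zero H a.pt]
    abel⟩ : Hom D _ _)

lemma homotopyComponent_cl {φ ψ : C ⟶ D} (H : Homotopy φ ψ) (a : Obj C) :
    (homotopyComponent H a : Hom D _ _).cl = -Submodule.Quotient.mk ((H.hom 0 1).hom a.pt) := rfl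

/-- the natural isomorphism attached to a homotopy -/
def natIsoOfHomotopy {φ ψ : C ⟶ D} (H : Homotopy φ ψ) : cxFunctor φ ≅ cxFunctor ψ :=
  NatIso.ofComponents (fun a => homIso (homotopyComponent H a)) (by
    intro a b w
    apply W4c3biextchow.Hom.ext
    show q1Map φ (w : Hom C a b).cl + -Submodule.Quotient.mk ((H.hom 0 1).hom b.pt) =
      -Submodule.Quotient.mk ((H.hom 0 1).hom a.pt) + q1Map ψ (w : Hom C a b).cl
    obtain ⟨x, hx⟩ := Submodule.Quotient.mk_surjective _ (w : Hom C a b).cl
    have hd : (C.d 1 0).hom x = b.pt - a.pt := by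
      have := (w : Hom C a b).delta_cl
      rw [← hx, delta_mk] at this
      exact this
    rw [← hx, q1Map_mk, q1Map_mk, homotopy_comm_one H x, hd, map_sub]
    have h0 : (Submodule.Quotient.mk ((D.d 2 1).hom ((H.hom 1 2).hom x)) : Q1 D) = 0 := by
      rw [Submodule.Quotient.mk_eq_zero]
      exact ⟨_, rfl⟩
    rw [Submodule.Quotient.mk_add, Submodule.Quotient.mk_add, h0, Submodule.Quotient.mk_sub]
    abel)

lemma natIsoOfHomotopy_hom_app_cl {φ ψ : C ⟶ D} (H : Homotopy φ ψ) (a : Obj C) :
    ((natIsoOfHomotopy H).hom.app a : Hom D _ _).cl =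
      -Submodule.Quotient.mk ((H.hom 0 1).hom a.pt) := rfl

end Groth.Agent.Lib.Helper82
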