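import Mathlib

/-!
# Truncated Dieudonné modules: kernel/image lemmas (helper82)
-/

set_option autoImplicit false
universe u v

namespace Groth.Agent.Lib.Helper82

namespace Dieudonne

open WittVector

variable (p : ℕ) [Fact p.Prime] (k : Type u) [CommRing k] [CharP k p] [PerfectRing k p]

lemma p_mul_eq_zero {x : WittVector p k} (h : (p : WittVector p k) * x = 0) : x = 0 := by
  rw [mul_comm] at h
  ext i
  have h1 := mul_charP_coeff_succ (p := p) x i
  rw [h] at h1
  simp only [zero_coeff] at h1 ⊢
  have hinj := (PerfectRing.bijective_frobenius (R := k) (p := p)).1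
  apply hinj
  simp only [zero_pow (Fact.out : p.Prime).ne_zero]
  exact h1.symm

lemma p_pow_mul_cancel (m : ℕ) {x y : WittVector p k}
    (h : (p : WittVector p k) ^ m * x = (p : WittVector p k) ^ m * y) : x = y := by
  induction m with
  | zero => simpa using h
  | succ m ih =>
    apply ih
    have : (p : WittVector p k) * ((p : WittVector p k) ^ m * x - (p : WittVector p k) ^ m * y)
        = 0 := by
      rw [mul_sub, ← mul_assoc, ← mul_assoc, ← pow_succ', h, sub_self]
    exact sub_eq_zero.1 (p_mul_eq_zero p k this)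

/-- In `W/p^n`, the `p`-torsion is `p^(n-1)`-divisible. -/
lemma quot_torsion (n : ℕ) (hn : 1 ≤ n)
    (c : WittVector p k ⧸ Ideal.span {(p : WittVector p k) ^ n})
    (hc : (Ideal.Quotient.mk _ (p : WittVector p k)) * c = 0) :
    ∃ c', c = (Ideal.Quotient.mk _ (p : WittVector p k)) ^ (n - 1) * c' := by
  obtain ⟨a, rfl⟩ := Ideal.Quotient.mk_surjective c
  rw [← map_mul, Ideal.Quotient.eq_zero_iff_mem, Ideal.mem_span_singleton'] at hc
  obtain ⟨b, hb⟩ := hc
  refine ⟨Ideal.Quotient.mk _ b, ?_⟩
  rw [← map_pow, ← map_mul]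
  congr 1
  apply p_pow_mul_cancel p k 1
  rw [pow_one, ← hb, ← mul_assoc, ← pow_succ', Nat.sub_add_cancel hn, mul_comm]

section Module

variable {p k}
variable {n : ℕ} {M : Type v} [AddCommGroup M] [Module (WittVector p k) M]
  [Module (WittVector p k ⧸ Ideal.span {(p : WittVector p k) ^ n}) M]
  [IsScalarTower (WittVector p k) (WittVector p k ⧸ Ideal.span {(p : WittVector p k) ^ n}) M]

omit [CharP k p] [PerfectRing k p] in
lemma mk_smul (a : WittVector p k) (x : M) :
    (Ideal.Quotient.mk (Ideal.span {(p : WittVector p k) ^ n}) a) • x = a • x := by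
  have : Ideal.Quotient.mk (Ideal.span {(p : WittVector p k) ^ n}) a =
      a • (1 : WittVector p k ⧸ Ideal.span {(p : WittVector p k) ^ n}) := by
    rw [Algebra.smul_def, mul_one]
    rfl
  rw [this, smul_assoc, one_smul]

/-- The `p`-torsion of a projective `W/p^n`-module is `p^(n-1)`-divisible. -/
lemma torsion_divisible (hn : 1 ≤ n)
    [Module.Projective (WittVector p k ⧸ Ideal.span {(p : WittVector p k) ^ n}) M]
    (x : M) (hx : (p : WittVector p k) • x = 0) :
    ∃ z : M, x = (p : WittVector p k) ^ (n - 1) • z := by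
  classical
  obtain ⟨s, hs⟩ := (Module.projective_def'
    (R := WittVector p k ⧸ Ideal.span {(p : WittVector p k) ^ n}) (P := M)).1 inferInstance
  have hx' : (Ideal.Quotient.mk (Ideal.span {(p : WittVector p k) ^ n}) (p : WittVector p k)) • x
      = 0 := by rw [mk_smul, hx]
  have hf : ∀ m : M, Ideal.Quotient.mk (Ideal.span {(p : WittVector p k) ^ n})
      (p : WittVector p k) * (s x) m = 0 := by
    intro m
    have := congrArg (fun f : M →₀ _ => f m) (congrArg s hx')
    simpa using this
  choose g hg using fun m => quot_torsion p k n hn (s x m) (hf m)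
  refine ⟨∑ m ∈ (s x).support, g m • m, ?_⟩
  have h1 : x = Finsupp.linearCombination _ id (s x) := by
    have := LinearMap.congr_fun hs x
    simpa using this.symm
  rw [← mk_smul (n := n), map_pow, Finset.smul_sum]
  conv_lhs => rw [h1, Finsupp.linearCombination_apply, Finsupp.sum]
  refine Finset.sum_congr rfl fun m _ => ?_
  rw [id, smul_smul, ← hg m]

end Module

section General

variable {W : Type*} [CommRing W] {M : Type*} [AddCommGroup M] [Module W M]

lemma mem_span_smul_top (π : W) (x : M) :
    x ∈ Ideal.span {π} • (⊤ : Submodule W M) ↔ ∃ y : M, π • y = x := by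
  rw [Submodule.ideal_span_singleton_smul, Submodule.mem_smul_pointwise_iff_exists]
  simp

/-- If `VF = FV = π`, `π` is fixed by the twists and the `π`-torsion of `M` lies in `πM`, then the
preimage of `πM` under `F` is `VM + πM`. -/
lemma comap_eq (π : W) {σ τ : W →+* W} (hσ : σ π = π) (hτ : τ π = π)
    (F : M →ₛₗ[σ] M) (V : M →ₛₗ[τ] M) (hFV : ∀ m, F (V m) = π • m) (hVF : ∀ m, V (F m) = π • m)
    (htors : ∀ x : M, π • x = 0 → ∃ z, x = π • z) :
    (Ideal.span {π} • (⊤ : Submodule W M)).comap F =
      Submodule.span W (Set.range V) ⊔ Ideal.span {π} • (⊤ : Submodule W M) := by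
  apply le_antisymm
  · intro x hx
    rw [Submodule.mem_comap, mem_span_smul_top] at hx
    obtain ⟨y, hy⟩ := hx
    have h0 : π • (x - V y) = 0 := by
      rw [smul_sub, ← hVF x, ← hy, V.map_smulₛₗ, hτ, sub_self]
    obtain ⟨z, hz⟩ := htors _ h0
    have hx' : x = V y + π • z := by
      rw [← hz]
      abel
    rw [hx']
    exact Submodule.add_mem_sup (Submodule.subset_span ⟨y, rfl⟩)
      ((mem_span_smul_top π _).2 ⟨z, rfl⟩)
  · refine sup_le (Submodule.span_le.2 ?_) ?_
    · rintro _ ⟨m, rfl⟩
      rw [SetLike.mem_coe, Submodule.mem_comap, hFV]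
      exact (mem_span_smul_top π _).2 ⟨m, rfl⟩
    · intro x hx
      obtain ⟨y, rfl⟩ := (mem_span_smul_top π _).1 hx
      rw [Submodule.mem_comap, F.map_smulₛₗ, hσ]
      exact (mem_span_smul_top π _).2 ⟨_, rfl⟩

end General

end Dieudonne

end Groth.Agent.Lib.Helper82
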