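import Mathlib

/-!
# A splitting criterion: `N/L` is projective if `L ∩ P N = P L` for all maximal ideals `P`

* `tmul_eq_zero_iff`: for a surjective `R`-algebra `S`, `1 ⊗ x = 0` in `S ⊗ X` iff `x ∈ (ker) X`.
* `projective_quotient_of_forall_inf_le`: `N` finite projective, `L ≤ N` finitely generated with
  `L ⊓ P • ⊤ ≤ P • L` for every maximal ideal `P`; then `N ⧸ L` is projective.
-/

set_option autoImplicit false

namespace Groth.Agent.Lib.Helper82.ProjQuot

open TensorProduct

universe u v

section Tmul

variable {R : Type*} {S : Type*} {X : Type*} [CommRing R] [CommRing S] [Algebra R S]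
  [AddCommGroup X] [Module R X]

theorem tmul_eq_zero_of_mem (x : X)
    (hx : x ∈ (RingHom.ker (algebraMap R S)) • (⊤ : Submodule R X)) :
    (1 : S) ⊗ₜ[R] x = 0 := by
  refine Submodule.smul_induction_on hx (fun a ha y _ => ?_) (fun y z hy hz => ?_)
  · rw [TensorProduct.tmul_smul, TensorProduct.smul_tmul', Algebra.smul_def, mul_one,
      (RingHom.mem_ker).mp ha, TensorProduct.zero_tmul]
  · rw [TensorProduct.tmul_add, hy, hz, add_zero]

theorem mem_of_tmul_eq_zero (hS : Function.Surjective (algebraMap R S)) (x : X)
    (hx : (1 : S) ⊗ₜ[R] x = 0) :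
    x ∈ (RingHom.ker (algebraMap R S)) • (⊤ : Submodule R X) := by
  let e : (R ⧸ RingHom.ker (algebraMap R S)) ≃ₗ[R] S :=
    (Ideal.quotientKerAlgEquivOfSurjective (f := Algebra.ofId R S) hS).toLinearEquiv
  have he : e 1 = 1 := map_one (Ideal.quotientKerAlgEquivOfSurjective (f := Algebra.ofId R S) hS)
  let ψ : S ⊗[R] X →ₗ[R] X ⧸ ((RingHom.ker (algebraMap R S)) • (⊤ : Submodule R X)) :=
    (TensorProduct.quotTensorEquivQuotSMul X (RingHom.ker (algebraMap R S))).toLinearMap ∘ₗ
      (LinearMap.rTensor X e.symm.toLinearMap)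
  have h1 : ψ ((1 : S) ⊗ₜ[R] x) = Submodule.Quotient.mk x := by
    simp only [ψ, LinearMap.coe_comp, LinearEquiv.coe_coe, Function.comp_apply,
      LinearMap.rTensor_tmul]
    rw [← he, LinearEquiv.symm_apply_apply]
    exact TensorProduct.quotTensorEquivQuotSMul_mk_one_tmul _ x
  rw [hx, map_zero] at h1
  exact (Submodule.Quotient.mk_eq_zero _).mp h1.symm

theorem tmul_eq_zero_iff (hS : Function.Surjective (algebraMap R S)) (x : X) :
    (1 : S) ⊗ₜ[R] x = 0 ↔ x ∈ (RingHom.ker (algebraMap R S)) • (⊤ : Submodule R X) :=
  ⟨mem_of_tmul_eq_zero hS x, tmul_eq_zero_of_mem x⟩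

end Tmul

section Local

variable {R : Type u} [CommRing R] {N : Type v} [AddCommGroup N] [Module R N] (L : Submodule R N)

theorem mem_smul_top_of_mem_smul (P : Ideal R) (l : L) (hl : (l : N) ∈ P • L) :
    l ∈ P • (⊤ : Submodule R L) := by
  have h1 : (P • (⊤ : Submodule R L)).map L.subtype = P • L := by
    rw [Submodule.map_smul'', Submodule.map_subtype_top]
  rw [← h1] at hl
  obtain ⟨l', hl', hll'⟩ := hl
  have : l' = l := Subtype.ext hll'
  rwa [this] at hl'

theorem lTensor_residueField_injective (P : Ideal R) [P.IsMaximal]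
    (h : L ⊓ (P • ⊤) ≤ P • L) :
    Function.Injective ((L.subtype.baseChange (Localization.AtPrime P)).lTensor
      P.ResidueField) := by
  have hS : Function.Surjective (algebraMap R P.ResidueField) :=
    Ideal.algebraMap_residueField_surjective P
  have hker : RingHom.ker (algebraMap R P.ResidueField) = P := Ideal.ker_algebraMap_residueField P
  rw [injective_iff_map_eq_zero]
  intro ξ hξ
  obtain ⟨x, rfl⟩ := TensorProduct.mk_surjective (Localization.AtPrime P)
    ((Localization.AtPrime P) ⊗[R] L) P.ResidueField IsLocalRing.residue_surjective ξ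
  have hloc : IsLocalizedModule P.primeCompl (TensorProduct.mk R (Localization.AtPrime P) L 1) :=
    (isLocalizedModule_iff_isBaseChange P.primeCompl (Localization.AtPrime P) _).mpr
      (TensorProduct.isBaseChange R L (Localization.AtPrime P))
  obtain ⟨⟨l, s⟩, hs⟩ := IsLocalizedModule.surj P.primeCompl
    (TensorProduct.mk R (Localization.AtPrime P) L 1) x
  simp only [TensorProduct.mk_apply] at hs hξ
  rw [LinearMap.lTensor_tmul] at hξ
  -- the unit
  have hsu : IsUnit (algebraMap R P.ResidueField (s : R)) := by
    rw [isUnit_iff_ne_zero]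
    intro h0
    have : (s : R) ∈ RingHom.ker (algebraMap R P.ResidueField) := h0
    rw [hker] at this
    exact s.2 this
  -- `1 ⊗ (1 ⊗ l) = 0` in `κ ⊗ (A ⊗ N)`
  have h1 : (1 : P.ResidueField) ⊗ₜ[Localization.AtPrime P]
      ((1 : Localization.AtPrime P) ⊗ₜ[R] (l : N)) = 0 := by
    have h2 : (L.subtype.baseChange (Localization.AtPrime P)) (s • x) =
        (1 : Localization.AtPrime P) ⊗ₜ[R] (l : N) := by
      rw [hs, LinearMap.baseChange_tmul, Submodule.subtype_apply]
    rw [← h2, Submonoid.smul_def, ← algebraMap_smul (Localization.AtPrime P) (s : R) x, map_smul,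
      TensorProduct.tmul_smul, hξ, smul_zero]
  -- transport to `κ ⊗[R] N`
  have h3 : (1 : P.ResidueField) ⊗ₜ[R] (l : N) = 0 := by
    have := congrArg (TensorProduct.AlgebraTensorModule.cancelBaseChange R (Localization.AtPrime P)
      P.ResidueField P.ResidueField N) h1
    rw [TensorProduct.AlgebraTensorModule.cancelBaseChange_tmul, one_smul, map_zero] at this
    exact this
  have h4 : (l : N) ∈ P • (⊤ : Submodule R N) := by
    have := mem_of_tmul_eq_zero hS _ h3
    rwa [hker] at this
  have h5 : l ∈ P • (⊤ : Submodule R L) :=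
    mem_smul_top_of_mem_smul L P l (h ⟨l.2, h4⟩)
  have h6 : (1 : P.ResidueField) ⊗ₜ[R] l = 0 := by
    apply tmul_eq_zero_of_mem
    rwa [hker]
  have h7 : (1 : P.ResidueField) ⊗ₜ[Localization.AtPrime P]
      ((1 : Localization.AtPrime P) ⊗ₜ[R] l) = 0 := by
    have := congrArg (TensorProduct.AlgebraTensorModule.cancelBaseChange R (Localization.AtPrime P)
      P.ResidueField P.ResidueField L).symm h6
    rw [TensorProduct.AlgebraTensorModule.cancelBaseChange_symm_tmul, map_zero] at this
    exact this
  -- conclude
  rw [← hs, Submonoid.smul_def, ← algebraMap_smul (Localization.AtPrime P) (s : R) x,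
    TensorProduct.tmul_smul] at h7
  have h8 : (algebraMap R P.ResidueField (s : R)) •
      ((1 : P.ResidueField) ⊗ₜ[Localization.AtPrime P] x) = 0 := by
    rw [IsScalarTower.algebraMap_apply R (Localization.AtPrime P) P.ResidueField, algebraMap_smul]
    exact h7
  exact (hsu.smul_eq_zero).mp h8

/-- A splitting criterion: if `N` is finite projective, `L ≤ N` is finitely generated and
`L ∩ P N ≤ P L` for all maximal ideals `P`, then `N ⧸ L` is projective. -/
theorem projective_quotient_of_forall_inf_le [Module.Finite R N] [Module.Projective R N]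
    (hL : L.FG) (h : ∀ P : Ideal R, P.IsMaximal → L ⊓ (P • ⊤) ≤ P • L) :
    Module.Projective R (N ⧸ L) := by
  have hfpN : Module.FinitePresentation R N := Module.finitePresentation_of_projective R N
  have hfp : Module.FinitePresentation R (N ⧸ L) :=
    Module.finitePresentation_of_surjective L.mkQ (Submodule.mkQ_surjective L)
      (by rwa [Submodule.ker_mkQ])
  have hLfin : Module.Finite R L := Module.Finite.iff_fg.mpr hL
  have inst : ∀ (P : Ideal R) [P.IsMaximal], IsLocalizedModule P.primeCompl
      (TensorProduct.mk R (Localization.AtPrime P) (N ⧸ L) 1) := fun P _ =>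
    (isLocalizedModule_iff_isBaseChange P.primeCompl (Localization.AtPrime P) _).mpr
      (TensorProduct.isBaseChange R (N ⧸ L) (Localization.AtPrime P))
  refine Module.projective_of_localization_maximal' (fun P _ => Localization.AtPrime P)
    (fun P _ => (Localization.AtPrime P) ⊗[R] (N ⧸ L))
    (fun P _ => TensorProduct.mk R (Localization.AtPrime P) (N ⧸ L) 1) ?_
  intro P hP
  have hflat : Module.Flat (Localization.AtPrime P) ((Localization.AtPrime P) ⊗[R] N) :=
    inferInstance
  have hfreeN : Module.Free (Localization.AtPrime P) ((Localization.AtPrime P) ⊗[R] N) :=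
    Module.free_of_flat_of_isLocalRing
  have hg : Function.Surjective (L.mkQ.baseChange (Localization.AtPrime P)) := by
    rw [LinearMap.baseChange_eq_ltensor]
    exact LinearMap.lTensor_surjective _ (Submodule.mkQ_surjective L)
  have hex : Function.Exact (L.subtype.baseChange (Localization.AtPrime P))
      (L.mkQ.baseChange (Localization.AtPrime P)) := by
    rw [LinearMap.baseChange_eq_ltensor, LinearMap.baseChange_eq_ltensor]
    exact lTensor_exact _ (LinearMap.exact_subtype_mkQ L) (Submodule.mkQ_surjective L)
  have hfree : Module.Free (Localization.AtPrime P) ((Localization.AtPrime P) ⊗[R] (N ⧸ L)) :=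
    Module.free_of_lTensor_residueField_injective _ _ hg hex
      (lTensor_residueField_injective L P (h P hP))
  exact Module.Projective.of_free

end Local

end Groth.Agent.Lib.Helper82.ProjQuot
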