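import Groth.Agent.Lib.Helper82.Dieudonne
import Groth.Agent.Lib.Helper82.ProjQuot

/-!
# Dieudonné modules over a perfect ring: `M/VM` is projective (helper82)
-/

set_option autoImplicit false
set_option linter.unusedSectionVars false
universe u v

namespace Groth.Agent.Lib.Helper82.DieudonneProj

open WittVector

variable (p : ℕ) [Fact p.Prime] (k : Type u) [CommRing k] [CharP k p] [PerfectRing k p]

section Witt

/-- The kernel of the constant coefficient is `(p)`. -/
theorem mem_span_p_iff (w : WittVector p k) :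
    w ∈ Ideal.span {(p : WittVector p k)} ↔ w.coeff 0 = 0 := by
  constructor
  · intro h
    obtain ⟨c, rfl⟩ := Ideal.mem_span_singleton'.mp h
    exact mul_charP_coeff_zero c
  · intro h
    have h1 : w = verschiebung (w.shift 1) := by
      have := eq_iterate_verschiebung (x := w) (n := 1) (by
        intro i hi
        interval_cases i
        exact h)
      simpa using this
    obtain ⟨y, hy⟩ := (frobenius_bijective p k).2 (w.shift 1)
    rw [h1, ← hy, verschiebung_frobenius]
    exact Ideal.mem_span_singleton'.mpr ⟨y, rfl⟩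

theorem constantCoeff_surjective :
    Function.Surjective (constantCoeff : WittVector p k →+* k) := fun a =>
  ⟨teichmuller p a, teichmuller_coeff_zero p a⟩

theorem ker_constantCoeff :
    RingHom.ker (constantCoeff : WittVector p k →+* k) = Ideal.span {(p : WittVector p k)} := by
  ext w
  rw [RingHom.mem_ker, mem_span_p_iff]
  rfl

/-- The ideal of Witt vectors with all coefficients in `𝔭`. -/
noncomputable def wittIdeal (𝔭 : Ideal k) : Ideal (WittVector p k) :=
  RingHom.ker (WittVector.map (Ideal.Quotient.mk 𝔭))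

variable {p k}

theorem mem_wittIdeal_iff (𝔭 : Ideal k) (w : WittVector p k) :
    w ∈ wittIdeal p k 𝔭 ↔ ∀ n, w.coeff n ∈ 𝔭 := by
  rw [wittIdeal, RingHom.mem_ker, WittVector.ext_iff]
  simp only [map_coeff, zero_coeff, Ideal.Quotient.eq_zero_iff_mem]

theorem frobenius_mem_wittIdeal_iff (𝔭 : Ideal k) [𝔭.IsPrime] (w : WittVector p k) :
    frobenius w ∈ wittIdeal p k 𝔭 ↔ w ∈ wittIdeal p k 𝔭 := by
  rw [mem_wittIdeal_iff, mem_wittIdeal_iff]
  refine forall_congr' fun n => ?_
  rw [coeff_frobenius_charP]
  exact Ideal.IsPrime.pow_mem_iff_mem inferInstance p (Fact.out : p.Prime).pos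

theorem frobeniusEquiv_symm_mem_wittIdeal_iff (𝔭 : Ideal k) [𝔭.IsPrime] (w : WittVector p k) :
    (frobeniusEquiv p k).symm w ∈ wittIdeal p k 𝔭 ↔ w ∈ wittIdeal p k 𝔭 := by
  rw [← frobenius_mem_wittIdeal_iff 𝔭 ((frobeniusEquiv p k).symm w)]
  have : frobenius ((frobeniusEquiv p k).symm w) = w := (frobeniusEquiv p k).apply_symm_apply w
  rw [this]

theorem mem_wittIdeal_of_p_mul_mem (𝔭 : Ideal k) [𝔭.IsPrime] (w : WittVector p k)
    (h : (p : WittVector p k) * w ∈ wittIdeal p k 𝔭) : w ∈ wittIdeal p k 𝔭 := by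
  rw [mem_wittIdeal_iff] at h ⊢
  intro n
  have h1 := h (n + 1)
  rw [mul_comm, mul_charP_coeff_succ] at h1
  exact Ideal.IsPrime.mem_of_pow_mem inferInstance p h1

theorem teichmuller_mem_wittIdeal (𝔭 : Ideal k) (a : k) (ha : a ∈ 𝔭) :
    teichmuller p a ∈ wittIdeal p k 𝔭 := by
  rw [mem_wittIdeal_iff]
  intro n
  rcases Nat.eq_zero_or_pos n with rfl | hn
  · rwa [teichmuller_coeff_zero]
  · rw [teichmuller_coeff_pos p a n hn]
    exact zero_mem _

variable (𝔓 : Ideal (WittVector p k)) [h𝔓 : 𝔓.IsPrime] (hp𝔓 : (p : WittVector p k) ∈ 𝔓)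

include hp𝔓

theorem map_constantCoeff_isPrime : (𝔓.map (constantCoeff : WittVector p k →+* k)).IsPrime := by
  apply Ideal.map_isPrime_of_surjective (constantCoeff_surjective p k)
  rw [ker_constantCoeff, Ideal.span_singleton_le_iff_mem]
  exact hp𝔓

theorem wittIdeal_le : wittIdeal p k (𝔓.map (constantCoeff : WittVector p k →+* k)) ≤ 𝔓 := by
  intro w hw
  rw [mem_wittIdeal_iff] at hw
  have h0 := hw 0
  rw [Ideal.mem_map_iff_of_surjective _ (constantCoeff_surjective p k)] at h0
  obtain ⟨v, hv, hvw⟩ := h0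
  have h1 : w - v ∈ Ideal.span {(p : WittVector p k)} := by
    rw [← ker_constantCoeff, RingHom.mem_ker, map_sub, hvw]
    exact sub_self _
  have h2 : w - v ∈ 𝔓 := ((Ideal.span_singleton_le_iff_mem 𝔓).mpr hp𝔓) h1
  have := 𝔓.add_mem h2 hv
  rwa [sub_add_cancel] at this

omit h𝔓 hp𝔓 in
theorem le_wittIdeal_sup :
    𝔓 ≤ wittIdeal p k (𝔓.map (constantCoeff : WittVector p k →+* k)) ⊔
      Ideal.span {(p : WittVector p k)} := by
  intro w hw
  have ha : w.coeff 0 ∈ 𝔓.map (constantCoeff : WittVector p k →+* k) :=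
    Ideal.mem_map_of_mem constantCoeff hw
  have h1 : w - teichmuller p (w.coeff 0) ∈ Ideal.span {(p : WittVector p k)} := by
    rw [← ker_constantCoeff, RingHom.mem_ker, map_sub]
    change w.coeff 0 - (teichmuller p (w.coeff 0)).coeff 0 = 0
    rw [teichmuller_coeff_zero, sub_self]
  have h2 : w = teichmuller p (w.coeff 0) + (w - teichmuller p (w.coeff 0)) := by ring
  rw [h2]
  exact Submodule.add_mem_sup (teichmuller_mem_wittIdeal _ _ ha) h1

end Witt

section Mod

variable {p k}
variable {M : Type v} [AddCommGroup M] [Module (WittVector p k) M]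
  (F : M →ₛₗ[(WittVector.frobenius : WittVector p k →+* WittVector p k)] M)
  (V : M →ₛₗ[((WittVector.frobeniusEquiv p k).symm : WittVector p k →+* WittVector p k)] M)

theorem F_mem_smul_top (𝔭 : Ideal k) [𝔭.IsPrime] (x : M)
    (hx : x ∈ wittIdeal p k 𝔭 • (⊤ : Submodule (WittVector p k) M)) :
    F x ∈ wittIdeal p k 𝔭 • (⊤ : Submodule (WittVector p k) M) := by
  refine Submodule.smul_induction_on hx (fun a ha m _ => ?_) (fun y z hy hz => ?_)
  · rw [F.map_smulₛₗ]
    exact Submodule.smul_mem_smul ((frobenius_mem_wittIdeal_iff 𝔭 a).mpr ha) trivial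
  · rw [map_add]
    exact add_mem hy hz

theorem V_frobenius_smul (a : WittVector p k) (x : M) : V (frobenius a • x) = a • V x := by
  rw [V.map_smulₛₗ]
  congr 1
  exact (frobeniusEquiv p k).symm_apply_apply a

theorem V_natCast_smul (x : M) : V ((p : WittVector p k) • x) = (p : WittVector p k) • V x := by
  rw [V.map_smulₛₗ]
  congr 1
  exact map_natCast _ p

theorem F_natCast_smul (x : M) : F ((p : WittVector p k) • x) = (p : WittVector p k) • F x := by
  rw [F.map_smulₛₗ]
  congr 1
  exact map_natCast _ p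

variable (hFV : ∀ m : M, F (V m) = (p : WittVector p k) • m)
  (hVF : ∀ m : M, V (F m) = (p : WittVector p k) • m)

include hFV in
theorem exists_sub_mem (𝔭 : Ideal k) [𝔭.IsPrime]
    (H3 : ∀ x : M, (p : WittVector p k) • x ∈ wittIdeal p k 𝔭 • (⊤ : Submodule (WittVector p k) M) →
      x ∈ wittIdeal p k 𝔭 • (⊤ : Submodule (WittVector p k) M) ⊔
        Ideal.span {(p : WittVector p k)} • (⊤ : Submodule (WittVector p k) M))
    (x : M) (hx : V x ∈ wittIdeal p k 𝔭 • (⊤ : Submodule (WittVector p k) M) ⊔
        Ideal.span {(p : WittVector p k)} • (⊤ : Submodule (WittVector p k) M)) :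
    ∃ y : M, x - F y ∈ wittIdeal p k 𝔭 • (⊤ : Submodule (WittVector p k) M) ⊔
        Ideal.span {(p : WittVector p k)} • (⊤ : Submodule (WittVector p k) M) := by
  obtain ⟨a, ha, b, hb, hab⟩ := Submodule.mem_sup.mp hx
  obtain ⟨y, rfl⟩ := (Groth.Agent.Lib.Helper82.Dieudonne.mem_span_smul_top _ b).mp hb
  refine ⟨y, H3 _ ?_⟩
  have h1 : (p : WittVector p k) • (x - F y) = F a := by
    rw [smul_sub, ← hFV x, ← F_natCast_smul F y, ← map_sub, ← hab, add_sub_cancel_right]
  rw [h1]
  exact F_mem_smul_top F 𝔭 a ha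

/-! ### The reduction mod `p` -/

theorem mkQ_V_mem_span (x : M) :
    (Ideal.span {(p : WittVector p k)} • (⊤ : Submodule (WittVector p k) M)).mkQ (V x) ∈
      Submodule.span (WittVector p k ⧸ Ideal.span {(p : WittVector p k)})
        (Set.range fun m : M =>
          (Ideal.span {(p : WittVector p k)} • (⊤ : Submodule (WittVector p k) M)).mkQ (V m)) :=
  Submodule.subset_span ⟨x, rfl⟩

theorem mem_span_iff (y : M ⧸ (Ideal.span {(p : WittVector p k)} •
      (⊤ : Submodule (WittVector p k) M))) :
    y ∈ Submodule.span (WittVector p k ⧸ Ideal.span {(p : WittVector p k)})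
        (Set.range fun m : M =>
          (Ideal.span {(p : WittVector p k)} • (⊤ : Submodule (WittVector p k) M)).mkQ (V m)) ↔
      ∃ x : M, (Ideal.span {(p : WittVector p k)} •
        (⊤ : Submodule (WittVector p k) M)).mkQ (V x) = y := by
  constructor
  · intro hy
    induction hy using Submodule.span_induction with
    | mem y hy => exact hy
    | zero => exact ⟨0, by simp⟩
    | add y z _ _ hy hz =>
      obtain ⟨x, rfl⟩ := hy
      obtain ⟨x', rfl⟩ := hz
      exact ⟨x + x', by simp⟩
    | smul r y _ hy =>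
      obtain ⟨x, rfl⟩ := hy
      obtain ⟨a, rfl⟩ := Ideal.Quotient.mk_surjective r
      refine ⟨frobenius a • x, ?_⟩
      rw [V_frobenius_smul]
      rfl
  · rintro ⟨x, rfl⟩
    exact mkQ_V_mem_span V x

theorem span_fg [Module.Finite (WittVector p k) M] :
    (Submodule.span (WittVector p k ⧸ Ideal.span {(p : WittVector p k)})
        (Set.range fun m : M =>
          (Ideal.span {(p : WittVector p k)} • (⊤ : Submodule (WittVector p k) M)).mkQ (V m))).FG := by
  classical
  obtain ⟨S, hS⟩ := (Module.Finite.fg_top : (⊤ : Submodule (WittVector p k) M).FG)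
  refine ⟨S.image (fun m : M =>
    (Ideal.span {(p : WittVector p k)} • (⊤ : Submodule (WittVector p k) M)).mkQ (V m)), ?_⟩
  apply le_antisymm
  · apply Submodule.span_mono
    intro y hy
    rw [Finset.coe_image] at hy
    obtain ⟨m, _, rfl⟩ := hy
    exact ⟨m, rfl⟩
  · rw [Submodule.span_le]
    rintro _ ⟨x, rfl⟩
    have hx : x ∈ Submodule.span (WittVector p k) (S : Set M) := by rw [hS]; trivial
    induction hx using Submodule.span_induction with
    | mem x hx =>
      apply Submodule.subset_span
      rw [Finset.coe_image]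
      exact ⟨x, hx, rfl⟩
    | zero => simp
    | add x y _ _ hx hy =>
      simp only [map_add]
      exact add_mem hx hy
    | smul a x _ hx =>
      have h1 : (Ideal.span {(p : WittVector p k)} •
          (⊤ : Submodule (WittVector p k) M)).mkQ (V (a • x)) =
          Ideal.Quotient.mk (Ideal.span {(p : WittVector p k)}) ((frobeniusEquiv p k).symm a) •
            (Ideal.span {(p : WittVector p k)} •
              (⊤ : Submodule (WittVector p k) M)).mkQ (V x) := by
        rw [V.map_smulₛₗ]
        rfl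
      simp only [h1]
      exact Submodule.smul_mem _ _ hx

end Mod

section Main

variable {p k}
variable {M : Type v} [AddCommGroup M] [Module (WittVector p k) M]
  (F : M →ₛₗ[(WittVector.frobenius : WittVector p k →+* WittVector p k)] M)
  (V : M →ₛₗ[((WittVector.frobeniusEquiv p k).symm : WittVector p k →+* WittVector p k)] M)
  (hFV : ∀ m : M, F (V m) = (p : WittVector p k) • m)
  (hVF : ∀ m : M, V (F m) = (p : WittVector p k) • m)
  (H3 : ∀ (𝔭 : Ideal k) [𝔭.IsPrime] (x : M),
    (p : WittVector p k) • x ∈ wittIdeal p k 𝔭 • (⊤ : Submodule (WittVector p k) M) →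
      x ∈ wittIdeal p k 𝔭 • (⊤ : Submodule (WittVector p k) M) ⊔
        Ideal.span {(p : WittVector p k)} • (⊤ : Submodule (WittVector p k) M))

omit [CharP k p] [PerfectRing k p] in
theorem natCast_smul_mem (x : M) : (p : WittVector p k) • x ∈
    Ideal.span {(p : WittVector p k)} • (⊤ : Submodule (WittVector p k) M) :=
  Submodule.smul_mem_smul (Ideal.mem_span_singleton_self _) trivial

include hFV hVF H3 in
theorem inf_le (P : Ideal (WittVector p k ⧸ Ideal.span {(p : WittVector p k)})) [hP : P.IsPrime] :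
    Submodule.span (WittVector p k ⧸ Ideal.span {(p : WittVector p k)})
        (Set.range fun m : M =>
          (Ideal.span {(p : WittVector p k)} • (⊤ : Submodule (WittVector p k) M)).mkQ (V m)) ⊓
      P • (⊤ : Submodule (WittVector p k ⧸ Ideal.span {(p : WittVector p k)})
        (M ⧸ (Ideal.span {(p : WittVector p k)} • (⊤ : Submodule (WittVector p k) M)))) ≤
    P • Submodule.span (WittVector p k ⧸ Ideal.span {(p : WittVector p k)})
        (Set.range fun m : M =>
          (Ideal.span {(p : WittVector p k)} • (⊤ : Submodule (WittVector p k) M)).mkQ (V m)) := by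
  rintro y ⟨hyL, hyP⟩
  obtain ⟨x, rfl⟩ := (mem_span_iff V y).mp hyL
  have h𝔓 : (P.comap (Ideal.Quotient.mk (Ideal.span {(p : WittVector p k)}))).IsPrime :=
    Ideal.comap_isPrime _ _
  have hp𝔓 : (p : WittVector p k) ∈
      P.comap (Ideal.Quotient.mk (Ideal.span {(p : WittVector p k)})) := by
    rw [Ideal.mem_comap, Ideal.Quotient.eq_zero_iff_mem.mpr (Ideal.mem_span_singleton_self _)]
    exact zero_mem _
  have key1 : ∀ y ∈ P • (⊤ : Submodule (WittVector p k ⧸ Ideal.span {(p : WittVector p k)})
      (M ⧸ (Ideal.span {(p : WittVector p k)} • (⊤ : Submodule (WittVector p k) M)))),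
      ∃ z ∈ (P.comap (Ideal.Quotient.mk (Ideal.span {(p : WittVector p k)}))) •
        (⊤ : Submodule (WittVector p k) M),
        (Ideal.span {(p : WittVector p k)} • (⊤ : Submodule (WittVector p k) M)).mkQ z = y := by
    intro y hy
    refine Submodule.smul_induction_on hy (fun r hr n _ => ?_) (fun y z hy hz => ?_)
    · obtain ⟨a, rfl⟩ := Ideal.Quotient.mk_surjective r
      obtain ⟨m, rfl⟩ := Submodule.mkQ_surjective _ n
      exact ⟨a • m, Submodule.smul_mem_smul (Ideal.mem_comap.mpr hr) trivial, rfl⟩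
    · obtain ⟨z1, h1, rfl⟩ := hy
      obtain ⟨z2, h2, rfl⟩ := hz
      exact ⟨z1 + z2, add_mem h1 h2, map_add _ _ _⟩
  obtain ⟨z, hz, hzy⟩ := key1 _ hyP
  have h1 : V x - z ∈ Ideal.span {(p : WittVector p k)} • (⊤ : Submodule (WittVector p k) M) := by
    rw [← Submodule.ker_mkQ (Ideal.span {(p : WittVector p k)} •
      (⊤ : Submodule (WittVector p k) M)), LinearMap.mem_ker, map_sub, hzy, sub_self]
  have h2 : Ideal.span {(p : WittVector p k)} • (⊤ : Submodule (WittVector p k) M) ≤
      (P.comap (Ideal.Quotient.mk (Ideal.span {(p : WittVector p k)}))) •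
        (⊤ : Submodule (WittVector p k) M) :=
    Submodule.smul_mono_left ((Ideal.span_singleton_le_iff_mem _).mpr hp𝔓)
  have h3 : V x ∈ (P.comap (Ideal.Quotient.mk (Ideal.span {(p : WittVector p k)}))) •
        (⊤ : Submodule (WittVector p k) M) := by
    have := add_mem (h2 h1) hz
    rwa [sub_add_cancel] at this
  have h𝔭 := map_constantCoeff_isPrime
    (P.comap (Ideal.Quotient.mk (Ideal.span {(p : WittVector p k)}))) hp𝔓
  have h4 : (P.comap (Ideal.Quotient.mk (Ideal.span {(p : WittVector p k)}))) •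
        (⊤ : Submodule (WittVector p k) M) ≤
      wittIdeal p k ((P.comap (Ideal.Quotient.mk (Ideal.span {(p : WittVector p k)}))).map
        (constantCoeff : WittVector p k →+* k)) • (⊤ : Submodule (WittVector p k) M) ⊔
        Ideal.span {(p : WittVector p k)} • (⊤ : Submodule (WittVector p k) M) := by
    rw [← Submodule.sup_smul]
    exact Submodule.smul_mono_left (le_wittIdeal_sup _)
  obtain ⟨y', hy'⟩ := exists_sub_mem F V hFV _ (H3 _) x (h4 h3)
  obtain ⟨c, hc, b, hb, hcb⟩ := Submodule.mem_sup.mp hy'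
  obtain ⟨b', rfl⟩ := (Groth.Agent.Lib.Helper82.Dieudonne.mem_span_smul_top _ b).mp hb
  have hx : x = F y' + c + (p : WittVector p k) • b' := by
    rw [add_assoc, hcb]
    abel
  have hVx : (Ideal.span {(p : WittVector p k)} • (⊤ : Submodule (WittVector p k) M)).mkQ (V x) =
      (Ideal.span {(p : WittVector p k)} • (⊤ : Submodule (WittVector p k) M)).mkQ (V c) := by
    have e1 : (Ideal.span {(p : WittVector p k)} • (⊤ : Submodule (WittVector p k) M)).mkQ
        ((p : WittVector p k) • y') = 0 :=
      (Submodule.Quotient.mk_eq_zero _).mpr (natCast_smul_mem y')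
    have e2 : (Ideal.span {(p : WittVector p k)} • (⊤ : Submodule (WittVector p k) M)).mkQ
        ((p : WittVector p k) • V b') = 0 :=
      (Submodule.Quotient.mk_eq_zero _).mpr (natCast_smul_mem (V b'))
    rw [hx]
    simp only [map_add]
    rw [hVF, V_natCast_smul, e1, e2, zero_add, add_zero]
  rw [hVx]
  refine Submodule.smul_induction_on hc (fun a ha m _ => ?_) (fun c1 c2 h1 h2 => ?_)
  · rw [V.map_smulₛₗ]
    change Ideal.Quotient.mk (Ideal.span {(p : WittVector p k)}) ((frobeniusEquiv p k).symm a) •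
      (Ideal.span {(p : WittVector p k)} • (⊤ : Submodule (WittVector p k) M)).mkQ (V m) ∈ _
    apply Submodule.smul_mem_smul _ (mkQ_V_mem_span V m)
    rw [← Ideal.mem_comap]
    exact wittIdeal_le _ hp𝔓 ((frobeniusEquiv_symm_mem_wittIdeal_iff _ a).mpr ha)
  · rw [map_add, map_add]
    exact add_mem h1 h2

include hFV hVF H3 in
/-- `M/VM` is projective over `W/p`. -/
theorem projective_quotient [Module.Finite (WittVector p k) M]
    [Module.Projective (WittVector p k ⧸ Ideal.span {(p : WittVector p k)})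
      (M ⧸ (Ideal.span {(p : WittVector p k)} • (⊤ : Submodule (WittVector p k) M)))] :
    Module.Projective (WittVector p k ⧸ Ideal.span {(p : WittVector p k)})
      ((M ⧸ (Ideal.span {(p : WittVector p k)} • (⊤ : Submodule (WittVector p k) M))) ⧸
        Submodule.span (WittVector p k ⧸ Ideal.span {(p : WittVector p k)})
          (Set.range fun m : M =>
            (Ideal.span {(p : WittVector p k)} • (⊤ : Submodule (WittVector p k) M)).mkQ (V m))) := by
  have hfin : Module.Finite (WittVector p k ⧸ Ideal.span {(p : WittVector p k)})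
      (M ⧸ (Ideal.span {(p : WittVector p k)} • (⊤ : Submodule (WittVector p k) M))) := by
    have h1 : Module.Finite (WittVector p k)
      (M ⧸ (Ideal.span {(p : WittVector p k)} • (⊤ : Submodule (WittVector p k) M))) := inferInstance
    obtain ⟨S, hS⟩ := h1.fg_top
    refine ⟨⟨S, ?_⟩⟩
    rw [eq_top_iff]
    intro y _
    have hy : y ∈ Submodule.span (WittVector p k) (S : Set (M ⧸ (Ideal.span {(p : WittVector p k)} •
        (⊤ : Submodule (WittVector p k) M)))) := by rw [hS]; trivial
    induction hy using Submodule.span_induction with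
    | mem y hy => exact Submodule.subset_span hy
    | zero => exact zero_mem _
    | add y z _ _ hy hz => exact add_mem (hy trivial) (hz trivial)
    | smul a y _ hy =>
      obtain ⟨m, rfl⟩ := Submodule.mkQ_surjective _ y
      have : a • (Ideal.span {(p : WittVector p k)} •
          (⊤ : Submodule (WittVector p k) M)).mkQ m =
          Ideal.Quotient.mk (Ideal.span {(p : WittVector p k)}) a •
          (Ideal.span {(p : WittVector p k)} • (⊤ : Submodule (WittVector p k) M)).mkQ m := rfl
      rw [this]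
      exact Submodule.smul_mem _ _ (hy trivial)
  exact Groth.Agent.Lib.Helper82.ProjQuot.projective_quotient_of_forall_inf_le _ (span_fg V)
    (fun P hP => by
      have hPp : P.IsPrime := hP.isPrime
      exact inf_le F V hFV hVF H3 P)

end Main

section Proj

open TensorProduct

theorem projective_quotient_smul_top {A : Type*} [CommRing A] (J : Ideal A) {M : Type*}
    [AddCommGroup M] [Module A M] [Module.Projective A M] :
    Module.Projective (A ⧸ J) (M ⧸ (J • ⊤ : Submodule A M)) := by
  have e : ((A ⧸ J) ⊗[A] M) ≃ₗ[A ⧸ J] (M ⧸ (J • ⊤ : Submodule A M)) :=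
    LinearEquiv.extendScalarsOfSurjective Ideal.Quotient.mk_surjective
      (TensorProduct.quotTensorEquivQuotSMul M J)
  exact Module.Projective.of_equiv e

variable {p k}
variable {M : Type v} [AddCommGroup M] [Module (WittVector p k) M]

/-- For a projective `W`-module, `p x ∈ I M` implies `x ∈ I M`. -/
theorem mem_of_natCast_smul_mem_of_projective [Module.Projective (WittVector p k) M]
    (𝔭 : Ideal k) [𝔭.IsPrime] (x : M)
    (hx : (p : WittVector p k) • x ∈ wittIdeal p k 𝔭 • (⊤ : Submodule (WittVector p k) M)) :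
    x ∈ wittIdeal p k 𝔭 • (⊤ : Submodule (WittVector p k) M) := by
  obtain ⟨s, hs⟩ := (Module.projective_def' (R := WittVector p k) (P := M)).mp inferInstance
  have key : ∀ y ∈ wittIdeal p k 𝔭 • (⊤ : Submodule (WittVector p k) M),
      ∀ m, (s y) m ∈ wittIdeal p k 𝔭 := by
    intro y hy
    refine Submodule.smul_induction_on hy (fun a ha z _ m => ?_) (fun y z hy hz m => ?_)
    · rw [map_smul, Finsupp.smul_apply, smul_eq_mul]
      exact Ideal.mul_mem_right _ _ ha
    · rw [map_add, Finsupp.add_apply]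
      exact add_mem (hy m) (hz m)
  have h1 : ∀ m, (s x) m ∈ wittIdeal p k 𝔭 := fun m => by
    apply mem_wittIdeal_of_p_mul_mem 𝔭
    have := key _ hx m
    rwa [map_smul, Finsupp.smul_apply, smul_eq_mul] at this
  have h2 : x = Finsupp.linearCombination (WittVector p k) id (s x) :=
    (LinearMap.congr_fun hs x).symm
  rw [h2, Finsupp.linearCombination_apply, Finsupp.sum]
  exact sum_mem (fun m _ => Submodule.smul_mem_smul (h1 m) trivial)

/-- A projective `W`-module has no `p`-torsion. -/
theorem eq_zero_of_natCast_smul_eq_zero_of_projective [Module.Projective (WittVector p k) M]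
    (x : M) (hx : (p : WittVector p k) • x = 0) : x = 0 := by
  obtain ⟨s, hs⟩ := (Module.projective_def' (R := WittVector p k) (P := M)).mp inferInstance
  have h1 : s x = 0 := by
    apply Finsupp.ext
    intro m
    have := congrArg (fun f : M →₀ WittVector p k => f m) (congrArg s hx)
    simp only [map_smul, Finsupp.smul_apply, smul_eq_mul, map_zero, Finsupp.coe_zero,
      Pi.zero_apply] at this
    exact Groth.Agent.Lib.Helper82.Dieudonne.p_mul_eq_zero p k this
  have h2 : x = Finsupp.linearCombination (WittVector p k) id (s x) :=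
    (LinearMap.congr_fun hs x).symm
  rw [h2, h1, map_zero]

end Proj

section Transfer

variable {A : Type*} [CommRing A] (I J : Ideal A) (hIJ : I ≤ J)
  {M : Type*} [AddCommGroup M] [Module A M] [Module (A ⧸ I) M] [IsScalarTower A (A ⧸ I) M]

theorem mk_smul' (a : A) (m : M) : (Ideal.Quotient.mk I a) • m = a • m := by
  have : Ideal.Quotient.mk I a = a • (1 : A ⧸ I) := by
    rw [Algebra.smul_def, mul_one]; rfl
  rw [this, smul_assoc, one_smul]

theorem restrictScalars_map_smul_top :
    ((J.map (Ideal.Quotient.mk I)) • (⊤ : Submodule (A ⧸ I) M)).restrictScalars A =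
      J • (⊤ : Submodule A M) := by
  apply le_antisymm
  · intro x hx
    rw [Submodule.restrictScalars_mem] at hx
    refine Submodule.smul_induction_on hx (fun r hr m _ => ?_) (fun y z hy hz => add_mem hy hz)
    rw [Ideal.mem_map_iff_of_surjective _ Ideal.Quotient.mk_surjective] at hr
    obtain ⟨a, ha, rfl⟩ := hr
    rw [mk_smul']
    exact Submodule.smul_mem_smul ha trivial
  · intro x hx
    rw [Submodule.restrictScalars_mem]
    refine Submodule.smul_induction_on hx (fun a ha m _ => ?_) (fun y z hy hz => add_mem hy hz)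
    rw [← mk_smul' I]
    exact Submodule.smul_mem_smul (Ideal.mem_map_of_mem _ ha) trivial

include hIJ in
/-- If `M` is projective over `A/I` and `I ≤ J`, then `M/JM` is projective over `A/J`. -/
theorem projective_quotient_of_quotient [Module.Projective (A ⧸ I) M] :
    Module.Projective (A ⧸ J) (M ⧸ (J • ⊤ : Submodule A M)) := by
  have h1 : Module.Projective ((A ⧸ I) ⧸ J.map (Ideal.Quotient.mk I))
      (M ⧸ ((J.map (Ideal.Quotient.mk I)) • (⊤ : Submodule (A ⧸ I) M))) :=
    projective_quotient_smul_top _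
  let e : ((A ⧸ I) ⧸ J.map (Ideal.Quotient.mk I)) ≃+* (A ⧸ J) :=
    DoubleQuot.quotQuotEquivQuotOfLE hIJ
  let ψ : (M ⧸ ((J.map (Ideal.Quotient.mk I)) • (⊤ : Submodule (A ⧸ I) M))) ≃ₗ[A]
      (M ⧸ (J • ⊤ : Submodule A M)) :=
    (Submodule.Quotient.restrictScalarsEquiv A _).symm ≪≫ₗ
      Submodule.quotEquivOfEq _ _ (restrictScalars_map_smul_top I J)
  have hψ : ∀ m : M, ψ (Submodule.Quotient.mk m) = Submodule.Quotient.mk m := fun m => rfl
  have i1 := RingHomInvPair.of_ringEquiv e
  have i2 := RingHomInvPair.of_ringEquiv_symm e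
  let Ψ : (M ⧸ ((J.map (Ideal.Quotient.mk I)) • (⊤ : Submodule (A ⧸ I) M))) ≃ₛₗ[
      (e : ((A ⧸ I) ⧸ J.map (Ideal.Quotient.mk I)) →+* (A ⧸ J))]
      (M ⧸ (J • ⊤ : Submodule A M)) :=
    { ψ.toAddEquiv with
      map_smul' := by
        intro r x
        obtain ⟨r', rfl⟩ := Ideal.Quotient.mk_surjective r
        obtain ⟨a, rfl⟩ := Ideal.Quotient.mk_surjective r'
        obtain ⟨m, rfl⟩ := Submodule.Quotient.mk_surjective _ x
        change ψ (Submodule.Quotient.mk ((Ideal.Quotient.mk I a) • m)) =
          (Ideal.Quotient.mk J a) • ψ (Submodule.Quotient.mk m)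
        rw [hψ, hψ, mk_smul']
        rfl }
  exact Module.Projective.of_equiv Ψ

end Transfer

section Trunc

variable {p k}
variable {n : ℕ} {M : Type v} [AddCommGroup M] [Module (WittVector p k) M]
  [Module (WittVector p k ⧸ Ideal.span {(p : WittVector p k) ^ n}) M]
  [IsScalarTower (WittVector p k) (WittVector p k ⧸ Ideal.span {(p : WittVector p k) ^ n}) M]

/-- The coordinate claim: in `W/p^n` with `n ≥ 2`, if `p c ∈ I (W/p^n)` then `c ∈ I + (p)`. -/
theorem exists_eq_mk_add (hn : 2 ≤ n) (𝔭 : Ideal k) [𝔭.IsPrime]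
    (c : WittVector p k ⧸ Ideal.span {(p : WittVector p k) ^ n})
    (hc : Ideal.Quotient.mk _ (p : WittVector p k) * c ∈
      (wittIdeal p k 𝔭).map (Ideal.Quotient.mk (Ideal.span {(p : WittVector p k) ^ n}))) :
    ∃ i ∈ wittIdeal p k 𝔭, ∃ w : WittVector p k,
      c = Ideal.Quotient.mk _ (i + (p : WittVector p k) * w) := by
  obtain ⟨c', rfl⟩ := Ideal.Quotient.mk_surjective c
  rw [← map_mul, Ideal.mem_map_iff_of_surjective _ Ideal.Quotient.mk_surjective] at hc
  obtain ⟨i', hi', hi'c⟩ := hc
  rw [Ideal.Quotient.eq, Ideal.mem_span_singleton'] at hi'c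
  obtain ⟨w', hw'⟩ := hi'c
  -- `i' - p c' = w' p^n`
  have h1 : (p : WittVector p k) * (c' + w' * (p : WittVector p k) ^ (n - 1)) = i' := by
    have hpow : (p : WittVector p k) ^ n = (p : WittVector p k) * (p : WittVector p k) ^ (n - 1) := by
      rw [← pow_succ', Nat.sub_add_cancel (by omega)]
    rw [hpow] at hw'
    linear_combination hw'
  have h2 : c' + w' * (p : WittVector p k) ^ (n - 1) ∈ wittIdeal p k 𝔭 :=
    mem_wittIdeal_of_p_mul_mem 𝔭 _ (h1 ▸ hi')
  refine ⟨c' + w' * (p : WittVector p k) ^ (n - 1), h2, - w' * (p : WittVector p k) ^ (n - 2), ?_⟩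
  congr 1
  have hpow2 : (p : WittVector p k) ^ (n - 1) =
      (p : WittVector p k) * (p : WittVector p k) ^ (n - 2) := by
    rw [← pow_succ']
    congr 1
    omega
  rw [hpow2]
  ring

/-- For a projective `W/p^n`-module with `n ≥ 2`, `p x ∈ I M` implies `x ∈ I M + p M`. -/
theorem mem_of_natCast_smul_mem_of_projective_trunc (hn : 2 ≤ n)
    [Module.Projective (WittVector p k ⧸ Ideal.span {(p : WittVector p k) ^ n}) M]
    (𝔭 : Ideal k) [𝔭.IsPrime] (x : M)
    (hx : (p : WittVector p k) • x ∈ wittIdeal p k 𝔭 • (⊤ : Submodule (WittVector p k) M)) :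
    x ∈ wittIdeal p k 𝔭 • (⊤ : Submodule (WittVector p k) M) ⊔
      Ideal.span {(p : WittVector p k)} • (⊤ : Submodule (WittVector p k) M) := by
  obtain ⟨s, hs⟩ := (Module.projective_def'
    (R := WittVector p k ⧸ Ideal.span {(p : WittVector p k) ^ n}) (P := M)).mp inferInstance
  have key : ∀ y ∈ wittIdeal p k 𝔭 • (⊤ : Submodule (WittVector p k) M),
      ∀ m, (s y) m ∈ (wittIdeal p k 𝔭).map
        (Ideal.Quotient.mk (Ideal.span {(p : WittVector p k) ^ n})) := by
    intro y hy
    refine Submodule.smul_induction_on hy (fun a ha z _ m => ?_) (fun y z hy hz m => ?_)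
    · rw [← mk_smul' (Ideal.span {(p : WittVector p k) ^ n}), map_smul, Finsupp.smul_apply,
        smul_eq_mul]
      exact Ideal.mul_mem_right _ _ (Ideal.mem_map_of_mem _ ha)
    · rw [map_add, Finsupp.add_apply]
      exact add_mem (hy m) (hz m)
  have h1 : ∀ m, ∃ i ∈ wittIdeal p k 𝔭, ∃ w : WittVector p k,
      (s x) m = Ideal.Quotient.mk _ (i + (p : WittVector p k) * w) := fun m => by
    apply exists_eq_mk_add hn 𝔭
    have := key _ hx m
    rwa [← mk_smul' (Ideal.span {(p : WittVector p k) ^ n}), map_smul, Finsupp.smul_apply,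
      smul_eq_mul] at this
  have h2 : x = Finsupp.linearCombination
      (WittVector p k ⧸ Ideal.span {(p : WittVector p k) ^ n}) id (s x) :=
    (LinearMap.congr_fun hs x).symm
  rw [h2, Finsupp.linearCombination_apply, Finsupp.sum]
  refine sum_mem (fun m _ => ?_)
  obtain ⟨i, hi, w, hw⟩ := h1 m
  rw [hw, id, mk_smul', add_smul, mul_smul]
  exact Submodule.add_mem_sup (Submodule.smul_mem_smul hi trivial)
    (Submodule.smul_mem_smul (Ideal.mem_span_singleton_self _) trivial)

end Trunc

end Groth.Agent.Lib.Helper82.DieudonneProj
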