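import Mathlib
import Groth.Prelude.Def_CAlg
import Groth.Agent.Lib.Helper60.BE

/-!
# Gorenstein rings of dimension `≤ 1`: duals, reflexive and torsionless modules

* `hasInjectiveDimensionLT_two`: a Gorenstein ring of Krull dimension `≤ 1` has self-injective
  dimension `≤ 1`.
* `subsingleton_ext_one_of_injective`: if `Y` has injective dimension `≤ 1`, then `Ext¹(N, Y) = 0`
  for every submodule `N` of a projective module.
* `exists_extension_of_ext_one`: extension of homomorphisms along `A ↪ B` when `Ext¹(B/A, Y) = 0`.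
* `eval_surjective`: over a Noetherian ring of self-injective dimension `≤ 1`, `M → M**` is onto
  for every finitely generated `M`.
* `subsingleton_ext_one_of_eval_injective`: finitely generated torsionless modules have
  `Ext¹(M, S) = 0`.
-/

set_option autoImplicit false
universe u
open CategoryTheory CategoryTheory.Limits Abelian IsLocalRing
open Groth.Agent.Lib.Helper60

namespace Groth.Agent.Lib.Helper82.GorDimOne

theorem hasInjectiveDimensionLT_two (S : Type u) [CommRing S] [LocCoh.IsGorensteinRing S]
    (hdim : ringKrullDim S ≤ 1) : HasInjectiveDimensionLT (ModuleCat.of S S) 2 := by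
  rw [show (2 : ℕ) = 1 + 1 from rfl, Groth.Agent.S5790.result S S 1]
  intro p
  rw [hasInjectiveDimensionLT_localization_self_iff]
  have : LocCoh.IsGorensteinLocalRing (Localization.AtPrime p.asIdeal) :=
    LocCoh.IsGorensteinRing.isGorensteinLocalRing_localization p.asIdeal
  obtain ⟨n, hn⟩ := LocCoh.IsGorensteinLocalRing.exists_hasInjectiveDimensionLT
    (A := Localization.AtPrime p.asIdeal)
  have hn1 : HasInjectiveDimensionLT (ModuleCat.of (Localization.AtPrime p.asIdeal)
      (Localization.AtPrime p.asIdeal)) (n + 1) :=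
    hasInjectiveDimensionLT_of_ge _ n (n + 1) (by omega)
  obtain ⟨t, -, ht, hPt⟩ := ringKrullDim_le_of_hasInjectiveDimensionLT
    (A := Localization.AtPrime p.asIdeal) n hn1
  have h1 : ringKrullDim (Localization.AtPrime p.asIdeal) ≤ 1 := by
    rw [IsLocalization.AtPrime.ringKrullDim_eq_height p.asIdeal]
    exact le_trans (Ideal.height_le_ringKrullDim_of_ne_top p.2.ne_top) hdim
  rw [ht] at h1
  have ht1 : t ≤ 1 := by exact_mod_cast h1
  exact hasInjectiveDimensionLT_of_ge _ (t + 1) 2 (by omega)

variable {S : Type u} [CommRing S]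

/-- If `Ext¹(C, Y) = 0` and `0 → A → B → C → 0` is exact, then every map `A → Y` extends to `B`. -/
lemma exists_extension_of_ext_one {A B C Y : Type u} [AddCommGroup A] [Module S A]
    [AddCommGroup B] [Module S B] [AddCommGroup C] [Module S C] [AddCommGroup Y] [Module S Y]
    (f : A →ₗ[S] B) (g : B →ₗ[S] C) (hf : Function.Injective f) (hfg : Function.Exact f g)
    (hg : Function.Surjective g)
    (hC : Subsingleton (Ext (ModuleCat.of S C) (ModuleCat.of S Y) 1)) (ξ : A →ₗ[S] Y) :
    ∃ η : B →ₗ[S] Y, η ∘ₗ f = ξ := by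
  have hS : (ModuleCat.shortComplexOfCompEqZero f g hfg.linearMap_comp_eq_zero).ShortExact :=
    ModuleCat.shortComplex_shortExact _ hfg hf hg
  let x₁ : Ext (ModuleCat.of S A) (ModuleCat.of S Y) 0 := Ext.mk₀ (ModuleCat.ofHom ξ)
  obtain ⟨x₂, hx₂⟩ := Ext.contravariant_sequence_exact₁ hS (ModuleCat.of S Y) x₁
    (rfl : 1 + 0 = 1) (Subsingleton.elim _ _)
  obtain ⟨φ, rfl⟩ := (Ext.mk₀_bijective _ _).2 x₂
  rw [Ext.mk₀_comp_mk₀] at hx₂
  have hφ : ModuleCat.ofHom f ≫ φ = ModuleCat.ofHom ξ := (Ext.mk₀_bijective _ _).1 hx₂
  refine ⟨φ.hom, ?_⟩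
  have := congrArg ModuleCat.Hom.hom hφ
  simpa using this

/-- A submodule of a projective module has `Ext¹(-, Y) = 0` if `Y` has injective dimension `≤ 1`. -/
lemma subsingleton_ext_one_of_injective {N F Y : Type u} [AddCommGroup N] [Module S N]
    [AddCommGroup F] [Module S F] [Module.Projective S F] [AddCommGroup Y] [Module S Y]
    (ι : N →ₗ[S] F) (hι : Function.Injective ι)
    (hY : HasInjectiveDimensionLT (ModuleCat.of S Y) 2) :
    Subsingleton (Ext (ModuleCat.of S N) (ModuleCat.of S Y) 1) := by
  have hfg : Function.Exact ι (LinearMap.range ι).mkQ := by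
    rw [LinearMap.exact_iff, Submodule.ker_mkQ]
  have hS : (ModuleCat.shortComplexOfCompEqZero ι (LinearMap.range ι).mkQ
      hfg.linearMap_comp_eq_zero).ShortExact :=
    ModuleCat.shortComplex_shortExact _ hfg hι (Submodule.mkQ_surjective _)
  refine ⟨fun a b => ?_⟩
  suffices h : ∀ x : Ext (ModuleCat.of S N) (ModuleCat.of S Y) 1, x = 0 by rw [h a, h b]
  intro x₁
  obtain ⟨x₂, hx₂⟩ := Ext.contravariant_sequence_exact₁ hS (ModuleCat.of S Y) x₁
    (rfl : 1 + 1 = 2) (Ext.eq_zero_of_hasInjectiveDimensionLT _ 2 le_rfl)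
  have : Projective (ModuleCat.of S F) := inferInstance
  have hx0 : x₂ = 0 := Ext.eq_zero_of_projective x₂
  rw [← hx₂, hx0, Ext.comp_zero]

/-- Over a Noetherian ring of self-injective dimension `≤ 1`, the evaluation map `M → M**` of a
finitely generated module is surjective. -/
theorem eval_surjective [IsNoetherianRing S]
    (hS : HasInjectiveDimensionLT (ModuleCat.of S S) 2)
    (M : Type u) [AddCommGroup M] [Module S M] [Module.Finite S M] :
    Function.Surjective (Module.Dual.eval S M) := by
  obtain ⟨a, π, hπ⟩ := Module.Finite.exists_fin' S M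
  obtain ⟨b, q, hq⟩ := Module.Finite.exists_fin' S (LinearMap.ker π)
  let d : (Fin b → S) →ₗ[S] (Fin a → S) := (LinearMap.ker π).subtype ∘ₗ q
  have hd : LinearMap.range d = LinearMap.ker π := by
    rw [LinearMap.range_comp, LinearMap.range_eq_top.mpr hq, Submodule.map_top,
      Submodule.range_subtype]
  have hπinj : Function.Injective π.dualMap := LinearMap.dualMap_injective_of_surjective hπ
  have hex : Function.Exact π.dualMap d.dualMap.rangeRestrict := by
    rw [LinearMap.exact_iff, LinearMap.ker_rangeRestrict,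
      LinearMap.ker_dualMap_eq_dualAnnihilator_range, hd,
      LinearMap.range_dualMap_eq_dualAnnihilator_ker_of_surjective π hπ]
  have hC : Subsingleton (Ext (ModuleCat.of S (LinearMap.range d.dualMap)) (ModuleCat.of S S) 1) :=
    subsingleton_ext_one_of_injective (LinearMap.range d.dualMap).subtype
      (Submodule.injective_subtype _) hS
  intro ξ
  obtain ⟨η, hη⟩ := exists_extension_of_ext_one π.dualMap d.dualMap.rangeRestrict hπinj hex
    (LinearMap.surjective_rangeRestrict _) hC ξ
  obtain ⟨v, hv⟩ := (Module.bijective_dual_eval S (Fin a → S)).2 η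
  refine ⟨π v, ?_⟩
  ext φ
  rw [Module.Dual.eval_apply, ← hη, LinearMap.comp_apply, ← hv, Module.Dual.eval_apply,
    LinearMap.dualMap_apply]

/-- The dual of a finitely generated module over a Noetherian ring is finitely generated. -/
lemma finite_dual [IsNoetherianRing S] (M : Type u) [AddCommGroup M] [Module S M]
    [Module.Finite S M] : Module.Finite S (Module.Dual S M) := by
  obtain ⟨a, π, hπ⟩ := Module.Finite.exists_fin' S M
  exact Module.Finite.of_injective π.dualMap (LinearMap.dualMap_injective_of_surjective hπ)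

/-- A finitely generated torsionless module embeds into a finite free module. -/
lemma exists_injective_of_eval_injective [IsNoetherianRing S]
    (M : Type u) [AddCommGroup M] [Module S M] [Module.Finite S M]
    (h : Function.Injective (Module.Dual.eval S M)) :
    ∃ (b : ℕ) (ι : M →ₗ[S] Module.Dual S (Fin b → S)), Function.Injective ι := by
  have := finite_dual (S := S) M
  obtain ⟨b, q, hq⟩ := Module.Finite.exists_fin' S (Module.Dual S M)
  exact ⟨b, q.dualMap ∘ₗ Module.Dual.eval S M,
    (LinearMap.dualMap_injective_of_surjective hq).comp h⟩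

theorem subsingleton_ext_one_of_eval_injective [IsNoetherianRing S]
    (hS : HasInjectiveDimensionLT (ModuleCat.of S S) 2)
    (M : Type u) [AddCommGroup M] [Module S M] [Module.Finite S M]
    (h : Function.Injective (Module.Dual.eval S M)) :
    Subsingleton (Ext (ModuleCat.of S M) (ModuleCat.of S S) 1) := by
  obtain ⟨b, ι, hι⟩ := exists_injective_of_eval_injective M h
  exact subsingleton_ext_one_of_injective ι hι hS

end Groth.Agent.Lib.Helper82.GorDimOne
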