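import Groth.Agent.Lib.Helper82.AusBuchGen
import Groth.Agent.Lib.Helper82.PolyDepth

set_option autoImplicit false
universe u

namespace Groth.Agent.Lib.Helper82.GrAB

open LocCoh Groth.Agent.Lib.Helper82.AusBuchGen Groth.Agent.Lib.Helper82.GrSyzTor
  Groth.Agent.Lib.Helper82.PolyDepth

variable (k : Type u) [Field k] (r : ℕ)
  (M : Type u) [AddCommGroup M] [Module k M] [Module (MvPolynomial (Fin (r + 1)) k) M]
  [IsScalarTower k (MvPolynomial (Fin (r + 1)) k) M]
  (ℳ : ℤ → Submodule k M) [DirectSum.Decomposition ℳ]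
  [SetLike.GradedSMul (GrSyz.stdGr k (Fin (r + 1))) ℳ]
  (F : GrSyz.FreeRes (GrSyz.stdGr k (Fin (r + 1))) ℳ)
  (hF : F.IsMinimal (mI k (Fin (r + 1))))

omit [IsScalarTower k (MvPolynomial (Fin (r + 1)) k) M] in
lemma dLin_injective_of_rk_eq_zero (i : ℕ) (h : F.rk (i + 2) = 0) :
    Function.Injective (F.dLin i) := by
  rw [← LinearMap.ker_eq_bot, F.exact_succ i, LinearMap.range_eq_bot]
  apply LinearMap.ext
  intro v
  have : IsEmpty (Fin (F.rk (i + 1 + 1))) := by
    rw [show i + 1 + 1 = i + 2 from rfl, h]; infer_instance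
  have hv : v = 0 := Subsingleton.elim _ _
  rw [hv, map_zero]
  rfl

include hF in
omit [IsScalarTower k (MvPolynomial (Fin (r + 1)) k) M] in
lemma minRes_ZZ (ℓ : ℕ) (hℓ : F.rk (ℓ + 2) = 0) (hℓ' : F.rk (ℓ + 1) ≠ 0) :
    ∀ i a : ℕ, a + i = ℓ → MinRes (mI k (Fin (r + 1))) i
      (ModuleCat.of (MvPolynomial (Fin (r + 1)) k) (ZZ k r M ℳ F a)) := by
  intro i
  induction i with
  | zero =>
    intro a ha
    have ha' : a = ℓ := by omega
    subst ha'
    have hinj := dLin_injective_of_rk_eq_zero k r M ℳ F a hℓ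
    exact MinRes.zero _ (F.rk (a + 1)) (Nat.pos_of_ne_zero hℓ')
      (LinearEquiv.ofInjective (F.dLin a) hinj).symm
  | succ i ih =>
    intro a ha
    have hIH := ih (a + 1) (by omega)
    refine MinRes.succ i _ _ (F.rk (a + 1)) (ZZ k r M ℳ F (a + 1)).subtype
      (F.dLin a).rangeRestrict (Submodule.subtype_injective _) ?_
      (LinearMap.surjective_rangeRestrict _) ?_ hIH
    · rw [LinearMap.exact_iff, LinearMap.ker_rangeRestrict, Submodule.range_subtype]
      exact F.exact_succ a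
    · intro x
      exact ZZ_le k r M ℳ F hF (a + 1) x.2

include hF in
omit [IsScalarTower k (MvPolynomial (Fin (r + 1)) k) M] in
theorem minRes_of_freeRes (ℓ : ℕ) (hℓ : F.HasLengthLE ℓ) (hℓ' : F.rk ℓ ≠ 0) :
    MinRes (mI k (Fin (r + 1))) ℓ (ModuleCat.of (MvPolynomial (Fin (r + 1)) k) M) := by
  cases ℓ with
  | zero =>
    have h1 : F.rk 1 = 0 := hℓ 1 (by omega)
    have hker : LinearMap.ker F.augLin = ⊥ := by
      rw [F.exact_zero, LinearMap.range_eq_bot]
      apply LinearMap.ext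
      intro v
      have : IsEmpty (Fin (F.rk (0 + 1))) := by
        rw [show 0 + 1 = 1 from rfl, h1]; infer_instance
      have hv : v = 0 := Subsingleton.elim _ _
      rw [hv, map_zero]
      rfl
    have hinj : Function.Injective F.augLin := LinearMap.ker_eq_bot.1 hker
    exact MinRes.zero _ (F.rk 0) (Nat.pos_of_ne_zero hℓ')
      (LinearEquiv.ofBijective F.augLin ⟨hinj, F.aug_surjective⟩).symm
  | succ j =>
    have hZ := minRes_ZZ k r M ℳ F hF j (hℓ (j + 2) (by omega)) hℓ' j 0 (by omega)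
    refine MinRes.succ j _ _ (F.rk 0) (ZZ k r M ℳ F 0).subtype F.augLin
      (Submodule.subtype_injective _) ?_ F.aug_surjective ?_ hZ
    · rw [LinearMap.exact_iff, Submodule.range_subtype]
      exact F.exact_zero
    · intro x
      exact ZZ_le k r M ℳ F hF 0 x.2

include hF in
omit [IsScalarTower k (MvPolynomial (Fin (r + 1)) k) M] in
theorem length_add_idealDepth (ℓ : ℕ) (hℓ : F.HasLengthLE ℓ) (hℓ' : F.rk ℓ ≠ 0) :
    (ℓ : ℕ∞) + idealDepth (mI k (Fin (r + 1))) M = ((r + 1 : ℕ) : ℕ∞) := by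
  have h := idealDepth_eq_of_minRes _ (minRes_of_freeRes k r M ℳ F hF ℓ hℓ hℓ')
  rw [idealDepth_mI] at h
  exact h.symm

end Groth.Agent.Lib.Helper82.GrAB
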