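import Mathlib

/-!
# The first Koszul homology of a generating family, numerically

For a family `x : Fin e → C` we consider the module of relations `Z x = {a | ∑ aᵢ xᵢ = 0}` and
the submodule `K x` of trivial (Koszul) relations.  `GenBy x r` says that `Z x / K x` is
generated by `r` elements.  For two minimal generating families of the maximal ideal of a local
ring, `GenBy x r ↔ GenBy y r`.
-/

set_option autoImplicit false

namespace Groth.Agent.Lib.Helper82.KoszH1

open IsLocalRing Matrix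

universe u

variable {C : Type u} [CommRing C] {e : ℕ}

/-- The module of relations among the `xᵢ`. -/
def Z (x : Fin e → C) : Submodule C (Fin e → C) where
  carrier := {a | a ⬝ᵥ x = 0}
  zero_mem' := by simp
  add_mem' := by
    intro a b ha hb
    change a ⬝ᵥ x = 0 at ha
    change b ⬝ᵥ x = 0 at hb
    change (a + b) ⬝ᵥ x = 0
    rw [add_dotProduct, ha, hb, add_zero]
  smul_mem' := by
    intro c a ha
    change a ⬝ᵥ x = 0 at ha
    change (c • a) ⬝ᵥ x = 0
    rw [smul_dotProduct, ha, smul_zero]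

theorem mem_Z {x : Fin e → C} {a : Fin e → C} : a ∈ Z x ↔ a ⬝ᵥ x = 0 := Iff.rfl

/-- The module of trivial relations. -/
def K (x : Fin e → C) : Submodule C (Fin e → C) :=
  Submodule.span C {v : Fin e → C | ∃ i j : Fin e, v = Pi.single i (x j) - Pi.single j (x i)}

theorem K_le_Z (x : Fin e → C) : K x ≤ Z x := by
  rw [K, Submodule.span_le]
  rintro _ ⟨i, j, rfl⟩
  change (Pi.single i (x j) - Pi.single j (x i)) ⬝ᵥ x = 0
  rw [sub_dotProduct, single_dotProduct, single_dotProduct, mul_comm, sub_self]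

/-- `Z x` is generated by `r` elements modulo `K x`. -/
def GenBy (x : Fin e → C) (r : ℕ) : Prop :=
  ∃ z : Fin r → (Fin e → C), (∀ k, z k ∈ Z x) ∧ Z x ≤ Submodule.span C (Set.range z) ⊔ K x

theorem vecMul_mem_Z {x y : Fin e → C} (h : Matrix (Fin e) (Fin e) C) (hxy : x = h *ᵥ y)
    {a : Fin e → C} (ha : a ∈ Z x) : a ᵥ* h ∈ Z y := by
  rw [mem_Z] at ha ⊢
  rw [← dotProduct_mulVec, ← hxy, ha]

theorem vecMul_mem_K {x y : Fin e → C} (h : Matrix (Fin e) (Fin e) C) (hxy : x = h *ᵥ y)
    {a : Fin e → C} (ha : a ∈ K x) : a ᵥ* h ∈ K y := by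
  have hle : K x ≤ (K y).comap h.vecMulLinear := by
    rw [K, Submodule.span_le]
    rintro _ ⟨i, j, rfl⟩
    change (Pi.single i (x j) - Pi.single j (x i)) ᵥ* h ∈ K y
    rw [sub_vecMul, single_vecMul, single_vecMul]
    have key : x j • h.row i - x i • h.row j =
        ∑ l, ∑ m, (h j l * h i m) • (Pi.single m (y l) - Pi.single l (y m) : Fin e → C) := by
      have hxj : ∀ j, x j = ∑ l, h j l * y l := by
        intro j; rw [hxy]; rfl
      ext n
      simp only [Pi.sub_apply, Pi.smul_apply, smul_eq_mul, Finset.sum_apply, Matrix.row_apply,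
        Pi.single_apply, mul_sub, mul_ite, mul_zero, Finset.sum_sub_distrib]
      rw [hxj j, hxj i]
      simp only [Finset.sum_ite_eq, Finset.mem_univ, if_true, Finset.sum_mul]
      congr 1
      · apply Finset.sum_congr rfl; intro l _; ring
      · rw [Finset.sum_comm]
        simp only [Finset.sum_ite_eq, Finset.mem_univ, if_true]
        apply Finset.sum_congr rfl; intro l _; ring
    rw [key]
    refine Submodule.sum_mem _ fun l _ => Submodule.sum_mem _ fun m _ => ?_
    exact Submodule.smul_mem _ _ (Submodule.subset_span ⟨m, l, rfl⟩)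
  exact hle ha


section Local

variable [IsLocalRing C]

/-- A matrix fixing a minimal generating family of the maximal ideal is invertible. -/
theorem isUnit_of_mulVec_eq {y : Fin e → C}
    (hy : Ideal.span (Set.range y) = maximalIdeal C)
    (hmin : (maximalIdeal C).spanFinrank = e) (u : Matrix (Fin e) (Fin e) C)
    (hu : u *ᵥ y = y) : IsUnit u := by
  classical
  rw [Matrix.isUnit_iff_isUnit_det]
  by_contra hdet
  have hdetm : u.det ∈ maximalIdeal C := (mem_maximalIdeal _).mpr hdet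
  -- pass to the residue field
  have hdet0 : (u.map (residue C)).det = 0 := by
    rw [← RingHom.mapMatrix_apply, ← RingHom.map_det]
    exact (residue_eq_zero_iff _).mpr hdetm
  obtain ⟨vbar, hvne, hv0⟩ := Matrix.exists_vecMul_eq_zero_iff.mpr hdet0
  choose v hv using fun i => residue_surjective (vbar i)
  -- some coordinate of `v` is a unit
  obtain ⟨i₀, hi₀⟩ : ∃ i₀, vbar i₀ ≠ 0 := by
    by_contra hcon
    push Not at hcon
    exact hvne (funext hcon)
  have hunit : IsUnit (v i₀) := by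
    by_contra hnu
    apply hi₀
    rw [← hv i₀]
    exact (residue_eq_zero_iff _).mpr ((mem_maximalIdeal _).mpr hnu)
  -- the entries of `v ᵥ* u` are in the maximal ideal
  have hw : ∀ j, (v ᵥ* u) j ∈ maximalIdeal C := by
    intro j
    rw [← residue_eq_zero_iff]
    have h1 := congrFun hv0 j
    have h2 : residue C ((v ᵥ* u) j) = (vbar ᵥ* u.map (residue C)) j := by
      simp only [Matrix.vecMul, dotProduct, map_sum, map_mul, Matrix.map_apply, hv]
    rw [h2, h1]
    rfl
  -- `∑ vᵢ yᵢ ∈ 𝔪²`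
  have hym : ∀ j, y j ∈ maximalIdeal C := fun j => by
    rw [← hy]; exact Ideal.subset_span ⟨j, rfl⟩
  have hsum : v ⬝ᵥ y ∈ maximalIdeal C * maximalIdeal C := by
    have h3 : v ⬝ᵥ y = (v ᵥ* u) ⬝ᵥ y := by
      rw [← dotProduct_mulVec, hu]
    rw [h3]
    exact Ideal.sum_mem _ fun j _ => Ideal.mul_mem_mul (hw j) (hym j)
  -- so `y i₀` is redundant
  set N : Ideal C := Ideal.span (y '' {i | i ≠ i₀}) with hN
  have hyi₀ : y i₀ ∈ N ⊔ maximalIdeal C * maximalIdeal C := by
    obtain ⟨w, hw1⟩ := hunit.exists_left_inv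
    have h4 : y i₀ = w * (v ⬝ᵥ y) - w * ∑ j ∈ Finset.univ.erase i₀, v j * y j := by
      rw [dotProduct, ← Finset.add_sum_erase _ _ (Finset.mem_univ i₀)]
      have : w * (v i₀ * y i₀) = y i₀ := by rw [← mul_assoc, hw1, one_mul]
      rw [mul_add, this]; ring
    rw [h4]
    refine Ideal.sub_mem _ (Ideal.mem_sup_right (Ideal.mul_mem_left _ _ hsum))
      (Ideal.mem_sup_left (Ideal.mul_mem_left _ _ (Ideal.sum_mem _ fun j hj => ?_)))
    exact Ideal.mul_mem_left _ _ (Ideal.subset_span ⟨j, (Finset.mem_erase.mp hj).1, rfl⟩)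
  have hle : maximalIdeal C ≤ N ⊔ maximalIdeal C • maximalIdeal C := by
    rw [← hy, Ideal.span_le]
    rintro _ ⟨j, rfl⟩
    by_cases hj : j = i₀
    · rw [hj, hy]; exact hyi₀
    · rw [hy]; exact Ideal.mem_sup_left (Ideal.subset_span ⟨j, hj, rfl⟩)
  have hfg : (maximalIdeal C).FG := by
    rw [← hy]; exact ⟨Finset.univ.image y, by simp⟩
  have hmN : maximalIdeal C ≤ N :=
    Submodule.le_of_le_smul_of_le_jacobson_bot hfg
      (by rw [IsLocalRing.jacobson_eq_maximalIdeal ⊥ bot_ne_top]) hle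
  have hNm : N ≤ maximalIdeal C := by
    rw [hN, Ideal.span_le]
    rintro _ ⟨j, -, rfl⟩
    exact hym j
  have hNeq : N = maximalIdeal C := le_antisymm hNm hmN
  -- count generators
  have hcard : (maximalIdeal C).spanFinrank ≤ (y '' {i | i ≠ i₀}).ncard := by
    rw [← hNeq, hN]
    exact Submodule.spanFinrank_span_le_ncard_of_finite (Set.toFinite _)
  have hcard2 : (y '' {i | i ≠ i₀}).ncard ≤ ({i | i ≠ i₀} : Set (Fin e)).ncard :=
    Set.ncard_image_le (Set.toFinite _)
  have hcard3 : ({i | i ≠ i₀} : Set (Fin e)).ncard = e - 1 := by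
    have : ({i | i ≠ i₀} : Set (Fin e)) = ({i₀} : Set (Fin e))ᶜ := by ext; simp
    rw [this, Set.ncard_compl, Set.ncard_singleton, Nat.card_fin]
  have hepos : 0 < e := Fin.pos i₀
  omega

/-- Independence of the choice of the minimal generating family. -/
theorem genBy_of_genBy {x y : Fin e → C}
    (hx : Ideal.span (Set.range x) = maximalIdeal C)
    (hy : Ideal.span (Set.range y) = maximalIdeal C)
    (hmin : (maximalIdeal C).spanFinrank = e) {r : ℕ} (hr : GenBy x r) : GenBy y r := by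
  classical
  obtain ⟨z, hzZ, hzgen⟩ := hr
  -- transition matrices
  have hg : ∀ i, ∃ c : Fin e → C, ∑ j, c j * x j = y i := fun i => by
    rw [← Ideal.mem_span_range_iff_exists_fun, hx, ← hy]
    exact Ideal.subset_span ⟨i, rfl⟩
  have hh : ∀ i, ∃ c : Fin e → C, ∑ j, c j * y j = x i := fun i => by
    rw [← Ideal.mem_span_range_iff_exists_fun, hy, ← hx]
    exact Ideal.subset_span ⟨i, rfl⟩
  choose g hg using hg
  choose h hh using hh
  let G : Matrix (Fin e) (Fin e) C := Matrix.of g
  let H : Matrix (Fin e) (Fin e) C := Matrix.of h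
  have hGy : y = G *ᵥ x := by
    ext i; exact (hg i).symm
  have hHx : x = H *ᵥ y := by
    ext i; exact (hh i).symm
  have hu : (G * H) *ᵥ y = y := by
    rw [← mulVec_mulVec, ← hHx, ← hGy]
  have hunit := isUnit_of_mulVec_eq hy hmin (G * H) hu
  obtain ⟨U, hU⟩ := hunit
  have hUinv : (↑U⁻¹ : Matrix (Fin e) (Fin e) C) *ᵥ y = y := by
    conv_lhs => rw [← hu, ← hU, mulVec_mulVec, Units.inv_mul, one_mulVec]
  refine ⟨fun k => z k ᵥ* H, fun k => vecMul_mem_Z H hHx (hzZ k), ?_⟩
  intro b hb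
  -- `b' = b U⁻¹`
  have hb' : b ᵥ* (↑U⁻¹ : Matrix (Fin e) (Fin e) C) ∈ Z y := by
    rw [mem_Z, ← dotProduct_mulVec, hUinv]; exact hb
  have hb'' : (b ᵥ* (↑U⁻¹ : Matrix (Fin e) (Fin e) C)) ᵥ* G ∈ Z x := vecMul_mem_Z G hGy hb'
  have hmem := hzgen hb''
  obtain ⟨s, hs, κ, hκ, hsum⟩ := Submodule.mem_sup.mp hmem
  have hbeq : b = s ᵥ* H + κ ᵥ* H := by
    rw [← add_vecMul, hsum, vecMul_vecMul, vecMul_vecMul, ← hU]
    rw [show (↑U⁻¹ : Matrix (Fin e) (Fin e) C) * (↑U : Matrix (Fin e) (Fin e) C) = 1 from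
      Units.inv_mul U, vecMul_one]
  rw [hbeq]
  refine Submodule.add_mem _ (Submodule.mem_sup_left ?_)
    (Submodule.mem_sup_right (vecMul_mem_K H hHx hκ))
  -- `s H` is in the span of the `z k H`
  have hle : Submodule.span C (Set.range z) ≤
      (Submodule.span C (Set.range fun k => z k ᵥ* H)).comap H.vecMulLinear := by
    rw [Submodule.span_le]
    rintro _ ⟨k, rfl⟩
    exact Submodule.subset_span ⟨k, rfl⟩
  exact hle hs

theorem genBy_iff {x y : Fin e → C}
    (hx : Ideal.span (Set.range x) = maximalIdeal C)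
    (hy : Ideal.span (Set.range y) = maximalIdeal C)
    (hmin : (maximalIdeal C).spanFinrank = e) (r : ℕ) : GenBy x r ↔ GenBy y r :=
  ⟨genBy_of_genBy hx hy hmin, genBy_of_genBy hy hx hmin⟩

end Local

end Groth.Agent.Lib.Helper82.KoszH1
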