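import Mathlib
import Groth.Agent.Lib.Helper82.CICompl

/-!
# The Koszul `H₁` invariant along a flat local homomorphism

For a flat local homomorphism of local rings `A → C` and a family `x` in `A` with image `y` in `C`,
`GenBy x r ↔ GenBy y r` (`genBy_iff`): the minimal number of generators of `H₁` of the Koszul
complex is invariant.  As a consequence (`geomDepth_eq`), the "geometric depth" `dim B - μ(I)`
of a presentation `Â ≃ B/I` of the completion is invariant under flat local homomorphisms
`A → A'` with `m_A A' = m_A'`.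
-/

set_option autoImplicit false

namespace Groth.Agent.Lib.Helper82.KoszH1Flat

open TensorProduct IsLocalRing Groth.Agent.Lib.Helper82.KoszH1 Matrix

/-- Over a local ring, if a finite module is generated by a set `G` and also by `r` elements, then
it is generated by at most `r` elements of `G`. -/
theorem exists_finset_subset_span_eq_top {R : Type*} [CommRing R] [IsLocalRing R]
    {N : Type*} [AddCommGroup N] [Module R N] [Module.Finite R N] (G : Set N)
    (hG : Submodule.span R G = ⊤) {r : ℕ} (w : Fin r → N)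
    (hw : Submodule.span R (Set.range w) = ⊤) :
    ∃ t : Finset N, (t : Set N) ⊆ G ∧ t.card ≤ r ∧ Submodule.span R (t : Set N) = ⊤ := by
  classical
  let k := ResidueField R
  let φ : N →ₗ[R] k ⊗[R] N := TensorProduct.mk R k N 1
  have hspan : ∀ S : Set N, Submodule.span R S = ⊤ → Submodule.span k (φ '' S) = ⊤ := by
    intro S hS
    have h1 : (Submodule.span R S).map φ = ⊤ := by
      rw [hS]
      exact (IsLocalRing.map_tensorProduct_mk_eq_top (R := R) (M := N)).mpr rfl
    rw [Submodule.map_span] at h1
    rw [← Submodule.restrictScalars_eq_top_iff R,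
      Submodule.restrictScalars_span R k Ideal.Quotient.mk_surjective]
    exact h1
  have hT := hspan G hG
  obtain ⟨b, hbT, hbspan, hbli⟩ := exists_linearIndependent k (φ '' G)
  rw [hT] at hbspan
  have hbfin : b.Finite := hbli.setFinite
  let B : Module.Basis b k (k ⊗[R] N) := Module.Basis.mk hbli (by
    rw [Subtype.range_coe_subtype]
    exact hbspan.ge)
  have hcard : hbfin.toFinset.card ≤ r := by
    have h1 : Module.finrank k (k ⊗[R] N) = hbfin.toFinset.card := by
      have := hbfin.fintype
      rw [Module.finrank_eq_card_basis B, Set.Finite.card_toFinset]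
    rw [← h1]
    have h2 := hspan (Set.range w) hw
    rw [← Set.range_comp] at h2
    have h3 := finrank_range_le_card (R := k) (φ ∘ w)
    rw [Set.finrank, h2, finrank_top, Fintype.card_fin] at h3
    exact h3
  choose! g hgG hg using fun β (hβ : β ∈ b) => hbT hβ
  let t' : Finset N := hbfin.toFinset.image g
  have ht'G : ∀ y ∈ t', y ∈ G := by
    intro y hy
    obtain ⟨β, hβ, rfl⟩ := Finset.mem_image.mp hy
    exact hgG β (hbfin.mem_toFinset.mp hβ)
  have ht'span : Submodule.span R (t' : Set N) = ⊤ := by
    rw [← IsLocalRing.map_tensorProduct_mk_eq_top (R := R) (M := N), Submodule.map_span]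
    have himg : (TensorProduct.mk R (ResidueField R) N 1) '' (t' : Set N) = b := by
      ext β
      constructor
      · rintro ⟨y, hy, rfl⟩
        obtain ⟨β', hβ', rfl⟩ := Finset.mem_image.mp (Finset.mem_coe.mp hy)
        have hβ'b := hbfin.mem_toFinset.mp hβ'
        have := hg β' hβ'b
        change φ (g β') ∈ b
        rw [this]; exact hβ'b
      · intro hβ
        refine ⟨g β, ?_, hg β hβ⟩
        exact Finset.mem_coe.mpr (Finset.mem_image.mpr ⟨β, hbfin.mem_toFinset.mpr hβ, rfl⟩)
    rw [himg, ← Submodule.restrictScalars_span R k Ideal.Quotient.mk_surjective, hbspan]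
    rfl
  exact ⟨t', fun x hx => ht'G x (Finset.mem_coe.mp hx), Finset.card_image_le.trans hcard, ht'span⟩


/-- Submodule version of `exists_finset_subset_span_eq_top`. -/
theorem exists_finset_subset_span_eq {R : Type*} [CommRing R] [IsLocalRing R]
    {M : Type*} [AddCommGroup M] [Module R M] (P : Submodule R M) (G : Set M)
    (hG : Submodule.span R G = P) {r : ℕ} (w : Fin r → M)
    (hw : Submodule.span R (Set.range w) = P) :
    ∃ t : Finset M, (t : Set M) ⊆ G ∧ t.card ≤ r ∧ Submodule.span R (t : Set M) = P := by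
  classical
  have hfin : Module.Finite R P :=
    Module.Finite.iff_fg.mpr (hw ▸ Submodule.fg_span (Set.finite_range w))
  have hwP : ∀ k, w k ∈ P := fun k => hw ▸ Submodule.subset_span (Set.mem_range_self k)
  let w' : Fin r → P := fun k => ⟨w k, hwP k⟩
  have hw' : Submodule.span R (Set.range w') = ⊤ := by
    apply Submodule.map_injective_of_injective P.injective_subtype
    rw [Submodule.map_span, ← Set.range_comp, Submodule.map_subtype_top]
    exact hw
  let G' : Set P := Subtype.val ⁻¹' G
  have hG' : Submodule.span R G' = ⊤ := by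
    subst hG
    exact Submodule.span_span_coe_preimage
  obtain ⟨t', ht'G, ht'card, ht'span⟩ := exists_finset_subset_span_eq_top G' hG' w' hw'
  refine ⟨t'.image Subtype.val, ?_, Finset.card_image_le.trans ht'card, ?_⟩
  · intro x hx
    obtain ⟨y, hy, rfl⟩ := Finset.mem_image.mp (Finset.mem_coe.mp hx)
    exact ht'G hy
  · have h2 := congrArg (Submodule.map P.subtype) ht'span
    rw [Submodule.map_span, Submodule.map_subtype_top] at h2
    rw [Finset.coe_image]
    exact h2

universe u

section Flat

variable {A C : Type u} [CommRing A] [CommRing C] [Algebra A C] {e : ℕ}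

/-- coordinatewise base change of vectors -/
noncomputable def Φ : (Fin e → A) →ₗ[A] (Fin e → C) :=
  LinearMap.compLeft (Algebra.linearMap A C) (Fin e)

@[simp] theorem Φ_apply (v : Fin e → A) (i : Fin e) : Φ (C := C) v i = algebraMap A C (v i) := rfl

theorem Φ_single (i : Fin e) (a : A) :
    Φ (C := C) (Pi.single i a) = Pi.single i (algebraMap A C a) := by
  ext j
  rw [Φ_apply]
  by_cases h : j = i
  · subst h; simp
  · simp [Pi.single_eq_of_ne h]

variable (x : Fin e → A)

theorem Φ_mem_Z {v : Fin e → A} (hv : v ∈ Z x) :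
    Φ (C := C) v ∈ Z (fun i => algebraMap A C (x i)) := by
  rw [mem_Z] at hv ⊢
  have := congrArg (algebraMap A C) hv
  rw [map_zero, RingHom.map_dotProduct] at this
  exact this

theorem Φ_mem_K {v : Fin e → A} (hv : v ∈ K x) :
    Φ (C := C) v ∈ K (fun i => algebraMap A C (x i)) := by
  refine Submodule.span_induction (p := fun v _ => Φ (C := C) v ∈ K (fun i => algebraMap A C (x i)))
    ?_ ?_ ?_ ?_ hv
  · rintro _ ⟨i, j, rfl⟩
    rw [map_sub, Φ_single, Φ_single]
    exact Submodule.subset_span ⟨i, j, rfl⟩
  · rw [map_zero]; exact zero_mem _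
  · intro a b _ _ ha hb
    rw [map_add]; exact add_mem ha hb
  · intro a b _ hb
    rw [map_smul]
    have : a • Φ (C := C) b = algebraMap A C a • Φ (C := C) b := (algebraMap_smul C a _).symm
    rw [this]
    exact Submodule.smul_mem _ _ hb

theorem K_le_span_image :
    K (fun i => algebraMap A C (x i)) ≤ Submodule.span C (Φ (C := C) '' (K x : Set (Fin e → A))) := by
  rw [K, Submodule.span_le]
  rintro _ ⟨i, j, rfl⟩
  refine Submodule.subset_span ⟨Pi.single i (x j) - Pi.single j (x i),
    Submodule.subset_span ⟨i, j, rfl⟩, ?_⟩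
  rw [map_sub, Φ_single, Φ_single]

theorem Z_le_span_image [Module.Flat A C] :
    Z (fun i => algebraMap A C (x i)) ≤ Submodule.span C (Φ (C := C) '' (Z x : Set (Fin e → A))) := by
  intro c hc
  rw [mem_Z] at hc
  have h0 : ∑ i, x i • c i = 0 := by
    rw [← hc, dotProduct]
    refine Finset.sum_congr rfl fun i _ => ?_
    rw [Algebra.smul_def, mul_comm]
  obtain ⟨k, a, η, hη, ha⟩ := Module.Flat.isTrivialRelation_of_sum_smul_eq_zero (R := A) (M := C)
    (f := x) (x := c) h0
  have hc' : c = ∑ j, η j • Φ (C := C) (fun i => a i j) := by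
    ext i
    rw [hη i, Finset.sum_apply]
    refine Finset.sum_congr rfl fun j _ => ?_
    rw [Pi.smul_apply, Φ_apply, Algebra.smul_def, smul_eq_mul, mul_comm]
  rw [hc']
  refine Submodule.sum_mem _ fun j _ => Submodule.smul_mem _ _ (Submodule.subset_span ⟨_, ?_, rfl⟩)
  change (fun i => a i j) ⬝ᵥ x = 0
  rw [dotProduct, ← ha j]
  exact Finset.sum_congr rfl fun i _ => mul_comm _ _

/-- faithfully flat descent of membership in a submodule of `A^e` -/
theorem mem_of_Φ_mem_span [Module.FaithfullyFlat A C] (L : Submodule A (Fin e → A))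
    (v : Fin e → A) (hv : Φ (C := C) v ∈ Submodule.span C (Φ (C := C) '' (L : Set (Fin e → A)))) :
    v ∈ L := by
  classical
  let Ψ : (Fin e → C) →ₗ[C] C ⊗[A] ((Fin e → A) ⧸ L) :=
    Fintype.linearCombination C (fun i => (1 : C) ⊗ₜ[A] L.mkQ (Pi.single i 1))
  have hΨ : ∀ u : Fin e → A, Ψ (Φ (C := C) u) = (1 : C) ⊗ₜ[A] L.mkQ u := by
    intro u
    rw [Fintype.linearCombination_apply]
    have h1 : ∀ i, Φ (C := C) u i • ((1 : C) ⊗ₜ[A] L.mkQ (Pi.single i 1)) =
        (1 : C) ⊗ₜ[A] L.mkQ (Pi.single i (u i)) := by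
      intro i
      rw [Φ_apply, TensorProduct.smul_tmul', smul_eq_mul, mul_one]
      have : (Pi.single i (u i) : Fin e → A) = u i • Pi.single i 1 := by
        ext j
        by_cases h : j = i
        · subst h; simp
        · simp [Pi.single_eq_of_ne h]
      rw [this, map_smul, ← TensorProduct.smul_tmul, Algebra.smul_def, mul_one]
    rw [Finset.sum_congr rfl fun i _ => h1 i, ← TensorProduct.tmul_sum, ← map_sum]
    congr 2
    ext j
    simp [Finset.sum_apply, Pi.single_apply]
  have hker : Submodule.span C (Φ (C := C) '' (L : Set (Fin e → A))) ≤ LinearMap.ker Ψ := by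
    rw [Submodule.span_le]
    rintro _ ⟨l, hl, rfl⟩
    rw [SetLike.mem_coe, LinearMap.mem_ker, hΨ, Submodule.mkQ_apply,
      (Submodule.Quotient.mk_eq_zero L).mpr hl, TensorProduct.tmul_zero]
  have h0 := hker hv
  rw [LinearMap.mem_ker, hΨ] at h0
  have hinj := Module.FaithfullyFlat.tensorProduct_mk_injective (A := A) (B := C)
    ((Fin e → A) ⧸ L)
  have : L.mkQ v = 0 := hinj (by rw [TensorProduct.mk_apply, h0, map_zero])
  exact (Submodule.Quotient.mk_eq_zero L).mp this


theorem Φ_mem_span {s : Set (Fin e → A)} {v : Fin e → A} (hv : v ∈ Submodule.span A s) :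
    Φ (C := C) v ∈ Submodule.span C (Φ (C := C) '' s) := by
  have h1 : Φ (C := C) v ∈ (Submodule.span A s).map (Φ (C := C)) := Submodule.mem_map_of_mem hv
  rw [Submodule.map_span] at h1
  exact Submodule.span_le_restrictScalars A C _ h1

theorem genBy_mono {D : Type u} [CommRing D] (x : Fin e → D) {r r' : ℕ} (hrr : r' ≤ r)
    (h : GenBy x r') : GenBy x r := by
  obtain ⟨z, hzZ, hz⟩ := h
  refine ⟨fun k => if h : (k : ℕ) < r' then z ⟨k, h⟩ else 0, ?_, ?_⟩
  · intro k
    by_cases h : (k : ℕ) < r'
    · simp only [dif_pos h]; exact hzZ _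
    · simp only [dif_neg h]; exact zero_mem _
  · refine hz.trans (sup_le_sup_right (Submodule.span_mono ?_) _)
    rintro _ ⟨k, rfl⟩
    refine ⟨⟨k, k.2.trans_le hrr⟩, ?_⟩
    simp

theorem genBy_map [Module.Flat A C] {r : ℕ} (h : GenBy x r) :
    GenBy (fun i => algebraMap A C (x i)) r := by
  obtain ⟨z, hzZ, hz⟩ := h
  refine ⟨fun k => Φ (C := C) (z k), fun k => Φ_mem_Z x (hzZ k), ?_⟩
  refine (Z_le_span_image x).trans ?_
  rw [Submodule.span_le]
  rintro _ ⟨v, hv, rfl⟩
  obtain ⟨s, hs, κ, hκ, rfl⟩ := Submodule.mem_sup.mp (hz hv)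
  rw [map_add]
  refine add_mem (Submodule.mem_sup_left ?_) (Submodule.mem_sup_right (Φ_mem_K x hκ))
  have := Φ_mem_span (C := C) hs
  rw [← Set.range_comp] at this
  exact this

theorem genBy_of_map [Module.Flat A C] [IsLocalRing A] [IsLocalRing C]
    [IsLocalHom (algebraMap A C)] {r : ℕ}
    (h : GenBy (fun i => algebraMap A C (x i)) r) : GenBy x r := by
  classical
  have hff : Module.FaithfullyFlat A C := Module.FaithfullyFlat.of_flat_of_isLocalHom
  obtain ⟨w, hwZ, hw⟩ := h
  set y : Fin e → C := fun i => algebraMap A C (x i) with hy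
  let π := (K y).mkQ
  have hZ : Submodule.span C (Φ (C := C) '' (Z x : Set (Fin e → A))) = Z y := by
    apply le_antisymm
    · rw [Submodule.span_le]; rintro _ ⟨v, hv, rfl⟩; exact Φ_mem_Z x hv
    · exact Z_le_span_image x
  have hG : Submodule.span C (π '' (Φ (C := C) '' (Z x : Set (Fin e → A)))) = (Z y).map π := by
    rw [← Submodule.map_span, hZ]
  have hw2 : Submodule.span C (Set.range (π ∘ w)) = (Z y).map π := by
    rw [Set.range_comp, ← Submodule.map_span]
    have h1 : Z y = Submodule.span C (Set.range w) ⊔ K y := by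
      apply le_antisymm hw
      exact sup_le (Submodule.span_le.mpr (by rintro _ ⟨k, rfl⟩; exact hwZ k)) (K_le_Z y)
    rw [h1, Submodule.map_sup, Submodule.mkQ_map_self, sup_bot_eq]
  obtain ⟨t, htG, htcard, htspan⟩ := exists_finset_subset_span_eq _ _ hG (π ∘ w) hw2
  have hex : ∀ n : t, ∃ z : Fin e → A, z ∈ Z x ∧ π (Φ (C := C) z) = n.1 := by
    intro n
    obtain ⟨_, ⟨z, hz, rfl⟩, hn⟩ := htG n.2
    exact ⟨z, hz, hn⟩
  choose ζ hζZ hζ using hex
  refine genBy_mono x htcard ⟨fun k => ζ (t.equivFin.symm k), fun k => hζZ _, ?_⟩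
  intro v hv
  apply mem_of_Φ_mem_span (C := C)
  have h1 : π (Φ (C := C) v) ∈ (Z y).map π := Submodule.mem_map_of_mem (Φ_mem_Z x hv)
  rw [← htspan] at h1
  have h2 : Submodule.span C (t : Set _) ≤
      (Submodule.span C (Φ (C := C) '' Set.range fun k => ζ (t.equivFin.symm k))).map π := by
    rw [Submodule.span_le]
    intro n hn
    refine ⟨Φ (C := C) (ζ ⟨n, hn⟩),
      Submodule.subset_span ⟨_, ⟨t.equivFin ⟨n, hn⟩, by simp⟩, rfl⟩, hζ ⟨n, hn⟩⟩
  obtain ⟨u, hu, hu2⟩ := h2 h1
  have h3 : Φ (C := C) v - u ∈ K y := by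
    rw [← Submodule.ker_mkQ (K y), LinearMap.mem_ker, map_sub, hu2, sub_self]
  have h4 : Φ (C := C) v = u + (Φ (C := C) v - u) := by abel
  rw [h4]
  refine add_mem ?_ ?_
  · exact Submodule.span_mono
      (Set.image_mono fun _ h => Submodule.mem_sup_left (Submodule.subset_span h)) hu
  · exact Submodule.span_mono
      (Set.image_mono fun _ h => Submodule.mem_sup_right h) (K_le_span_image x h3)

theorem genBy_iff [Module.Flat A C] [IsLocalRing A] [IsLocalRing C]
    [IsLocalHom (algebraMap A C)] {r : ℕ} :
    GenBy x r ↔ GenBy (fun i => algebraMap A C (x i)) r :=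
  ⟨genBy_map x, genBy_of_map x⟩

end Flat

section GeomDepth

open Groth.Agent.Lib.Helper85

/-- For a flat local homomorphism `A → C` of local rings with `m_A C = m_C`, a minimal generating
family `x` of `m_A` and a surjection `π : B → C` from a regular local ring,
`μ(ker π) + μ(m_A) = ε + dim B` where `ε` is the minimal number of generators of `H₁(x; A)`. -/
theorem exists_isLeast_of_flat (A : Type u) [CommRing A] [IsLocalRing A] (C : Type u) [CommRing C]
    [IsLocalRing C] [Algebra A C] [Module.Flat A C] [IsLocalHom (algebraMap A C)]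
    (hmax : (maximalIdeal A).map (algebraMap A C) = maximalIdeal C) (hfg : (maximalIdeal A).FG)
    (B : Type u) [CommRing B] [IsRegularLocalRing B] (π : B →+* C) (hπ : Function.Surjective π)
    (n : ℕ) (x : Fin n → A) (hx : Ideal.span (Set.range x) = maximalIdeal A)
    (hmin : (maximalIdeal A).spanFinrank = n) :
    ∃ ε, (RingHom.ker π).spanFinrank + n = ε + (maximalIdeal B).spanFinrank ∧
      IsLeast {r | GenBy x r} ε := by
  have hy : Ideal.span (Set.range fun i => algebraMap A C (x i)) = maximalIdeal C := by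
    rw [← hmax, ← hx, Ideal.map_span, ← Set.range_comp]; rfl
  have hminC : (maximalIdeal C).spanFinrank = n := by
    rw [← hmax, Groth.Agent.Lib.Helper82.CICompl.spanFinrank_map_eq _ hfg, hmin]
  obtain ⟨ε, h1, h2⟩ := Groth.Agent.Lib.Helper82.CICrit.exists_isLeast B C π hπ n _ hy hminC
  refine ⟨ε, h1, ?_⟩
  have : {r | GenBy x r} = {r | GenBy (fun i => algebraMap A C (x i)) r} := by
    ext r; exact genBy_iff x
  rw [this]; exact h2

/-- The geometric depth `dim B - μ(I)` of a presentation `Â ≃ B/I` of the completion is invariant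
under flat local homomorphisms `A → A'` with `m_A A' = m_A'`. -/
theorem geomDepth_eq (A A' : Type u) [CommRing A] [IsLocalRing A] [IsNoetherianRing A]
    [CommRing A'] [IsLocalRing A'] [IsNoetherianRing A'] [Algebra A A']
    [IsLocalHom (algebraMap A A')] [Module.Flat A A']
    (hmax : Ideal.map (algebraMap A A') (maximalIdeal A) = maximalIdeal A')
    (B B' : Type u) [CommRing B] [IsRegularLocalRing B] [CommRing B'] [IsRegularLocalRing B']
    (I : Ideal B) (I' : Ideal B')
    (hpres : Nonempty (AdicCompletion (maximalIdeal A) A ≃+* B ⧸ I))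
    (hpres' : Nonempty (AdicCompletion (maximalIdeal A') A' ≃+* B' ⧸ I')) :
    I.spanFinrank + (maximalIdeal B').spanFinrank =
      I'.spanFinrank + (maximalIdeal B).spanFinrank := by
  obtain ⟨ψ⟩ := hpres
  obtain ⟨ψ'⟩ := hpres'
  have hfg : (maximalIdeal A).FG := (maximalIdeal A).fg_of_isNoetherianRing
  obtain ⟨x, hx⟩ := exists_fin_span_range_eq (maximalIdeal A) hfg rfl
  -- the presentation of `Â`
  let π : B →+* AdicCompletion (maximalIdeal A) A :=
    ψ.symm.toRingHom.comp (Ideal.Quotient.mk I)
  have hπ : Function.Surjective π := ψ.symm.surjective.comp Ideal.Quotient.mk_surjective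
  have hker : RingHom.ker π = I := by
    rw [RingHom.ker_equiv_comp, Ideal.mk_ker]
  obtain ⟨ε, h1, hε⟩ := exists_isLeast_of_flat A (AdicCompletion (maximalIdeal A) A)
    (AdicCompletion.maximalIdeal_eq_map (R := A)).symm hfg B π hπ _ x hx rfl
  -- the presentation of `Â'`
  have halg : algebraMap A (AdicCompletion (maximalIdeal A') A') =
      (algebraMap A' (AdicCompletion (maximalIdeal A') A')).comp (algebraMap A A') :=
    RingHom.ext fun _ => rfl
  have : IsScalarTower A A' (AdicCompletion (maximalIdeal A') A') :=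
    IsScalarTower.of_algebraMap_eq (fun _ => rfl)
  have : Module.Flat A (AdicCompletion (maximalIdeal A') A') :=
    Module.Flat.trans A A' (AdicCompletion (maximalIdeal A') A')
  have : IsLocalHom (algebraMap A (AdicCompletion (maximalIdeal A') A')) := by
    rw [halg]
    infer_instance
  have hmax' : (maximalIdeal A).map (algebraMap A (AdicCompletion (maximalIdeal A') A')) =
      maximalIdeal (AdicCompletion (maximalIdeal A') A') := by
    rw [halg, ← Ideal.map_map, hmax, AdicCompletion.maximalIdeal_eq_map]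
  let π' : B' →+* AdicCompletion (maximalIdeal A') A' :=
    ψ'.symm.toRingHom.comp (Ideal.Quotient.mk I')
  have hπ' : Function.Surjective π' := ψ'.symm.surjective.comp Ideal.Quotient.mk_surjective
  have hker' : RingHom.ker π' = I' := by
    rw [RingHom.ker_equiv_comp, Ideal.mk_ker]
  obtain ⟨ε', h1', hε'⟩ := exists_isLeast_of_flat A (AdicCompletion (maximalIdeal A') A')
    hmax' hfg B' π' hπ' _ x hx rfl
  have : ε = ε' := hε.unique hε'
  rw [hker] at h1
  rw [hker'] at h1'
  omega

end GeomDepth

end Groth.Agent.Lib.Helper82.KoszH1Flat
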