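import Groth.Agent.Lib.Helper82.KoszH1
import Groth.Prelude.Def_CAlgX

/-!
# First Koszul homology of a quotient of a local ring by generators of the kernel

Let `π : B → C` be a surjection from a Noetherian local ring, `t` an `H₁`-regular generating family
of the maximal ideal of `B`.  Then `Z(π t)/K(π t)` is generated by `r` elements iff `ker π` is.
-/

set_option autoImplicit false

namespace Groth.Agent.Lib.Helper82.KoszH1

open IsLocalRing Matrix

universe u

variable {B C : Type u} [CommRing B] [CommRing C] {e : ℕ}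

/-- `π` maps trivial relations to trivial relations. -/
theorem comp_mem_K (π : B →+* C) (t : Fin e → B) {a : Fin e → B} (ha : a ∈ K t) :
    π ∘ a ∈ K (π ∘ t) := by
  classical
  refine Submodule.span_induction (p := fun a _ => π ∘ a ∈ K (π ∘ t)) ?_ ?_ ?_ ?_ ha
  · rintro _ ⟨i, j, rfl⟩
    refine Submodule.subset_span ⟨i, j, ?_⟩
    ext n
    simp only [Function.comp_apply, Pi.sub_apply, Pi.single_apply, map_sub]
    split_ifs <;> simp
  · have : π ∘ (0 : Fin e → B) = 0 := by ext; simp
    rw [this]; exact Submodule.zero_mem _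
  · intro a b _ _ ha hb
    have : π ∘ (a + b) = π ∘ a + π ∘ b := by ext; simp
    rw [this]; exact Submodule.add_mem _ ha hb
  · intro c a _ ha
    have : π ∘ (c • a) = π c • (π ∘ a) := by ext; simp
    rw [this]; exact Submodule.smul_mem _ _ ha

/-- Trivial relations lift along a surjection. -/
theorem exists_mem_K_comp_eq (π : B →+* C) (hπ : Function.Surjective π) (t : Fin e → B)
    {κ : Fin e → C} (hκ : κ ∈ K (π ∘ t)) : ∃ κ' ∈ K t, π ∘ κ' = κ := by
  classical
  refine Submodule.span_induction (p := fun κ _ => ∃ κ' ∈ K t, π ∘ κ' = κ) ?_ ?_ ?_ ?_ hκ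
  · rintro _ ⟨i, j, rfl⟩
    refine ⟨Pi.single i (t j) - Pi.single j (t i), Submodule.subset_span ⟨i, j, rfl⟩, ?_⟩
    ext n
    simp only [Function.comp_apply, Pi.sub_apply, Pi.single_apply, map_sub]
    split_ifs <;> simp
  · exact ⟨0, Submodule.zero_mem _, by ext; simp⟩
  · rintro a b _ _ ⟨a', ha', rfl⟩ ⟨b', hb', rfl⟩
    exact ⟨a' + b', Submodule.add_mem _ ha' hb', by ext; simp⟩
  · rintro c a _ ⟨a', ha', rfl⟩
    obtain ⟨c', rfl⟩ := hπ c
    exact ⟨c' • a', Submodule.smul_mem _ _ ha', by ext; simp⟩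

variable [IsLocalRing B] [IsNoetherianRing B]

omit [IsNoetherianRing B] in
theorem genBy_of_generators (π : B →+* C) (hπ : Function.Surjective π)
    (hker : RingHom.ker π ≠ ⊤) (t : Fin e → B)
    (ht : Ideal.span (Set.range t) = maximalIdeal B) (hH1 : CAlgX.IsH1Regular t) {r : ℕ}
    (f : Fin r → B) (hf : Ideal.span (Set.range f) = RingHom.ker π) : GenBy (π ∘ t) r := by
  classical
  have hIm : RingHom.ker π ≤ maximalIdeal B := IsLocalRing.le_maximalIdeal hker
  have hfI : ∀ k, f k ∈ RingHom.ker π := fun k => by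
    rw [← hf]; exact Ideal.subset_span ⟨k, rfl⟩
  have ha : ∀ k, ∃ a : Fin e → B, ∑ i, a i * t i = f k := fun k => by
    rw [← Ideal.mem_span_range_iff_exists_fun, ht]
    exact hIm (hfI k)
  choose a ha using ha
  refine ⟨fun k => π ∘ a k, fun k => ?_, ?_⟩
  · rw [mem_Z, ← RingHom.map_dotProduct]
    change π (∑ i, a k i * t i) = 0
    rw [ha k]; exact hfI k
  · intro b hb
    choose b' hb' using fun i => hπ (b i)
    have hbb' : π ∘ b' = b := funext hb'
    have hmem : b' ⬝ᵥ t ∈ RingHom.ker π := by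
      rw [RingHom.mem_ker, RingHom.map_dotProduct, hbb']; exact hb
    rw [← hf] at hmem
    obtain ⟨c, hc⟩ := (Ideal.mem_span_range_iff_exists_fun).mp hmem
    -- `b' - ∑ c k • a k` is a relation among the `t i`
    have hrel : ∑ i, (b' - ∑ k, c k • a k) i * t i = 0 := by
      change (b' - ∑ k, c k • a k) ⬝ᵥ t = 0
      rw [sub_dotProduct, sum_dotProduct, ← hc, sub_eq_zero]
      apply Finset.sum_congr rfl
      intro k _
      rw [smul_dotProduct, smul_eq_mul]
      congr 1
      exact (ha k).symm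
    have hK := hH1 _ hrel
    have hK' := comp_mem_K π t hK
    have hdecomp : b = ∑ k, π (c k) • (π ∘ a k) + π ∘ (b' - ∑ k, c k • a k) := by
      ext i
      simp only [Pi.add_apply, Finset.sum_apply, Pi.smul_apply, Function.comp_apply,
        smul_eq_mul, Pi.sub_apply, map_sub, map_sum, map_mul, hb']
      ring
    rw [hdecomp]
    refine Submodule.add_mem _ (Submodule.mem_sup_left ?_) (Submodule.mem_sup_right hK')
    exact Submodule.sum_mem _ fun k _ =>
      Submodule.smul_mem _ _ (Submodule.subset_span ⟨k, rfl⟩)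

theorem exists_generators_of_genBy (π : B →+* C) (hπ : Function.Surjective π)
    (hker : RingHom.ker π ≠ ⊤) (t : Fin e → B)
    (ht : Ideal.span (Set.range t) = maximalIdeal B) {r : ℕ}
    (h : GenBy (π ∘ t) r) : ∃ f : Fin r → B, Ideal.span (Set.range f) = RingHom.ker π := by
  classical
  have hIm : RingHom.ker π ≤ maximalIdeal B := IsLocalRing.le_maximalIdeal hker
  obtain ⟨z, hzZ, hzgen⟩ := h
  choose a ha using fun k => fun i => hπ (z k i)
  have haz : ∀ k, π ∘ a k = z k := fun k => funext (ha k)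
  let f : Fin r → B := fun k => a k ⬝ᵥ t
  have hfI : ∀ k, f k ∈ RingHom.ker π := fun k => by
    rw [RingHom.mem_ker, RingHom.map_dotProduct, haz k]; exact hzZ k
  have hle1 : Ideal.span (Set.range f) ≤ RingHom.ker π := by
    rw [Ideal.span_le]; rintro _ ⟨k, rfl⟩; exact hfI k
  refine ⟨f, le_antisymm hle1 ?_⟩
  -- Nakayama
  have hle2 : RingHom.ker π ≤ Ideal.span (Set.range f) ⊔ maximalIdeal B • RingHom.ker π := by
    intro f₀ hf₀
    have hf₀m : f₀ ∈ Ideal.span (Set.range t) := by rw [ht]; exact hIm hf₀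
    obtain ⟨b', hb'⟩ := (Ideal.mem_span_range_iff_exists_fun).mp hf₀m
    have hb'Z : π ∘ b' ∈ Z (π ∘ t) := by
      rw [mem_Z, ← RingHom.map_dotProduct]
      change π (∑ i, b' i * t i) = 0
      rw [hb']; exact hf₀
    obtain ⟨s, hs, κ, hκ, hsum⟩ := Submodule.mem_sup.mp (hzgen hb'Z)
    obtain ⟨cbar, hcbar⟩ := (Submodule.mem_span_range_iff_exists_fun C).mp hs
    choose c hc using fun k => hπ (cbar k)
    obtain ⟨κ', hκ', hκ'eq⟩ := exists_mem_K_comp_eq π hπ t hκ
    -- the difference has coordinates in the kernel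
    let d : Fin e → B := b' - ∑ k, c k • a k - κ'
    have hd : ∀ i, d i ∈ RingHom.ker π := by
      intro i
      rw [RingHom.mem_ker]
      have h1 : π (d i) = (π ∘ b') i - (∑ k, cbar k • z k) i - κ i := by
        simp only [d, Pi.sub_apply, Finset.sum_apply, Pi.smul_apply, smul_eq_mul, map_sub,
          map_sum, map_mul, Function.comp_apply, hc, ha, ← hκ'eq]
      rw [h1, hcbar, ← hsum]
      simp
    have hκ't : κ' ⬝ᵥ t = 0 := K_le_Z t hκ'
    have hf₀eq : f₀ = ∑ k, c k * f k + d ⬝ᵥ t := by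
      have h2 : b' = ∑ k, c k • a k + κ' + d := by
        simp only [d]; abel
      have h3 : f₀ = b' ⬝ᵥ t := hb'.symm
      rw [h3]
      conv_lhs => rw [h2]
      rw [add_dotProduct, add_dotProduct, hκ't, add_zero, sum_dotProduct]
      congr 1
      apply Finset.sum_congr rfl
      intro k _
      rw [smul_dotProduct, smul_eq_mul]
    rw [hf₀eq]
    refine Submodule.add_mem _ (Submodule.mem_sup_left ?_) (Submodule.mem_sup_right ?_)
    · exact Ideal.sum_mem _ fun k _ => Ideal.mul_mem_left _ _ (Ideal.subset_span ⟨k, rfl⟩)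
    · refine Ideal.sum_mem _ fun i _ => ?_
      rw [mul_comm]
      have htm : t i ∈ maximalIdeal B := by rw [← ht]; exact Ideal.subset_span ⟨i, rfl⟩
      exact Submodule.smul_mem_smul htm (hd i)
  exact Submodule.le_of_le_smul_of_le_jacobson_bot (IsNoetherian.noetherian _)
    (by rw [IsLocalRing.jacobson_eq_maximalIdeal ⊥ bot_ne_top]) hle2

theorem genBy_iff_exists_generators (π : B →+* C) (hπ : Function.Surjective π)
    (hker : RingHom.ker π ≠ ⊤) (t : Fin e → B)
    (ht : Ideal.span (Set.range t) = maximalIdeal B) (hH1 : CAlgX.IsH1Regular t) (r : ℕ) :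
    GenBy (π ∘ t) r ↔ ∃ f : Fin r → B, Ideal.span (Set.range f) = RingHom.ker π :=
  ⟨exists_generators_of_genBy π hπ hker t ht,
    fun ⟨f, hf⟩ => genBy_of_generators π hπ hker t ht hH1 f hf⟩

end Groth.Agent.Lib.Helper82.KoszH1
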