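import Groth.Agent.Lib.Helper82.AusBuch
import Groth.Agent.Lib.Helper29.DepthFinite
import Mathlib.Algebra.Category.ModuleCat.ChangeOfRingsExact

set_option autoImplicit false
universe u

namespace Groth.Agent.Lib.Helper82.PdQuot

open LocCoh CategoryTheory Abelian IsLocalRing Groth.Agent.Lib.Helper82.AusBuch

variable {R : Type u} [CommRing R]

section General

/-- Finite powers preserve bounds on projective dimension. -/
lemma hasProjectiveDimensionLT_pi_fin (A : Type u) [AddCommGroup A] [Module R A] (n : ℕ)
    (h : HasProjectiveDimensionLT (ModuleCat.of R A) n) (m : ℕ) :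
    HasProjectiveDimensionLT (ModuleCat.of R (Fin m → A)) n := by
  rw [hasProjectiveDimensionLT_iff]
  intro i hi Y x
  have hid : 𝟙 (ModuleCat.of R (Fin m → A)) = ∑ j : Fin m,
      ModuleCat.ofHom (LinearMap.proj (R := R) (φ := fun _ : Fin m => A) j) ≫
        ModuleCat.ofHom (LinearMap.single R (fun _ : Fin m => A) j) := by
    refine ModuleCat.hom_ext (LinearMap.ext fun v => ?_)
    simp only [ModuleCat.hom_id, LinearMap.id_coe, id_eq, ModuleCat.hom_sum, ModuleCat.hom_comp,
      ModuleCat.hom_ofHom, LinearMap.sum_apply, LinearMap.comp_apply, LinearMap.proj_apply]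
    exact (LinearMap.sum_single_apply _ v).symm
  have hx : x = (Ext.mk₀ (𝟙 _)).comp x (zero_add i) := by simp
  rw [hx, hid, Ext.mk₀_sum, Ext.sum_comp]
  apply Finset.sum_eq_zero
  intro j _
  rw [← Ext.mk₀_comp_mk₀, Ext.comp_assoc_of_second_deg_zero]
  have h0 : (Ext.mk₀ (ModuleCat.ofHom (LinearMap.single R (fun _ : Fin m => A) j))).comp x
      (zero_add i) = 0 := Ext.eq_zero_of_hasProjectiveDimensionLT _ n hi
  rw [h0, Ext.comp_zero]

variable {S : Type u} [CommRing S] [Algebra R S]

/-- Restriction of scalars of `of S N` is `of R N`. -/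
noncomputable def restrictIso (N : Type u) [AddCommGroup N] [Module S N] [Module R N]
    [IsScalarTower R S N] :
    (ModuleCat.restrictScalars (algebraMap R S)).obj (ModuleCat.of S N) ≅ ModuleCat.of R N :=
  LinearEquiv.toModuleIso
    (X₁ := (ModuleCat.restrictScalars (algebraMap R S)).obj (ModuleCat.of S N))
    (X₂ := ModuleCat.of R N) <|
    @AddEquiv.toLinearEquiv _ _ _ _ _ _
      (((ModuleCat.restrictScalars (algebraMap R S)).obj (ModuleCat.of S N)).isModule) _
      (AddEquiv.refl N) (fun r x ↦ by
        exact algebraMap_smul S r (show N from x))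

/-- Change of rings for projective dimension: if `pd_R S ≤ a` then `pd_R N < a + n` whenever
`pd_S N < n`, for finite modules over a Noetherian local ring `S`. -/
theorem pd_restrict [IsLocalRing S] [IsNoetherianRing S] (a : ℕ)
    (ha : HasProjectiveDimensionLT (ModuleCat.of R S) (a + 1)) :
    ∀ (n : ℕ) (N : Type u) [AddCommGroup N] [Module S N] [Module.Finite S N],
      HasProjectiveDimensionLT (ModuleCat.of S N) n →
      HasProjectiveDimensionLT
        ((ModuleCat.restrictScalars (algebraMap R S)).obj (ModuleCat.of S N)) (a + n) := by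
  have hfree : ∀ m : ℕ, HasProjectiveDimensionLT
      ((ModuleCat.restrictScalars (algebraMap R S)).obj (ModuleCat.of S (Fin m → S))) (a + 1) := by
    intro m
    have := hasProjectiveDimensionLT_pi_fin (R := R) S (a + 1) ha m
    exact hasProjectiveDimensionLT_of_iso (restrictIso (R := R) (S := S) (Fin m → S)).symm (a + 1)
  intro n
  induction n with
  | zero =>
    intro N _ _ _ h
    have hz : Limits.IsZero (ModuleCat.of S N) := isZero_of_hasProjectiveDimensionLT_zero _
    have hz' := (ModuleCat.restrictScalars (algebraMap R S)).map_isZero hz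
    have := hz'.hasProjectiveDimensionLT_zero
    exact hasProjectiveDimensionLT_of_ge _ 0 _ (Nat.zero_le _)
  | succ n ih =>
    intro N _ _ _ h
    rcases n with _ | n
    · have hfr := free_of_hasProjectiveDimensionLT_one N h
      let e : N ≃ₗ[S] (Fin (Module.finrank S N) → S) := (Module.finBasis S N).equivFun
      have i1 : (ModuleCat.restrictScalars (algebraMap R S)).obj (ModuleCat.of S N) ≅
          (ModuleCat.restrictScalars (algebraMap R S)).obj
            (ModuleCat.of S (Fin (Module.finrank S N) → S)) :=
        (ModuleCat.restrictScalars (algebraMap R S)).mapIso e.toModuleIso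
      have := hfree (Module.finrank S N)
      exact hasProjectiveDimensionLT_of_iso i1.symm (a + 1)
    · obtain ⟨m, π, hπ⟩ := Module.Finite.exists_fin' S N
      have hS := LinearMap.shortExact_shortComplexKer hπ
      have hproj : Projective (π.shortComplexKer).X₂ := by
        change Projective (ModuleCat.of S (Fin m → S))
        exact (IsProjective.iff_projective (R := S) (Fin m → S)).1 inferInstance
      have hK : HasProjectiveDimensionLT (ModuleCat.of S (LinearMap.ker π)) (n + 1) :=
        (hS.hasProjectiveDimensionLT_X₃_iff n hproj).1 h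
      have hK' := ih (LinearMap.ker π) hK
      have hS' := hS.map_of_exact (ModuleCat.restrictScalars (algebraMap R S))
      have hF := hfree m
      have hF' : HasProjectiveDimensionLT
          ((ModuleCat.restrictScalars (algebraMap R S)).obj (ModuleCat.of S (Fin m → S)))
          (a + (n + 1) + 1) := hasProjectiveDimensionLT_of_ge _ (a + 1) _ (by omega)
      exact hS'.hasProjectiveDimensionLT_X₃ (a + (n + 1)) hK' hF'

end General

section Quot

lemma exists_nat_projectiveDimension_eq {C : Type*} [Category C] [Abelian C] (X : C)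
    (h0 : ¬ Limits.IsZero X) (h : projectiveDimension X ≠ ⊤) :
    ∃ n : ℕ, projectiveDimension X = n := by
  generalize hd : projectiveDimension X = d at h
  induction d with
  | bot => exact absurd ((projectiveDimension_eq_bot_iff X).1 hd) h0
  | coe d =>
    induction d with
    | top => exact absurd rfl h
    | coe d => exact ⟨d, rfl⟩

lemma not_isZero_of_nontrivial (M : Type u) [AddCommGroup M] [Module R M] [Nontrivial M] :
    ¬ Limits.IsZero (ModuleCat.of R M) := by
  intro hz
  have : Subsingleton M := ModuleCat.subsingleton_of_isZero hz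
  exact not_subsingleton M this

variable [IsNoetherianRing R] [IsLocalRing R] (I : Ideal R)

theorem pd_quot (E : Type u) [AddCommGroup E] [Module (R ⧸ I) E] [Module R E]
    [IsScalarTower R (R ⧸ I) E] [Module.Finite (R ⧸ I) E] [Nontrivial E]
    (h1 : projectiveDimension (ModuleCat.of R (R ⧸ I)) ≠ ⊤)
    (h2 : projectiveDimension (ModuleCat.of (R ⧸ I) E) ≠ ⊤) :
    projectiveDimension (ModuleCat.of R E) ≠ ⊤ ∧
      projectiveDimension (ModuleCat.of R E) =
        projectiveDimension (ModuleCat.of R (R ⧸ I)) +
          projectiveDimension (ModuleCat.of (R ⧸ I) E) := by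
  have hnt : Nontrivial (R ⧸ I) := by
    by_contra h
    rw [not_nontrivial_iff_subsingleton] at h
    have : Subsingleton E := Module.subsingleton (R ⧸ I) E
    exact not_subsingleton E this
  have hloc : IsLocalRing (R ⧸ I) :=
    IsLocalRing.of_surjective' (Ideal.Quotient.mk I) Ideal.Quotient.mk_surjective
  have hlh : IsLocalHom (algebraMap R (R ⧸ I)) :=
    IsLocalHom.of_surjective _ Ideal.Quotient.mk_surjective
  have hfinE : Module.Finite R E := Module.Finite.trans (R ⧸ I) E
  obtain ⟨a, ha⟩ := exists_nat_projectiveDimension_eq _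
    (not_isZero_of_nontrivial (R := R) (R ⧸ I)) h1
  obtain ⟨b, hb⟩ := exists_nat_projectiveDimension_eq _
    (not_isZero_of_nontrivial (R := R ⧸ I) E) h2
  have ha' : HasProjectiveDimensionLT (ModuleCat.of R (R ⧸ I)) (a + 1) := by
    have : HasProjectiveDimensionLE (ModuleCat.of R (R ⧸ I)) a := by
      rw [← projectiveDimension_le_iff, ha]
    exact this
  have hb' : HasProjectiveDimensionLT (ModuleCat.of (R ⧸ I) E) (b + 1) := by
    have : HasProjectiveDimensionLE (ModuleCat.of (R ⧸ I) E) b := by
      rw [← projectiveDimension_le_iff, hb]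
    exact this
  have hres := pd_restrict (R := R) (S := R ⧸ I) a ha' (b + 1) E hb'
  have hlt : HasProjectiveDimensionLT (ModuleCat.of R E) (a + (b + 1)) :=
    hasProjectiveDimensionLT_of_iso (restrictIso (R := R) (S := R ⧸ I) E) _
  have hne : projectiveDimension (ModuleCat.of R E) ≠ ⊤ := by
    have := (projectiveDimension_lt_iff (X := ModuleCat.of R E) (n := a + (b + 1))).2 hlt
    exact ne_top_of_lt this
  obtain ⟨c, hc⟩ := exists_nat_projectiveDimension_eq _
    (not_isZero_of_nontrivial (R := R) E) hne
  have hAB1 := auslander_buchsbaum (R := R) (R ⧸ I) a ha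
  have hAB2 := auslander_buchsbaum (R := R ⧸ I) E b hb
  have hAB3 := auslander_buchsbaum (R := R) E c hc
  have hd1 : depth R (R ⧸ I) = depth (R ⧸ I) (R ⧸ I) :=
    Groth.Agent.Lib.Helper29.depth_eq_of_finite R (R ⧸ I) (R ⧸ I)
  have hd2 : depth R E = depth (R ⧸ I) E :=
    Groth.Agent.Lib.Helper29.depth_eq_of_finite R (R ⧸ I) E
  have hfin : depth (R ⧸ I) E ≠ ⊤ := Groth.Agent.Lib.Helper29.depth_ne_top (R ⧸ I) E
  obtain ⟨d, hd⟩ := ENat.ne_top_iff_exists.1 hfin
  rw [hd1, hAB2, ← hd] at hAB1
  rw [hd2, ← hd] at hAB3
  have hcab : c = a + b := by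
    have h3 : ((c + d : ℕ) : ℕ∞) = ((a + (b + d) : ℕ) : ℕ∞) := by
      push_cast
      rw [← hAB3, ← hAB1]
    have := Nat.cast_injective (R := ℕ∞) h3
    omega
  refine ⟨hne, ?_⟩
  rw [hc, ha, hb, hcab]
  push_cast
  rfl

end Quot

end Groth.Agent.Lib.Helper82.PdQuot
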