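import Groth.Agent.Lib.Helper30.PerfRegular
import Groth.Agent.Lib.Helper30.TildePerf
import Groth.Agent.Lib.Helper6.PCMor
import Groth.Agent.Lib.Helper35.TACore
import Groth.Agent.Lib.Helper35.FTD
import Groth.Agent.Lib.Helper49.QcqsModules
import Groth.Agent.Lib.Helper49.PushforwardFP
import Groth.Agent.Lib.Helper49.FiniteTypeAffine

/-!
# Perfectness of `i_* O_Z` for a perfect closed immersion (helper82)
-/

set_option autoImplicit false
set_option linter.style.haveILetI false
universe u
open CategoryTheory Limits Opposite TopologicalSpace AlgebraicGeometry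
attribute [local instance] HasDerivedCategory.standard

namespace Groth.Agent.Lib.Helper82.PerfPush

open Groth.Agent.Lib.Helper30.PerfRestrict Groth.Agent.Lib.Helper30.PCTriangle
open Groth.Agent.Lib.Helper30.PCSummand Groth.Agent.Lib.Helper30.SinglePC
open Groth.Agent.Lib.Helper30.PerfNoeth Groth.Agent.Lib.Helper30.PCNoeth
open Groth.Agent.Lib.Helper30.PerfTriangle Groth.Agent.Lib.Helper30.PerfRegular
open Groth.Agent.Lib.Helper49 Groth.Agent.Lib.Helper6 Groth.Agent.Lib.Helper16

/-- a finite perfect ring map makes the target a perfect module. -/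
theorem isPerfectModule_of_isPerfectHom_of_finite {A B : Type u} [CommRing A] [CommRing B]
    [Algebra A B] [Module.Finite A B] (h : MoreMor.IsPerfectHom A B) :
    DRing.IsPerfectModule A B := by
  obtain ⟨hpc, hftd⟩ := h
  have h1 : DRing.IsPseudoCoherentModule' A B :=
    (Groth.Agent.Lib.Helper6.PCMor.pcHom_iff_of_finite).mp hpc
  rw [Groth.Agent.Lib.Helper35.FTD.hasFiniteTorDim_iff] at hftd
  obtain ⟨n, hn⟩ := hftd
  exact Groth.Agent.Lib.Helper35.TA.isPerfect_of_isPseudoCoherent'_of_TAmp _ h1 _ _ hn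

/-- a quasi-coherent module whose sections over affine opens are perfect modules is perfect. -/
theorem isPerfect_inD_of_isPerfectModule_sections {X : Scheme.{u}} (F : X.Modules)
    [F.IsQuasicoherent]
    (h : ∀ (V : X.Opens) (_ : IsAffineOpen V), DRing.IsPerfectModule Γ(X, V) Γ(F, V)) :
    DCoh.IsPerfect (DCoh.inD X F) := by
  apply isPerfect_of_openImmersions
  intro x
  obtain ⟨_, ⟨V, hV : IsAffineOpen V, rfl⟩, hxV, -⟩ :=
    X.isBasis_affineOpens.exists_subset_of_mem_open (Set.mem_univ x) isOpen_univ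
  refine ⟨Spec Γ(X, V), hV.fromSpec, inferInstance, by rw [hV.range_fromSpec]; exact hxV, ?_⟩
  have hq : (F.restrict hV.fromSpec).IsQuasicoherent :=
    Scheme.Modules.isQuasicoherent_restrictFunctor _ _
  have h0 : IsIso (C := (Spec Γ(X, V)).Modules) (F.restrict hV.fromSpec).fromTildeΓ :=
    (isQuasicoherent_iff_isIso_fromTildeΓ (F.restrict hV.fromSpec)).mp inferInstance
  let N : ModuleCat.{u} Γ(X, V) :=
    (modulesSpecToSheaf.obj (F.restrict hV.fromSpec)).presheaf.obj (.op ⊤)
  let e : (tilde.functor Γ(X, V)).obj N ≅ F.restrict hV.fromSpec :=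
    @asIso (Spec Γ(X, V)).Modules _ _ _ (F.restrict hV.fromSpec).fromTildeΓ h0
  have hN : DRing.IsPerfect Γ(X, V)
      ((DerivedCategory.singleFunctor (ModuleCat.{u} Γ(X, V)) 0).obj N) := by
    have e1 : ModuleCat.of Γ(X, V) Γ(F, V) ≅ N :=
      (LinearEquiv.toModuleIso (sectionsFromSpecTopEquiv hV F)).symm
    exact Groth.Agent.Lib.Helper35.KL.isPerfect_of_iso
      ((DerivedCategory.singleFunctor _ 0).mapIso e1) (h V hV)
  have h1 := Groth.Agent.Lib.Helper30.PerfRegular.perfObj_tildeD Γ(X, V) _ hN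
  have h2 := PerfObj.of_iso (((tilde.functor Γ(X, V)).mapDerivedCategorySingleFunctor 0).app N) h1
  exact PerfObj.of_iso ((DerivedCategory.singleFunctor _ 0).mapIso e ≪≫
    (restrictSingleIso hV.fromSpec F).symm) h2

/-- S7175: for a perfect closed immersion, `i_* O_Z` is perfect. -/
theorem isPerfect_push_structureModule {Z X : Scheme.{u}} (i : Z ⟶ X) [IsClosedImmersion i]
    (hi : MoreMor.IsPerfectMor i) :
    DCoh.IsPerfect (DCoh.inD X ((Coh.push i).obj (Coh.structureModule Z))) := by
  haveI : (Coh.structureModule Z).IsQuasicoherent := inferInstance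
  haveI : ((Scheme.Modules.pushforward i).obj (Coh.structureModule Z)).IsQuasicoherent :=
    isQuasicoherent_pushforward (Coh.structureModule Z) i
  apply isPerfect_inD_of_isPerfectModule_sections
  intro V hV
  have hp := hi (i ⁻¹ᵁ V) V (hV.preimage i) hV le_rfl
  letI alg : Algebra Γ(X, V) Γ(Z, i ⁻¹ᵁ V) := (i.appLE V (i ⁻¹ᵁ V) le_rfl).hom.toAlgebra
  have happ : i.appLE V (i ⁻¹ᵁ V) le_rfl = i.app V := Scheme.Hom.appLE_eq_app i
  have hsurj : Function.Surjective (algebraMap Γ(X, V) Γ(Z, i ⁻¹ᵁ V)) := by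
    show Function.Surjective (i.appLE V (i ⁻¹ᵁ V) le_rfl).hom
    rw [happ]
    exact i.app_surjective V hV
  have hfin : Module.Finite Γ(X, V) Γ(Z, i ⁻¹ᵁ V) :=
    Module.Finite.of_surjective (Algebra.linearMap Γ(X, V) Γ(Z, i ⁻¹ᵁ V)) hsurj
  have hperf := isPerfectModule_of_isPerfectHom_of_finite hp
  let e : Γ(Z, i ⁻¹ᵁ V) ≃ₗ[Γ(X, V)]
      Γ((Scheme.Modules.pushforward i).obj (Coh.structureModule Z), V) :=
    { toFun := fun m => m
      invFun := fun m => m
      map_add' := fun _ _ => rfl
      map_smul' := fun a m => by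
        show (i.appLE V (i ⁻¹ᵁ V) le_rfl).hom a * m =
          (a • (show Γ((Scheme.Modules.pushforward i).obj (Coh.structureModule Z), V) from m))
        rw [Groth.Agent.Lib.Helper45.pushforward_smul, happ]
        rfl
      left_inv := fun _ => rfl
      right_inv := fun _ => rfl }
  exact Groth.Agent.Lib.Helper35.KL.isPerfect_of_iso
    ((DerivedCategory.singleFunctor _ 0).mapIso (LinearEquiv.toModuleIso e)) hperf

end Groth.Agent.Lib.Helper82.PerfPush
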