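import Mathlib

/-!
# A hypergeometric-type polynomial has no multiple roots outside `0, 1` (helper82)
-/

set_option autoImplicit false

open Polynomial

namespace Groth.Agent.Lib.Helper82

namespace PolyHyp

variable {k : Type*} [Field k]

lemma coeff_X_mul_derivative (p : k[X]) (s : ℕ) :
    (X * derivative p).coeff s = (s : k) * p.coeff s := by
  cases s with
  | zero => simp
  | succ s =>
    rw [coeff_X_mul, coeff_derivative]
    push_cast
    ring

lemma coeff_X_sq_mul_derivative2 (p : k[X]) (s : ℕ) :
    (X ^ 2 * derivative (derivative p)).coeff s = (s : k) * ((s : k) - 1) * p.coeff s := by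
  rcases s with _ | _ | s
  · simp
  · simp [coeff_X_pow_mul']
  · rw [coeff_X_pow_mul, coeff_derivative, coeff_derivative]
    push_cast
    ring

lemma choose_succ_mul (j s : ℕ) :
    ((j.choose (s + 1) : ℕ) : k) * ((s : k) + 1) = ((j.choose s : ℕ) : k) * ((j : k) - s) := by
  have h := Nat.choose_succ_right_eq j s
  by_cases hs : s ≤ j
  · have := congrArg (Nat.cast : ℕ → k) h
    push_cast [Nat.cast_sub hs] at this
    exact this
  · rw [Nat.choose_eq_zero_of_lt (by omega : j < s + 1), Nat.choose_eq_zero_of_lt (by omega : j < s)]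
    simp

/-- The coefficients. -/
def u (i j n s : ℕ) : k := if s ≤ n then ((i.choose (n - s) * j.choose s : ℕ) : k) else 0

lemma u_rec (i j n s : ℕ) :
    ((s : k) + 1) * ((s : k) + 1 + i - n) * u (k := k) i j n (s + 1) =
      ((n : k) - s) * ((j : k) - s) * u i j n s := by
  unfold u
  rcases lt_trichotomy s n with hs | hs | hs
  · rw [if_pos (by omega), if_pos (by omega)]
    have h1 := choose_succ_mul (k := k) j s
    have h2 := choose_succ_mul (k := k) i (n - s - 1)
    have e : n - s - 1 + 1 = n - s := by omega
    rw [e] at h2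
    have e2 : n - (s + 1) = n - s - 1 := by omega
    rw [e2]
    have e3 : ((n - s - 1 : ℕ) : k) = (n : k) - s - 1 := by
      rw [Nat.cast_sub (by omega), Nat.cast_sub (by omega)]
      simp
    rw [e3] at h2
    push_cast
    linear_combination ((i.choose (n - s - 1) : k) * ((s : k) + 1 + i - n)) * h1
      - ((j.choose s : k) * ((j : k) - s)) * h2
  · subst hs
    rw [if_neg (by omega)]
    simp
  · rw [if_neg (by omega), if_neg (by omega)]
    simp

/-- The polynomial. -/
noncomputable def hp (i j n : ℕ) : k[X] :=
  ∑ l ∈ Finset.range (n + 1), C (((i.choose l) * (j.choose (n - l)) : ℕ) : k) * X ^ (n - l)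

lemma hp_coeff (i j n s : ℕ) : (hp (k := k) i j n).coeff s = u i j n s := by
  have h1 : hp (k := k) i j n =
      ∑ s ∈ Finset.range (n + 1), C (((i.choose (n - s)) * (j.choose s) : ℕ) : k) * X ^ s := by
    unfold hp
    rw [← Finset.sum_range_reflect]
    refine Finset.sum_congr rfl fun l hl => ?_
    have hl' : l ≤ n := by
      have := Finset.mem_range.1 hl
      omega
    have e1 : n + 1 - 1 - l = n - l := by omega
    have e2 : n - (n - l) = l := by omega
    rw [e1, e2]
  rw [h1, finsetSum_coeff]
  simp only [coeff_C_mul_X_pow]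
  rw [Finset.sum_ite_eq]
  unfold u
  simp only [Finset.mem_range, Nat.lt_succ_iff]

lemma hp_ode0 (i j n : ℕ) :
    X ^ 2 * derivative (derivative (hp (k := k) i j n))
        + C ((1 : k) + i - n) * (X * derivative (hp i j n)) =
      X * (X ^ 2 * derivative (derivative (hp i j n))
        + C ((1 : k) - n - j) * (X * derivative (hp i j n)) + C ((n : k) * j) * hp i j n) := by
  ext s
  cases s with
  | zero =>
    simp
  | succ s =>
    rw [coeff_add, coeff_C_mul, coeff_X_sq_mul_derivative2, coeff_X_mul_derivative, coeff_X_mul,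
      coeff_add, coeff_add, coeff_C_mul, coeff_C_mul, coeff_X_sq_mul_derivative2,
      coeff_X_mul_derivative, hp_coeff, hp_coeff]
    have h := u_rec (k := k) i j n s
    push_cast
    linear_combination h

/-- A solution of a second-order linear ODE has at most simple roots away from the zeros of the
leading coefficient (characteristic zero). -/
lemma rootMultiplicity_le_one_of_ode [CharZero k] (h A B D : k[X]) (c : k)
    (hode : A * derivative (derivative h) = B * derivative h + D * h) (hA : A.eval c ≠ 0) :
    rootMultiplicity c h ≤ 1 := by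
  by_contra hμ
  push Not at hμ
  have hh0 : h ≠ 0 := by
    rintro rfl
    simp at hμ
  have hroot : h.IsRoot c := (rootMultiplicity_pos hh0).1 (by omega)
  have hμ1 : rootMultiplicity c (derivative h) = rootMultiplicity c h - 1 :=
    derivative_rootMultiplicity_of_root hroot
  have hd0 : derivative h ≠ 0 := by
    intro h0
    rw [h0, rootMultiplicity_zero] at hμ1
    omega
  have hroot1 : (derivative h).IsRoot c := (rootMultiplicity_pos hd0).1 (by omega)
  have hμ2 : rootMultiplicity c (derivative (derivative h)) = rootMultiplicity c h - 2 := by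
    rw [derivative_rootMultiplicity_of_root hroot1, hμ1]
    omega
  have hdd0 : derivative (derivative h) ≠ 0 := by
    intro h0
    have hdeg := derivative_eq_zero.1 h0
    obtain ⟨a, ha⟩ := natDegree_eq_zero.1 hdeg
    rw [← ha] at hroot1 hd0
    simp only [IsRoot.def, eval_C] at hroot1
    rw [hroot1, C_0] at hd0
    exact hd0 rfl
  have hA0 : A ≠ 0 := by
    rintro rfl
    simp at hA
  have hAd : A * derivative (derivative h) ≠ 0 := mul_ne_zero hA0 hdd0
  have hdvd : (X - C c) ^ (rootMultiplicity c h - 1) ∣ A * derivative (derivative h) := by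
    rw [hode]
    apply dvd_add
    · apply Dvd.dvd.mul_left
      rw [← hμ1]
      exact pow_rootMultiplicity_dvd _ _
    · apply Dvd.dvd.mul_left
      exact (pow_dvd_pow _ (Nat.sub_le _ _)).trans (pow_rootMultiplicity_dvd _ _)
  have hle := (le_rootMultiplicity_iff hAd).2 hdvd
  have hA' : rootMultiplicity c A = 0 :=
    rootMultiplicity_eq_zero (by simpa [IsRoot.def] using hA)
  rw [rootMultiplicity_mul hAd, hμ2, hA'] at hle
  omega

theorem hp_rootMultiplicity_le_one [CharZero k] (i j n : ℕ) (c : k) (hc0 : c ≠ 0) (hc1 : c ≠ 1) :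
    rootMultiplicity c (hp (k := k) i j n) ≤ 1 := by
  apply rootMultiplicity_le_one_of_ode (hp i j n) (X ^ 2 * (1 - X))
    (C ((1 : k) - n - j) * X ^ 2 - C ((1 : k) + i - n) * X) (C ((n : k) * j) * X) c
  · linear_combination hp_ode0 (k := k) i j n
  · simp only [eval_mul, eval_pow, eval_X, eval_sub, eval_one]
    exact mul_ne_zero (pow_ne_zero _ hc0) (sub_ne_zero.2 (Ne.symm hc1))

end PolyHyp

end Groth.Agent.Lib.Helper82
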