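import Mathlib

/-!
# Consecutive coefficients of `(X+1)^i (X-q)^m` (helper82)
-/

set_option autoImplicit false

open Polynomial

namespace Groth.Agent.Lib.Helper82

namespace PolyODE

variable {k : Type*} [Field k]

lemma mul_derivative_pow (P : k[X]) (n : ℕ) :
    P * derivative (P ^ n) = C (n : k) * P ^ n * derivative P := by
  rw [derivative_pow]
  cases n with
  | zero => simp
  | succ n =>
    simp only [Nat.add_sub_cancel, pow_succ]
    ring

/-- The polynomial `H = (X+1)^i (X-q)^m`. -/
noncomputable def H (i m : ℕ) (q : k) : k[X] := (X + 1) ^ i * (X - C q) ^ m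

lemma H_ode (i m : ℕ) (q : k) :
    ((X + 1) * (X - C q)) * derivative (H i m q) =
      (C (i : k) * (X - C q) + C (m : k) * (X + 1)) * H i m q := by
  have h1 := mul_derivative_pow (X + 1 : k[X]) i
  have h2 := mul_derivative_pow (X - C q : k[X]) m
  simp only [derivative_add, derivative_X, derivative_one, add_zero, derivative_sub, derivative_C,
    sub_zero, mul_one] at h1 h2
  unfold H
  rw [derivative_mul]
  calc ((X + 1) * (X - C q)) * (derivative ((X + 1) ^ i) * (X - C q) ^ m
        + (X + 1) ^ i * derivative ((X - C q) ^ m))
      = (X - C q) * ((X + 1) * derivative ((X + 1) ^ i)) * (X - C q) ^ m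
        + (X + 1) * (X + 1) ^ i * ((X - C q) * derivative ((X - C q) ^ m)) := by ring
    _ = _ := by rw [h1, h2]; ring

lemma H_ode' (i m : ℕ) (q : k) :
    X * (X * derivative (H i m q)) + C (1 - q) * (X * derivative (H i m q))
        - C q * derivative (H i m q) =
      C ((i : k) + m) * (X * H i m q) + C ((m : k) - i * q) * H i m q := by
  have h := H_ode i m q
  have e1 : ((X + 1) * (X - C q)) * derivative (H i m q) =
      X * (X * derivative (H i m q)) + C (1 - q) * (X * derivative (H i m q))
        - C q * derivative (H i m q) := by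
    simp only [C_sub, C_1]
    ring
  have e2 : (C (i : k) * (X - C q) + C (m : k) * (X + 1)) * H i m q =
      C ((i : k) + m) * (X * H i m q) + C ((m : k) - i * q) * H i m q := by
    simp only [C_sub, C_add, C_mul]
    ring
  rw [← e1, ← e2, h]

/-- The three-term recurrence for the coefficients of `H`. -/
lemma H_rec (i m : ℕ) (q : k) (t : ℕ) :
    q * ((t : k) + 2) * (H i m q).coeff (t + 2) =
      ((t : k) - (i + m)) * (H i m q).coeff t
        + ((1 - q) * ((t : k) + 1) - (m - i * q)) * (H i m q).coeff (t + 1) := by
  have h := congrArg (fun p => p.coeff (t + 1)) (H_ode' i m q)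
  simp only [coeff_sub, coeff_add, coeff_C_mul, coeff_X_mul, coeff_derivative] at h
  cases t with
  | zero =>
    simp only [coeff_X_mul_zero, Nat.cast_zero, zero_add] at h ⊢
    push_cast at h
    linear_combination (-1 : k) * h
  | succ t =>
    simp only [coeff_X_mul, coeff_derivative] at h
    push_cast at h ⊢
    linear_combination (-1 : k) * h

lemma H_monic (i m : ℕ) (q : k) : (H i m q).Monic := by
  have h := ((monic_X_add_C (1 : k)).pow i).mul ((monic_X_sub_C q).pow m)
  simpa [H] using h

lemma H_natDegree (i m : ℕ) (q : k) : (H i m q).natDegree = i + m := by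
  unfold H
  rw [Monic.natDegree_mul, Monic.natDegree_pow, Monic.natDegree_pow, natDegree_X_sub_C]
  · have : (X + 1 : k[X]).natDegree = 1 := by
      have := natDegree_X_add_C (1 : k)
      simpa using this
    rw [this]
    simp
  · exact monic_X_sub_C q
  · have := monic_X_add_C (1 : k)
    simpa using this
  · have := (monic_X_add_C (1 : k)).pow i
    simpa using this
  · exact (monic_X_sub_C q).pow m

/-- Two consecutive coefficients of `H` (within the degree range) cannot both vanish. -/
lemma H_coeff_ne [CharZero k] (i m : ℕ) (q : k) (hq : q ≠ 0) (t : ℕ) (ht : t ≤ i + m)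
    (h0 : (H i m q).coeff t = 0) (h1 : (H i m q).coeff (t + 1) = 0) : False := by
  have key : ∀ s : ℕ, (H i m q).coeff (t + s) = 0 ∧ (H i m q).coeff (t + s + 1) = 0 := by
    intro s
    induction s with
    | zero => exact ⟨h0, h1⟩
    | succ s ih =>
      refine ⟨ih.2, ?_⟩
      have hr := H_rec i m q (t + s)
      rw [ih.1, ih.2, mul_zero, mul_zero, add_zero] at hr
      have hne : q * (((t + s : ℕ) : k) + 2) ≠ 0 := by
        apply mul_ne_zero hq
        have : (((t + s : ℕ) : k) + 2) = ((t + s + 2 : ℕ) : k) := by push_cast; ring
        rw [this]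
        exact Nat.cast_ne_zero.2 (by omega)
      exact (mul_eq_zero.1 hr).resolve_left hne
  have hlead : (H i m q).coeff (i + m) = 1 := by
    have := (H_monic i m q).coeff_natDegree
    rwa [H_natDegree] at this
  have := (key (i + m - t)).1
  rw [Nat.add_sub_cancel' ht, hlead] at this
  exact one_ne_zero this

end PolyODE

end Groth.Agent.Lib.Helper82
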