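import Groth.Agent.Lib.Helper82.SmoothRegQuot
import Groth.Agent.Lib.Helper82.CISpreadA

/-!
# Smoothness at a prime from smoothness of a regularly embedded quotient

`B₀` finitely presented over `A`, `S = (B₀)_𝔭`, `ψ : S → S'` a surjection of `A`-algebras whose
kernel is generated by a weakly regular sequence.  If `S'` is formally smooth over `A` then so is
`S`.
-/

set_option autoImplicit false
universe u

namespace Groth.Agent.Lib.Helper82.SmoothRegLoc

open TensorProduct IsLocalRing KaehlerDifferential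

/-- the local ring of a finitely presented algebra as a quotient of a local ring of affine space -/
theorem exists_algHom_surjective (A : Type u) {B₀ : Type u} [CommRing A]
    [CommRing B₀] [Algebra A B₀] [Algebra.FinitePresentation A B₀] (𝔭 : Ideal B₀) [𝔭.IsPrime] :
    ∃ (n : ℕ) (𝔮 : Ideal (MvPolynomial (Fin n) A)) (_ : 𝔮.IsPrime)
      (fP : Localization.AtPrime 𝔮 →ₐ[A] Localization.AtPrime 𝔭),
      Function.Surjective fP ∧ (RingHom.ker fP).FG := by
  obtain ⟨n, f₀, hf₀⟩ := Algebra.FiniteType.iff_quotient_mvPolynomial''.mp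
    (inferInstance : Algebra.FiniteType A B₀)
  -- the local ring of affine space
  have hψ₀ : ∀ b : B₀, ∃ a s : MvPolynomial (Fin n) A,
      (f₀ : MvPolynomial (Fin n) A →+* B₀) s ∉ 𝔭 ∧
        (f₀ : MvPolynomial (Fin n) A →+* B₀) s * b = (f₀ : MvPolynomial (Fin n) A →+* B₀) a := by
    intro b
    obtain ⟨a, rfl⟩ := hf₀ b
    refine ⟨a, 1, ?_, ?_⟩
    · rw [map_one]
      exact (Ideal.ne_top_iff_one _).mp (Ideal.IsPrime.ne_top inferInstance)
    · rw [map_one, one_mul]
      rfl
  have hsurj := Groth.Agent.Lib.Helper82.CISpreadA.localRingHom_surjective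
    (f₀ : MvPolynomial (Fin n) A →+* B₀) 𝔭 (𝔭.comap (f₀ : MvPolynomial (Fin n) A →+* B₀)) rfl hψ₀
  have hkerP := Groth.Agent.Lib.Helper82.CISpreadA.ker_localRingHom
    (f₀ : MvPolynomial (Fin n) A →+* B₀) 𝔭 (𝔭.comap (f₀ : MvPolynomial (Fin n) A →+* B₀)) rfl hψ₀
  let fP : Localization.AtPrime (𝔭.comap (f₀ : MvPolynomial (Fin n) A →+* B₀)) →ₐ[A]
      Localization.AtPrime 𝔭 :=
    { Localization.localRingHom (𝔭.comap (f₀ : MvPolynomial (Fin n) A →+* B₀)) 𝔭
        (f₀ : MvPolynomial (Fin n) A →+* B₀) rfl with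
      commutes' := fun a => by
        change Localization.localRingHom _ 𝔭 (f₀ : MvPolynomial (Fin n) A →+* B₀) rfl
          (algebraMap A _ a) = algebraMap A _ a
        rw [IsScalarTower.algebraMap_apply A (MvPolynomial (Fin n) A)
          (Localization.AtPrime (𝔭.comap (f₀ : MvPolynomial (Fin n) A →+* B₀))),
          Localization.localRingHom_to_map,
          IsScalarTower.algebraMap_apply A B₀ (Localization.AtPrime 𝔭)]
        congr 1
        exact f₀.commutes a }
  have hfP : Function.Surjective fP := hsurj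
  have hfPker : (RingHom.ker fP).FG := by
    have h1 : RingHom.ker fP = (RingHom.ker (f₀ : MvPolynomial (Fin n) A →+* B₀)).map
        (algebraMap _ (Localization.AtPrime (𝔭.comap (f₀ : MvPolynomial (Fin n) A →+* B₀)))) :=
      hkerP
    rw [h1]
    exact (Algebra.FinitePresentation.ker_fG_of_surjective f₀ hf₀).map _
  exact ⟨n, _, inferInstance, fP, hfP, hfPker⟩

theorem formallySmooth_of_surjective_of_isWeaklyRegular (A : Type u) {B₀ : Type u} [CommRing A]
    [CommRing B₀] [Algebra A B₀] [Algebra.FinitePresentation A B₀] (𝔭 : Ideal B₀) [𝔭.IsPrime]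
    {S' : Type u} [CommRing S'] [Algebra A S'] [Nontrivial S']
    (ψ : Localization.AtPrime 𝔭 →ₐ[A] S') (hψ : Function.Surjective ψ)
    (rs : List (Localization.AtPrime 𝔭))
    (hrs : RingTheory.Sequence.IsWeaklyRegular (Localization.AtPrime 𝔭) rs)
    (hker : RingHom.ker ψ = Ideal.ofList rs)
    (hsm : Algebra.FormallySmooth A S') :
    Algebra.FormallySmooth A (Localization.AtPrime 𝔭) := by
  obtain ⟨n, 𝔮, h𝔮, fP, hfP, hfPker⟩ := exists_algHom_surjective A 𝔭
  -- instances
  have hPet : Algebra.FormallyEtale (MvPolynomial (Fin n) A)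
      (Localization.AtPrime 𝔮) :=
    .of_isLocalization 𝔮.primeCompl
  have hPsm : Algebra.FormallySmooth A
      (Localization.AtPrime 𝔮) :=
    .comp _ (MvPolynomial (Fin n) A) _
  have hPfree : Module.Free
      (Localization.AtPrime 𝔮)
      Ω[Localization.AtPrime 𝔮⁄A] :=
    .of_equiv (KaehlerDifferential.tensorKaehlerEquivOfFormallyEtale A (MvPolynomial (Fin n) A)
      (Localization.AtPrime 𝔮))
  -- lift the sequence
  obtain ⟨ts, hts⟩ := List.map_surjective_iff.mpr hfP rs
  let eA := Ideal.quotientKerAlgEquivOfSurjective hfP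
  have heA : ∀ t, eA.symm (fP t) = Ideal.Quotient.mk (RingHom.ker fP) t := by
    intro t
    rw [AlgEquiv.symm_apply_eq]
    rfl
  have hreg : RingTheory.Sequence.IsWeaklyRegular
      (Localization.AtPrime 𝔮 ⧸ RingHom.ker fP)
      ts := by
    refine (AddEquiv.isWeaklyRegular_congr (e := eA.symm.toRingEquiv.toAddEquiv)
      (as := ts.map fP) (bs := ts) ?_).mp (hts ▸ hrs)
    refine List.forall₂_map_left_iff.mpr (List.forall₂_same.mpr fun t _ x => ?_)
    change eA.symm (fP t * x) = t • eA.symm x
    rw [map_mul, heA, Algebra.smul_def]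
    rfl
  -- the composite surjection
  have hχ : Function.Surjective (ψ.comp fP) := hψ.comp hfP
  have hkerχ : RingHom.ker (ψ.comp fP) = RingHom.ker fP ⊔ Ideal.ofList ts := by
    have h1 : RingHom.ker (ψ.comp fP) = (RingHom.ker ψ).comap fP := by
      ext x
      simp [RingHom.mem_ker]
    have h3 : Ideal.ofList (ts.map fP) = (Ideal.ofList ts).map fP := by
      rw [Ideal.ofList, Ideal.ofList, Ideal.map_span]
      congr 1
      ext x
      simp
    rw [h1, hker, ← hts, h3]
    have h2 := Ideal.comap_map_of_surjective fP hfP (Ideal.ofList ts)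
    rw [h2, sup_comm]
    congr 1
  have hsm' : Algebra.FormallySmooth A
      (Localization.AtPrime 𝔮 ⧸
        (RingHom.ker fP ⊔ Ideal.ofList ts)) := by
    have h1 : Algebra.FormallySmooth A
        (Localization.AtPrime 𝔮 ⧸
          RingHom.ker (ψ.comp fP)) :=
      Algebra.FormallySmooth.of_equiv (Ideal.quotientKerAlgEquivOfSurjective hχ).symm
    rw [hkerχ] at h1
    exact h1
  have hle : RingHom.ker fP ⊔ Ideal.ofList ts ≤ maximalIdeal
      (Localization.AtPrime 𝔮) := by
    rw [← hkerχ]
    exact IsLocalRing.le_maximalIdeal (RingHom.ker_ne_top _)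
  have key := Groth.Agent.Lib.Helper82.SmoothRegQuot.formallySmooth_quotient_of_sup_ofList A ts
    (RingHom.ker fP) hfPker hle hreg hsm'
  exact Algebra.FormallySmooth.of_equiv (A := Localization.AtPrime 𝔮 ⧸ RingHom.ker fP) eA

end Groth.Agent.Lib.Helper82.SmoothRegLoc
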