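import Groth.Agent.H46.RegSpread
import Groth.Agent.H46.GrFlatMain
import Groth.Agent.Lib.Helper71.FlatKer
import Groth.Agent.Lib.Helper82.SmoothRegLoc
import Groth.Agent.Lib.Helper82.CISpreadA

/-!
# Smoothness along a quasi-regular ideal with smooth quotient (ring level, helper82)

`A → B` of finite presentation, `J = (f₁, …, f_r)` quasi-regular with `B/J` flat and formally smooth
over `A`.  Then `B_q` is flat and formally smooth over `A` for every prime `q ⊇ J`, and the `f_i`
form a regular sequence in `B_q` (EGA IV 17.12.1, c') ⇒ a)).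
-/

set_option autoImplicit false
set_option linter.style.haveILetI false
universe u

namespace Groth.Agent.Lib.Helper82.QuasiRegSmooth

open RingTheory.Sequence TensorProduct

section Gr

variable {A B : Type u} [CommRing A] [CommRing B] [Algebra A B]
  {M : Type u} [AddCommGroup M] [Module B M] [Module A M] [IsScalarTower A B M]

/-- `N / N'` is flat when `M / N'` and `M / N` are. -/
theorem flat_gr_of_flat_quot (N' N : Submodule B M) (h : N' ≤ N)
    [Module.Flat A (M ⧸ N')] [Module.Flat A (M ⧸ N)] :
    Module.Flat A (↥N ⧸ Submodule.comap N.subtype N') := by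
  let π : (M ⧸ N') →ₗ[B] (M ⧸ N) := Submodule.mapQ N' N LinearMap.id (by simpa using h)
  have hπ : Function.Surjective π := by
    intro x
    obtain ⟨m, rfl⟩ := Submodule.Quotient.mk_surjective _ x
    exact ⟨Submodule.Quotient.mk m, rfl⟩
  haveI hker : Module.Flat A (LinearMap.ker (π.restrictScalars A)) :=
    Groth.Agent.Lib.Helper71.flat_ker_of_surjective (π.restrictScalars A) hπ
  have hkerφ : LinearMap.ker (N'.mkQ ∘ₗ N.subtype) = Submodule.comap N.subtype N' := by
    rw [LinearMap.ker_comp, Submodule.ker_mkQ]
  let ψ0 : (↥N ⧸ Submodule.comap N.subtype N') →ₗ[B] (M ⧸ N') :=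
    Submodule.liftQ _ (N'.mkQ ∘ₗ N.subtype) hkerφ.ge
  have hψ0inj : Function.Injective ψ0 := by
    rw [← LinearMap.ker_eq_bot]
    exact Submodule.ker_liftQ_eq_bot _ _ _ hkerφ.le
  have hψ0mem : ∀ x, ψ0 x ∈ LinearMap.ker (π.restrictScalars A) := by
    intro x
    obtain ⟨n, rfl⟩ := Submodule.Quotient.mk_surjective _ x
    change π (Submodule.Quotient.mk (n : M)) = 0
    change (Submodule.Quotient.mk (n : M) : M ⧸ N) = 0
    rw [Submodule.Quotient.mk_eq_zero]
    exact n.2
  let ψ : (↥N ⧸ Submodule.comap N.subtype N') →ₗ[A] LinearMap.ker (π.restrictScalars A) :=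
    (ψ0.restrictScalars A).codRestrict _ hψ0mem
  have hψinj : Function.Injective ψ := by
    intro x y hxy
    apply hψ0inj
    exact congrArg Subtype.val hxy
  have hψsurj : Function.Surjective ψ := by
    rintro ⟨y, hy⟩
    obtain ⟨m, rfl⟩ := Submodule.Quotient.mk_surjective _ y
    have hm : m ∈ N := by
      have h1 : π (Submodule.Quotient.mk m) = 0 := hy
      have h2 : (Submodule.Quotient.mk m : M ⧸ N) = 0 := h1
      rwa [Submodule.Quotient.mk_eq_zero] at h2
    refine ⟨Submodule.Quotient.mk ⟨m, hm⟩, ?_⟩
    apply Subtype.ext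
    rfl
  exact Module.Flat.of_linearEquiv (LinearEquiv.ofBijective ψ ⟨hψinj, hψsurj⟩)

end Gr

section Main

variable {A B : Type u} [CommRing A] [CommRing B] [Algebra A B] [Algebra.FinitePresentation A B]
  {r : ℕ} (f : Fin r → B)

/-- flatness along a quasi-regular ideal with flat quotient. -/
theorem flat_localization_of_quasiRegular (hq : CAlgX.IsQuasiRegular f)
    (hflat : Module.Flat A (B ⧸ Ideal.span (Set.range f))) (q : Ideal B) [q.IsPrime]
    (hle : Ideal.span (Set.range f) ≤ q) : Module.Flat A (Localization.AtPrime q) := by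
  set J := Ideal.span (Set.range f) with hJ
  have hJfg : J.FG := Submodule.fg_span (Set.finite_range f)
  have hquot : ∀ k, Module.Flat A (B ⧸ (J ^ k • (⊤ : Submodule B B))) := by
    intro k
    have h1 := Groth.Agent.Lib.Helper47.flat_quotient_pow f hq hflat k
    have h2 : (J ^ k • (⊤ : Submodule B B)) = J ^ k := by
      rw [smul_eq_mul, Ideal.mul_top]
    rw [h2]
    exact h1
  have hgr : ∀ k, Module.Flat A (↥(J ^ k • (⊤ : Submodule B B)) ⧸
      Submodule.comap (J ^ k • (⊤ : Submodule B B)).subtype (J ^ (k + 1) • ⊤)) := by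
    intro k
    haveI := hquot k
    haveI := hquot (k + 1)
    exact flat_gr_of_flat_quot _ _
      (Submodule.smul_mono_left (Ideal.pow_le_pow_right (Nat.le_succ k)))
  haveI h3 : Module.Flat A (LocalizedModule q.primeCompl B) :=
    Groth.Agent.H46.GrFlatMain.flat_localized_of_gr_flat J hJfg B hgr q hle
  haveI hloc : IsLocalizedModule q.primeCompl (Algebra.linearMap B (Localization.AtPrime q)) :=
    inferInstance
  let e := IsLocalizedModule.linearEquiv q.primeCompl
    (LocalizedModule.mkLinearMap q.primeCompl B) (Algebra.linearMap B (Localization.AtPrime q))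
  exact Module.Flat.of_linearEquiv (e.symm.restrictScalars A)

open Groth.Agent.Lib.Helper62.FibReg in
/-- a quasi-regular sequence with flat quotient is weakly regular at the primes containing it. -/
theorem isWeaklyRegular_localization_of_quasiRegular (hq : CAlgX.IsQuasiRegular f)
    (hflat : Module.Flat A (B ⧸ Ideal.span (Set.range f))) (q : Ideal B) [q.IsPrime]
    (hle : Ideal.span (Set.range f) ≤ q) :
    IsWeaklyRegular (Localization.AtPrime q) (List.ofFn f) := by
  haveI : Module.Flat A (Localization.AtPrime q) :=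
    flat_localization_of_quasiRegular f hq hflat q hle
  have hf : ∀ i, f i ∈ q := fun i => hle (Ideal.subset_span ⟨i, rfl⟩)
  set p := q.comap (algebraMap A B) with hp
  have h1 := Groth.Agent.S9272.result A B p.ResidueField r f hflat hq
  let E : p.ResidueField ⊗[A] B ≃ₐ[A] B ⊗[A] p.ResidueField :=
    Algebra.TensorProduct.comm A p.ResidueField B
  have hE : ∀ b : B, E ((1 : p.ResidueField) ⊗ₜ[A] b) = b ⊗ₜ[A] 1 := fun b => by simp [E]
  have h2 := Groth.Agent.Lib.Helper10.RegSeqFlat.isQuasiRegular_map E.toRingEquiv.toRingHom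
    (RingHom.Flat.of_bijective E.bijective) _ h1
  have hqr : CAlgX.IsQuasiRegular (fun i => (f i ⊗ₜ[A] 1 : FibRing (A' := A) q)) := by
    convert h2 using 2
    exact (hE _).symm
  have hwr := isWeaklyRegular_XMod q f hf hqr
  set N := Localization.AtPrime q with hN
  set ℓ : B →ₗ[B] N := Algebra.linearMap B N with hℓ
  have hloc : IsLocalizedModule q.primeCompl ℓ := inferInstance
  have e := fibreEquiv A B q ℓ
  have hregF : IsWeaklyRegular
      (N ⧸ ((q.comap (algebraMap A B)).map (algebraMap A B)) • (⊤ : Submodule B N))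
      (List.ofFn f) := (e.isWeaklyRegular_congr _).mpr hwr
  exact (list_step A B q (List.ofFn f) B N ℓ hregF).1

/-- **EGA IV 17.12.1, c') ⇒ a), ring level.**  If `J = (f)` is quasi-regular and `B/J` is flat and
formally smooth over `A`, then `B_q` is formally smooth over `A` for every prime `q ⊇ J`. -/
theorem formallySmooth_localization_of_quasiRegular (hq : CAlgX.IsQuasiRegular f)
    (hflat : Module.Flat A (B ⧸ Ideal.span (Set.range f)))
    (hsm : Algebra.FormallySmooth A (B ⧸ Ideal.span (Set.range f)))
    (q : Ideal B) [q.IsPrime] (hle : Ideal.span (Set.range f) ≤ q) :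
    Algebra.FormallySmooth A (Localization.AtPrime q) := by
  set J := Ideal.span (Set.range f) with hJ
  let φ : B →+* B ⧸ J := Ideal.Quotient.mk J
  have hφ : Function.Surjective φ := Ideal.Quotient.mk_surjective
  let Q : Ideal (B ⧸ J) := q.map φ
  have hQcomap : q = Q.comap φ := by
    change q = (q.map φ).comap φ
    rw [Ideal.comap_map_of_surjective φ hφ]
    have : Ideal.comap φ ⊥ = J := by
      rw [← RingHom.ker_eq_comap_bot]
      exact Ideal.mk_ker
    rw [this]
    exact (sup_eq_left.mpr hle).symm
  haveI hQprime : Q.IsPrime :=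
    Ideal.map_isPrime_of_surjective hφ (by rw [Ideal.mk_ker]; exact hle)
  have hψ₀ : ∀ b : B ⧸ J, ∃ a s : B, φ s ∉ Q ∧ φ s * b = φ a := by
    intro b
    obtain ⟨a, rfl⟩ := hφ b
    refine ⟨a, 1, ?_, ?_⟩
    · rw [map_one]
      exact (Ideal.ne_top_iff_one _).mp (Ideal.IsPrime.ne_top inferInstance)
    · rw [map_one, one_mul]
  have hsurj := Groth.Agent.Lib.Helper82.CISpreadA.localRingHom_surjective φ Q q hQcomap hψ₀
  have hkerψ := Groth.Agent.Lib.Helper82.CISpreadA.ker_localRingHom φ Q q hQcomap hψ₀
  let ψ : Localization.AtPrime q →ₐ[A] Localization.AtPrime Q :=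
    { Localization.localRingHom q Q φ hQcomap with
      commutes' := fun a => by
        change Localization.localRingHom q Q φ hQcomap (algebraMap A _ a) = algebraMap A _ a
        rw [IsScalarTower.algebraMap_apply A B (Localization.AtPrime q),
          Localization.localRingHom_to_map,
          IsScalarTower.algebraMap_apply A (B ⧸ J) (Localization.AtPrime Q)]
        rfl }
  have hψ : Function.Surjective ψ := hsurj
  haveI : Algebra.FormallySmooth (B ⧸ J) (Localization.AtPrime Q) :=
    Algebra.FormallySmooth.of_isLocalization Q.primeCompl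
  haveI : Algebra.FormallySmooth A (Localization.AtPrime Q) :=
    Algebra.FormallySmooth.comp A (B ⧸ J) (Localization.AtPrime Q)
  have hwr := isWeaklyRegular_localization_of_quasiRegular f hq hflat q hle
  have hwr' : IsWeaklyRegular (Localization.AtPrime q)
      ((List.ofFn f).map (algebraMap B (Localization.AtPrime q))) :=
    (isWeaklyRegular_map_algebraMap_iff (Localization.AtPrime q) (Localization.AtPrime q)
      (List.ofFn f)).mpr hwr
  have hker : RingHom.ker ψ =
      Ideal.ofList ((List.ofFn f).map (algebraMap B (Localization.AtPrime q))) := by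
    have h1 : RingHom.ker ψ = (RingHom.ker φ).map (algebraMap B (Localization.AtPrime q)) :=
      hkerψ
    rw [h1, Ideal.mk_ker, ← Ideal.map_ofList]
    congr 1
    rw [hJ, Ideal.ofList]
    congr 1
    ext x
    simp [List.mem_ofFn]
  exact Groth.Agent.Lib.Helper82.SmoothRegLoc.formallySmooth_of_surjective_of_isWeaklyRegular A q
    ψ hψ _ hwr' hker inferInstance

end Main

section Append

variable {A B : Type u} [CommRing A] [CommRing B] [Algebra A B] [Algebra.FinitePresentation A B]
  {r : ℕ} (f : Fin r → B)

/-- `LocalizedModule` form of `flat_localization_of_quasiRegular`. -/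
theorem flat_localizedModule_of_quasiRegular (hq : CAlgX.IsQuasiRegular f)
    (hflat : Module.Flat A (B ⧸ Ideal.span (Set.range f))) (q : Ideal B) [q.IsPrime]
    (hle : Ideal.span (Set.range f) ≤ q) : Module.Flat A (LocalizedModule q.primeCompl B) := by
  haveI := flat_localization_of_quasiRegular f hq hflat q hle
  haveI hloc : IsLocalizedModule q.primeCompl (Algebra.linearMap B (Localization.AtPrime q)) :=
    inferInstance
  let e := IsLocalizedModule.linearEquiv q.primeCompl
    (LocalizedModule.mkLinearMap q.primeCompl B) (Algebra.linearMap B (Localization.AtPrime q))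
  exact Module.Flat.of_linearEquiv (e.restrictScalars A)

end Append

end Groth.Agent.Lib.Helper82.QuasiRegSmooth
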