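import Groth.Agent.Lib.Helper82.QuasiRegSmooth
import Groth.Agent.Lib.Helper82.SmoothRegSch
import Groth.Agent.H46.RegImmSpread
import Groth.Agent.Lib.Helper63.ImmLocal
import Groth.Agent.H8.QuasiRegSch

/-!
# Sections of morphisms: smooth along the section iff the section is a quasi-regular immersion
(EGA IV 17.12.1, scheme level; helper82)
-/

set_option autoImplicit false
set_option linter.style.haveILetI false
universe u

namespace Groth.Agent.Lib.Helper82.QuasiRegSmoothSch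

open AlgebraicGeometry CategoryTheory CategoryTheory.Limits RingTheory.Sequence

open Groth.Agent.Lib.Helper10.RegImmBaseChange Groth.Agent.Lib.Helper10.RelRegBaseChange

variable {X S Z : Scheme.{u}}

/-- regularity of a restriction over an open gives regularity at the points over that open. -/
theorem isRegularImmersionAt_of_restrict (i : Z ⟶ X) (U : X.Opens) (z : Z)
    (hz : i z ∈ U) (h : Mor2.IsRegularClosedImmersion (i ∣_ U)) :
    RegImm.IsRegularImmersionAt RegImm.Kind.regular i z := by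
  obtain ⟨hcl, hreg⟩ := h
  obtain ⟨U', hU', hzU', rs, hrs, hker⟩ := hreg ⟨z, hz⟩
  have hU'' : IsAffineOpen (U.ι ''ᵁ U') := hU'.image_of_isOpenImmersion U.ι
  refine ⟨⟨U.ι ''ᵁ U', hU''⟩, ?_, ?_, rs, hrs, ?_⟩
  · refine ⟨(i ∣_ U) ⟨z, hz⟩, hzU', ?_⟩
    exact morphismRestrict_base_coe i U ⟨z, hz⟩
  · have e := morphismRestrictRestrict i U U'
    haveI : IsClosedImmersion (i ∣_ U ∣_ U') := inferInstance
    exact (MorphismProperty.arrow_mk_iso_iff @IsClosedImmersion e).mp inferInstance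
  · have hker' : RingHom.ker ((i ∣_ U).app U').hom = Ideal.ofList rs := by
      rw [← hker, Scheme.Hom.ker_apply]
    have hinj : Function.Injective
        (Z.presheaf.map (eqToHom (image_morphismRestrict_preimage i U U')).op).hom :=
      (ConcreteCategory.bijective_of_isIso _).1
    have h : ∀ x, ((i ∣_ U).app U').hom x =
        (Z.presheaf.map (eqToHom (image_morphismRestrict_preimage i U U')).op).hom
          ((i.app (U.ι ''ᵁ U')).hom x) := fun x => by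
      rw [morphismRestrict_app]
      rfl
    have h2 : ∀ x : Γ(↑U, U'), ((i ∣_ U).app U').hom x = 0 ↔
        (i.app (U.ι ''ᵁ U')).hom x = 0 := by
      intro x
      rw [h x]
      exact ⟨fun hx => hinj (hx.trans (map_zero _).symm), fun hx => by rw [hx]; exact map_zero _⟩
    have hker'' : ∀ x : Γ(↑U, U'), x ∈ Ideal.ofList rs ↔ ((i ∣_ U).app U').hom x = 0 :=
      fun x => by
        rw [← hker']
        exact RingHom.mem_ker
    exact Ideal.ext fun x => RingHom.mem_ker.trans ((h2 x).symm.trans (hker'' x).symm)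

/-- the sections of `V.ι` over an open contained in `V` form an isomorphism. -/
theorem ker_comp_ι_app (i : Z ⟶ X) (V : Z.Opens) (U : X.Opens) (hU : i ⁻¹ᵁ U ≤ V) :
    RingHom.ker ((V.ι ≫ i).app U).hom = RingHom.ker (i.app U).hom := by
  haveI : IsIso (V.ι.app (i ⁻¹ᵁ U)) := V.ι.isIso_app _ (by simpa using hU)
  have hinj : Function.Injective (V.ι.app (i ⁻¹ᵁ U)).hom :=
    (ConcreteCategory.bijective_of_isIso (V.ι.app (i ⁻¹ᵁ U))).1
  have h : ∀ x, ((V.ι ≫ i).app U).hom x = (V.ι.app (i ⁻¹ᵁ U)).hom ((i.app U).hom x) :=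
    fun x => rfl
  ext x
  rw [RingHom.mem_ker, RingHom.mem_ker, h]
  exact ⟨fun hx => hinj (hx.trans (map_zero _).symm), fun hx => by rw [hx]; exact map_zero _⟩

/-- regularity of kind `k` at a point is local on the source of an immersion. -/
theorem isRegularImmersionAt_of_comp_ι (i : Z ⟶ X) [IsImmersion i] (k : RegImm.Kind)
    (V : Z.Opens) (z : Z) (hz : z ∈ V)
    (h : RegImm.IsRegularImmersionAt k (V.ι ≫ i) ⟨z, hz⟩) :
    RegImm.IsRegularImmersionAt k i z := by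
  obtain ⟨U, hzU, hcl, rs, hrs, hker⟩ := h
  obtain ⟨O, hO, hOV⟩ := (i.isEmbedding.isInducing.isOpen_iff).mp V.2
  have hzO : i z ∈ O := by
    have : z ∈ (i : Z → X) ⁻¹' O := by rw [hOV]; exact hz
    exact this
  have hzc : i z ∈ i.coborderRange := subset_coborder ⟨z, rfl⟩
  let W : X.Opens := ⟨O, hO⟩ ⊓ i.coborderRange
  have hzW : (V.ι ≫ i) ⟨z, hz⟩ ∈ W := ⟨hzO, hzc⟩
  obtain ⟨U₀, hzU₀, hleU₀, hcl₀, rs₀, -, hrs₀, hker₀⟩ :=
    shrink (V.ι ≫ i) k ⟨z, hz⟩ U hzU hcl rs hrs hker W hzW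
  have hU₀W : U₀.1 ≤ W := hleU₀.trans inf_le_right
  have hpre : i ⁻¹ᵁ U₀.1 ≤ V := by
    intro y hy
    have h1 : i y ∈ O := (hU₀W hy).1
    have h2 : y ∈ (i : Z → X) ⁻¹' O := h1
    rw [hOV] at h2
    exact h2
  refine ⟨U₀, hzU₀, ?_, rs₀, hrs₀, ?_⟩
  · exact Groth.Agent.Lib.Helper63.ImmLocal.isClosedImmersion_restrict_of_isImmersion i U₀.1
      (hU₀W.trans inf_le_right)
  · rw [← hker₀, ker_comp_ι_app i V U₀.1 hpre]

/-- **EGA IV 17.12.1, c') ⇒ a)** for sections: if the restriction of a section `u` of `f` to an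
open neighbourhood `V` of `s` is a quasi-regular immersion, then `f` is smooth at `u s`. -/
theorem mem_smoothLocus_of_quasiRegular (f : X ⟶ S) [LocallyOfFinitePresentation f] (u : S ⟶ X)
    (hu : u ≫ f = 𝟙 S) (s : S) (V : S.Opens) (hsV : s ∈ V)
    (h : RegImm.IsRegularImmersion RegImm.Kind.quasi (V.ι ≫ u)) : u s ∈ f.smoothLocus := by
  set i : (V : Scheme.{u}) ⟶ X := V.ι ≫ u with hi
  let z : (V : Scheme.{u}) := ⟨s, hsV⟩
  have hiz : i z = u s := rfl
  have hif : i ≫ f = V.ι := by rw [hi, Category.assoc, hu, Category.comp_id]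
  obtain ⟨U, hzU, hcl, rs, hrs, hker⟩ := h.2 z
  obtain ⟨_, ⟨W, hW, rfl⟩, hsW, -⟩ := S.isBasis_affineOpens.exists_subset_of_mem_open
    (Set.mem_univ (f (i z))) isOpen_univ
  obtain ⟨U₀, hzU₀, hleU₀, hcl₀, rs₀, -, hrs₀, hker₀⟩ :=
    shrink i RegImm.Kind.quasi z U hzU hcl rs hrs hker (f ⁻¹ᵁ W) hsW
  have hUSX : U₀.1 ≤ f ⁻¹ᵁ W := hleU₀.trans inf_le_right
  obtain ⟨hZaff, hsurj⟩ := app_surjective_of_restrict i U₀.1 U₀.2 hcl₀
  letI algAB : Algebra Γ(S, W) Γ(X, U₀.1) := (f.appLE W U₀.1 hUSX).hom.toAlgebra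
  haveI : Algebra.FinitePresentation Γ(S, W) Γ(X, U₀.1) :=
    HasRingHomProperty.appLE (P := @LocallyOfFinitePresentation) f inferInstance ⟨W, hW⟩ U₀ hUSX
  have hle : i ⁻¹ᵁ U₀.1 ≤ (i ≫ f) ⁻¹ᵁ W := fun y hy => hUSX hy
  haveI : Smooth (i ≫ f) := by rw [hif]; infer_instance
  letI algAC : Algebra Γ(S, W) Γ(V, i ⁻¹ᵁ U₀.1) :=
    ((i ≫ f).appLE W (i ⁻¹ᵁ U₀.1) hle).hom.toAlgebra
  haveI hsmC : Algebra.Smooth Γ(S, W) Γ(V, i ⁻¹ᵁ U₀.1) := (i ≫ f).smooth_appLE hW hZaff hle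
  have hcomp : ((i ≫ f).appLE W (i ⁻¹ᵁ U₀.1) hle).hom =
      (i.app U₀.1).hom.comp (f.appLE W U₀.1 hUSX).hom := by
    rw [← CommRingCat.hom_comp]
    congr 1
    rw [Scheme.Hom.app_eq_appLE, Scheme.Hom.appLE_comp_appLE]
  let φ : Γ(X, U₀.1) →ₐ[Γ(S, W)] Γ(V, i ⁻¹ᵁ U₀.1) :=
    { (i.app U₀.1).hom with
      commutes' := fun a => by
        change (i.app U₀.1).hom (algebraMap Γ(S, W) Γ(X, U₀.1) a) =
          algebraMap Γ(S, W) Γ(V, i ⁻¹ᵁ U₀.1) a
        rw [RingHom.algebraMap_toAlgebra, RingHom.algebraMap_toAlgebra, hcomp]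
        rfl }
  have hφ : Function.Surjective φ := hsurj
  have hspan : Ideal.ofList rs₀ = Ideal.span (Set.range rs₀.get) := by
    unfold Ideal.ofList
    congr 1
    ext x
    simp [List.mem_iff_get]
  have hkerφ : RingHom.ker (φ : Γ(X, U₀.1) →+* Γ(V, i ⁻¹ᵁ U₀.1)) =
      Ideal.span (Set.range rs₀.get) := hker₀.trans hspan
  let e : (Γ(X, U₀.1) ⧸ Ideal.span (Set.range rs₀.get)) ≃ₐ[Γ(S, W)] Γ(V, i ⁻¹ᵁ U₀.1) :=
    (Ideal.quotientEquivAlgOfEq Γ(S, W) hkerφ.symm).trans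
      (Ideal.quotientKerAlgEquivOfSurjective hφ)
  haveI hflat : Module.Flat Γ(S, W) (Γ(X, U₀.1) ⧸ Ideal.span (Set.range rs₀.get)) :=
    Module.Flat.of_linearEquiv e.toLinearEquiv
  haveI hsm : Algebra.FormallySmooth Γ(S, W) (Γ(X, U₀.1) ⧸ Ideal.span (Set.range rs₀.get)) :=
    Algebra.FormallySmooth.of_equiv e.symm
  have hleq : Ideal.span (Set.range rs₀.get) ≤ (U₀.2.primeIdealOf ⟨i z, hzU₀⟩).asIdeal := by
    rw [← hspan, ← hker₀]
    exact Groth.Agent.H46.RegImmSpread.ker_app_le_primeIdealOf i U₀.2 z hzU₀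
  have key := Groth.Agent.Lib.Helper82.QuasiRegSmooth.formallySmooth_localization_of_quasiRegular
    (A := Γ(S, W)) rs₀.get hrs₀ hflat hsm (U₀.2.primeIdealOf ⟨i z, hzU₀⟩).asIdeal hleq
  rw [← hiz, Scheme.Hom.mem_smoothLocus, formallySmooth_stalkMap_iff W hW U₀.1 U₀.2 hUSX hzU₀]
  exact key

/-- **EGA IV 17.12.1, a) ⇒ c')** for sections: if `f` is smooth at `u s`, the restriction of the
section `u` to an open neighbourhood of `s` is a (quasi-)regular immersion. -/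
theorem exists_quasiRegular_of_mem_smoothLocus (f : X ⟶ S) [LocallyOfFinitePresentation f]
    (u : S ⟶ X) (hu : u ≫ f = 𝟙 S) (s : S) (hs : u s ∈ f.smoothLocus) :
    ∃ V : S.Opens, s ∈ V ∧ RegImm.IsRegularImmersion RegImm.Kind.quasi (V.ι ≫ u) := by
  haveI : IsImmersion u := by
    haveI : IsImmersion (u ≫ f) := by rw [hu]; infer_instance
    exact IsImmersion.of_comp u f
  set V : S.Opens := u ⁻¹ᵁ f.smoothLocus with hV
  set i : (V : Scheme.{u}) ⟶ X := V.ι ≫ u with hi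
  refine ⟨V, hs, inferInstance, fun z => ?_⟩
  apply Groth.Agent.H8.QuasiRegSch.isRegularImmersionAt_quasi_of_regular
  have hif : i ≫ f = V.ι := by rw [hi, Category.assoc, hu, Category.comp_id]
  have hz1 : i z ∈ f.smoothLocus := z.2
  have hz2 : i z ∈ i.coborderRange := subset_coborder ⟨z, rfl⟩
  obtain ⟨_, ⟨(U : X.Opens), hU, rfl⟩, hzU, hUle⟩ :=
    X.isBasis_affineOpens.exists_subset_of_mem_open
    (show i z ∈ f.smoothLocus ⊓ i.coborderRange from ⟨hz1, hz2⟩)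
    (f.smoothLocus ⊓ i.coborderRange).2
  haveI hcl : IsClosedImmersion (i ∣_ U) :=
    Groth.Agent.Lib.Helper63.ImmLocal.isClosedImmersion_restrict_of_isImmersion i U
      (fun x hx => (hUle hx).2)
  haveI hsm : Smooth (U.ι ≫ f) := by
    rw [← Scheme.Hom.smoothLocus_eq_top_iff, ← Scheme.Hom.preimage_smoothLocus_eq,
      ← top_le_iff]
    rintro ⟨y, hy⟩ -
    exact (hUle hy).1
  have hsyn : Synt.IsSyntomicMor ((i ∣_ U) ≫ U.ι ≫ f) := by
    have h1 : (i ∣_ U) ≫ U.ι ≫ f = (i ⁻¹ᵁ U).ι ≫ V.ι := by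
      rw [← Category.assoc, morphismRestrict_ι, Category.assoc, hif]
    rw [h1]
    exact Groth.Agent.S9699.result _
  have hreg : Mor2.IsRegularClosedImmersion (i ∣_ U) :=
    Groth.Agent.Lib.Helper82.RegImmSch.isRegularClosedImmersion_of_smooth (U.ι ≫ f) (i ∣_ U) hsyn
  exact isRegularImmersionAt_of_restrict i U z hzU hreg

end Groth.Agent.Lib.Helper82.QuasiRegSmoothSch
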