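import Groth.Agent.Lib.Helper82.QuasiRegSmoothSch
import Groth.Agent.Lib.Helper2.FlatLocusOpen
import Groth.Agent.Lib.Helper10.RegImmKinds

/-!
# Relative `H_1`-regular immersions are regular immersions (Stacks 063U, full statement; helper82)
-/

set_option autoImplicit false
set_option linter.style.haveILetI false
universe u

namespace Groth.Agent.Lib.Helper82.RelH1Reg

open AlgebraicGeometry CategoryTheory CategoryTheory.Limits RingTheory.Sequence

open Groth.Agent.Lib.Helper10.RegImmBaseChange Groth.Agent.Lib.Helper10.RelRegBaseChange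

variable {X S Z : Scheme.{u}}

/-- regularity of kind `k` of a restriction over an open, at a point, gives regularity at the
underlying point. -/
theorem isRegularImmersionAt_of_restrict' (i : Z ⟶ X) (U : X.Opens) (k : RegImm.Kind)
    (z' : ↑(i ⁻¹ᵁ U)) (h : RegImm.IsRegularImmersionAt k (i ∣_ U) z') :
    RegImm.IsRegularImmersionAt k i z'.1 := by
  obtain ⟨⟨U', hU'⟩, hzU', hcl, rs, hrs, hker⟩ := h
  have hU'' : IsAffineOpen (U.ι ''ᵁ U') := hU'.image_of_isOpenImmersion U.ι
  refine ⟨⟨U.ι ''ᵁ U', hU''⟩, ?_, ?_, rs, hrs, ?_⟩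
  · refine ⟨(i ∣_ U) z', hzU', ?_⟩
    exact morphismRestrict_base_coe i U z'
  · have e := morphismRestrictRestrict i U U'
    haveI : IsClosedImmersion (i ∣_ U ∣_ U') := hcl
    exact (MorphismProperty.arrow_mk_iso_iff @IsClosedImmersion e).mp inferInstance
  · have hker' : RingHom.ker ((i ∣_ U).app U').hom = Ideal.ofList rs := hker
    have hinj : Function.Injective
        (Z.presheaf.map (eqToHom (image_morphismRestrict_preimage i U U')).op).hom :=
      (ConcreteCategory.bijective_of_isIso _).1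
    have h : ∀ x, ((i ∣_ U).app U').hom x =
        (Z.presheaf.map (eqToHom (image_morphismRestrict_preimage i U U')).op).hom
          ((i.app (U.ι ''ᵁ U')).hom x) := fun x => by
      rw [morphismRestrict_app]
      rfl
    have h2 : ∀ x : Γ(↑U, U'), ((i ∣_ U).app U').hom x = 0 ↔
        (i.app (U.ι ''ᵁ U')).hom x = 0 := by
      intro x
      rw [h x]
      exact ⟨fun hx => hinj (hx.trans (map_zero _).symm), fun hx => by rw [hx]; exact map_zero _⟩
    have hker'' : ∀ x : Γ(↑U, U'), x ∈ Ideal.ofList rs ↔ ((i ∣_ U).app U').hom x = 0 :=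
      fun x => by
        rw [← hker']
        exact RingHom.mem_ker
    exact Ideal.ext fun x => RingHom.mem_ker.trans ((h2 x).symm.trans (hker'' x).symm)

/-- A relative quasi-regular immersion into a scheme locally of finite presentation over `S`:
the ambient scheme is flat over `S` at the points of the image. -/
theorem flat_stalkMap_of_relQuasi (f : X ⟶ S) [LocallyOfFinitePresentation f] (i : Z ⟶ X)
    (hi : RegImm.IsRelRegularImmersion RegImm.Kind.quasi f i) (z : Z) :
    (f.stalkMap (i z)).hom.Flat := by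
  obtain ⟨⟨himm, hreg⟩, hflat⟩ := hi
  obtain ⟨U, hU, hcl, rs, hrs, hker⟩ := hreg z
  obtain ⟨_, ⟨V, hV, rfl⟩, hsV, -⟩ := S.isBasis_affineOpens.exists_subset_of_mem_open
    (Set.mem_univ (f (i z))) isOpen_univ
  obtain ⟨U₀, hzU₀, hleU₀, hcl₀, rs₀, -, hrs₀, hker₀⟩ :=
    shrink i RegImm.Kind.quasi z U hU hcl rs hrs hker (f ⁻¹ᵁ V) hsV
  have hUSX : U₀.1 ≤ f ⁻¹ᵁ V := hleU₀.trans inf_le_right
  obtain ⟨hZaff, hsurj⟩ := app_surjective_of_restrict i U₀.1 U₀.2 hcl₀
  letI algAB : Algebra Γ(S, V) Γ(X, U₀.1) := (f.appLE V U₀.1 hUSX).hom.toAlgebra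
  haveI : Algebra.FinitePresentation Γ(S, V) Γ(X, U₀.1) :=
    HasRingHomProperty.appLE (P := @LocallyOfFinitePresentation) f inferInstance ⟨V, hV⟩ U₀ hUSX
  have hflatQ : Module.Flat Γ(S, V) (Γ(X, U₀.1) ⧸ Ideal.ofList rs₀) := by
    refine Groth.Agent.H8.QuasiRegFlat.flat_quotient_of_flat_comp _ (i.app U₀.1).hom hsurj _
      hker₀.symm ?_
    have hle : i ⁻¹ᵁ U₀.1 ≤ (i ≫ f) ⁻¹ᵁ V := fun y hy => hUSX hy
    have hfl := Flat.flat_appLE (i ≫ f) hV hZaff hle
    have heq : f.appLE V U₀.1 hUSX ≫ i.app U₀.1 = (i ≫ f).appLE V (i ⁻¹ᵁ U₀.1) hle := by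
      rw [Scheme.Hom.app_eq_appLE, Scheme.Hom.appLE_comp_appLE]
    rw [← heq] at hfl
    exact hfl
  have hspan : Ideal.ofList rs₀ = Ideal.span (Set.range rs₀.get) := by
    unfold Ideal.ofList
    congr 1
    ext x
    simp [List.mem_iff_get]
  rw [hspan] at hflatQ
  have hleq : Ideal.span (Set.range rs₀.get) ≤ (U₀.2.primeIdealOf ⟨i z, hzU₀⟩).asIdeal := by
    rw [← hspan, ← hker₀]
    exact Groth.Agent.H46.RegImmSpread.ker_app_le_primeIdealOf i U₀.2 z hzU₀
  have key := Groth.Agent.Lib.Helper82.QuasiRegSmooth.flat_localizedModule_of_quasiRegular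
    (A := Γ(S, V)) rs₀.get hrs₀ hflatQ (U₀.2.primeIdealOf ⟨i z, hzU₀⟩).asIdeal hleq
  exact (Groth.Agent.Lib.Helper2.flat_stalkMap_iff_flat_localizedModule f hV U₀.2 hUSX (i z)
    hzU₀).mpr key

/-- **Stacks 063U.** For `f` locally of finite presentation and `i` a relative quasi-regular
immersion: `X` is flat over `S` on an open neighbourhood of the image, and `i` is a regular
immersion. -/
theorem exists_flat_and_isRegularImmersion_of_relQuasi (f : X ⟶ S)
    [LocallyOfFinitePresentation f] (i : Z ⟶ X)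
    (hi : RegImm.IsRelRegularImmersion RegImm.Kind.quasi f i) :
    (∃ U : X.Opens, Set.range (fun z : ↥Z => i z) ⊆ (U : Set ↥X) ∧ Flat (U.ι ≫ f)) ∧
      RegImm.IsRegularImmersion RegImm.Kind.regular i := by
  let U : X.Opens := ⟨{x : X | (f.stalkMap x).hom.Flat},
    Groth.Agent.Lib.Helper2.isOpen_flat_stalkMap_locus f⟩
  have hrange : ∀ z : Z, i z ∈ U := fun z => flat_stalkMap_of_relQuasi f i hi z
  haveI hflatU : Flat (U.ι ≫ f) := by
    rw [Flat.iff_flat_stalkMap]
    intro x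
    rw [Scheme.Hom.stalkMap_comp]
    have h1 : (f.stalkMap (U.ι x)).hom.Flat := x.2
    have h2 : (U.ι.stalkMap x).hom.Flat := Flat.stalkMap U.ι x
    exact h1.comp h2
  refine ⟨⟨U, ?_, hflatU⟩, ?_⟩
  · rintro _ ⟨z, rfl⟩
    exact hrange z
  · obtain ⟨hquasi, hflat⟩ := hi
    haveI := hquasi.1
    haveI := hflat
    refine ⟨hquasi.1, fun z => ?_⟩
    have H : IsPullback (i ⁻¹ᵁ U).ι (i ∣_ U) i U.ι := (isPullback_morphismRestrict i U).flip
    have hquasi' : RegImm.IsRegularImmersion RegImm.Kind.quasi (i ∣_ U) :=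
      isRegularImmersion_of_isPullback RegImm.Kind.quasi H
        (fun φ hφ rs hrs hne =>
          Groth.Agent.Lib.Helper10.RegSeqFlat.kindSeq_map φ RegImm.Kind.quasi hφ rs hrs hne) hquasi
    have hflat' : Flat ((i ∣_ U) ≫ U.ι ≫ f) := by
      have h1 : (i ∣_ U) ≫ U.ι ≫ f = (i ⁻¹ᵁ U).ι ≫ i ≫ f := by
        rw [← Category.assoc, morphismRestrict_ι, Category.assoc]
      rw [h1]
      infer_instance
    have hreg := Groth.Agent.H46.RegImmSpread.isRegularImmersion_of_relQuasi (U.ι ≫ f) (i ∣_ U)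
      ⟨hquasi', hflat'⟩
    exact isRegularImmersionAt_of_restrict' i U RegImm.Kind.regular ⟨z, hrange z⟩
      (hreg.2 ⟨z, hrange z⟩)

end Groth.Agent.Lib.Helper82.RelH1Reg
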