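import Groth.Agent.S2201
import Groth.Agent.S1679
import Groth.Agent.S18944
import Groth.Agent.H8.QuasiRegSch
import Groth.Agent.Lib.Helper10.RegImmKinds
import Groth.Agent.Lib.Helper35.StalkFTD
import Groth.Agent.Lib.Helper63.ImmLocal
import Groth.Agent.Lib.Helper82.RelH1Reg
import Groth.Agent.Lib.Helper82.CIOpen

/-!
# Factoring regular immersions through perfect immersions (helper82)
-/

set_option autoImplicit false
set_option linter.style.haveILetI false
universe u
attribute [local instance] HasDerivedCategory.standard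

namespace Groth.Agent.Lib.Helper82.RegImmFactor

open AlgebraicGeometry CategoryTheory CategoryTheory.Limits RingTheory.Sequence

/-- transport of "kernel generated by a regular sequence" along an isomorphism of arrows. -/
theorem exists_isRegular_ker_of_arrow_iso {A B A' B' : CommRingCat.{u}} (φ : A ⟶ B) (ψ : A' ⟶ B')
    (e : Arrow.mk φ ≅ Arrow.mk ψ) (rs : List A') (hrs : IsRegular A' rs)
    (hker : RingHom.ker ψ.hom = Ideal.ofList rs) :
    ∃ rs' : List A, IsRegular A rs' ∧ RingHom.ker φ.hom = Ideal.ofList rs' := by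
  let eL : A ≃+* A' := (Arrow.leftFunc.mapIso e).commRingCatIsoToRingEquiv
  let eR : B ≃+* B' := (Arrow.rightFunc.mapIso e).commRingCatIsoToRingEquiv
  have hw : ∀ a : A, ψ.hom (eL a) = eR (φ.hom a) := by
    intro a
    have := e.hom.w
    exact congr($(this).hom a)
  refine ⟨rs.map eL.symm, Groth.Agent.Lib.Helper82.CIOpen.isRegular_map_ringEquiv eL.symm rs hrs, ?_⟩
  ext a
  rw [RingHom.mem_ker]
  have h1 : φ.hom a = 0 ↔ eL a ∈ Ideal.ofList rs := by
    rw [← hker, RingHom.mem_ker, hw]
    exact (map_eq_zero_iff eR eR.injective).symm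
  rw [h1]
  have h2 : Ideal.ofList (rs.map eL.symm) = (Ideal.ofList rs).map (eL.symm : A' →+* A) := by
    rw [Ideal.map_ofList]
    rfl
  rw [h2]
  constructor
  · intro h
    have := Ideal.mem_map_of_mem (eL.symm : A' →+* A) h
    simpa using this
  · intro h
    have := Ideal.mem_map_of_mem (eL : A →+* A') h
    rw [Ideal.map_map] at this
    simpa using this

variable {X Y Z : Scheme.{u}}

/-- Lemma A: an immersion into a locally Noetherian scheme whose stalk kernel at `z` is generated by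
a regular sequence is a regular immersion at `z`. -/
theorem isRegularImmersionAt_of_stalk [IsLocallyNoetherian X] (i : Z ⟶ X) [IsImmersion i] (z : Z)
    (rs : List (X.presheaf.stalk (i z))) (hrs : IsRegular (X.presheaf.stalk (i z)) rs)
    (hker : RingHom.ker (i.stalkMap z).hom = Ideal.ofList rs) :
    RegImm.IsRegularImmersionAt RegImm.Kind.regular i z := by
  set U : X.Opens := i.coborderRange with hU
  have hzU : i z ∈ U := subset_coborder ⟨z, rfl⟩
  haveI : IsClosedImmersion (i ∣_ U) :=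
    Groth.Agent.Lib.Helper63.ImmLocal.isClosedImmersion_restrict_of_isImmersion i U le_rfl
  let z' : ↑(i ⁻¹ᵁ U) := ⟨z, hzU⟩
  have e := morphismRestrictStalkMap i U z'
  obtain ⟨rs', hrs', hker'⟩ := exists_isRegular_ker_of_arrow_iso _ _ e rs hrs hker
  obtain ⟨V, hzV, hV⟩ := (Groth.Agent.S1679.result (i ∣_ U) z').mpr ⟨rs', hrs', hker'⟩
  have h1 := Groth.Agent.Lib.Helper82.QuasiRegSmoothSch.isRegularImmersionAt_of_restrict
    (i ∣_ U) V z' hzV hV
  exact Groth.Agent.Lib.Helper82.RelH1Reg.isRegularImmersionAt_of_restrict' i U _ z' h1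

/-- finite tor dimension passes to localizations (source localized at `M`, target any flat
`B`-algebra over the localized source). -/
theorem ftd_of_isLocalization {A B A' B' : Type u} [CommRing A] [CommRing B] [CommRing A']
    [CommRing B'] [Algebra A B] [Algebra A A'] [Algebra B B'] [Algebra A' B'] [Algebra A B']
    [IsScalarTower A B B'] [IsScalarTower A A' B']
    (M : Submonoid A) [IsLocalization M A'] [Module.Flat B B']
    (h : DRing.HasFiniteTorDim A B) : DRing.HasFiniteTorDim A' B' := by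
  have h1 : DRing.HasFiniteTorDim A B' :=
    Groth.Agent.Lib.Helper35.FTD.comp (A := A) (B := B) B' h
      (Groth.Agent.Lib.Helper35.FTD.of_flat _)
  have hloc : IsLocalization (Algebra.algebraMapSubmonoid B' M) B' := by
    apply IsLocalization.of_le_isUnit
    rintro _ ⟨a, ha, rfl⟩
    rw [IsScalarTower.algebraMap_apply A A' B']
    exact (IsLocalization.map_units A' ⟨a, ha⟩).map _
  have hpo : Algebra.IsPushout A B' A' B' := Algebra.isPushout_of_isLocalization M A' B' B'
  have hfl : Module.Flat A A' := IsLocalization.flat A' M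
  exact Groth.Agent.Lib.Helper35.FTD.baseChange (R := A) (S := B') (R' := A') (S' := B') h1

/-- a perfect morphism has stalk maps of finite tor dimension. -/
theorem hasFiniteTorDim_stalkMap_of_isPerfectMor (i : Z ⟶ Y) (hi : MoreMor.IsPerfectMor i) (z : Z) :
    letI := (i.stalkMap z).hom.toAlgebra
    DRing.HasFiniteTorDim (Y.presheaf.stalk (i z)) (Z.presheaf.stalk z) := by
  obtain ⟨_, ⟨V, hV : IsAffineOpen V, rfl⟩, hyV, -⟩ :=
    Y.isBasis_affineOpens.exists_subset_of_mem_open (Set.mem_univ (i z)) isOpen_univ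
  have hyV' : i z ∈ (V : Y.Opens) := hyV
  obtain ⟨_, ⟨W, hW : IsAffineOpen W, rfl⟩, hzW, hWV⟩ :=
    Z.isBasis_affineOpens.exists_subset_of_mem_open (show z ∈ ((i ⁻¹ᵁ V : Z.Opens) : Set Z) from hyV')
      (i ⁻¹ᵁ V).isOpen
  have hzW' : z ∈ (W : Z.Opens) := hzW
  have hWV' : (W : Z.Opens) ≤ i ⁻¹ᵁ V := hWV
  have hp := (hi W V hW hV hWV').2
  letI algAB : Algebra Γ(Y, V) Γ(Z, W) := (i.appLE V W hWV').hom.toAlgebra
  letI algAA' : Algebra Γ(Y, V) (Y.presheaf.stalk (i z)) :=
    TopCat.Presheaf.algebra_section_stalk Y.presheaf ⟨i z, hyV'⟩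
  letI algBB' : Algebra Γ(Z, W) (Z.presheaf.stalk z) :=
    TopCat.Presheaf.algebra_section_stalk Z.presheaf ⟨z, hzW'⟩
  letI algA'B' : Algebra (Y.presheaf.stalk (i z)) (Z.presheaf.stalk z) :=
    (i.stalkMap z).hom.toAlgebra
  letI algAB' : Algebra Γ(Y, V) (Z.presheaf.stalk z) :=
    ((Z.presheaf.germ W z hzW').hom.comp (i.appLE V W hWV').hom).toAlgebra
  have t1 : IsScalarTower Γ(Y, V) Γ(Z, W) (Z.presheaf.stalk z) :=
    IsScalarTower.of_algebraMap_eq (fun _ => rfl)
  have t2 : IsScalarTower Γ(Y, V) (Y.presheaf.stalk (i z)) (Z.presheaf.stalk z) := by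
    refine IsScalarTower.of_algebraMap_eq (fun a => ?_)
    show (Z.presheaf.germ W z hzW').hom ((i.appLE V W hWV').hom a) =
      (i.stalkMap z).hom ((Y.presheaf.germ V (i z) hyV').hom a)
    have h1 := Scheme.Hom.germ_stalkMap_apply i V z hyV' a
    rw [show (i.stalkMap z).hom ((Y.presheaf.germ V (i z) hyV').hom a) =
      i.stalkMap z (Y.presheaf.germ V (i z) hyV' a) from rfl, h1]
    simp only [Scheme.Hom.appLE, CommRingCat.hom_comp, RingHom.coe_comp, Function.comp_apply]
    exact (Z.presheaf.germ_res_apply (homOfLE hWV') z hzW' _)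
  haveI : IsLocalization.AtPrime (Y.presheaf.stalk (i z))
      (hV.primeIdealOf ⟨i z, hyV'⟩).asIdeal := hV.isLocalization_stalk ⟨i z, hyV'⟩
  haveI : IsLocalization.AtPrime (Z.presheaf.stalk z)
      (hW.primeIdealOf ⟨z, hzW'⟩).asIdeal := hW.isLocalization_stalk ⟨z, hzW'⟩
  haveI : Module.Flat Γ(Z, W) (Z.presheaf.stalk z) :=
    IsLocalization.flat _ (hW.primeIdealOf ⟨z, hzW'⟩).asIdeal.primeCompl
  exact ftd_of_isLocalization (hV.primeIdealOf ⟨i z, hyV'⟩).asIdeal.primeCompl hp

section RingLevel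

variable {R B C : Type u} [CommRing R] [CommRing B] [CommRing C]

/-- Local algebra core (from S2201 with `R = S`): if `R ↠ B ↠ C`, the kernel of the composite is
generated by a regular sequence and `C` has finite tor dimension over `B`, then both kernels are
generated by regular sequences. -/
theorem exists_isRegular_ker_pair [IsNoetherianRing R] [IsLocalRing R] [Nontrivial C]
    (φ : R →+* B) (hφ : Function.Surjective φ) (ψ : B →+* C) (hψ : Function.Surjective ψ)
    (rs : List R) (hrs : IsRegular R rs) (hker : RingHom.ker (ψ.comp φ) = Ideal.ofList rs)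
    (hftd : letI := ψ.toAlgebra; DRing.HasFiniteTorDim B C) :
    (∃ rs₁ : List R, IsRegular R rs₁ ∧ RingHom.ker φ = Ideal.ofList rs₁) ∧
      (∃ rs₂ : List B, IsRegular B rs₂ ∧ RingHom.ker ψ = Ideal.ofList rs₂) := by
  have hB : Nontrivial B := ψ.domain_nontrivial
  set I : Ideal R := RingHom.ker φ with hIdef
  set J : Ideal R := RingHom.ker (ψ.comp φ) with hJdef
  have hIJ0 : I ≤ J := fun r hr => by
    rw [hJdef, RingHom.mem_ker, RingHom.comp_apply, (RingHom.mem_ker).mp hr, map_zero]
  have hmapid : ∀ K : Ideal R, K.map (algebraMap R R) = K := fun K => by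
    rw [Algebra.algebraMap_self, Ideal.map_id]
  have hI : I ≠ ⊤ := RingHom.ker_ne_top φ
  have hJ : J ≠ ⊤ := RingHom.ker_ne_top (ψ.comp φ)
  have hIJ : I.map (algebraMap R R) ≤ J := by rw [hmapid]; exact hIJ0
  letI algQ : Algebra (R ⧸ I) (R ⧸ J) := (Ideal.Quotient.factor hIJ0).toAlgebra
  have tQ : IsScalarTower R (R ⧸ I) (R ⧸ J) := IsScalarTower.of_algebraMap_eq (fun _ => rfl)
  haveI : IsLocalHom (algebraMap R R) := by
    rw [Algebra.algebraMap_self]; infer_instance
  haveI : IsRegularLocalRing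
      (R ⧸ Ideal.map (algebraMap R R) (IsLocalRing.maximalIdeal R)) := by
    letI := Ideal.Quotient.field (IsLocalRing.maximalIdeal R)
    haveI : IsRegularLocalRing (R ⧸ IsLocalRing.maximalIdeal R) := inferInstance
    exact IsRegularLocalRing.of_ringEquiv
      (Ideal.quotEquivOfEq (hmapid (IsLocalRing.maximalIdeal R)).symm)
  -- transport of finite tor dimension
  let e₁ : R ⧸ I ≃+* B := RingHom.quotientKerEquivOfSurjective hφ
  let e₂ : R ⧸ J ≃+* C := RingHom.quotientKerEquivOfSurjective (hψ.comp hφ)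
  have he₁ : ∀ r : R, e₁ (Ideal.Quotient.mk I r) = φ r := fun r => rfl
  have he₂ : ∀ r : R, e₂ (Ideal.Quotient.mk J r) = ψ (φ r) := fun r => rfl
  have hQ : DRing.HasFiniteTorDim (R ⧸ I) (R ⧸ J) := by
    letI a1 : Algebra (R ⧸ I) B := (e₁ : R ⧸ I →+* B).toAlgebra
    letI a2 : Algebra B C := ψ.toAlgebra
    letI a3 : Algebra (R ⧸ I) C := (ψ.comp (e₁ : R ⧸ I →+* B)).toAlgebra
    have t : IsScalarTower (R ⧸ I) B C := IsScalarTower.of_algebraMap_eq (fun _ => rfl)
    have hfl : Module.Flat (R ⧸ I) B := RingHom.Flat.of_bijective e₁.bijective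
    have h1 : DRing.HasFiniteTorDim (R ⧸ I) C :=
      Groth.Agent.Lib.Helper35.FTD.comp (A := R ⧸ I) (B := B) C
        (Groth.Agent.Lib.Helper35.FTD.of_flat B) hftd
    let l : C ≃ₗ[R ⧸ I] (R ⧸ J) :=
      { e₂.symm.toAddEquiv with
        map_smul' := fun a c => by
          obtain ⟨r, rfl⟩ := Ideal.Quotient.mk_surjective a
          obtain ⟨x, rfl⟩ := e₂.surjective c
          obtain ⟨y, rfl⟩ := Ideal.Quotient.mk_surjective x
          show e₂.symm (ψ (e₁ (Ideal.Quotient.mk I r)) * e₂ (Ideal.Quotient.mk J y)) =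
            Ideal.Quotient.factor hIJ0 (Ideal.Quotient.mk I r) * e₂.symm (e₂ (Ideal.Quotient.mk J y))
          rw [he₁, ← he₂, ← map_mul, RingEquiv.symm_apply_apply, RingEquiv.symm_apply_apply]
          rfl }
    exact Groth.Agent.Lib.Helper35.FTD.of_linearEquiv l h1
  have key := (Groth.Agent.S2201.result (R := R) (S := R) I J hI hJ hIJ).1.mp
    ⟨⟨rs, hker.symm, hrs⟩, hQ⟩
  obtain ⟨⟨rs₁, hrs₁I, hrs₁⟩, rs', hrs'J, hrs'⟩ := key
  refine ⟨⟨rs₁, hrs₁, hrs₁I.symm⟩, ?_⟩
  let e' : (R ⧸ I.map (algebraMap R R)) ≃+* B := (Ideal.quotEquivOfEq (hmapid I)).trans e₁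
  have he' : ∀ r : R, e' (Ideal.Quotient.mk (I.map (algebraMap R R)) r) = φ r := fun r => rfl
  refine ⟨rs'.map e', Groth.Agent.Lib.Helper82.CIOpen.isRegular_map_ringEquiv e' rs' hrs', ?_⟩
  have h1 : Ideal.ofList (rs'.map e') = (Ideal.ofList rs').map (e' : _ →+* B) := by
    rw [Ideal.map_ofList]; rfl
  rw [h1, hrs'J, Ideal.map_map]
  have h2 : (e' : _ →+* B).comp (Ideal.Quotient.mk (I.map (algebraMap R R))) = φ :=
    RingHom.ext he'
  rw [h2, hJdef, ← RingHom.comap_ker, Ideal.map_comap_of_surjective φ hφ]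

end RingLevel

/-- Scheme-level statement for the kind `regular`. -/
theorem regular_factor_at {Z Y X : Scheme.{u}} (i : Z ⟶ Y) (j : Y ⟶ X) [IsImmersion i]
    [IsImmersion j] [IsLocallyNoetherian X]
    (h : RegImm.IsRegularImmersion RegImm.Kind.regular (i ≫ j))
    (hi : MoreMor.IsPerfectMor i) (z : Z) :
    RegImm.IsRegularImmersionAt RegImm.Kind.regular i z ∧
      RegImm.IsRegularImmersionAt RegImm.Kind.regular j (i z) := by
  haveI : IsLocallyNoetherian Y := LocallyOfFiniteType.isLocallyNoetherian j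
  obtain ⟨rs, hrs, hker⟩ := Groth.Agent.S18944.result (i ≫ j) h z
  have hcomp : (i ≫ j).stalkMap z = j.stalkMap (i z) ≫ i.stalkMap z :=
    Scheme.Hom.stalkMap_comp i j z
  have hφ : Function.Surjective (j.stalkMap (i z)).hom := j.stalkMap_surjective (i z)
  have hψ : Function.Surjective (i.stalkMap z).hom := i.stalkMap_surjective z
  have hftd := hasFiniteTorDim_stalkMap_of_isPerfectMor i hi z
  obtain ⟨⟨rs₁, hrs₁, hk₁⟩, ⟨rs₂, hrs₂, hk₂⟩⟩ :=
    exists_isRegular_ker_pair (R := X.presheaf.stalk (j (i z))) (j.stalkMap (i z)).hom hφ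
      (i.stalkMap z).hom hψ rs hrs
      (by rw [← CommRingCat.hom_comp, ← hcomp]; exact hker) hftd
  exact ⟨isRegularImmersionAt_of_stalk i z rs₂ hrs₂ hk₂,
    isRegularImmersionAt_of_stalk j (i z) rs₁ hrs₁ hk₁⟩

open Groth.Agent.Lib.Helper10.RegImmKinds in
theorem seq_to_quasi (k : RegImm.Kind) (R : Type u) [CommRing R] (rs : List R)
    (h : k.Seq R rs) : RegImm.Kind.quasi.Seq R rs := by
  cases k with
  | regular => exact seq_h1_quasi _ _ (seq_koszul_h1 _ _ (seq_regular_koszul _ _ h))
  | koszul => exact seq_h1_quasi _ _ (seq_koszul_h1 _ _ h)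
  | h1 => exact seq_h1_quasi _ _ h
  | quasi => exact h

open Groth.Agent.Lib.Helper10.RegImmKinds in
theorem seq_of_regular (k : RegImm.Kind) (R : Type u) [CommRing R] (rs : List R)
    (h : RegImm.Kind.regular.Seq R rs) : k.Seq R rs := by
  cases k with
  | regular => exact h
  | koszul => exact seq_regular_koszul _ _ h
  | h1 => exact seq_koszul_h1 _ _ (seq_regular_koszul _ _ h)
  | quasi => exact seq_h1_quasi _ _ (seq_koszul_h1 _ _ (seq_regular_koszul _ _ h))

/-- over a locally Noetherian scheme, all kinds of regular immersion at a point agree with the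
kind `regular`. -/
theorem isRegularImmersionAt_regular_of_kind [IsLocallyNoetherian X] (k : RegImm.Kind)
    (i : Z ⟶ X) (z : Z) (h : RegImm.IsRegularImmersionAt k i z) :
    RegImm.IsRegularImmersionAt RegImm.Kind.regular i z :=
  Groth.Agent.H8.QuasiRegSch.isRegularImmersionAt_regular_of_quasi i z
    (Groth.Agent.Lib.Helper10.RegImmKinds.isRegularImmersionAt_mono (seq_to_quasi k) i z h)

theorem isRegularImmersionAt_kind_of_regular (k : RegImm.Kind)
    (i : Z ⟶ X) (z : Z) (h : RegImm.IsRegularImmersionAt RegImm.Kind.regular i z) :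
    RegImm.IsRegularImmersionAt k i z :=
  Groth.Agent.Lib.Helper10.RegImmKinds.isRegularImmersionAt_mono (seq_of_regular k) i z h

/-- S7176. -/
theorem regularImmersion_factor_of_perfectMor {Z Y X : Scheme.{u}} (i : Z ⟶ Y) (j : Y ⟶ X)
    [IsImmersion i] [IsImmersion j] [IsLocallyNoetherian X] (k : RegImm.Kind)
    (h : RegImm.IsRegularImmersion k (i ≫ j)) (hi : MoreMor.IsPerfectMor i) :
    RegImm.IsRegularImmersion k i ∧ ∀ z : Z, RegImm.IsRegularImmersionAt k j (i z) := by
  have h' : RegImm.IsRegularImmersion RegImm.Kind.regular (i ≫ j) :=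
    ⟨h.1, fun z => isRegularImmersionAt_regular_of_kind k (i ≫ j) z (h.2 z)⟩
  exact ⟨⟨inferInstance, fun z =>
      isRegularImmersionAt_kind_of_regular k i z (regular_factor_at i j h' hi z).1⟩,
    fun z => isRegularImmersionAt_kind_of_regular k j (i z) (regular_factor_at i j h' hi z).2⟩

end Groth.Agent.Lib.Helper82.RegImmFactor
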