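import Groth.Agent.Lib.Helper16.RelFrob.Etale
import Groth.Agent.Lib.Helper82.RelGCIFlat
import Groth.Agent.Lib.Helper82.SyntLocal

/-!
# The relative Frobenius of an algebra with an étale chart is syntomic (ring level)

`A → B` rings of characteristic `p`, with an étale chart `g : A[x₁, …, x_d] → B`; `B'` a ring
generated by the images of `w : B → B'` and `s : A → B'` with `w ∘ φ = s ∘ Frob`, and
`F : B' → B` with `F ∘ w = Frob`, `F ∘ s = φ` (e.g. `B' = B ⊗_{A, Frob} A` and `F` the relative
Frobenius).  Then `B ≃ B'[T₁, …, T_d]/(T_i^p - w(x_i))` as `B'`-algebras, a relative global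
complete intersection; in particular `F` is syntomic.
-/

set_option autoImplicit false
set_option linter.style.haveILetI false
universe u

namespace Groth.Agent.Lib.Helper82.RelFrobSynt

open MvPolynomial TensorProduct FrobAlg

section

variable (p : ℕ) {A B B' : Type u} [CommRing A] [CommRing B] [CommRing B']
  (w : B →+* B') (d : ℕ) (g : MvPolynomial (Fin d) A →+* B)

/-- the relations `T_i ^ p - w (x_i)` -/
noncomputable def G : Fin d → MvPolynomial (Fin d) B' := fun i => X i ^ p - C (w (g (X i)))

theorem mk_X_pow (i : Fin d) :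
    (Ideal.Quotient.mk (Ideal.span (Set.range (G p w d g))) (X i)) ^ p =
      algebraMap B' (Synt.RelGCIRing B' d d (G p w d g)) (w (g (X i))) := by
  rw [← map_pow]
  change _ = Ideal.Quotient.mk _ (C (w (g (X i))))
  rw [Ideal.Quotient.eq]
  exact Ideal.subset_span ⟨i, rfl⟩

/-- the quotient by the relations is a finite module -/
theorem finite_relGCIRing (hp : 0 < p) :
    Module.Finite B' (Synt.RelGCIRing B' d d (G p w d g)) := by
  haveI : Algebra.IsIntegral B' (Synt.RelGCIRing B' d d (G p w d g)) := by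
    have htop : Algebra.adjoin B' (Set.range fun i : Fin d =>
        (Ideal.Quotient.mk (Ideal.span (Set.range (G p w d g))) (X i))) = ⊤ := by
      have h1 : (Algebra.adjoin B' (Set.range (X : Fin d → MvPolynomial (Fin d) B'))).map
          (Ideal.Quotient.mkₐ B' (Ideal.span (Set.range (G p w d g)))) = ⊤ := by
        rw [MvPolynomial.adjoin_range_X, Algebra.map_top, AlgHom.range_eq_top]
        exact Ideal.Quotient.mkₐ_surjective _ _
      rw [← h1, AlgHom.map_adjoin, ← Set.range_comp]
      rfl
    have hint : Algebra.IsIntegral B' (Algebra.adjoin B' (Set.range fun i : Fin d =>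
        (Ideal.Quotient.mk (Ideal.span (Set.range (G p w d g))) (X i)))) := by
      refine Algebra.IsIntegral.adjoin ?_
      rintro _ ⟨i, rfl⟩
      refine ⟨Polynomial.X ^ p - Polynomial.C (w (g (X i))),
        Polynomial.monic_X_pow_sub_C _ hp.ne', ?_⟩
      rw [Polynomial.eval₂_sub, Polynomial.eval₂_pow, Polynomial.eval₂_X, Polynomial.eval₂_C,
        mk_X_pow, sub_self]
    rw [htop] at hint
    exact Algebra.IsIntegral.of_surjective
      (Subalgebra.topEquiv (R := B') (A := Synt.RelGCIRing B' d d (G p w d g))).toAlgHom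
      (Subalgebra.topEquiv (R := B') (A := Synt.RelGCIRing B' d d (G p w d g))).surjective
  exact Algebra.IsIntegral.finite

/-- the presentation is a relative global complete intersection: fibres are finite -/
theorem isRelGCI (hp : 0 < p) : Synt.IsRelGCI B' d d (G p w d g) := by
  intro 𝔭 hnt
  refine ⟨le_rfl, ?_⟩
  rw [Nat.sub_self]
  haveI := finite_relGCIRing p w d g hp
  haveI : Module.Finite 𝔭.asIdeal.ResidueField
      (𝔭.asIdeal.Fiber (Synt.RelGCIRing B' d d (G p w d g))) :=
    Module.Finite.base_change _ _ _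
  have hart : IsArtinianRing (𝔭.asIdeal.Fiber (Synt.RelGCIRing B' d d (G p w d g))) :=
    IsArtinianRing.of_finite 𝔭.asIdeal.ResidueField
      (𝔭.asIdeal.Fiber (Synt.RelGCIRing B' d d (G p w d g)))
  have hK : Ring.KrullDimLE 0 (𝔭.asIdeal.Fiber (Synt.RelGCIRing B' d d (G p w d g))) :=
    ((isArtinianRing_iff_isNoetherianRing_krullDimLE_zero
      (R := 𝔭.asIdeal.Fiber (Synt.RelGCIRing B' d d (G p w d g)))).mp hart).2
  exact ringKrullDimZero_iff_ringKrullDim_eq_zero.mp hK

/-- the main ring-level statement -/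
theorem isSyntomic_of_chart [Fact p.Prime] [Nontrivial B] (φ : A →+* B) (s : A →+* B')
    (F : B' →+* B) (hpA : (p : A) = 0)
    (hFw : ∀ b, F (w b) = b ^ p) (hFs : ∀ a, F (s a) = φ a) (hws : ∀ a, w (φ a) = s (a ^ p))
    (hgen : ∀ y : B', y ∈ Subring.closure (Set.range w ∪ Set.range s))
    (hgC : g.comp MvPolynomial.C = φ) (hg : g.Etale) :
    @Synt.IsSyntomic B' _ B _ F.toAlgebra := by
  letI algF : Algebra B' B := F.toAlgebra
  have hp : p.Prime := Fact.out
  have hpB : (p : B) = 0 := by rw [← map_natCast φ p, hpA, map_zero]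
  have hpB' : (p : B') = 0 := by rw [← map_natCast s p, hpA, map_zero]
  haveI : Nontrivial A := φ.domain_nontrivial
  haveI : CharP A p := (CharP.charP_iff_prime_eq_zero hp).mpr hpA
  haveI : CharP B p := (CharP.charP_iff_prime_eq_zero hp).mpr hpB
  letI algP : Algebra (MvPolynomial (Fin d) A) B := g.toAlgebra
  haveI : Algebra.Etale (MvPolynomial (Fin d) A) B := hg
  have hbij := Groth.Agent.Lib.Helper16.RelFrob.bijective_of_etale p (MvPolynomial (Fin d) A) B
  have hpD : (p : Synt.RelGCIRing B' d d (G p w d g)) = 0 := by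
    rw [← map_natCast (algebraMap B' (Synt.RelGCIRing B' d d (G p w d g))) p, hpB', map_zero]
  have hgCa : ∀ a : A, g (C a) = φ a := fun a => RingHom.congr_fun hgC a
  -- the comparison map `D → B`
  let Φ₀ : MvPolynomial (Fin d) B' →ₐ[B'] B := aeval (fun i => g (X i))
  have hΦ₀ : ∀ a ∈ Ideal.span (Set.range (G p w d g)), Φ₀ a = 0 := by
    intro a ha
    have hle : Ideal.span (Set.range (G p w d g)) ≤ RingHom.ker Φ₀ := by
      rw [Ideal.span_le]
      rintro _ ⟨i, rfl⟩
      change Φ₀ (X i ^ p - C (w (g (X i)))) = 0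
      rw [map_sub, map_pow, aeval_X, aeval_C]
      change g (X i) ^ p - F (w (g (X i))) = 0
      rw [hFw, sub_self]
    exact hle ha
  let Φ : Synt.RelGCIRing B' d d (G p w d g) →ₐ[B'] B := Ideal.Quotient.liftₐ _ Φ₀ hΦ₀
  have hΦmk : ∀ q, Φ (Ideal.Quotient.mk _ q) = Φ₀ q := fun q => rfl
  -- the map from the Frobenius twist over the chart
  let α : B →+* Synt.RelGCIRing B' d d (G p w d g) :=
    (algebraMap B' (Synt.RelGCIRing B' d d (G p w d g))).comp w
  letI algPD : Algebra (MvPolynomial (Fin d) A) (Synt.RelGCIRing B' d d (G p w d g)) :=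
    (α.comp g).toAlgebra
  let αₐ : B →ₐ[MvPolynomial (Fin d) A] Synt.RelGCIRing B' d d (G p w d g) :=
    { α with commutes' := fun q => rfl }
  let β₀ : MvPolynomial (Fin d) A →+* Synt.RelGCIRing B' d d (G p w d g) :=
    eval₂Hom ((algebraMap B' (Synt.RelGCIRing B' d d (G p w d g))).comp s)
      (fun i => Ideal.Quotient.mk _ (X i))
  have hβ : ∀ q : MvPolynomial (Fin d) A, β₀ q ^ p = α (g q) := by
    intro q
    induction q using MvPolynomial.induction_on with
    | C a =>
      change (eval₂Hom _ _ (C a)) ^ p = _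
      rw [eval₂Hom_C, ← map_pow, hgCa]
      change algebraMap B' (Synt.RelGCIRing B' d d (G p w d g)) (s (a ^ p)) =
        algebraMap B' (Synt.RelGCIRing B' d d (G p w d g)) (w (φ a))
      rw [hws]
    | add x y hx hy =>
      obtain ⟨r, hr⟩ := exists_add_pow_prime_eq hp (β₀ x) (β₀ y)
      rw [map_add, hr, hx, hy, hpD, map_add, map_add]
      simp only [zero_mul, add_zero]
    | mul_X x i hx =>
      rw [map_mul, mul_pow, hx, map_mul, map_mul]
      congr 1
      change (eval₂Hom _ _ (X i)) ^ p = _
      rw [eval₂Hom_X', mk_X_pow]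
      rfl
  let βₐ : Twist p (MvPolynomial (Fin d) A) →ₐ[MvPolynomial (Fin d) A]
      Synt.RelGCIRing B' d d (G p w d g) :=
    { toRingHom := β₀.comp ((toTwist p (MvPolynomial (Fin d) A)).symm :
        Twist p (MvPolynomial (Fin d) A) →+* MvPolynomial (Fin d) A)
      commutes' := fun q => by
        change β₀ ((toTwist p (MvPolynomial (Fin d) A)).symm
          (algebraMap (MvPolynomial (Fin d) A) (Twist p (MvPolynomial (Fin d) A)) q)) = α (g q)
        rw [algebraMap_twist, RingEquiv.symm_apply_apply, map_pow]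
        exact hβ q }
  let Ψ : BaseChange p (MvPolynomial (Fin d) A) B →ₐ[MvPolynomial (Fin d) A]
      Synt.RelGCIRing B' d d (G p w d g) :=
    Algebra.TensorProduct.lift αₐ βₐ (fun _ _ => Commute.all _ _)
  have hΨ : ∀ (b : B) (t : Twist p (MvPolynomial (Fin d) A)),
      Ψ (b ⊗ₜ[MvPolynomial (Fin d) A] t) =
        α b * β₀ ((toTwist p (MvPolynomial (Fin d) A)).symm t) := fun b t =>
    Algebra.TensorProduct.lift_tmul _ _ _ b t
  have hΦβ : ∀ q : MvPolynomial (Fin d) A, Φ (β₀ q) = g q := by
    intro q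
    have : (Φ : Synt.RelGCIRing B' d d (G p w d g) →+* B).comp β₀ = g := by
      refine MvPolynomial.ringHom_ext (fun a => ?_) (fun i => ?_)
      · change Φ (eval₂Hom _ _ (C a)) = g (C a)
        rw [eval₂Hom_C, hgCa]
        change Φ (algebraMap B' _ (s a)) = φ a
        rw [AlgHom.commutes]
        exact hFs a
      · change Φ (eval₂Hom _ _ (X i)) = g (X i)
        rw [eval₂Hom_X', hΦmk]
        exact aeval_X _ i
    exact RingHom.congr_fun this q
  have hcomp : ∀ z, Φ (Ψ z) = relFrob p (MvPolynomial (Fin d) A) B z := by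
    intro z
    induction z using TensorProduct.induction_on with
    | zero => simp
    | tmul b t =>
      rw [hΨ, map_mul, hΦβ, Groth.Agent.Lib.Helper16.RelFrob.relFrob_tmul]
      congr 1
      change Φ (algebraMap B' _ (w b)) = b ^ p
      rw [AlgHom.commutes]
      exact hFw b
    | add x y hx hy => rw [map_add, map_add, map_add, hx, hy]
  -- surjectivity of `Ψ`
  have hΨB' : ∀ y : B', algebraMap B' (Synt.RelGCIRing B' d d (G p w d g)) y ∈
      (Ψ : BaseChange p (MvPolynomial (Fin d) A) B →+* _).range := by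
    intro y
    have hy := hgen y
    induction hy using Subring.closure_induction with
    | mem y hy =>
      rcases hy with ⟨b, rfl⟩ | ⟨a, rfl⟩
      · refine ⟨b ⊗ₜ[MvPolynomial (Fin d) A] 1, ?_⟩
        change Ψ _ = _
        rw [hΨ]
        change α b * β₀ 1 = _
        rw [map_one, mul_one]
        rfl
      · refine ⟨1 ⊗ₜ[MvPolynomial (Fin d) A] (toTwist p (MvPolynomial (Fin d) A) (C a)), ?_⟩
        change Ψ _ = _
        rw [hΨ, RingEquiv.symm_apply_apply, map_one, one_mul]
        change eval₂Hom _ _ (C a) = _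
        rw [eval₂Hom_C]
        rfl
    | zero => rw [map_zero]; exact Subring.zero_mem _
    | one => rw [map_one]; exact Subring.one_mem _
    | add x y _ _ hx hy => rw [map_add]; exact Subring.add_mem _ hx hy
    | neg x _ hx => rw [map_neg]; exact Subring.neg_mem _ hx
    | mul x y _ _ hx hy => rw [map_mul]; exact Subring.mul_mem _ hx hy
  have hΨsurj : Function.Surjective Ψ := by
    intro z
    obtain ⟨q, rfl⟩ := Ideal.Quotient.mk_surjective z
    have : Ideal.Quotient.mk (Ideal.span (Set.range (G p w d g))) q ∈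
        (Ψ : BaseChange p (MvPolynomial (Fin d) A) B →+* _).range := by
      induction q using MvPolynomial.induction_on with
      | C y => exact hΨB' y
      | add x y hx hy => rw [map_add]; exact Subring.add_mem _ hx hy
      | mul_X x i hx =>
        rw [map_mul]
        refine Subring.mul_mem _ hx ?_
        refine ⟨1 ⊗ₜ[MvPolynomial (Fin d) A] (toTwist p (MvPolynomial (Fin d) A) (X i)), ?_⟩
        change Ψ _ = _
        rw [hΨ, RingEquiv.symm_apply_apply, map_one, one_mul]
        change eval₂Hom _ _ (X i) = _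
        rw [eval₂Hom_X']
    exact this
  have hΦbij : Function.Bijective Φ := by
    constructor
    · intro z₁ z₂ h
      obtain ⟨y₁, rfl⟩ := hΨsurj z₁
      obtain ⟨y₂, rfl⟩ := hΨsurj z₂
      rw [hcomp, hcomp] at h
      rw [hbij.1 h]
    · intro b
      obtain ⟨y, rfl⟩ := hbij.2 b
      exact ⟨Ψ y, hcomp y⟩
  exact Groth.Agent.Lib.Helper82.SyntLocal.isSyntomic_of_algEquiv B' (AlgEquiv.ofBijective Φ hΦbij)
    (Groth.Agent.Lib.Helper82.RelGCIFlat.isSyntomic_of_isRelGCI B' d d (G p w d g)
      (isRelGCI p w d g hp.pos))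

end

end Groth.Agent.Lib.Helper82.RelFrobSynt
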