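import Groth.Agent.Lib.Helper82.RelFrobSynt
import Groth.Agent.H46.SyntMor
import Groth.Prelude.Def_Frob

/-!
# The relative Frobenius of a smooth morphism of relative dimension `d` is syntomic
-/

set_option autoImplicit false
set_option linter.style.haveILetI false
universe u

namespace Groth.Agent.Lib.Helper82.RelFrobSyntSch

open AlgebraicGeometry CategoryTheory CategoryTheory.Limits FrobSch

/-- elements of a pushout of commutative rings are generated by the two images -/
theorem mem_closure_of_isPushout {A B C D : CommRingCat.{u}} {f : A ⟶ B} {g : A ⟶ C}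
    {i : B ⟶ D} {j : C ⟶ D} (h : IsPushout f g i j) (y : D) :
    y ∈ Subring.closure (Set.range i.hom ∪ Set.range j.hom) := by
  let R' := Subring.closure (Set.range i.hom ∪ Set.range j.hom)
  let i' : B ⟶ CommRingCat.of R' := CommRingCat.ofHom
    (i.hom.codRestrict R' (fun b => Subring.subset_closure (Or.inl ⟨b, rfl⟩)))
  let j' : C ⟶ CommRingCat.of R' := CommRingCat.ofHom
    (j.hom.codRestrict R' (fun c => Subring.subset_closure (Or.inr ⟨c, rfl⟩)))
  let incl : CommRingCat.of R' ⟶ D := CommRingCat.ofHom R'.subtype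
  have hw : f ≫ i' = g ≫ j' := by
    ext a
    exact congrArg (fun k => k.hom a) h.w
  let δ := h.desc i' j' hw
  have h1 : δ ≫ incl = 𝟙 D := by
    apply h.hom_ext
    · rw [← Category.assoc, h.inl_desc]
      rfl
    · rw [← Category.assoc, h.inr_desc]
      rfl
  have h2 : incl.hom (δ.hom y) = y := congrArg (fun k => k.hom y) h1
  rw [← h2]
  exact (δ.hom y).2

/-- the absolute Frobenius restricts to the absolute Frobenius of an open subscheme -/
theorem resLE_frob (p : ℕ) [Fact p.Prime] (X : Scheme.{u}) [IsCharP X p] (U : X.Opens)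
    [IsCharP U.toScheme p] (h : U ≤ frob X p ⁻¹ᵁ U) :
    (frob X p).resLE U U h = frob U.toScheme p := by
  rw [← cancel_mono U.ι, Scheme.Hom.resLE_comp_ι, frob_comp]

/-- local statement: the relative Frobenius is syntomic at a point admitting a standard smooth
chart of relative dimension `d` -/
theorem isSyntomicAt_relFrob (p : ℕ) [Fact p.Prime] {X S : Scheme.{u}} [IsCharP S p] (f : X ⟶ S)
    (d : ℕ) (x : X) (V : S.Opens) (hV : IsAffineOpen V) (U : X.Opens) (hU : IsAffineOpen U)
    (hxU : x ∈ U) (e : U ≤ f ⁻¹ᵁ V)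
    (hsm : (f.appLE V U e).hom.IsStandardSmoothOfRelativeDimension d) :
    Synt.IsSyntomicAt (relFrob f p) x := by
  haveI : IsCharP X p := IsCharP.of_hom f p
  haveI : IsCharP U.toScheme p := IsCharP.of_hom U.ι p
  haveI : IsCharP V.toScheme p := IsCharP.of_hom V.ι p
  haveI : IsAffine U.toScheme := hU
  haveI : IsAffine V.toScheme := hV
  have hVV : V ≤ frob S p ⁻¹ᵁ V := le_rfl
  have hpb := Scheme.Hom.isPullback_resLE (IsPullback.of_hasPullback f (frob S p))
    (US := V) (UT := V) (UX := U) hVV e
    (UY := pullback.fst f (frob S p) ⁻¹ᵁ U ⊓ pullback.snd f (frob S p) ⁻¹ᵁ V) rfl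
  haveI hU' : IsAffine
      (pullback.fst f (frob S p) ⁻¹ᵁ U ⊓ pullback.snd f (frob S p) ⁻¹ᵁ V).toScheme :=
    IsAffine.of_isPullback hpb
  have e' : U ≤ relFrob f p ⁻¹ᵁ
      (pullback.fst f (frob S p) ⁻¹ᵁ U ⊓ pullback.snd f (frob S p) ⁻¹ᵁ V) := by
    intro y hy
    refine ⟨?_, ?_⟩
    · change (pullback.fst f (frob S p)) ((relFrob f p) y) ∈ U
      rw [← Scheme.Hom.comp_apply, relFrob_fst]
      exact hy
    · change (pullback.snd f (frob S p)) ((relFrob f p) y) ∈ V
      rw [← Scheme.Hom.comp_apply, relFrob_snd]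
      exact e hy
  have hpo := isPushout_appTop_of_isPullback hpb
  have hQ : Groth.Agent.H46.SyntLocality.Q ((relFrob f p).resLE _ U e').appTop.hom := by
    have hsm' : ((f.resLE V U e).appTop.hom).IsStandardSmoothOfRelativeDimension d :=
      (RingHom.isStandardSmoothOfRelativeDimension_respectsIso.arrow_mk_iso_iff
        (arrowResLEAppIso f V U e)).mpr hsm
    obtain ⟨g, hgC, hg⟩ := hsm'.exists_etale_mvPolynomial
    haveI : Nonempty ((⊤ : U.toScheme.Opens)) := ⟨⟨⟨x, hxU⟩, trivial⟩⟩
    haveI : Nontrivial Γ(U.toScheme, ⊤) := Scheme.component_nontrivial U.toScheme ⊤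
    have hpA : ((p : ℕ) : Γ(V.toScheme, ⊤)) = 0 := IsCharP.natCast_eq_zero
    -- the three identities
    have h1 : (relFrob f p).resLE _ U e' ≫ (pullback.fst f (frob S p)).resLE U _ (by simp) =
        frob U.toScheme p := by
      rw [← cancel_mono U.ι, Category.assoc, Scheme.Hom.resLE_comp_ι,
        Scheme.Hom.resLE_comp_ι_assoc, relFrob_fst, frob_comp]
    have h2 : (relFrob f p).resLE _ U e' ≫ (pullback.snd f (frob S p)).resLE V _ (by simp) =
        f.resLE V U e := by
      rw [← cancel_mono V.ι, Category.assoc, Scheme.Hom.resLE_comp_ι,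
        Scheme.Hom.resLE_comp_ι_assoc, relFrob_snd, Scheme.Hom.resLE_comp_ι]
    have h3 : (frob S p).resLE V V hVV = frob V.toScheme p := resLE_frob p S V hVV
    refine Groth.Agent.Lib.Helper82.RelFrobSynt.isSyntomic_of_chart p
      (w := ((pullback.fst f (frob S p)).resLE U _ (by simp)).appTop.hom) d g
      (f.resLE V U e).appTop.hom ((pullback.snd f (frob S p)).resLE V _ (by simp)).appTop.hom
      ((relFrob f p).resLE _ U e').appTop.hom hpA ?_ ?_ ?_ ?_ hgC hg
    · intro b
      have := congrArg (fun k => k.appTop.hom b) h1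
      simpa using this
    · intro a
      have := congrArg (fun k => k.appTop.hom a) h2
      simpa using this
    · intro a
      have hw := congrArg (fun k => k.appTop.hom a) hpb.w
      rw [h3] at hw
      simp only [Scheme.Hom.comp_appTop] at hw
      exact hw
    · intro y
      exact mem_closure_of_isPushout hpo y
  refine ⟨⟨U, hU⟩, ⟨_, hU'⟩, e', hxU, ?_⟩
  exact (Groth.Agent.H46.SyntLocality.Q_propertyIsLocal.respectsIso.arrow_mk_iso_iff
    (arrowResLEAppIso (relFrob f p) _ U e')).mp hQ

/-- the relative Frobenius of a smooth morphism of relative dimension `d` is syntomic -/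
theorem isSyntomicMor_relFrob (p : ℕ) [Fact p.Prime] {X S : Scheme.{u}} [IsCharP S p] (f : X ⟶ S)
    (d : ℕ) [SmoothOfRelativeDimension d f] : Synt.IsSyntomicMor (relFrob f p) := by
  intro x
  obtain ⟨V, hV, U, hU, hxU, e, hsm⟩ :=
    SmoothOfRelativeDimension.exists_isStandardSmoothOfRelativeDimension (n := d) (f := f) x
  exact isSyntomicAt_relFrob p f d x V hV U hU hxU e hsm

end Groth.Agent.Lib.Helper82.RelFrobSyntSch
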