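import Mathlib

/-!
# Automorphisms of matrix algebras and invertible modules (helper82)
-/

set_option autoImplicit false
universe u

open Matrix TensorProduct

namespace Groth.Agent.Lib.Helper82

namespace SkolemNoether

variable {R : Type u} [CommRing R] {n : ℕ}
  (φ : Matrix (Fin n) (Fin n) R ≃ₐ[R] Matrix (Fin n) (Fin n) R)

/-- The images of the matrix units. -/
def EE (i j : Fin n) : Matrix (Fin n) (Fin n) R := φ (Matrix.single i j 1)

lemma EE_mul_same (i j l : Fin n) : EE φ i j * EE φ j l = EE φ i l := by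
  simp [EE, ← map_mul]

lemma EE_mul_of_ne (i j k l : Fin n) (h : j ≠ k) : EE φ i j * EE φ k l = 0 := by
  simp [EE, ← map_mul, h]

lemma EE_mul (i j k l : Fin n) : EE φ i j * EE φ k l = if j = k then EE φ i l else 0 := by
  split_ifs with h
  · subst h
    exact EE_mul_same φ i j l
  · exact EE_mul_of_ne φ i j k l h

lemma sum_EE : ∑ i, EE φ i i = 1 := by
  simp [EE, ← map_sum, Matrix.sum_single_one]

lemma map_single (i j : Fin n) (a : R) : φ (Matrix.single i j a) = a • EE φ i j := by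
  rw [EE, ← map_smul, Matrix.smul_single, smul_eq_mul, mul_one]

/-- The module `N = E₀₀ V`. -/
def NN (i₀ : Fin n) : Submodule R (Fin n → R) := LinearMap.range (Matrix.mulVecLin (EE φ i₀ i₀))

lemma mem_NN_iff (i₀ : Fin n) (v : Fin n → R) : v ∈ NN φ i₀ ↔ EE φ i₀ i₀ *ᵥ v = v := by
  constructor
  · rintro ⟨u, rfl⟩
    rw [Matrix.mulVecLin_apply, Matrix.mulVec_mulVec, EE_mul_same]
  · intro h
    exact ⟨v, h⟩

lemma mulVec_mem_NN (i₀ i : Fin n) (v : Fin n → R) : EE φ i₀ i *ᵥ v ∈ NN φ i₀ := by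
  rw [mem_NN_iff, Matrix.mulVec_mulVec, EE_mul_same]

/-- The forward map `N^n → V`. -/
def psiFwd (i₀ : Fin n) : (Fin n → NN φ i₀) →ₗ[R] (Fin n → R) :=
  ∑ i, (Matrix.mulVecLin (EE φ i i₀)).comp ((NN φ i₀).subtype.comp (LinearMap.proj i))

lemma psiFwd_apply (i₀ : Fin n) (x : Fin n → NN φ i₀) :
    psiFwd φ i₀ x = ∑ i, EE φ i i₀ *ᵥ (x i : Fin n → R) := by
  simp [psiFwd]

/-- The backward map `V → N^n`. -/
def psiBwd (i₀ : Fin n) : (Fin n → R) →ₗ[R] (Fin n → NN φ i₀) :=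
  LinearMap.pi fun i => (Matrix.mulVecLin (EE φ i₀ i)).codRestrict (NN φ i₀)
    (fun v => mulVec_mem_NN φ i₀ i v)

lemma psiBwd_apply (i₀ i : Fin n) (v : Fin n → R) :
    ((psiBwd φ i₀ v) i : Fin n → R) = EE φ i₀ i *ᵥ v := rfl

/-- `N^n ≃ V`. -/
def psi (i₀ : Fin n) : (Fin n → NN φ i₀) ≃ₗ[R] (Fin n → R) :=
  LinearEquiv.ofLinearMap (psiFwd φ i₀) (psiBwd φ i₀)
    (by
      apply LinearMap.ext
      intro v
      simp only [LinearMap.comp_apply, LinearMap.id_apply, psiFwd_apply, psiBwd_apply,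
        Matrix.mulVec_mulVec, EE_mul_same]
      rw [← Matrix.sum_mulVec, sum_EE, Matrix.one_mulVec])
    (by
      apply LinearMap.ext
      intro x
      funext l
      apply Subtype.ext
      simp only [LinearMap.comp_apply, LinearMap.id_apply, psiBwd_apply, psiFwd_apply,
        Matrix.mulVec_sum, Matrix.mulVec_mulVec, EE_mul]
      rw [Finset.sum_eq_single l]
      · rw [if_pos rfl]
        exact (mem_NN_iff φ i₀ _).1 (x l).2
      · intro b _ hb
        rw [if_neg (Ne.symm hb), Matrix.zero_mulVec]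
      · intro h
        exact absurd (Finset.mem_univ l) h)

/-- The functional `τ M = (φ⁻¹ M)₀₀`. -/
def tau (i₀ : Fin n) : Matrix (Fin n) (Fin n) R →ₗ[R] R :=
  (Matrix.entryLinearMap R R i₀ i₀).comp φ.symm.toLinearMap

lemma tau_apply (i₀ : Fin n) (M : Matrix (Fin n) (Fin n) R) : tau φ i₀ M = (φ.symm M) i₀ i₀ := rfl

lemma EE_mul_mul_EE (i₀ : Fin n) (M : Matrix (Fin n) (Fin n) R) :
    EE φ i₀ i₀ * M * EE φ i₀ i₀ = tau φ i₀ M • EE φ i₀ i₀ := by
  have h : M = φ (φ.symm M) := (φ.apply_symm_apply M).symm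
  conv_lhs => rw [h]
  rw [EE, ← map_mul, ← map_mul, Matrix.single_mul_mul_single, one_mul, mul_one, map_single, tau_apply]
  rfl

lemma tau_EE (i₀ : Fin n) : tau φ i₀ (EE φ i₀ i₀) = 1 := by
  rw [tau_apply, EE, φ.symm_apply_apply, Matrix.single_apply_same]

/-- The module `N' = Eᵀ V`. -/
def NN' (i₀ : Fin n) : Submodule R (Fin n → R) :=
  LinearMap.range (Matrix.mulVecLin (EE φ i₀ i₀)ᵀ)

lemma mem_NN'_iff (i₀ : Fin n) (w : Fin n → R) : w ∈ NN' φ i₀ ↔ (EE φ i₀ i₀)ᵀ *ᵥ w = w := by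
  constructor
  · rintro ⟨u, rfl⟩
    rw [Matrix.mulVecLin_apply, Matrix.mulVec_mulVec, ← Matrix.transpose_mul, EE_mul_same]
  · intro h
    exact ⟨w, h⟩

lemma vecMulVec_eq (i₀ : Fin n) (v w : Fin n → R) (hv : v ∈ NN φ i₀) (hw : w ∈ NN' φ i₀) :
    vecMulVec v w = tau φ i₀ (vecMulVec v w) • EE φ i₀ i₀ := by
  rw [← EE_mul_mul_EE, Matrix.mul_vecMulVec, Matrix.vecMulVec_mul, ← Matrix.mulVec_transpose,
    (mem_NN_iff φ i₀ v).1 hv, (mem_NN'_iff φ i₀ w).1 hw]

/-- The pairing `N' ⊗ N → R`. -/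
def betaBil (i₀ : Fin n) : NN' φ i₀ →ₗ[R] NN φ i₀ →ₗ[R] R :=
  LinearMap.mk₂ R (fun w v => tau φ i₀ (vecMulVec (v : Fin n → R) (w : Fin n → R)))
    (fun w w' v => by simp [Matrix.vecMulVec_add])
    (fun c w v => by simp [Matrix.vecMulVec_smul])
    (fun w v v' => by simp [Matrix.add_vecMulVec])
    (fun c w v => by simp [Matrix.smul_vecMulVec])

/-- `β : N' ⊗ N → R`. -/
def beta (i₀ : Fin n) : NN' φ i₀ ⊗[R] NN φ i₀ →ₗ[R] R := TensorProduct.lift (betaBil φ i₀)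

lemma beta_tmul (i₀ : Fin n) (w : NN' φ i₀) (v : NN φ i₀) :
    beta φ i₀ (w ⊗ₜ v) = tau φ i₀ (vecMulVec (v : Fin n → R) (w : Fin n → R)) := rfl

/-- Columns of `E` as elements of `N`. -/
def colN (i₀ k : Fin n) : NN φ i₀ := ⟨EE φ i₀ i₀ *ᵥ Pi.single k 1, ⟨_, rfl⟩⟩

/-- Rows of `E` as elements of `N'`. -/
def rowN' (i₀ l : Fin n) : NN' φ i₀ := ⟨(EE φ i₀ i₀)ᵀ *ᵥ Pi.single l 1, ⟨_, rfl⟩⟩

/-- The element `ω`. -/
def omega (i₀ : Fin n) : NN' φ i₀ ⊗[R] NN φ i₀ :=
  ∑ k, ∑ l, EE φ i₀ i₀ k l • (rowN' φ i₀ l ⊗ₜ[R] colN φ i₀ k)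

lemma beta_omega (i₀ : Fin n) : beta φ i₀ (omega φ i₀) = 1 := by
  have h1 : ∀ k l : Fin n, vecMulVec ((colN φ i₀ k : NN φ i₀) : Fin n → R)
      ((rowN' φ i₀ l : NN' φ i₀) : Fin n → R) =
      EE φ i₀ i₀ * Matrix.single k l 1 * EE φ i₀ i₀ := by
    intro k l
    rw [Matrix.single_eq_single_vecMulVec_single, Matrix.mul_vecMulVec, Matrix.vecMulVec_mul,
      ← Matrix.mulVec_transpose]
    rfl
  simp only [omega, map_sum, map_smul, beta_tmul, h1]
  simp only [← map_smul, ← map_sum]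
  have h2 : ∑ k, ∑ l, EE φ i₀ i₀ k l • (EE φ i₀ i₀ * Matrix.single k l 1 * EE φ i₀ i₀) =
      EE φ i₀ i₀ := by
    have h3 : ∑ k, ∑ l, EE φ i₀ i₀ k l • (EE φ i₀ i₀ * Matrix.single k l 1 * EE φ i₀ i₀) =
        EE φ i₀ i₀ * (∑ k, ∑ l, Matrix.single k l (EE φ i₀ i₀ k l)) * EE φ i₀ i₀ := by
      simp only [Finset.mul_sum, Finset.sum_mul]
      refine Finset.sum_congr rfl fun k _ => Finset.sum_congr rfl fun l _ => ?_
      rw [← Matrix.smul_mul, ← Matrix.mul_smul, Matrix.smul_single, smul_eq_mul, mul_one]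
    rw [h3, ← Matrix.matrix_eq_sum_single, EE_mul_same, EE_mul_same]
  rw [h2, tau_EE]

lemma sum_smul_colN (i₀ : Fin n) (v : NN φ i₀) :
    ∑ k, (v : Fin n → R) k • colN φ i₀ k = v := by
  apply Subtype.ext
  rw [Submodule.coe_sum]
  simp only [Submodule.coe_smul, colN]
  simp only [← Matrix.mulVec_smul, ← Matrix.mulVec_sum]
  rw [← pi_eq_sum_univ' (v : Fin n → R)]
  exact (mem_NN_iff φ i₀ _).1 v.2

lemma sum_smul_rowN' (i₀ : Fin n) (w : NN' φ i₀) :
    ∑ l, (w : Fin n → R) l • rowN' φ i₀ l = w := by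
  apply Subtype.ext
  rw [Submodule.coe_sum]
  simp only [Submodule.coe_smul, rowN']
  simp only [← Matrix.mulVec_smul, ← Matrix.mulVec_sum]
  rw [← pi_eq_sum_univ' (w : Fin n → R)]
  exact (mem_NN'_iff φ i₀ _).1 w.2

lemma beta_smul_omega (i₀ : Fin n) (w : NN' φ i₀) (v : NN φ i₀) :
    beta φ i₀ (w ⊗ₜ v) • omega φ i₀ = w ⊗ₜ v := by
  have h := vecMulVec_eq φ i₀ (v : Fin n → R) (w : Fin n → R) v.2 w.2
  have hkl : ∀ k l : Fin n, beta φ i₀ (w ⊗ₜ v) * EE φ i₀ i₀ k l =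
      (v : Fin n → R) k * (w : Fin n → R) l := by
    intro k l
    have := congrFun (congrFun h k) l
    rw [Matrix.vecMulVec_apply, Matrix.smul_apply, smul_eq_mul] at this
    rw [beta_tmul]
    exact this.symm
  rw [omega, Finset.smul_sum]
  simp only [Finset.smul_sum, smul_smul, hkl]
  conv_rhs => rw [← sum_smul_rowN' φ i₀ w, ← sum_smul_colN φ i₀ v, TensorProduct.tmul_sum]
  refine Finset.sum_congr rfl fun k _ => ?_
  rw [TensorProduct.sum_tmul]
  refine Finset.sum_congr rfl fun l _ => ?_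
  rw [TensorProduct.smul_tmul_smul, mul_comm]

/-- `N' ⊗ N ≃ R`. -/
def tensorEquiv (i₀ : Fin n) : NN' φ i₀ ⊗[R] NN φ i₀ ≃ₗ[R] R :=
  LinearEquiv.ofLinearMap (beta φ i₀) (LinearMap.toSpanSingleton R _ (omega φ i₀))
    (by
      apply LinearMap.ext
      intro r
      simp only [LinearMap.comp_apply, LinearMap.toSpanSingleton_apply, map_smul, beta_omega,
        smul_eq_mul, mul_one, LinearMap.id_apply])
    (by
      apply TensorProduct.ext'
      intro w v
      simp only [LinearMap.comp_apply, LinearMap.toSpanSingleton_apply, LinearMap.id_apply]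
      exact beta_smul_omega φ i₀ w v)

instance invertible_NN (i₀ : Fin n) : Module.Invertible R (NN φ i₀) :=
  Module.Invertible.right (tensorEquiv φ i₀)

lemma phi_eq_sum (A : Matrix (Fin n) (Fin n) R) : φ A = ∑ i, ∑ j, A i j • EE φ i j := by
  conv_lhs => rw [Matrix.matrix_eq_sum_single A]
  simp only [map_sum, map_single]

lemma phi_mul_EE (A : Matrix (Fin n) (Fin n) R) (k l : Fin n) :
    φ A * EE φ k l = ∑ i, A i k • EE φ i l := by
  rw [phi_eq_sum, Finset.sum_mul]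
  refine Finset.sum_congr rfl fun i _ => ?_
  rw [Finset.sum_mul]
  simp only [Matrix.smul_mul, EE_mul, smul_ite, smul_zero, Finset.sum_ite_eq', Finset.mem_univ,
    if_true]

lemma phi_mulVec_psi (i₀ : Fin n) (A : Matrix (Fin n) (Fin n) R) (x : Fin n → NN φ i₀) :
    φ A *ᵥ psi φ i₀ x = psi φ i₀ (fun i => ∑ j, A i j • x j) := by
  change φ A *ᵥ psiFwd φ i₀ x = psiFwd φ i₀ _
  rw [psiFwd_apply, psiFwd_apply, Matrix.mulVec_sum]
  simp only [Matrix.mulVec_mulVec, phi_mul_EE, Matrix.sum_mulVec, Matrix.smul_mulVec,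
    Submodule.coe_sum, Submodule.coe_smul, Matrix.mulVec_sum, Matrix.mulVec_smul]
  exact Finset.sum_comm

theorem exists_inner_of_equiv (i₀ : Fin n) (e₁ : NN φ i₀ ≃ₗ[R] R) :
    ∃ P : GL (Fin n) R, ∀ A : Matrix (Fin n) (Fin n) R, φ A = P.1 * A * (P⁻¹).1 := by
  let Θ : (Fin n → R) ≃ₗ[R] (Fin n → R) :=
    (LinearEquiv.piCongrRight fun _ => e₁.symm) ≪≫ₗ psi φ i₀
  have hΘ : ∀ (A : Matrix (Fin n) (Fin n) R) (r : Fin n → R), φ A *ᵥ Θ r = Θ (A *ᵥ r) := by
    intro A r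
    change φ A *ᵥ psi φ i₀ (fun i => e₁.symm (r i)) = psi φ i₀ (fun i => e₁.symm ((A *ᵥ r) i))
    rw [phi_mulVec_psi]
    congr 1
    funext i
    simp only [Matrix.mulVec, dotProduct, map_sum, ← smul_eq_mul, map_smul]
  have h1 : LinearMap.toMatrix' (Θ : (Fin n → R) →ₗ[R] (Fin n → R)) *
      LinearMap.toMatrix' (Θ.symm : (Fin n → R) →ₗ[R] (Fin n → R)) = 1 := by
    rw [← LinearMap.toMatrix'_comp, LinearEquiv.comp_coe, LinearEquiv.symm_trans_self,
      LinearEquiv.refl_toLinearMap, LinearMap.toMatrix'_id]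
  have h2 : LinearMap.toMatrix' (Θ.symm : (Fin n → R) →ₗ[R] (Fin n → R)) *
      LinearMap.toMatrix' (Θ : (Fin n → R) →ₗ[R] (Fin n → R)) = 1 := by
    rw [← LinearMap.toMatrix'_comp, LinearEquiv.comp_coe, LinearEquiv.self_trans_symm,
      LinearEquiv.refl_toLinearMap, LinearMap.toMatrix'_id]
  refine ⟨⟨_, _, h1, h2⟩, fun A => ?_⟩
  change φ A = LinearMap.toMatrix' (Θ : (Fin n → R) →ₗ[R] (Fin n → R)) * A *
    LinearMap.toMatrix' (Θ.symm : (Fin n → R) →ₗ[R] (Fin n → R))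
  have h3 : φ A * LinearMap.toMatrix' (Θ : (Fin n → R) →ₗ[R] (Fin n → R)) =
      LinearMap.toMatrix' (Θ : (Fin n → R) →ₗ[R] (Fin n → R)) * A := by
    apply Matrix.toLin'.injective
    apply LinearMap.ext
    intro r
    rw [Matrix.toLin'_mul, Matrix.toLin'_mul, Matrix.toLin'_toMatrix']
    simp only [LinearMap.comp_apply, Matrix.toLin'_apply, LinearEquiv.coe_coe]
    exact hΘ A r
  rw [← h3, Matrix.mul_assoc, h1, Matrix.mul_one]

section Converse

variable {R : Type u} [CommRing R] {n : ℕ} {N : Type u} [AddCommGroup N] [Module R N]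
  [Module.Invertible R N] (ψ : (Fin n → N) ≃ₗ[R] (Fin n → R))

/-- `R ≃ End N` for invertible `N`. -/
noncomputable def endEquiv (R : Type u) [CommRing R] (N : Type u) [AddCommGroup N] [Module R N]
    [Module.Invertible R N] : R ≃ₐ[R] Module.End R N :=
  AlgEquiv.ofBijective (Algebra.ofId R (Module.End R N)) (by
    have h := Module.Invertible.toModuleEnd_bijective R N
    have : (Algebra.ofId R (Module.End R N) : R → Module.End R N) =
        Module.toModuleEnd R (S := R) N := by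
      funext r
      apply LinearMap.ext
      intro x
      simp [Algebra.ofId_apply, Module.algebraMap_end_apply]
    rw [this]
    exact h)

lemma endEquiv_apply (r : R) (x : N) : endEquiv R N r x = r • x := by
  simp [endEquiv, Algebra.ofId_apply, Module.algebraMap_end_apply]

/-- The automorphism of `M_n(R)` attached to `ψ : N^n ≃ R^n`. -/
noncomputable def phiOf : Matrix (Fin n) (Fin n) R ≃ₐ[R] Matrix (Fin n) (Fin n) R :=
  (AlgEquiv.mapMatrix (endEquiv R N)).trans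
    ((endVecAlgEquivMatrixEnd (Fin n) R R N).symm.trans
      ((ψ.conjAlgEquiv R).trans LinearMap.toMatrixAlgEquiv'))

lemma phiOf_mulVec (A : Matrix (Fin n) (Fin n) R) (y : Fin n → R) :
    phiOf ψ A *ᵥ y = ψ (fun i => ∑ j, A i j • (ψ.symm y) j) := by
  simp only [phiOf, AlgEquiv.trans_apply]
  rw [← Matrix.toLinAlgEquiv'_apply, Matrix.toLinAlgEquiv'_toMatrixAlgEquiv',
    LinearEquiv.conjAlgEquiv_apply]
  simp only [LinearMap.comp_apply, LinearEquiv.coe_coe]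
  congr 1

lemma single_mulVec_eq (i₀ : Fin n) (v : Fin n → R) :
    (Matrix.single i₀ i₀ (1 : R)) *ᵥ v = Pi.single i₀ (v i₀) := by
  funext i
  by_cases h : i = i₀
  · subst h
    simp [Matrix.mulVec, dotProduct, Matrix.single_apply]
  · simp [Matrix.mulVec, dotProduct, h, Ne.symm h]

omit [Module.Invertible R N] in
lemma act_single_eq (i₀ : Fin n) (x : Fin n → N) :
    (fun i => ∑ j, (Matrix.single i₀ i₀ (1 : R)) i j • x j) = Pi.single i₀ (x i₀) := by
  funext i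
  by_cases h : i = i₀
  · subst h
    simp [Matrix.single_apply]
  · simp [h, Ne.symm h]

theorem free_of_inner (i₀ : Fin n) (P : GL (Fin n) R)
    (hP : ∀ A : Matrix (Fin n) (Fin n) R, phiOf ψ A = P.1 * A * (P⁻¹).1) :
    Module.Free R N := by
  have hPP : (P⁻¹).1 * P.1 = 1 := by
    rw [← Units.val_mul, inv_mul_cancel, Units.val_one]
  have hPP' : P.1 * (P⁻¹).1 = 1 := by
    rw [← Units.val_mul, mul_inv_cancel, Units.val_one]
  -- key identity
  have key : ∀ y : Fin n → R, P.1 *ᵥ (Pi.single i₀ (((P⁻¹).1 *ᵥ y) i₀)) =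
      ψ (Pi.single i₀ ((ψ.symm y) i₀)) := by
    intro y
    have h := phiOf_mulVec ψ (Matrix.single i₀ i₀ (1 : R)) y
    rw [hP, act_single_eq, ← Matrix.mulVec_mulVec, ← Matrix.mulVec_mulVec, single_mulVec_eq] at h
    exact h
  let f : N →ₗ[R] R :=
    (LinearMap.proj i₀).comp ((Matrix.mulVecLin (P⁻¹).1).comp
      (ψ.toLinearMap.comp (LinearMap.single R (fun _ => N) i₀)))
  let g : R →ₗ[R] N :=
    (LinearMap.proj i₀).comp (ψ.symm.toLinearMap.comp ((Matrix.mulVecLin P.1).comp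
      (LinearMap.single R (fun _ => R) i₀)))
  have hf : ∀ x, f x = ((P⁻¹).1 *ᵥ ψ (Pi.single i₀ x)) i₀ := fun x => rfl
  have hg : ∀ r, g r = (ψ.symm (P.1 *ᵥ Pi.single i₀ r)) i₀ := fun r => rfl
  have hgf : ∀ x, g (f x) = x := by
    intro x
    rw [hg, hf, key, ψ.symm_apply_apply, Pi.single_eq_same, ψ.symm_apply_apply, Pi.single_eq_same]
  have hfg : ∀ r, f (g r) = r := by
    intro r
    rw [hf, hg, ← key, Matrix.mulVec_mulVec, hPP, Matrix.one_mulVec, Pi.single_eq_same,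
      Matrix.mulVec_mulVec, hPP, Matrix.one_mulVec, Pi.single_eq_same]
  exact Module.Free.of_equiv (LinearEquiv.ofLinearMap g f
    (LinearMap.ext hgf) (LinearMap.ext hfg))

end Converse

end SkolemNoether

end Groth.Agent.Lib.Helper82
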