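import Groth.Agent.S2206
import Groth.Agent.S1509
import Groth.Agent.S2155
import Groth.Agent.S4994
import Groth.Agent.S9699
import Groth.Agent.Lib.Helper82.RegImmSch
import Groth.Agent.Lib.Helper35.FTD

/-!
# Smooth iff flat with regular / perfect diagonal (helper82)
-/

set_option autoImplicit false
set_option linter.style.haveILetI false
universe u
attribute [local instance] HasDerivedCategory.standard

namespace Groth.Agent.Lib.Helper82.SmoothDiag

open AlgebraicGeometry CategoryTheory CategoryTheory.Limits TensorProduct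

/-- Ring level: transfer of the finite-tor-dimension criterion along an identification of the
tensor square with some ring `R`. -/
theorem smooth_of_perfect_diag {A B R : Type u} [CommRing A] [CommRing B] [CommRing R]
    [Algebra A B] [IsNoetherianRing A] [Algebra.FiniteType A B] [Module.Flat A B]
    (φ : B ⊗[A] B →+* R) (hφ : Function.Bijective φ) (δ : R →+* B)
    (h1 : ∀ b, δ (φ (b ⊗ₜ 1)) = b) (h2 : ∀ b, δ (φ (1 ⊗ₜ b)) = b)
    (h : letI := δ.toAlgebra; DRing.HasFiniteTorDim R B) : Algebra.Smooth A B := by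
  letI algRB : Algebra R B := δ.toAlgebra
  letI algTR : Algebra (B ⊗[A] B) R := φ.toAlgebra
  letI algTB : Algebra (B ⊗[A] B) B := (δ.comp φ).toAlgebra
  have tower : IsScalarTower (B ⊗[A] B) R B := IsScalarTower.of_algebraMap_eq (fun _ => rfl)
  have hflat : Module.Flat (B ⊗[A] B) R := RingHom.Flat.of_bijective hφ
  have hmul : ∀ x y : B, algebraMap (B ⊗[A] B) B (x ⊗ₜ[A] y) = x * y := by
    intro x y
    show δ (φ (x ⊗ₜ[A] y)) = x * y
    have : x ⊗ₜ[A] y = (x ⊗ₜ[A] 1) * (1 ⊗ₜ[A] y) := by
      rw [Algebra.TensorProduct.tmul_mul_tmul, mul_one, one_mul]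
    rw [this, map_mul, map_mul, h1, h2]
  have hftd : DRing.HasFiniteTorDim (B ⊗[A] B) B :=
    Groth.Agent.Lib.Helper35.FTD.comp B (Groth.Agent.Lib.Helper35.FTD.of_flat R) h
  exact Groth.Agent.S2206.result hmul hftd

theorem appLE_eq_id {X : Scheme.{u}} (g : X ⟶ X) (hg : g = 𝟙 X) (U : X.Opens)
    (e : U ≤ g ⁻¹ᵁ U) : g.appLE U U e = 𝟙 _ := by
  subst hg
  simp only [Scheme.Hom.appLE, Scheme.Hom.id_app]
  exact X.presheaf.map_id _

/-- flat + perfect diagonal ⇒ smooth (Noetherian base). -/
theorem smooth_of_flat_of_isPerfectMor_diagonal {X Y : Scheme.{u}} (f : X ⟶ Y)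
    [LocallyOfFiniteType f] [IsLocallyNoetherian Y] [Flat f]
    (hperf : MoreMor.IsPerfectMor (pullback.diagonal f)) : Smooth f := by
  rw [HasRingHomProperty.iff_appLE (P := @Smooth)]
  intro V U e
  have H : IsPullback (pullback.fst f f) (pullback.snd f f) f f := IsPullback.of_hasPullback f f
  set W : (pullback f f).Opens := pullback.fst f f ⁻¹ᵁ U.1 ⊓ pullback.snd f f ⁻¹ᵁ U.1 with hW
  have hiso := isIso_pushoutSection_of_isAffineOpen H e e (UY := W) rfl V.2 U.2 U.2
  have hpo := (isIso_pushoutSection_iff H e e rfl).mp hiso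
  have hWaff : IsAffineOpen W := by
    have : IsAffine _ := V.2
    have : IsAffine _ := U.2
    exact .of_isIso (Scheme.Hom.isPullback_resLE H e e rfl).isoPullback.hom
  have hUW : U.1 ≤ pullback.diagonal f ⁻¹ᵁ W := by
    intro x hx
    refine ⟨?_, ?_⟩
    · show (pullback.fst f f) (pullback.diagonal f x) ∈ U.1
      rw [← Scheme.Hom.comp_apply, pullback.diagonal_fst]
      exact hx
    · show (pullback.snd f f) (pullback.diagonal f x) ∈ U.1
      rw [← Scheme.Hom.comp_apply, pullback.diagonal_snd]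
      exact hx
  letI algAB : Algebra Γ(Y, V.1) Γ(X, U.1) := (f.appLE V.1 U.1 e).hom.toAlgebra
  have hN : IsNoetherianRing Γ(Y, V.1) := IsLocallyNoetherian.component_noetherian V
  have hft : Algebra.FiniteType Γ(Y, V.1) Γ(X, U.1) := f.finiteType_appLE V.2 U.2 e
  have hfl : Module.Flat Γ(Y, V.1) Γ(X, U.1) :=
    HasRingHomProperty.appLE @Flat f inferInstance V U e
  have hp := hperf U.1 W U.2 hWaff hUW
  let eiso := (CommRingCat.isPushout_tensorProduct Γ(Y, V.1) Γ(X, U.1) Γ(X, U.1)).isoIsPushout _ _ hpo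
  have hl : ∀ b : Γ(X, U.1), eiso.hom.hom (b ⊗ₜ 1) =
      ((pullback.fst f f).appLE U.1 W (by simp [hW])).hom b := by
    intro b
    have := (CommRingCat.isPushout_tensorProduct Γ(Y, V.1) Γ(X, U.1) Γ(X, U.1)).inl_isoIsPushout_hom _ _ hpo
    exact congr($(this).hom b)
  have hr : ∀ b : Γ(X, U.1), eiso.hom.hom (1 ⊗ₜ b) =
      ((pullback.snd f f).appLE U.1 W (by simp [hW])).hom b := by
    intro b
    have := (CommRingCat.isPushout_tensorProduct Γ(Y, V.1) Γ(X, U.1) Γ(X, U.1)).inr_isoIsPushout_hom _ _ hpo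
    exact congr($(this).hom b)
  refine smooth_of_perfect_diag eiso.hom.hom
    (ConcreteCategory.bijective_of_isIso eiso.hom)
    ((pullback.diagonal f).appLE W U.1 hUW).hom ?_ ?_ hp.2
  · intro b
    rw [hl]
    have h1 := Scheme.Hom.appLE_comp_appLE (pullback.diagonal f) (pullback.fst f f) U.1 W U.1
      (by simp [hW]) hUW
    rw [appLE_eq_id _ (pullback.diagonal_fst f)] at h1
    exact congr($(h1).hom b)
  · intro b
    rw [hr]
    have h1 := Scheme.Hom.appLE_comp_appLE (pullback.diagonal f) (pullback.snd f f) U.1 W U.1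
      (by simp [hW]) hUW
    rw [appLE_eq_id _ (pullback.diagonal_snd f)] at h1
    exact congr($(h1).hom b)

/-- A regular closed immersion (Mor2 form) is a quasi-regular immersion (RegImm form). -/
theorem isRegularImmersion_of_isRegularClosedImmersion {Z X : Scheme.{u}} (i : Z ⟶ X)
    (h : Mor2.IsRegularClosedImmersion i) :
    RegImm.IsRegularImmersion RegImm.Kind.quasi i := by
  obtain ⟨hcl, hreg⟩ := h
  refine ⟨inferInstance, fun z => ?_⟩
  apply Groth.Agent.H8.QuasiRegSch.isRegularImmersionAt_quasi_of_regular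
  obtain ⟨U, hU, hzU, rs, hrs, hker⟩ := hreg z
  refine ⟨⟨U, hU⟩, hzU, inferInstance, rs, hrs, ?_⟩
  rw [← hker, Scheme.Hom.ker_apply]

/-- smooth ⇒ the diagonal is a regular closed immersion (for separated `f`). -/
theorem isRegularClosedImmersion_diagonal_of_smooth {X Y : Scheme.{u}} (f : X ⟶ Y)
    [IsSeparated f] [Smooth f] : Mor2.IsRegularClosedImmersion (pullback.diagonal f) := by
  refine Groth.Agent.Lib.Helper82.RegImmSch.isRegularClosedImmersion_of_smooth
    (pullback.snd f f) (pullback.diagonal f) ?_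
  rw [pullback.diagonal_snd]
  exact Groth.Agent.S9699.result (𝟙 X)

/-- flat + regular diagonal ⇒ smooth. -/
theorem smooth_of_flat_of_isRegularClosedImmersion_diagonal {X Y : Scheme.{u}} (f : X ⟶ Y)
    [LocallyOfFinitePresentation f] [Flat f]
    (h : Mor2.IsRegularClosedImmersion (pullback.diagonal f)) : Smooth f := by
  rw [← Scheme.Hom.smoothLocus_eq_top_iff]
  have h1 := (Groth.Agent.S4994.result f).mp (isRegularImmersion_of_isRegularClosedImmersion _ h)
  have h2 := Groth.Agent.S2155.result f f (pullback.snd f f) (pullback.fst f f)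
    (IsPullback.of_hasPullback f f) (Or.inl inferInstance)
  ext x
  simp only [TopologicalSpace.Opens.coe_top, Set.mem_univ, iff_true, SetLike.mem_coe]
  have h3 := h1 x
  rw [h2] at h3
  have h4 : (pullback.fst f f) ((pullback.diagonal f) x) = x := by
    rw [← Scheme.Hom.comp_apply, pullback.diagonal_fst]
    rfl
  rw [← h4]
  exact h3

end Groth.Agent.Lib.Helper82.SmoothDiag
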