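import Mathlib

/-!
# Formal smoothness ascends along quotients by regular sequences (local Jacobian criterion)

`P` a local `R`-algebra, formally smooth with `Ω[P⁄R]` finite free.  If `t ∈ 𝔪` is a nonzerodivisor
modulo the finitely generated ideal `I` and `P ⧸ (I ⊔ (t))` is formally smooth over `R`, then so is
`P ⧸ I`.
-/

set_option autoImplicit false
universe u

namespace Groth.Agent.Lib.Helper82.SmoothRegQuot

open TensorProduct IsLocalRing KaehlerDifferential
open scoped Pointwise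

variable (R : Type u) {P : Type u} [CommRing R] [CommRing P] [IsLocalRing P] [Algebra R P]

omit [IsLocalRing P] [Algebra R P] in
/-- key ideal computation -/
theorem mem_mul_of_mem_mul_sup (𝔪 I : Ideal P) (t : P) (ht : t ∈ 𝔪)
    (hreg : ∀ x, t * x ∈ I → x ∈ I) (a : P) (haI : a ∈ I)
    (ha : a ∈ 𝔪 * (I ⊔ Ideal.span {t})) : a ∈ 𝔪 * I := by
  have hdec : ∃ b ∈ 𝔪 * I, ∃ m ∈ 𝔪, a = b + m * t := by
    refine Submodule.mul_induction_on ha ?_ ?_
    · intro x hx y hy
      obtain ⟨y₁, hy₁, y₂, hy₂, rfl⟩ := Submodule.mem_sup.mp hy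
      obtain ⟨r, rfl⟩ := Ideal.mem_span_singleton'.mp hy₂
      exact ⟨x * y₁, Ideal.mul_mem_mul hx hy₁, x * r, 𝔪.mul_mem_right r hx, by ring⟩
    · rintro x y ⟨b, hb, m, hm, rfl⟩ ⟨b', hb', m', hm', rfl⟩
      exact ⟨b + b', Ideal.add_mem _ hb hb', m + m', 𝔪.add_mem hm hm', by ring⟩
  obtain ⟨b, hb, m, hm, rfl⟩ := hdec
  have h1 : m * t ∈ I := by
    have hbI : b ∈ I := (Ideal.mul_le_right : 𝔪 * I ≤ I) hb
    have h0 := I.sub_mem haI hbI
    rwa [add_sub_cancel_left] at h0
  have h2 : m ∈ I := hreg m (by rwa [mul_comm] at h1)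
  refine Ideal.add_mem _ hb ?_
  rw [mul_comm m t]
  exact Ideal.mul_mem_mul ht h2

variable [Algebra.FormallySmooth R P] [Module.Free P Ω[P⁄R]] [Module.Finite P Ω[P⁄R]]

/-- **One step.** -/
theorem formallySmooth_quotient_of_sup_span (I : Ideal P) (hIfg : I.FG) (t : P)
    (ht : t ∈ maximalIdeal P) (hI : I ≤ maximalIdeal P)
    (hreg : ∀ x, t * x ∈ I → x ∈ I)
    (h : Algebra.FormallySmooth R (P ⧸ (I ⊔ Ideal.span {t}))) :
    Algebra.FormallySmooth R (P ⧸ I) := by
  have hI' : I ⊔ Ideal.span {t} ≤ maximalIdeal P :=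
    sup_le hI ((Ideal.span_singleton_le_iff_mem _).mpr ht)
  have key : ∀ (J : Ideal P) (hJ : J ≤ maximalIdeal P), ∃ (_ : IsLocalRing (P ⧸ J))
      (alg : Algebra (P ⧸ J) (ResidueField P)) (_ : IsScalarTower P (P ⧸ J) (ResidueField P)),
      maximalIdeal (P ⧸ J) ≤ RingHom.ker (algebraMap (P ⧸ J) (ResidueField P)) := by
    intro J hJ
    have hne : J ≠ ⊤ := fun h => (maximalIdeal.isMaximal P).ne_top (top_le_iff.mp (h ▸ hJ))
    haveI : Nontrivial (P ⧸ J) := Ideal.Quotient.nontrivial_iff.mpr hne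
    have hloc : IsLocalRing (P ⧸ J) :=
      IsLocalRing.of_surjective' (Ideal.Quotient.mk J) Ideal.Quotient.mk_surjective
    let alg : Algebra (P ⧸ J) (ResidueField P) :=
      (Ideal.Quotient.factor hJ : P ⧸ J →+* ResidueField P).toAlgebra
    refine ⟨hloc, alg, IsScalarTower.of_algebraMap_eq (fun x => rfl), ?_⟩
    intro x hx
    obtain ⟨a, rfl⟩ := Ideal.Quotient.mk_surjective x
    have ha : a ∈ maximalIdeal P := by
      by_contra hna
      have hu : IsUnit a := by
        by_contra hnu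
        exact hna ((IsLocalRing.mem_maximalIdeal a).mpr hnu)
      exact (IsLocalRing.mem_maximalIdeal _).mp hx (hu.map (Ideal.Quotient.mk J))
    rw [RingHom.mem_ker]
    change Ideal.Quotient.mk (maximalIdeal P) a = 0
    exact Ideal.Quotient.eq_zero_iff_mem.mpr ha
  obtain ⟨hloc, alg, htow, h₃⟩ := key I hI
  obtain ⟨hloc', alg', htow', h₃'⟩ := key (I ⊔ Ideal.span {t}) hI'
  have hker : RingHom.ker (algebraMap P (P ⧸ I)) = I := by
    rw [Ideal.Quotient.algebraMap_eq, Ideal.mk_ker]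
  have hker' : RingHom.ker (algebraMap P (P ⧸ (I ⊔ Ideal.span {t}))) = I ⊔ Ideal.span {t} := by
    rw [Ideal.Quotient.algebraMap_eq, Ideal.mk_ker]
  have h₁ : Function.Surjective (algebraMap P (P ⧸ I)) := Ideal.Quotient.mk_surjective
  have h₁' : Function.Surjective (algebraMap P (P ⧸ (I ⊔ Ideal.span {t}))) :=
    Ideal.Quotient.mk_surjective
  have h₂ : (RingHom.ker (algebraMap P (P ⧸ I))).FG := by rw [hker]; exact hIfg
  have h₂' : (RingHom.ker (algebraMap P (P ⧸ (I ⊔ Ideal.span {t})))).FG := by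
    rw [hker']
    exact Submodule.FG.sup hIfg ⟨{t}, by simp⟩
  rw [Algebra.FormallySmooth.iff_injective_cotangentComplexBaseChange (R := R) (S := P ⧸ I) P
    (ResidueField P) h₁ h₂ h₃]
  have hinj' := (Algebra.FormallySmooth.iff_injective_cotangentComplexBaseChange (R := R)
    (S := P ⧸ (I ⊔ Ideal.span {t})) P (ResidueField P) h₁' h₂' h₃').mp h
  have hle : RingHom.ker (algebraMap P (P ⧸ I)) ≤
      RingHom.ker (algebraMap P (P ⧸ (I ⊔ Ideal.span {t}))) := by
    rw [hker, hker']
    exact le_sup_left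
  -- factorisation
  have hfac : ∀ x, cotangentComplexBaseChange R (P ⧸ I) P (ResidueField P) x =
      cotangentComplexBaseChange R (P ⧸ (I ⊔ Ideal.span {t})) P (ResidueField P)
        (LinearMap.lTensor (ResidueField P) (Submodule.inclusion hle) x) := by
    intro x
    induction x using TensorProduct.induction_on with
    | zero => simp
    | tmul a b => rfl
    | add x y hx hy => rw [map_add, map_add, map_add, hx, hy]
  -- the inclusion stays injective modulo the maximal ideal
  have hj : Function.Injective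
      (LinearMap.lTensor (ResidueField P) (Submodule.inclusion hle)) := by
    rw [injective_iff_map_eq_zero]
    intro x hx
    obtain ⟨a, rfl⟩ := TensorProduct.mk_surjective P
      (RingHom.ker (algebraMap P (P ⧸ I))) (ResidueField P) IsLocalRing.residue_surjective x
    have h1 : Submodule.inclusion hle a ∈ LinearMap.ker (TensorProduct.mk P
        (P ⧸ maximalIdeal P) (RingHom.ker (algebraMap P (P ⧸ (I ⊔ Ideal.span {t})))) 1) := hx
    rw [LinearMap.ker_tensorProductMk, Submodule.mem_smul_top_iff] at h1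
    have h1' : (a : P) ∈ maximalIdeal P •
        RingHom.ker (algebraMap P (P ⧸ (I ⊔ Ideal.span {t}))) := h1
    have h2 : (a : P) ∈ maximalIdeal P * (I ⊔ Ideal.span {t}) := by
      have h5 := Submodule.smul_mono le_rfl hker'.le h1'
      rwa [smul_eq_mul] at h5
    have haI : (a : P) ∈ I := Ideal.Quotient.eq_zero_iff_mem.mp (RingHom.mem_ker.mp a.2)
    have h3 := mem_mul_of_mem_mul_sup (maximalIdeal P) I t ht hreg a haI h2
    have h4 : a ∈ LinearMap.ker (TensorProduct.mk P (P ⧸ maximalIdeal P)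
        (RingHom.ker (algebraMap P (P ⧸ I))) 1) := by
      rw [LinearMap.ker_tensorProductMk, Submodule.mem_smul_top_iff]
      have h6 : (a : P) ∈ maximalIdeal P • I := by rwa [smul_eq_mul]
      exact Submodule.smul_mono le_rfl hker.ge h6
    exact h4
  intro x y hxy
  rw [hfac, hfac] at hxy
  exact hj (hinj' hxy)

omit [IsLocalRing P] [Algebra R P] [Algebra.FormallySmooth R P] [Module.Free P Ω[P⁄R]]
  [Module.Finite P Ω[P⁄R]] in
/-- `(P ⧸ I) ⧸ t (P ⧸ I) ≃ P ⧸ (I ⊔ (t))` as `P`-modules. -/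
theorem nonempty_quotSMulTop_equiv (I : Ideal P) (t : P) :
    Nonempty (QuotSMulTop t (P ⧸ I) ≃ₗ[P] P ⧸ (I ⊔ Ideal.span {t})) := by
  let φ : (P ⧸ I) →ₗ[P] P ⧸ (I ⊔ Ideal.span {t}) :=
    (Ideal.Quotient.factorₐ P (le_sup_left : I ≤ I ⊔ Ideal.span {t})).toLinearMap
  have hφ : Function.Surjective φ := Ideal.Quotient.factor_surjective le_sup_left
  have hker : LinearMap.ker φ = t • (⊤ : Submodule P (P ⧸ I)) := by
    ext x
    obtain ⟨a, rfl⟩ := Ideal.Quotient.mk_surjective x
    rw [LinearMap.mem_ker, Submodule.mem_smul_pointwise_iff_exists]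
    change Ideal.Quotient.mk (I ⊔ Ideal.span {t}) a = 0 ↔ _
    rw [Ideal.Quotient.eq_zero_iff_mem]
    constructor
    · intro ha
      obtain ⟨i, hi, y, hy, rfl⟩ := Submodule.mem_sup.mp ha
      obtain ⟨r, rfl⟩ := Ideal.mem_span_singleton'.mp hy
      refine ⟨Ideal.Quotient.mk I r, Submodule.mem_top, ?_⟩
      change Ideal.Quotient.mk I (t * r) = Ideal.Quotient.mk I (i + r * t)
      rw [map_add, Ideal.Quotient.eq_zero_iff_mem.mpr hi, zero_add, mul_comm]
    · rintro ⟨y, -, hy⟩
      obtain ⟨r, rfl⟩ := Ideal.Quotient.mk_surjective y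
      have h1 : Ideal.Quotient.mk I (t * r) = Ideal.Quotient.mk I a := hy
      have h2 : t * r - a ∈ I := by
        rw [← Ideal.Quotient.eq_zero_iff_mem, map_sub, h1, sub_self]
      have h3 : a = t * r - (t * r - a) := by ring
      rw [h3]
      exact Ideal.sub_mem _ (Ideal.mem_sup_right (Ideal.mul_mem_right _ _
        (Ideal.mem_span_singleton_self t))) (Ideal.mem_sup_left h2)
  exact ⟨(Submodule.quotEquivOfEq _ _ hker.symm).trans (φ.quotKerEquivOfSurjective hφ)⟩

/-- **Induction along a weakly regular sequence.** -/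
theorem formallySmooth_quotient_of_sup_ofList (ts : List P) :
    ∀ (I : Ideal P), I.FG → I ⊔ Ideal.ofList ts ≤ maximalIdeal P →
      RingTheory.Sequence.IsWeaklyRegular (P ⧸ I) ts →
      Algebra.FormallySmooth R (P ⧸ (I ⊔ Ideal.ofList ts)) →
      Algebra.FormallySmooth R (P ⧸ I) := by
  induction ts with
  | nil =>
    intro I _ _ _ h
    have heq : I ⊔ Ideal.ofList ([] : List P) = I := by rw [Ideal.ofList_nil, sup_bot_eq]
    exact Algebra.FormallySmooth.of_equiv (Ideal.quotientEquivAlgOfEq R heq)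
  | cons t ts ih =>
    intro I hIfg hle hreg h
    rw [RingTheory.Sequence.isWeaklyRegular_cons_iff] at hreg
    obtain ⟨hreg1, hreg2⟩ := hreg
    have heq : I ⊔ Ideal.ofList (t :: ts) = (I ⊔ Ideal.span {t}) ⊔ Ideal.ofList ts := by
      rw [Ideal.ofList_cons, sup_assoc]
    obtain ⟨e⟩ := nonempty_quotSMulTop_equiv I t
    have hreg3 : RingTheory.Sequence.IsWeaklyRegular (P ⧸ (I ⊔ Ideal.span {t})) ts :=
      (e.isWeaklyRegular_congr ts).mp hreg2
    have hsm : Algebra.FormallySmooth R (P ⧸ ((I ⊔ Ideal.span {t}) ⊔ Ideal.ofList ts)) :=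
      Algebra.FormallySmooth.of_equiv (Ideal.quotientEquivAlgOfEq R heq)
    have hfg : (I ⊔ Ideal.span {t}).FG := Submodule.FG.sup hIfg ⟨{t}, by simp⟩
    have h1 := ih (I ⊔ Ideal.span {t}) hfg (heq ▸ hle) hreg3 hsm
    have ht : t ∈ maximalIdeal P :=
      hle (Ideal.mem_sup_right (Ideal.subset_span (List.mem_cons_self)))
    refine formallySmooth_quotient_of_sup_span R I hIfg t ht (le_sup_left.trans hle) ?_ h1
    intro x hx
    have h2 : t • (Ideal.Quotient.mk I x) = t • (0 : P ⧸ I) := by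
      rw [smul_zero]
      change Ideal.Quotient.mk I (t * x) = 0
      exact Ideal.Quotient.eq_zero_iff_mem.mpr hx
    exact Ideal.Quotient.eq_zero_iff_mem.mp (hreg1 h2)

end Groth.Agent.Lib.Helper82.SmoothRegQuot
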