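import Mathlib

/-!
# A Steinitz-type isomorphism for invertible modules (helper82)

For invertible modules `N₁`, `N₂` over a commutative ring `R` such that `R ⧸ J` is semilocal for
every nonzero ideal `J`, we have `N₁ × N₂ ≃ R × (N₁ ⊗ N₂)`.
-/

set_option autoImplicit false
universe u v w

open TensorProduct

namespace Groth.Agent.Lib.Helper82

namespace Steinitz

variable {R : Type u} [CommRing R]

section rank1

variable {N : Type v} [AddCommGroup N] [Module R N] [Module.Invertible R N]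

/-- Invertible modules have rank one: `g x • y = g y • x`. -/
lemma apply_smul_comm (g : N →ₗ[R] R) (x y : N) : g x • y = g y • x := by
  have h := Module.Invertible.tmul_comm (R := R) (m₁ := x) (m₂ := y)
  have := congrArg (fun t => TensorProduct.lid R N (g.rTensor N t)) h
  simpa using this

lemma exists_dual_ne_zero [Nontrivial R] : ∃ g : N →ₗ[R] R, g ≠ 0 := by
  by_contra h
  push Not at h
  have hs : Subsingleton (Module.Dual R N) := ⟨fun a b => (h a).trans (h b).symm⟩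
  have e := Module.Invertible.linearEquiv R N
  have : Subsingleton R := e.symm.toEquiv.subsingleton
  exact not_subsingleton R this

end rank1

section coprime

variable {N : Type v} [AddCommGroup N] [Module R N]

lemma one_tmul_eq_zero (J : Ideal R) (x : N) (h : (1 : R ⧸ J) ⊗ₜ[R] x = 0) :
    x ∈ J • (⊤ : Submodule R N) := by
  have := congrArg (TensorProduct.quotTensorEquivQuotSMul N J) h
  rw [← map_one (Ideal.Quotient.mk J), TensorProduct.quotTensorEquivQuotSMul_mk_tmul, map_zero,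
    one_smul, Submodule.Quotient.mk_eq_zero] at this
  exact this

lemma mk_tmul (J : Ideal R) (r : R) (x : N) :
    (Ideal.Quotient.mk J r) ⊗ₜ[R] x = (1 : R ⧸ J) ⊗ₜ[R] (r • x) := by
  rw [TensorProduct.tmul_smul, TensorProduct.smul_tmul', Algebra.smul_def, mul_one]
  rfl

lemma exists_one_tmul (J : Ideal R) (t : (R ⧸ J) ⊗[R] N) : ∃ x : N, t = (1 : R ⧸ J) ⊗ₜ[R] x := by
  induction t using TensorProduct.induction_on with
  | zero => exact ⟨0, by simp⟩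
  | tmul a x =>
    obtain ⟨r, rfl⟩ := Ideal.Quotient.mk_surjective a
    exact ⟨r • x, mk_tmul J r x⟩
  | add a b ha hb =>
    obtain ⟨x, rfl⟩ := ha
    obtain ⟨y, rfl⟩ := hb
    exact ⟨x + y, by rw [TensorProduct.tmul_add]⟩

lemma apply_mem_of_mem_smul_top (J : Ideal R) (d : Module.Dual R N) (hd : d ∈ J • (⊤ : Submodule R (Module.Dual R N)))
    (y : N) : d y ∈ J := by
  refine Submodule.smul_induction_on hd ?_ ?_
  · intro r hr n _
    rw [LinearMap.smul_apply, smul_eq_mul]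
    exact J.mul_mem_right _ hr
  · intro a b ha hb
    rw [LinearMap.add_apply]
    exact J.add_mem ha hb

variable [Module.Invertible R N]

/-- If `R ⧸ J` is semilocal, there is a functional on `N` whose image is coprime to `J`. -/
lemma exists_dual_coprime (J : Ideal R) [Finite (MaximalSpectrum (R ⧸ J))] :
    ∃ f : N →ₗ[R] R, LinearMap.range f ⊔ J = ⊤ := by
  have hfree : Module.Free (R ⧸ J) ((R ⧸ J) ⊗[R] Module.Dual R N) := inferInstance
  obtain ⟨e⟩ := Module.Invertible.free_iff_linearEquiv.1 hfree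
  obtain ⟨d, hd⟩ := exists_one_tmul J (e.symm 1)
  refine ⟨d, ?_⟩
  have key : ∀ (d' : Module.Dual R N) (y : N), d' y ∈ LinearMap.range d ⊔ J := by
    intro d' y
    obtain ⟨c, hc⟩ := Ideal.Quotient.mk_surjective (e ((1 : R ⧸ J) ⊗ₜ[R] d'))
    have h1 : (1 : R ⧸ J) ⊗ₜ[R] d' = (1 : R ⧸ J) ⊗ₜ[R] (c • d) := by
      have : (1 : R ⧸ J) ⊗ₜ[R] d' = e ((1 : R ⧸ J) ⊗ₜ[R] d') • e.symm 1 := by
        rw [← map_smul, smul_eq_mul, mul_one, LinearEquiv.symm_apply_apply]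
      rw [this, hd, ← hc, TensorProduct.smul_tmul', smul_eq_mul, mul_one, mk_tmul]
    have h2 : d' - c • d ∈ J • (⊤ : Submodule R (Module.Dual R N)) := by
      apply one_tmul_eq_zero
      rw [TensorProduct.tmul_sub, h1, sub_self]
    have h3 := apply_mem_of_mem_smul_top J _ h2 y
    have h4 : d' y = d (c • y) + (d' - c • d) y := by
      simp
    rw [h4]
    exact Submodule.add_mem_sup ⟨_, rfl⟩ h3
  have key2 : ∀ t : Module.Dual R N ⊗[R] N,
      Module.Invertible.linearEquiv R N t ∈ LinearMap.range d ⊔ J := by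
    intro t
    induction t using TensorProduct.induction_on with
    | zero => simp
    | tmul d' y =>
      have : Module.Invertible.linearEquiv R N (d' ⊗ₜ y) = d' y := by
        simp [Module.Invertible.linearEquiv]
      rw [this]
      exact key d' y
    | add a b ha hb =>
      rw [map_add]
      exact Submodule.add_mem _ ha hb
  rw [eq_top_iff]
  intro r _
  obtain ⟨t, ht⟩ := (Module.Invertible.linearEquiv R N).surjective r
  rw [← ht]
  exact key2 t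

end coprime

section steinitz

variable {N₁ : Type v} {N₂ : Type w} [AddCommGroup N₁] [Module R N₁]
  [AddCommGroup N₂] [Module R N₂]

/-- The bilinear map `(x, y) ↦ (f₂ y • x, -(f₁ x • y))`. -/
def kappaBil (f₁ : N₁ →ₗ[R] R) (f₂ : N₂ →ₗ[R] R) : N₁ →ₗ[R] N₂ →ₗ[R] N₁ × N₂ :=
  LinearMap.mk₂ R (fun x y => (f₂ y • x, -(f₁ x • y)))
    (fun x x' y => by ext <;> simp [add_smul, add_comm])
    (fun c x y => by ext <;> simp [smul_smul, mul_comm])
    (fun x y y' => by ext <;> simp [add_smul, add_comm])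
    (fun c x y => by ext <;> simp [smul_smul, mul_comm])

/-- `κ : N₁ ⊗ N₂ → N₁ × N₂`. -/
def kappa (f₁ : N₁ →ₗ[R] R) (f₂ : N₂ →ₗ[R] R) : N₁ ⊗[R] N₂ →ₗ[R] N₁ × N₂ :=
  TensorProduct.lift (kappaBil f₁ f₂)

@[simp] lemma kappa_tmul (f₁ : N₁ →ₗ[R] R) (f₂ : N₂ →ₗ[R] R) (x : N₁) (y : N₂) :
    kappa f₁ f₂ (x ⊗ₜ y) = (f₂ y • x, -(f₁ x • y)) := rfl

/-- The forward map. -/
def fwd (f₁ : N₁ →ₗ[R] R) (f₂ : N₂ →ₗ[R] R) (u : N₁) (v : N₂) :
    N₁ × N₂ →ₗ[R] R × (N₁ ⊗[R] N₂) :=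
  (f₁.coprod f₂).prod
    (((TensorProduct.mk R N₁ N₂).flip v).coprod (-(TensorProduct.mk R N₁ N₂ u)))

@[simp] lemma fwd_apply (f₁ : N₁ →ₗ[R] R) (f₂ : N₂ →ₗ[R] R) (u : N₁) (v : N₂) (x : N₁) (y : N₂) :
    fwd f₁ f₂ u v (x, y) = (f₁ x + f₂ y, x ⊗ₜ v - u ⊗ₜ y) := by
  simp [fwd, sub_eq_add_neg]

/-- The backward map. -/
def bwd (f₁ : N₁ →ₗ[R] R) (f₂ : N₂ →ₗ[R] R) (u : N₁) (v : N₂) :
    R × (N₁ ⊗[R] N₂) →ₗ[R] N₁ × N₂ :=
  (LinearMap.toSpanSingleton R (N₁ × N₂) (u, v)).coprod (kappa f₁ f₂)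

@[simp] lemma bwd_apply (f₁ : N₁ →ₗ[R] R) (f₂ : N₂ →ₗ[R] R) (u : N₁) (v : N₂) (r : R)
    (t : N₁ ⊗[R] N₂) : bwd f₁ f₂ u v (r, t) = r • (u, v) + kappa f₁ f₂ t := by
  simp [bwd]

variable [Module.Invertible R N₁] [Module.Invertible R N₂]

lemma bwd_fwd (f₁ : N₁ →ₗ[R] R) (f₂ : N₂ →ₗ[R] R) (u : N₁) (v : N₂) (h : f₁ u + f₂ v = 1)
    (x : N₁) (y : N₂) : bwd f₁ f₂ u v (fwd f₁ f₂ u v (x, y)) = (x, y) := by
  rw [fwd_apply, bwd_apply, map_sub, kappa_tmul, kappa_tmul]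
  have h1 : f₁ x • u = f₁ u • x := apply_smul_comm f₁ x u
  have h2 : f₂ y • v = f₂ v • y := apply_smul_comm f₂ y v
  ext
  · simp only [Prod.smul_mk, Prod.fst_add, Prod.fst_sub]
    rw [add_smul, h1]
    have : x = (f₁ u + f₂ v) • x := by rw [h, one_smul]
    conv_rhs => rw [this, add_smul]
    abel
  · simp only [Prod.smul_mk, Prod.snd_add, Prod.snd_sub]
    rw [add_smul, h2]
    have : y = (f₁ u + f₂ v) • y := by rw [h, one_smul]
    conv_rhs => rw [this, add_smul]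
    abel

omit [Module.Invertible R N₁] [Module.Invertible R N₂] in
lemma fwd_bwd_left (f₁ : N₁ →ₗ[R] R) (f₂ : N₂ →ₗ[R] R) (u : N₁) (v : N₂) (h : f₁ u + f₂ v = 1)
    (r : R) : fwd f₁ f₂ u v (bwd f₁ f₂ u v (r, 0)) = (r, 0) := by
  rw [bwd_apply, map_zero, add_zero, Prod.smul_mk, fwd_apply]
  ext
  · simp only [map_smul, smul_eq_mul]
    rw [← mul_add, h, mul_one]
  · change (r • u) ⊗ₜ[R] v - u ⊗ₜ[R] (r • v) = 0
    rw [TensorProduct.smul_tmul, sub_self]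

lemma fwd_bwd_right (f₁ : N₁ →ₗ[R] R) (f₂ : N₂ →ₗ[R] R) (u : N₁) (v : N₂) (h : f₁ u + f₂ v = 1)
    (t : N₁ ⊗[R] N₂) : fwd f₁ f₂ u v (bwd f₁ f₂ u v (0, t)) = (0, t) := by
  induction t using TensorProduct.induction_on with
  | zero =>
    rw [show ((0, 0) : R × (N₁ ⊗[R] N₂)) = 0 from rfl, map_zero, map_zero]
  | tmul x y =>
    rw [bwd_apply, zero_smul, zero_add, kappa_tmul, fwd_apply]
    have h1 : f₁ x • u = f₁ u • x := apply_smul_comm f₁ x u
    have h2 : f₂ y • v = f₂ v • y := apply_smul_comm f₂ y v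
    ext
    · simp only [map_smul, map_neg, smul_eq_mul]
      ring
    · change (f₂ y • x) ⊗ₜ[R] v - u ⊗ₜ[R] (-(f₁ x • y)) = x ⊗ₜ[R] y
      rw [TensorProduct.smul_tmul, h2, TensorProduct.tmul_smul, TensorProduct.tmul_neg,
        sub_neg_eq_add, ← TensorProduct.smul_tmul, h1, ← TensorProduct.smul_tmul', ← add_smul,
        add_comm, h, one_smul]
  | add a b ha hb =>
    have : ((0, a + b) : R × (N₁ ⊗[R] N₂)) = (0, a) + (0, b) := by simp
    rw [this, map_add, map_add, ha, hb]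

lemma fwd_bwd (f₁ : N₁ →ₗ[R] R) (f₂ : N₂ →ₗ[R] R) (u : N₁) (v : N₂) (h : f₁ u + f₂ v = 1)
    (z : R × (N₁ ⊗[R] N₂)) : fwd f₁ f₂ u v (bwd f₁ f₂ u v z) = z := by
  obtain ⟨r, t⟩ := z
  have hz : ((r, t) : R × (N₁ ⊗[R] N₂)) = (r, 0) + (0, t) := by simp
  rw [hz, map_add, map_add, fwd_bwd_left f₁ f₂ u v h, fwd_bwd_right f₁ f₂ u v h]

/-- The Steinitz-type isomorphism attached to coprime functionals. -/
def equivOfCoprime (f₁ : N₁ →ₗ[R] R) (f₂ : N₂ →ₗ[R] R) (u : N₁) (v : N₂) (h : f₁ u + f₂ v = 1) :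
    (N₁ × N₂) ≃ₗ[R] (R × (N₁ ⊗[R] N₂)) :=
  LinearEquiv.ofLinearMap (fwd f₁ f₂ u v) (bwd f₁ f₂ u v)
    (LinearMap.ext fun z => fwd_bwd f₁ f₂ u v h z)
    (LinearMap.ext fun z => bwd_fwd f₁ f₂ u v h z.1 z.2)

/-- Steinitz: if `R ⧸ J` is semilocal for all nonzero ideals `J`, then
`N₁ × N₂ ≃ R × (N₁ ⊗ N₂)` for invertible modules. -/
theorem nonempty_prod_equiv [Nontrivial R]
    (hfin : ∀ J : Ideal R, J ≠ ⊥ → Finite (MaximalSpectrum (R ⧸ J))) :
    Nonempty ((N₁ × N₂) ≃ₗ[R] (R × (N₁ ⊗[R] N₂))) := by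
  obtain ⟨f₂, hf₂⟩ := exists_dual_ne_zero (R := R) (N := N₂)
  have hJ : LinearMap.range f₂ ≠ ⊥ := by
    rwa [Ne, LinearMap.range_eq_bot]
  have := hfin (LinearMap.range f₂) hJ
  obtain ⟨f₁, hf₁⟩ := exists_dual_coprime (N := N₁) (LinearMap.range f₂)
  have h1 : (1 : R) ∈ LinearMap.range f₁ ⊔ LinearMap.range f₂ := by
    rw [hf₁]
    trivial
  obtain ⟨_, ⟨u, rfl⟩, _, ⟨v, rfl⟩, huv⟩ := Submodule.mem_sup.1 h1
  exact ⟨equivOfCoprime f₁ f₂ u v huv⟩

end steinitz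

section dedekind

lemma finite_maximalSpectrum_quotient {R : Type u} [CommRing R] [IsDedekindDomain R]
    (J : Ideal R) (hJ : J ≠ ⊥) : Finite (MaximalSpectrum (R ⧸ J)) := by
  have hfin := Ideal.finite_minimalPrimes_of_isNoetherianRing R J
  have : Finite ↥(J.minimalPrimes) := hfin.to_subtype
  have hmem : ∀ m : MaximalSpectrum (R ⧸ J),
      m.asIdeal.comap (Ideal.Quotient.mk J) ∈ J.minimalPrimes := by
    intro m
    have hprime : (m.asIdeal.comap (Ideal.Quotient.mk J)).IsPrime :=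
      Ideal.comap_isPrime _ _
    have hle : J ≤ m.asIdeal.comap (Ideal.Quotient.mk J) := by
      intro x hx
      rw [Ideal.mem_comap, Ideal.Quotient.eq_zero_iff_mem.2 hx]
      exact Ideal.zero_mem _
    refine ⟨⟨hprime, hle⟩, ?_⟩
    rintro Q ⟨hQ, hJQ⟩ hQP
    have hQ0 : Q ≠ ⊥ := by
      rintro rfl
      exact hJ (le_bot_iff.1 hJQ)
    have hQmax : Q.IsMaximal := hQ.isMaximal hQ0
    exact (hQmax.eq_of_le hprime.ne_top hQP).ge
  refine Finite.of_injective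
    (fun m : MaximalSpectrum (R ⧸ J) =>
      (⟨m.asIdeal.comap (Ideal.Quotient.mk J), hmem m⟩ : ↥(J.minimalPrimes))) ?_
  intro m m' h
  have h' : m.asIdeal.comap (Ideal.Quotient.mk J) = m'.asIdeal.comap (Ideal.Quotient.mk J) :=
    congrArg Subtype.val h
  exact MaximalSpectrum.ext
    (Ideal.comap_injective_of_surjective _ Ideal.Quotient.mk_surjective h')

variable {R : Type u} [CommRing R] [IsDedekindDomain R]
  {N : Type v} [AddCommGroup N] [Module R N] [Module.Invertible R N]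

open CommRing in
/-- `N^{k+1} ≃ R^k × N^{⊗(k+1)}` over a Dedekind domain. -/
theorem nonempty_pi_equiv (k : ℕ) :
    Nonempty ((Fin (k + 1) → N) ≃ₗ[R] ((Fin k → R) × ↥(Pic.mk R N ^ (k + 1)))) := by
  induction k with
  | zero =>
    have e1 : (Fin 1 → N) ≃ₗ[R] N := LinearEquiv.funUnique (Fin 1) R N
    have e2 : ↥(Pic.mk R N ^ (0 + 1)) ≃ₗ[R] N := by
      rw [zero_add, pow_one]
      exact Pic.mk.linearEquiv R N
    have e3 : ((Fin 0 → R) × ↥(Pic.mk R N ^ (0 + 1))) ≃ₗ[R] ↥(Pic.mk R N ^ (0 + 1)) :=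
      LinearEquiv.uniqueProd
    exact ⟨e1 ≪≫ₗ e2.symm ≪≫ₗ e3.symm⟩
  | succ k ih =>
    obtain ⟨e⟩ := ih
    obtain ⟨st⟩ := nonempty_prod_equiv (R := R) (N₁ := ↥(Pic.mk R N ^ (k + 1))) (N₂ := N)
      (fun J hJ => finite_maximalSpectrum_quotient J hJ)
    have hT : Pic.mk R (↥(Pic.mk R N ^ (k + 1)) ⊗[R] N) = Pic.mk R N ^ (k + 1 + 1) := by
      rw [Pic.mk_tensor, Pic.mk_eq_self, ← pow_succ]
    obtain ⟨eT⟩ := Pic.mk_eq_iff.1 hT
    -- (Fin (k+2) → N) ≃ N × (Fin (k+1) → N)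
    have e1 : (Fin (k + 1 + 1) → N) ≃ₗ[R] (N × (Fin (k + 1) → N)) :=
      (Fin.consLinearEquiv R (fun _ : Fin (k + 1 + 1) => N)).symm
    have e2 : (N × (Fin (k + 1) → N)) ≃ₗ[R] (N × ((Fin k → R) × ↥(Pic.mk R N ^ (k + 1)))) :=
      LinearEquiv.prodCongr (LinearEquiv.refl R N) e
    -- rearrange
    have e3 : (N × ((Fin k → R) × ↥(Pic.mk R N ^ (k + 1)))) ≃ₗ[R]
        ((Fin k → R) × (↥(Pic.mk R N ^ (k + 1)) × N)) :=
      (LinearEquiv.prodComm R _ _) ≪≫ₗ (LinearEquiv.prodAssoc R _ _ _)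
    have e4 : ((Fin k → R) × (↥(Pic.mk R N ^ (k + 1)) × N)) ≃ₗ[R]
        ((Fin k → R) × (R × ↥(Pic.mk R N ^ (k + 1 + 1)))) :=
      LinearEquiv.prodCongr (LinearEquiv.refl R _)
        (st ≪≫ₗ LinearEquiv.prodCongr (LinearEquiv.refl R R) eT)
    have e5 : ((Fin k → R) × (R × ↥(Pic.mk R N ^ (k + 1 + 1)))) ≃ₗ[R]
        ((Fin (k + 1) → R) × ↥(Pic.mk R N ^ (k + 1 + 1))) :=
      (LinearEquiv.prodAssoc R _ _ _).symm ≪≫ₗ
        LinearEquiv.prodCongr
          ((LinearEquiv.prodComm R _ _) ≪≫ₗ (Fin.consLinearEquiv R (fun _ : Fin (k + 1) => R)))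
          (LinearEquiv.refl R _)
    exact ⟨e1 ≪≫ₗ e2 ≪≫ₗ e3 ≪≫ₗ e4 ≪≫ₗ e5⟩

open CommRing in
/-- Over a Dedekind domain, `[N]^n = 1` implies `N^n ≃ R^n`. -/
theorem nonempty_pi_equiv_of_pow_eq_one (n : ℕ) (h : Pic.mk R N ^ n = 1) :
    Nonempty ((Fin n → N) ≃ₗ[R] (Fin n → R)) := by
  cases n with
  | zero =>
    exact ⟨LinearEquiv.ofSubsingleton _ _⟩
  | succ k =>
    obtain ⟨e⟩ := nonempty_pi_equiv (R := R) (N := N) k
    have e1 : ↥(Pic.mk R N ^ (k + 1)) ≃ₗ[R] R := by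
      rw [h]
      exact (Pic.mk_eq_iff.1 (Pic.mk_self (R := R))).some.symm
    have e2 : ((Fin k → R) × R) ≃ₗ[R] (Fin (k + 1) → R) :=
      (LinearEquiv.prodComm R _ _) ≪≫ₗ (Fin.consLinearEquiv R (fun _ : Fin (k + 1) => R))
    exact ⟨e ≪≫ₗ LinearEquiv.prodCongr (LinearEquiv.refl R _) e1 ≪≫ₗ e2⟩

end dedekind

end Steinitz

end Groth.Agent.Lib.Helper82
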