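import Groth.Agent.S2164
import Groth.Agent.S0114
import Groth.Agent.Lib.Helper10.CIMorSynt
import Groth.Agent.Lib.Helper10.FiberStalkChart
import Groth.Agent.Lib.Helper10.KosFibreA
import Groth.Agent.Lib.Helper7.FlatDescent
import Groth.Agent.Lib.Helper82.SyntLocal
import Groth.Agent.Lib.Helper82.CIOpen

/-!
# Syntomic morphisms descend along fppf covers of the source (helper82)
-/

set_option autoImplicit false
set_option linter.style.haveILetI false
universe u

namespace Groth.Agent.Lib.Helper82.SyntFppf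

open AlgebraicGeometry CategoryTheory CategoryTheory.Limits

section LocalHelpers

/-- a ring map between local rings carrying the maximal ideal into the maximal ideal is local. -/
theorem isLocalHom_quotientMap {P Q : Type u} [CommRing P] [CommRing Q] [IsLocalRing P]
    [IsLocalRing Q] (φ : P →+* Q) [IsLocalHom φ] (I : Ideal P) (J : Ideal Q) (hJ : J ≠ ⊤)
    (hIJ : I ≤ J.comap φ) : IsLocalHom (Ideal.quotientMap J φ hIJ) := by
  constructor
  intro a ha
  obtain ⟨b, rfl⟩ := Ideal.Quotient.mk_surjective a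
  rw [Ideal.quotientMap_mk] at ha
  by_contra hb
  have hb' : ¬ IsUnit b := fun h => hb (h.map _)
  have h1 : φ b ∈ IsLocalRing.maximalIdeal Q := by
    rw [IsLocalRing.mem_maximalIdeal, mem_nonunits_iff]
    exact fun h => hb' (isUnit_of_map_unit φ b h)
  obtain ⟨c, hc⟩ := ha.exists_right_inv
  obtain ⟨d, rfl⟩ := Ideal.Quotient.mk_surjective c
  rw [← map_mul, ← map_one (Ideal.Quotient.mk J), Ideal.Quotient.eq] at hc
  have h2 : φ b * d - 1 ∈ IsLocalRing.maximalIdeal Q := IsLocalRing.le_maximalIdeal hJ hc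
  have h3 : φ b * d ∈ IsLocalRing.maximalIdeal Q := Ideal.mul_mem_right _ _ h1
  have h4 : (1 : Q) ∈ IsLocalRing.maximalIdeal Q := by
    have := Ideal.sub_mem _ h3 h2
    rwa [sub_sub_cancel] at this
  exact (IsLocalRing.maximalIdeal.isMaximal Q).ne_top ((Ideal.eq_top_iff_one _).mpr h4)

/-- the maximal ideal of a quotient of a local ring. -/
theorem maximalIdeal_quotient {P : Type u} [CommRing P] [IsLocalRing P] (I : Ideal P)
    [IsLocalRing (P ⧸ I)] :
    IsLocalRing.maximalIdeal (P ⧸ I) = (IsLocalRing.maximalIdeal P).map (Ideal.Quotient.mk I) := by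
  have hI : I ≠ ⊤ := by
    intro h
    have : Subsingleton (P ⧸ I) := by rw [h]; exact Ideal.Quotient.subsingleton_iff.mpr rfl
    exact not_subsingleton (P ⧸ I) this
  symm
  apply IsLocalRing.eq_maximalIdeal
  rcases Ideal.map_eq_top_or_isMaximal_of_surjective (Ideal.Quotient.mk I)
    Ideal.Quotient.mk_surjective (IsLocalRing.maximalIdeal.isMaximal P) with h | h
  · exfalso
    have h1 := congrArg (Ideal.comap (Ideal.Quotient.mk I)) h
    rw [Ideal.comap_map_of_surjective _ Ideal.Quotient.mk_surjective, Ideal.comap_top,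
      ← RingHom.ker_eq_comap_bot, Ideal.mk_ker,
      sup_eq_left.mpr (IsLocalRing.le_maximalIdeal hI)] at h1
    exact (IsLocalRing.maximalIdeal.isMaximal P).ne_top h1
  · exact h

end LocalHelpers

section Ring

/-- core: Avramov for quotients of a flat local map by compatible ideals. -/
theorem isCI_quotient_tower_core {P Q : Type u} [CommRing P] [CommRing Q] [IsLocalRing P]
    [IsLocalRing Q] [Algebra P Q] [IsLocalHom (algebraMap P Q)] [Module.Flat P Q]
    (𝔫 : Ideal P) (𝔫' 𝔭' : Ideal Q) (h1 : 𝔫' = 𝔫.map (algebraMap P Q))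
    (h2 : 𝔭' = (IsLocalRing.maximalIdeal P).map (algebraMap P Q))
    [IsLocalRing (P ⧸ 𝔫)] [IsLocalRing (Q ⧸ 𝔫')] [IsLocalRing (Q ⧸ 𝔭')]
    [IsNoetherianRing (P ⧸ 𝔫)] [IsNoetherianRing (Q ⧸ 𝔫')] :
    Pi1.IsCompleteIntersection (Q ⧸ 𝔫') ↔
      (Pi1.IsCompleteIntersection (P ⧸ 𝔫) ∧ Pi1.IsCompleteIntersection (Q ⧸ 𝔭')) := by
  subst h1 h2
  have h𝔫top : 𝔫 ≠ ⊤ := by
    intro h
    have : Subsingleton (P ⧸ 𝔫) := by rw [h]; exact Ideal.Quotient.subsingleton_iff.mpr rfl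
    exact not_subsingleton _ this
  have hJtop : 𝔫.map (algebraMap P Q) ≠ ⊤ := by
    intro h
    have : Subsingleton (Q ⧸ 𝔫.map (algebraMap P Q)) := by
      rw [h]; exact Ideal.Quotient.subsingleton_iff.mpr rfl
    exact not_subsingleton _ this
  have hJle : 𝔫.map (algebraMap P Q) ≤ (IsLocalRing.maximalIdeal P).map (algebraMap P Q) :=
    Ideal.map_mono (IsLocalRing.le_maximalIdeal h𝔫top)
  have hfl : Module.Flat (P ⧸ 𝔫) (Q ⧸ 𝔫.map (algebraMap P Q)) :=
    Module.Flat.of_linearEquiv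
      (Algebra.TensorProduct.quotIdealMapEquivQuotTensor Q 𝔫).toLinearEquiv
  have hlh : IsLocalHom (algebraMap (P ⧸ 𝔫) (Q ⧸ 𝔫.map (algebraMap P Q))) :=
    isLocalHom_quotientMap (algebraMap P Q) 𝔫 _ hJtop Ideal.le_comap_map
  have hK : (IsLocalRing.maximalIdeal (P ⧸ 𝔫)).map
      (algebraMap (P ⧸ 𝔫) (Q ⧸ 𝔫.map (algebraMap P Q))) =
      ((IsLocalRing.maximalIdeal P).map (algebraMap P Q)).map
        (Ideal.Quotient.mk (𝔫.map (algebraMap P Q))) := by
    rw [maximalIdeal_quotient 𝔫, Ideal.map_map, Ideal.map_map]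
    rfl
  let eK : ((Q ⧸ 𝔫.map (algebraMap P Q)) ⧸ (IsLocalRing.maximalIdeal (P ⧸ 𝔫)).map
      (algebraMap (P ⧸ 𝔫) (Q ⧸ 𝔫.map (algebraMap P Q)))) ≃+*
      (Q ⧸ (IsLocalRing.maximalIdeal P).map (algebraMap P Q)) :=
    (Ideal.quotEquivOfEq hK).trans ((DoubleQuot.quotQuotEquivQuotSup _ _).trans
      (Ideal.quotEquivOfEq (sup_eq_right.mpr hJle)))
  have hlocK : IsLocalRing ((Q ⧸ 𝔫.map (algebraMap P Q)) ⧸
      (IsLocalRing.maximalIdeal (P ⧸ 𝔫)).map
      (algebraMap (P ⧸ 𝔫) (Q ⧸ 𝔫.map (algebraMap P Q)))) := eK.symm.isLocalRing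
  have key := Groth.Agent.S2164.result (A := P ⧸ 𝔫) (B := Q ⧸ 𝔫.map (algebraMap P Q))
  constructor
  · intro h
    have h1 := key.mp h
    exact ⟨h1.1, Groth.Agent.Lib.Helper82.CIOpen.isCI_of_ringEquiv eK h1.2⟩
  · rintro ⟨h1, h2⟩
    exact key.mpr ⟨h1, Groth.Agent.Lib.Helper82.CIOpen.isCI_of_ringEquiv eK.symm h2⟩

variable {R B C : Type u} [CommRing R] [CommRing B] [CommRing C] [Algebra R B] [Algebra B C]
  [Algebra R C] [IsScalarTower R B C]

open Groth.Agent.Lib.Helper10.KosFibreA in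
/-- **Avramov for fibre local rings in a tower** `R → B → C` with `B → C` flat. -/
theorem isCI_fibLocRing_tower [Algebra.FiniteType R B] [Algebra.FiniteType R C] [Module.Flat B C]
    (q : Ideal C) [q.IsPrime] (𝔭 : Ideal B) [𝔭.IsPrime] (h𝔭 : 𝔭 = q.comap (algebraMap B C))
    [IsLocalRing (EGA4.FibLocRing R C q)] [IsLocalRing (EGA4.FibLocRing R B 𝔭)]
    [IsLocalRing (EGA4.FibLocRing B C q)] :
    Pi1.IsCompleteIntersection (EGA4.FibLocRing R C q) ↔
      (Pi1.IsCompleteIntersection (EGA4.FibLocRing R B 𝔭) ∧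
        Pi1.IsCompleteIntersection (EGA4.FibLocRing B C q)) := by
  letI algBpCq : Algebra (Localization.AtPrime 𝔭) (Localization.AtPrime q) :=
    (Localization.localRingHom 𝔭 q (algebraMap B C) h𝔭).toAlgebra
  have tB : IsScalarTower B (Localization.AtPrime 𝔭) (Localization.AtPrime q) :=
    IsScalarTower.of_algebraMap_eq (fun b => by
      rw [IsScalarTower.algebraMap_apply B C (Localization.AtPrime q)]
      exact (Localization.localRingHom_to_map 𝔭 q (algebraMap B C) h𝔭 b).symm)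
  have tR : IsScalarTower R (Localization.AtPrime 𝔭) (Localization.AtPrime q) :=
    IsScalarTower.of_algebraMap_eq (fun r => by
      rw [IsScalarTower.algebraMap_apply R B (Localization.AtPrime 𝔭),
        ← IsScalarTower.algebraMap_apply B (Localization.AtPrime 𝔭) (Localization.AtPrime q),
        IsScalarTower.algebraMap_apply B C (Localization.AtPrime q),
        ← IsScalarTower.algebraMap_apply R B C,
        ← IsScalarTower.algebraMap_apply R C (Localization.AtPrime q)])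
  have h𝔫 : 𝔭.comap (algebraMap R B) = q.comap (algebraMap R C) := by
    rw [h𝔭, Ideal.comap_comap, ← IsScalarTower.algebraMap_eq]
  have h1 : (q.comap (algebraMap R C)).map (algebraMap R (Localization.AtPrime q)) =
      ((𝔭.comap (algebraMap R B)).map (algebraMap R (Localization.AtPrime 𝔭))).map
        (algebraMap (Localization.AtPrime 𝔭) (Localization.AtPrime q)) := by
    rw [Ideal.map_map, ← IsScalarTower.algebraMap_eq, h𝔫]
  have h2 : (q.comap (algebraMap B C)).map (algebraMap B (Localization.AtPrime q)) =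
      (IsLocalRing.maximalIdeal (Localization.AtPrime 𝔭)).map
        (algebraMap (Localization.AtPrime 𝔭) (Localization.AtPrime q)) := by
    rw [← Localization.AtPrime.map_eq_maximalIdeal, Ideal.map_map, ← IsScalarTower.algebraMap_eq,
      ← h𝔭]
  have hflCq : Module.Flat B (Localization.AtPrime q) := Module.Flat.trans B C _
  haveI hflBp : Module.Flat (Localization.AtPrime 𝔭) (Localization.AtPrime q) :=
    (Module.flat_iff_of_isLocalization (Localization.AtPrime 𝔭) 𝔭.primeCompl _).mpr hflCq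
  haveI : IsLocalHom (algebraMap (Localization.AtPrime 𝔭) (Localization.AtPrime q)) :=
    Localization.isLocalHom_localRingHom 𝔭 q (algebraMap B C) h𝔭
  haveI hNB : IsNoetherianRing (Localization.AtPrime 𝔭 ⧸
      (𝔭.comap (algebraMap R B)).map (algebraMap R (Localization.AtPrime 𝔭))) :=
    isNoetherianRing_fibLocRing R 𝔭
  haveI hNC : IsNoetherianRing (Localization.AtPrime q ⧸
      (q.comap (algebraMap R C)).map (algebraMap R (Localization.AtPrime q))) :=
    isNoetherianRing_fibLocRing R q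
  exact isCI_quotient_tower_core _ _ _ h1 h2

end Ring

section Sch

variable {X Y S : Scheme.{u}}

/-- Avramov for the fibre local rings of a composite `X ⟶ Y ⟶ S` with `X ⟶ Y` flat. -/
theorem isCI_fiberStalk_comp_iff (f : X ⟶ Y) (q : Y ⟶ S) [Flat f] [LocallyOfFiniteType q]
    [LocallyOfFiniteType (f ≫ q)] (x : X) :
    Pi1.IsCompleteIntersection (CInt.fiberStalk (f ≫ q) x) ↔
      (Pi1.IsCompleteIntersection (CInt.fiberStalk q (f x)) ∧
        Pi1.IsCompleteIntersection (CInt.fiberStalk f x)) := by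
  obtain ⟨_, ⟨W, hW : IsAffineOpen W, rfl⟩, hsW, -⟩ :=
    S.isBasis_affineOpens.exists_subset_of_mem_open (Set.mem_univ (q (f x))) isOpen_univ
  have hsW' : q (f x) ∈ (W : S.Opens) := hsW
  obtain ⟨_, ⟨V, hV : IsAffineOpen V, rfl⟩, hyV, hVW⟩ :=
    Y.isBasis_affineOpens.exists_subset_of_mem_open
      (show f x ∈ ((q ⁻¹ᵁ W : Y.Opens) : Set Y) from hsW') (q ⁻¹ᵁ W).isOpen
  have hyV' : f x ∈ (V : Y.Opens) := hyV
  have eV : (V : Y.Opens) ≤ q ⁻¹ᵁ W := hVW
  obtain ⟨_, ⟨U, hU : IsAffineOpen U, rfl⟩, hxU, hUV⟩ :=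
    X.isBasis_affineOpens.exists_subset_of_mem_open
      (show x ∈ ((f ⁻¹ᵁ V : X.Opens) : Set X) from hyV') (f ⁻¹ᵁ V).isOpen
  have hxU' : x ∈ (U : X.Opens) := hxU
  have eU : (U : X.Opens) ≤ f ⁻¹ᵁ V := hUV
  have eUW : (U : X.Opens) ≤ (f ≫ q) ⁻¹ᵁ W := fun z hz => eV (eU hz)
  letI algRB : Algebra Γ(S, W) Γ(Y, V) := (q.appLE W V eV).hom.toAlgebra
  letI algBC : Algebra Γ(Y, V) Γ(X, U) := (f.appLE V U eU).hom.toAlgebra
  letI algRC : Algebra Γ(S, W) Γ(X, U) := ((f ≫ q).appLE W U eUW).hom.toAlgebra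
  have tower : IsScalarTower Γ(S, W) Γ(Y, V) Γ(X, U) := by
    refine IsScalarTower.of_algebraMap_eq (fun r => ?_)
    have h := Scheme.Hom.appLE_comp_appLE f q W V U eV eU
    exact congr($(h.symm).hom r)
  have hftB : Algebra.FiniteType Γ(S, W) Γ(Y, V) := q.finiteType_appLE hW hV eV
  have hftC : Algebra.FiniteType Γ(S, W) Γ(X, U) := (f ≫ q).finiteType_appLE hW hU eUW
  have hflat : Module.Flat Γ(Y, V) Γ(X, U) :=
    HasRingHomProperty.appLE (P := @Flat) f inferInstance ⟨V, hV⟩ ⟨U, hU⟩ eU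
  have h𝔭 : (hV.primeIdealOf ⟨f x, hyV'⟩).asIdeal =
      (hU.primeIdealOf ⟨x, hxU'⟩).asIdeal.comap (algebraMap Γ(Y, V) Γ(X, U)) :=
    congr($(IsAffineOpen.comap_primeIdealOf_appLE V hV U hU eU hxU').1).symm
  obtain ⟨e1⟩ := Groth.Agent.Lib.Helper10.FiberStalkChart.nonempty_fiberStalk_equiv_fibLocRing
    (f ≫ q) ⟨U, hU⟩ ⟨W, hW⟩ eUW x hxU'
  obtain ⟨e2⟩ := Groth.Agent.Lib.Helper10.FiberStalkChart.nonempty_fiberStalk_equiv_fibLocRing
    q ⟨V, hV⟩ ⟨W, hW⟩ eV (f x) hyV'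
  obtain ⟨e3⟩ := Groth.Agent.Lib.Helper10.FiberStalkChart.nonempty_fiberStalk_equiv_fibLocRing
    f ⟨U, hU⟩ ⟨V, hV⟩ eU x hxU'
  haveI l1 : IsLocalRing (EGA4.FibLocRing Γ(S, W) Γ(X, U) (hU.primeIdealOf ⟨x, hxU'⟩).asIdeal) :=
    Groth.Agent.Lib.Helper82.SyntLocal.isLocalRing_fibLocRing _ _ _
  haveI l2 : IsLocalRing (EGA4.FibLocRing Γ(S, W) Γ(Y, V)
      (hV.primeIdealOf ⟨f x, hyV'⟩).asIdeal) :=
    Groth.Agent.Lib.Helper82.SyntLocal.isLocalRing_fibLocRing _ _ _
  haveI l3 : IsLocalRing (EGA4.FibLocRing Γ(Y, V) Γ(X, U) (hU.primeIdealOf ⟨x, hxU'⟩).asIdeal) :=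
    Groth.Agent.Lib.Helper82.SyntLocal.isLocalRing_fibLocRing _ _ _
  have key := isCI_fibLocRing_tower (R := Γ(S, W)) (B := Γ(Y, V)) (C := Γ(X, U))
    (hU.primeIdealOf ⟨x, hxU'⟩).asIdeal (hV.primeIdealOf ⟨f x, hyV'⟩).asIdeal h𝔭
  constructor
  · intro h
    have h' := key.mp (Groth.Agent.Lib.Helper82.CIOpen.isCI_of_ringEquiv e1 h)
    exact ⟨Groth.Agent.Lib.Helper82.CIOpen.isCI_of_ringEquiv e2.symm h'.1,
      Groth.Agent.Lib.Helper82.CIOpen.isCI_of_ringEquiv e3.symm h'.2⟩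
  · rintro ⟨h1, h2⟩
    exact Groth.Agent.Lib.Helper82.CIOpen.isCI_of_ringEquiv e1.symm
      (key.mpr ⟨Groth.Agent.Lib.Helper82.CIOpen.isCI_of_ringEquiv e2 h1,
        Groth.Agent.Lib.Helper82.CIOpen.isCI_of_ringEquiv e3 h2⟩)

/-- flatness descends along a flat surjective morphism on the source. -/
theorem flat_of_flat_comp (f : X ⟶ Y) (q : Y ⟶ S) [Surjective f] [Flat f] [Flat (f ≫ q)] :
    Flat q := by
  rw [Flat.iff_flat_stalkMap]
  intro y
  obtain ⟨x, rfl⟩ := f.surjective y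
  have h1 : ((f ≫ q).stalkMap x).hom.Flat := Flat.stalkMap (f ≫ q) x
  rw [Scheme.Hom.stalkMap_comp] at h1
  have h2 : (f.stalkMap x).hom.Flat := Flat.stalkMap f x
  have h3 : (f.stalkMap x).hom.FaithfullyFlat := by
    algebraize [(f.stalkMap x).hom]
    have : IsLocalHom (algebraMap (Y.presheaf.stalk (f x)) (X.presheaf.stalk x)) :=
      inferInstanceAs (IsLocalHom (f.stalkMap x).hom)
    exact Module.FaithfullyFlat.of_flat_of_isLocalHom
  exact Groth.Agent.Lib.Helper7.ringHom_flat_of_comp_of_faithfullyFlat _ _ h3 h1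

/-- S9850. -/
theorem isSyntomicMor_of_comp_fppf (f : X ⟶ Y) (q : Y ⟶ S) [Surjective f] [Flat f]
    [LocallyOfFinitePresentation f] (h : Synt.IsSyntomicMor (f ≫ q)) :
    Synt.IsSyntomicMor q ∧ Synt.IsSyntomicMor f := by
  obtain ⟨hfl, hlfp, hpt⟩ :=
    (Groth.Agent.Lib.Helper10.CIMorSynt.isCIMorphism_iff_isSyntomicMor (f ≫ q)).mpr h
  haveI := hfl
  haveI := hlfp
  haveI hq_lfp : LocallyOfFinitePresentation q := Groth.Agent.S0114.result f q
  have hq_flat : Flat q := flat_of_flat_comp f q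
  constructor
  · rw [← Groth.Agent.Lib.Helper10.CIMorSynt.isCIMorphism_iff_isSyntomicMor]
    refine ⟨hq_flat, hq_lfp, fun y => ?_⟩
    obtain ⟨x, rfl⟩ := f.surjective y
    exact ((isCI_fiberStalk_comp_iff f q x).mp (hpt x)).1
  · rw [← Groth.Agent.Lib.Helper10.CIMorSynt.isCIMorphism_iff_isSyntomicMor]
    exact ⟨inferInstance, inferInstance,
      fun x => ((isCI_fiberStalk_comp_iff f q x).mp (hpt x)).2⟩

end Sch

end Groth.Agent.Lib.Helper82.SyntFppf
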