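import Mathlib
import Groth.Agent.Lib.Helper48.LimitSetup
import Groth.Agent.Lib.Helper82.RelGCIDescent
import Groth.Agent.Lib.Helper82.RelGCIReg
import Groth.Agent.Lib.Helper82.CotangentProj
import Groth.Agent.S9146

set_option autoImplicit false
universe u

namespace Groth.Agent.Lib.Helper82.SyntLimit

open Groth.Agent.Lib.Helper48 MvPolynomial

section Poly

variable {ι : Type*} {R : Type*} [CommRing R] {T : ι → Type*}
  [∀ i, CommRing (T i)] [∀ i, Algebra R (T i)] {L : Type*} [CommRing L] [Algebra R L]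
  {γ : ∀ i, T i →ₐ[R] L} {Tr : ∀ i j, (T i →ₐ[R] T j) → Prop}

theorem mapAlgHom_comp' {A B C : Type*} [CommRing A] [CommRing B] [CommRing C] [Algebra R A]
    [Algebra R B] [Algebra R C] (σ : Type*) (f : A →ₐ[R] B) (g : B →ₐ[R] C) :
    (MvPolynomial.mapAlgHom (σ := σ) g).comp (MvPolynomial.mapAlgHom f) =
      MvPolynomial.mapAlgHom (g.comp f) := by
  apply AlgHom.ext
  intro p
  simp only [AlgHom.comp_apply, MvPolynomial.mapAlgHom_apply]
  rw [MvPolynomial.map_map]
  rfl

/-- polynomial rings over a path system form a path system -/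
theorem poly (h : AlgPathSystem R T L γ Tr) (σ : Type*) :
    AlgPathSystem R (fun i => MvPolynomial σ (T i)) (MvPolynomial σ L)
      (fun i => MvPolynomial.mapAlgHom (γ i))
      (fun i j Φ => ∃ φ, Tr i j φ ∧ Φ = MvPolynomial.mapAlgHom φ) where
  comp_eq := by
    rintro i j _ ⟨φ, hφ, rfl⟩
    rw [mapAlgHom_comp', h.comp_eq hφ]
  trans := by
    rintro i j k _ _ ⟨φ, hφ, rfl⟩ ⟨ψ, hψ, rfl⟩
    exact ⟨ψ.comp φ, h.trans hφ hψ, mapAlgHom_comp' σ φ ψ⟩
  dir := fun i j => by
    obtain ⟨k, φ, ψ, hφ, hψ⟩ := h.dir i j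
    exact ⟨k, _, _, ⟨φ, hφ, rfl⟩, ⟨ψ, hψ, rfl⟩⟩
  surj := fun p => by
    induction p using MvPolynomial.induction_on with
    | C a =>
      obtain ⟨i, x, rfl⟩ := h.surj a
      exact ⟨i, C x, by simp⟩
    | add p q hp hq =>
      obtain ⟨i, P, rfl⟩ := hp
      obtain ⟨j, Q, rfl⟩ := hq
      obtain ⟨k, φ, ψ, hφ, hψ⟩ := h.dir i j
      refine ⟨k, MvPolynomial.mapAlgHom φ P + MvPolynomial.mapAlgHom ψ Q, ?_⟩
      rw [map_add, ← AlgHom.comp_apply, ← AlgHom.comp_apply, mapAlgHom_comp', mapAlgHom_comp',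
        h.comp_eq hφ, h.comp_eq hψ]
    | mul_X p n hp =>
      obtain ⟨i, P, rfl⟩ := hp
      exact ⟨i, P * X n, by simp⟩
  ker := fun i P hP => by
    classical
    have hc : ∀ m, γ i (coeff m P) = 0 := fun m => by
      have := congrArg (coeff m) hP
      simpa [MvPolynomial.mapAlgHom_apply, MvPolynomial.coeff_map] using this
    obtain ⟨j, φ, hφ, hj⟩ := h.kill_finset i (P.support.image fun m => coeff m P) (by
      intro y hy
      obtain ⟨m, -, rfl⟩ := Finset.mem_image.mp hy
      exact hc m)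
    refine ⟨j, _, ⟨φ, hφ, rfl⟩, ?_⟩
    ext m
    rw [MvPolynomial.mapAlgHom_apply, MvPolynomial.coeff_map, coeff_zero]
    by_cases hm : m ∈ P.support
    · exact hj _ (Finset.mem_image_of_mem _ hm)
    · rw [MvPolynomial.notMem_support_iff.mp hm]
      exact map_zero _

/-- an ideal of a polynomial ring at a finite stage which becomes the unit ideal in the colimit
already does so at a finite stage -/
theorem exists_stage_map_eq_top (h : AlgPathSystem R T L γ Tr) {σ : Type*} (k : ι)
    (I : Ideal (MvPolynomial σ (T k)))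
    (hI : I.map (MvPolynomial.map (γ k : T k →+* L)) = ⊤) :
    ∃ j φ, Tr k j φ ∧ I.map (MvPolynomial.map (φ : T k →+* T j)) = ⊤ := by
  classical
  have hP := poly h σ
  have h1 : (1 : MvPolynomial σ L) ∈
      Ideal.span ((MvPolynomial.map (γ k : T k →+* L)) '' (I : Set (MvPolynomial σ (T k)))) := by
    have : I.map (MvPolynomial.map (γ k : T k →+* L)) =
        Ideal.span ((MvPolynomial.map (γ k : T k →+* L)) '' (I : Set (MvPolynomial σ (T k)))) := rfl
    rw [← this, hI]
    trivial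
  obtain ⟨m, a, g, hag⟩ := Submodule.mem_span_set'.mp h1
  choose g' hg'I hg' using fun t => (g t).2
  obtain ⟨k₁, _, ⟨φ₁, hφ₁, rfl⟩, hk₁⟩ := hP.lift_finset (Finset.univ.image a) k
  choose! a' ha' using hk₁
  have ha'' : ∀ t, MvPolynomial.mapAlgHom (γ k₁) (a' (a t)) = a t := fun t =>
    ha' _ (Finset.mem_image_of_mem _ (Finset.mem_univ t))
  obtain ⟨j, _, ⟨φ₂, hφ₂, rfl⟩, hj⟩ := hP.kill_finset k₁
    {∑ t, a' (a t) * MvPolynomial.mapAlgHom φ₁ (g' t) - 1} (by
      intro y hy
      rw [Finset.mem_singleton] at hy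
      subst hy
      rw [map_sub, map_sum, map_one, ← hag, sub_eq_zero]
      refine Finset.sum_congr rfl fun t _ => ?_
      rw [map_mul, ha'', ← AlgHom.comp_apply, mapAlgHom_comp', h.comp_eq hφ₁,
        MvPolynomial.mapAlgHom_apply, hg', smul_eq_mul])
  refine ⟨j, φ₂.comp φ₁, h.trans hφ₁ hφ₂, ?_⟩
  rw [Ideal.eq_top_iff_one]
  have h0 := hj _ (Finset.mem_singleton_self _)
  rw [map_sub, map_sum, map_one, sub_eq_zero] at h0
  rw [← h0]
  refine Ideal.sum_mem _ fun t _ => ?_
  rw [map_mul]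
  refine Ideal.mul_mem_left _ _ ?_
  rw [← AlgHom.comp_apply, mapAlgHom_comp', MvPolynomial.mapAlgHom_apply]
  exact Ideal.mem_map_of_mem _ (hg'I t)


/-- finitely many ideal memberships in polynomial rings which hold in the colimit hold at a
finite stage -/
theorem exists_stage_forall_mem_map (h : AlgPathSystem R T L γ Tr) {σ : Type*} {κ : Type*}
    [Fintype κ] (k : ι) (I : κ → Ideal (MvPolynomial σ (T k))) (x : κ → MvPolynomial σ (T k))
    (hx : ∀ t, MvPolynomial.map (γ k : T k →+* L) (x t) ∈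
      (I t).map (MvPolynomial.map (γ k : T k →+* L))) :
    ∃ j φ, Tr k j φ ∧ ∀ t, MvPolynomial.map (φ : T k →+* T j) (x t) ∈
      (I t).map (MvPolynomial.map (φ : T k →+* T j)) := by
  classical
  have hP := poly h σ
  have h1 : ∀ t, MvPolynomial.map (γ k : T k →+* L) (x t) ∈
      Ideal.span ((MvPolynomial.map (γ k : T k →+* L)) '' (I t : Set (MvPolynomial σ (T k)))) :=
    fun t => hx t
  choose m a g hag using fun t => Submodule.mem_span_set'.mp (h1 t)
  choose g' hg'I hg' using fun t (s : Fin (m t)) => (g t s).2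
  obtain ⟨k₁, _, ⟨φ₁, hφ₁, rfl⟩, hk₁⟩ :=
    hP.lift_finset (Finset.univ.biUnion fun t => Finset.univ.image (a t)) k
  choose! a' ha' using hk₁
  have ha'' : ∀ t s, MvPolynomial.mapAlgHom (γ k₁) (a' (a t s)) = a t s := fun t s =>
    ha' _ (Finset.mem_biUnion.mpr ⟨t, Finset.mem_univ t,
      Finset.mem_image_of_mem _ (Finset.mem_univ s)⟩)
  obtain ⟨j, _, ⟨φ₂, hφ₂, rfl⟩, hj⟩ := hP.kill_finset k₁
    (Finset.univ.image fun t => ∑ s, a' (a t s) * MvPolynomial.mapAlgHom φ₁ (g' t s) -
      MvPolynomial.mapAlgHom φ₁ (x t)) (by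
      intro y hy
      obtain ⟨t, -, rfl⟩ := Finset.mem_image.mp hy
      rw [map_sub, map_sum, ← AlgHom.comp_apply, mapAlgHom_comp', h.comp_eq hφ₁,
        MvPolynomial.mapAlgHom_apply, ← hag t, sub_eq_zero]
      refine Finset.sum_congr rfl fun s _ => ?_
      rw [map_mul, ha'', ← AlgHom.comp_apply, mapAlgHom_comp', h.comp_eq hφ₁,
        MvPolynomial.mapAlgHom_apply, hg', smul_eq_mul])
  refine ⟨j, φ₂.comp φ₁, h.trans hφ₁ hφ₂, fun t => ?_⟩
  have h0 := hj _ (Finset.mem_image_of_mem _ (Finset.mem_univ t))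
  rw [map_sub, map_sum, sub_eq_zero, ← AlgHom.comp_apply, mapAlgHom_comp',
    MvPolynomial.mapAlgHom_apply] at h0
  rw [← h0]
  refine Ideal.sum_mem _ fun s _ => ?_
  rw [map_mul]
  refine Ideal.mul_mem_left _ _ ?_
  rw [← AlgHom.comp_apply, mapAlgHom_comp', MvPolynomial.mapAlgHom_apply]
  exact Ideal.mem_map_of_mem _ (hg'I t s)

end Poly

section RelGCI

open Groth.Agent.Lib.Helper82.RelGCIAway Groth.Agent.Lib.Helper82.RelGCIBC
  Groth.Agent.Lib.Helper82.RelGCIDescent

variable {ι : Type*} {R : Type u} [CommRing R] {T : ι → Type u}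
  [∀ i, CommRing (T i)] [∀ i, Algebra R (T i)] {L : Type u} [CommRing L] [Algebra R L]
  {γ : ∀ i, T i →ₐ[R] L} {Tr : ∀ i j, (T i →ₐ[R] T j) → Prop}

/-- a presentation at a finite stage which is a relative global complete intersection in the
colimit is one at a finite stage -/
theorem exists_isRelGCI (h : AlgPathSystem R T L γ Tr) (k : ι) (n c : ℕ)
    (F₁ : Fin c → MvPolynomial (Fin n) (T k))
    (hL : Synt.IsRelGCI L n c (fun i => MvPolynomial.map (γ k : T k →+* L) (F₁ i))) :
    ∃ j φ, Tr k j φ ∧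
      Synt.IsRelGCI (T j) n c (fun i => MvPolynomial.map (φ : T k →+* T j) (F₁ i)) := by
  classical
  by_cases hS : Subsingleton
      (Synt.RelGCIRing L n c (fun i => MvPolynomial.map (γ k : T k →+* L) (F₁ i)))
  · have hI : (Ideal.span (Set.range F₁)).map (MvPolynomial.map (γ k : T k →+* L)) = ⊤ := by
      rw [← span_range_Fm]
      exact Ideal.Quotient.subsingleton_iff.mp hS
    obtain ⟨j, φ, hφ, hIB⟩ := exists_stage_map_eq_top h k _ hI
    refine ⟨j, φ, hφ, isRelGCI_of_subsingleton _ _ _ _ ?_⟩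
    rw [Ideal.Quotient.subsingleton_iff, span_range_Fm]
    exact hIB
  · rw [not_subsingleton_iff_nontrivial] at hS
    obtain ⟨q₀⟩ := (PrimeSpectrum.nonempty_iff_nontrivial).mpr hS
    have hc : c ≤ n := (mem_fibLocus_of_isRelGCI L n c _ hL q₀).1
    have hWopen : IsOpen (fibLocus (T k) (Synt.RelGCIRing (T k) n c F₁) (n - c)) :=
      isOpen_fibLocus _ _ (n - c)
    have hZ : PrimeSpectrum.zeroLocus
        ((PrimeSpectrum.vanishingIdeal (fibLocus (T k) (Synt.RelGCIRing (T k) n c F₁) (n - c))ᶜ :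
          Ideal (Synt.RelGCIRing (T k) n c F₁)) : Set (Synt.RelGCIRing (T k) n c F₁)) =
        (fibLocus (T k) (Synt.RelGCIRing (T k) n c F₁) (n - c))ᶜ := by
      rw [PrimeSpectrum.zeroLocus_vanishingIdeal_eq_closure, hWopen.isClosed_compl.closure_eq]
    set J₁ : Ideal (Synt.RelGCIRing (T k) n c F₁) :=
      PrimeSpectrum.vanishingIdeal (fibLocus (T k) (Synt.RelGCIRing (T k) n c F₁) (n - c))ᶜ
      with hJ₁
    have hJtop : J₁.map (ψ (γ k : T k →+* L) n c F₁) = ⊤ := by
      by_contra hne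
      obtain ⟨M, hM, hle⟩ := Ideal.exists_le_maximal _ hne
      have hq := (mem_fibLocus_of_isRelGCI L n c _ hL ⟨M, hM.isPrime⟩).2
      rw [mem_fibLocus_iff_comap] at hq
      have hqZ : PrimeSpectrum.comap (ψ (γ k : T k →+* L) n c F₁) ⟨M, hM.isPrime⟩ ∈
          PrimeSpectrum.zeroLocus (J₁ : Set (Synt.RelGCIRing (T k) n c F₁)) :=
        Ideal.map_le_iff_le_comap.mp hle
      rw [hZ] at hqZ
      exact hqZ hq
    set I : Ideal (MvPolynomial (Fin n) (T k)) :=
      J₁.comap (Ideal.Quotient.mk (Ideal.span (Set.range F₁))) with hI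
    have hImk : I.map (Ideal.Quotient.mk (Ideal.span (Set.range F₁))) = J₁ :=
      Ideal.map_comap_of_surjective _ Ideal.Quotient.mk_surjective J₁
    have hFI : Ideal.span (Set.range F₁) ≤ I := by
      intro x hx
      rw [hI, Ideal.mem_comap, Ideal.Quotient.eq_zero_iff_mem.mpr hx]
      exact zero_mem _
    have hcomp : ∀ (B' : Type u) [CommRing B'] (ι : T k →+* B'),
        (Ideal.Quotient.mk (Ideal.span (Set.range (fun i => MvPolynomial.map ι (F₁ i))))).comp
          (MvPolynomial.map ι) =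
        (ψ ι n c F₁).comp (Ideal.Quotient.mk (Ideal.span (Set.range F₁))) := by
      intro B' _ ι
      rfl
    have hItop : I.map (MvPolynomial.map (γ k : T k →+* L)) = ⊤ := by
      rw [Ideal.eq_top_iff_one]
      have h1 : (I.map (MvPolynomial.map (γ k : T k →+* L))).map
          (Ideal.Quotient.mk (Ideal.span (Set.range
            (fun i => MvPolynomial.map (γ k : T k →+* L) (F₁ i))))) = ⊤ := by
        rw [Ideal.map_map, hcomp, ← Ideal.map_map, hImk, hJtop]
      have h2 : (1 : Synt.RelGCIRing L n c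
            (fun i => MvPolynomial.map (γ k : T k →+* L) (F₁ i))) ∈
          (I.map (MvPolynomial.map (γ k : T k →+* L))).map
          (Ideal.Quotient.mk (Ideal.span (Set.range
            (fun i => MvPolynomial.map (γ k : T k →+* L) (F₁ i))))) := by
        rw [h1]
        trivial
      rw [Ideal.mem_map_iff_of_surjective _ Ideal.Quotient.mk_surjective] at h2
      obtain ⟨x, hx, hx1⟩ := h2
      have h3 : 1 - x ∈ Ideal.span (Set.range
          (fun i => MvPolynomial.map (γ k : T k →+* L) (F₁ i))) := by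
        rw [← Ideal.Quotient.eq_zero_iff_mem, map_sub, hx1, map_one, sub_self]
      rw [span_range_Fm] at h3
      have h4 : 1 - x ∈ I.map (MvPolynomial.map (γ k : T k →+* L)) := Ideal.map_mono hFI h3
      have : (1 : MvPolynomial (Fin n) L) = x + (1 - x) := by ring
      rw [this]
      exact Ideal.add_mem _ hx h4
    obtain ⟨j, φ, hφ, hIB⟩ := exists_stage_map_eq_top h k I hItop
    refine ⟨j, φ, hφ, isRelGCI_of_forall_mem_fibLocus _ _ _ _ hc ?_⟩
    have hJB : J₁.map (ψ (φ : T k →+* T j) n c F₁) = ⊤ := by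
      rw [← hImk, Ideal.map_map, ← hcomp, ← Ideal.map_map, hIB, Ideal.map_top]
    intro q
    rw [mem_fibLocus_iff_comap]
    by_contra hq
    have hqZ : PrimeSpectrum.comap (ψ (φ : T k →+* T j) n c F₁) q ∈
        PrimeSpectrum.zeroLocus (J₁ : Set (Synt.RelGCIRing (T k) n c F₁)) := by
      rw [hZ]
      exact hq
    have hle : J₁.map (ψ (φ : T k →+* T j) n c F₁) ≤ q.asIdeal :=
      Ideal.map_le_iff_le_comap.mpr hqZ
    rw [hJB] at hle
    exact q.2.ne_top (top_le_iff.mp hle)

end RelGCI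


section Local

open RingTheory.Sequence MvPolynomial Groth.Agent.Lib.Helper82.RelGCIAway
  Groth.Agent.Lib.Helper82.RelGCIFlat Groth.Agent.Lib.Helper82.SyntLocal

variable {R : Type u} [CommRing R] {n m : ℕ} (rel : Fin m → MvPolynomial (Fin n) R)

/-- the relations, base changed to an `R`-algebra -/
noncomputable abbrev relT (T' : Type u) [CommRing T'] [Algebra R T'] :
    Fin m → MvPolynomial (Fin n) T' :=
  fun b => MvPolynomial.map (algebraMap R T') (rel b)

theorem relT_map {T₁ T₂ : Type u} [CommRing T₁] [CommRing T₂] [Algebra R T₁] [Algebra R T₂]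
    (φ : T₁ →ₐ[R] T₂) (b : Fin m) :
    MvPolynomial.map (φ : T₁ →+* T₂) (relT rel T₁ b) = relT rel T₂ b := by
  change MvPolynomial.map (φ : T₁ →+* T₂) (MvPolynomial.map (algebraMap R T₁) (rel b)) =
    MvPolynomial.map (algebraMap R T₂) (rel b)
  rw [MvPolynomial.map_map, φ.comp_algebraMap]

theorem F'_map {R₁ R₂ : Type u} [CommRing R₁] [CommRing R₂] (f : R₁ →+* R₂) (n c : ℕ)
    (F : Fin c → MvPolynomial (Fin n) R₁) (h : MvPolynomial (Fin n) R₁) (i : Fin (c + 1)) :
    MvPolynomial.map f (F' R₁ n c F h i) =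
      F' R₂ n c (fun a => MvPolynomial.map f (F a)) (MvPolynomial.map f h) i := by
  induction i using Fin.lastCases with
  | last =>
    rw [F'_last, F'_last, map_sub, map_mul, map_one, MvPolynomial.map_rename, MvPolynomial.map_X]
  | cast i =>
    rw [F'_castSucc, F'_castSucc, MvPolynomial.map_rename]

/-- local structure data for `T'[x]/(rel)` on the principal open `D(h')` -/
structure LocalOK (T' : Type u) [CommRing T'] [Algebra R T'] (h' : MvPolynomial (Fin n) T')
    (c : ℕ) (F : Fin c → MvPolynomial (Fin n) T') : Prop where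
  mem : ∀ a, F a ∈ Ideal.span (Set.range (relT rel T'))
  mul : ∀ b, h' * relT rel T' b ∈ Ideal.span (Set.range F)
  gci : Synt.IsRelGCI T' (n + 1) (c + 1) (F' T' n c F h')

variable {rel}

theorem LocalOK.map {T₁ T₂ : Type u} [CommRing T₁] [CommRing T₂] [Algebra R T₁] [Algebra R T₂]
    (φ : T₁ →ₐ[R] T₂) {h' : MvPolynomial (Fin n) T₁} {c : ℕ} {F : Fin c → MvPolynomial (Fin n) T₁}
    (H : LocalOK rel T₁ h' c F) :
    LocalOK rel T₂ (MvPolynomial.map (φ : T₁ →+* T₂) h') c
      (fun a => MvPolynomial.map (φ : T₁ →+* T₂) (F a)) where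
  mem := fun a => by
    have h1 := Ideal.mem_map_of_mem (MvPolynomial.map (φ : T₁ →+* T₂)) (H.mem a)
    rw [Ideal.map_span, ← Set.range_comp] at h1
    have : (⇑(MvPolynomial.map (φ : T₁ →+* T₂)) ∘ relT rel T₁) = relT rel T₂ :=
      funext fun b => relT_map rel φ b
    rwa [this] at h1
  mul := fun b => by
    have h1 := Ideal.mem_map_of_mem (MvPolynomial.map (φ : T₁ →+* T₂)) (H.mul b)
    rw [Ideal.map_span, ← Set.range_comp, map_mul, relT_map] at h1
    exact h1
  gci := by
    have h1 := Groth.Agent.Lib.Helper82.RelGCIReg.isRelGCI_baseChange (φ : T₁ →+* T₂) _ H.gci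
    have : (fun i => MvPolynomial.map (φ : T₁ →+* T₂) (F' T₁ n c F h' i)) =
        F' T₂ n c (fun a => MvPolynomial.map (φ : T₁ →+* T₂) (F a))
          (MvPolynomial.map (φ : T₁ →+* T₂) h') := funext fun i => F'_map _ n c F h' i
    rwa [this] at h1

theorem LocalOK.mul_mem {T' : Type u} [CommRing T'] [Algebra R T'] {h' : MvPolynomial (Fin n) T'}
    {c : ℕ} {F : Fin c → MvPolynomial (Fin n) T'} (H : LocalOK rel T' h' c F)
    (a : MvPolynomial (Fin n) T') (ha : a ∈ Ideal.span (Set.range (relT rel T'))) :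
    h' * a ∈ Ideal.span (Set.range F) := by
  refine Submodule.span_induction (p := fun a _ => h' * a ∈ Ideal.span (Set.range F))
    ?_ ?_ ?_ ?_ ha
  · rintro _ ⟨b, rfl⟩
    exact H.mul b
  · rw [mul_zero]
    exact zero_mem _
  · intro x y _ _ hx hy
    rw [mul_add]
    exact Ideal.add_mem _ hx hy
  · intro r x _ hx
    rw [smul_eq_mul, mul_left_comm]
    exact Ideal.mul_mem_left _ _ hx

theorem LocalOK.syntomic {T' : Type u} [CommRing T'] [Algebra R T'] {h' : MvPolynomial (Fin n) T'}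
    {c : ℕ} {F : Fin c → MvPolynomial (Fin n) T'} (H : LocalOK rel T' h' c F) :
    Synt.IsSyntomic T' (Localization.Away
      (Ideal.Quotient.mk (Ideal.span (Set.range (relT rel T'))) h')) := by
  have hJI : Ideal.span (Set.range F) ≤ Ideal.span (Set.range (relT rel T')) :=
    Ideal.span_le.mpr (by rintro _ ⟨i, rfl⟩; exact H.mem i)
  obtain ⟨e₁⟩ := nonempty_algEquiv_away_quotient T' (Ideal.span (Set.range (relT rel T')))
    (Ideal.span (Set.range F)) hJI h' (fun a ha => H.mul_mem a ha)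
  exact isSyntomic_of_algEquiv T' (e₁.trans (awayEquiv T' n c F h')).symm
    (isSyntomic_of_isRelGCI T' (n + 1) (c + 1) _ H.gci)

variable (rel)

/-- local structure of a syntomic quotient of a polynomial ring -/
theorem exists_localOK (L : Type u) [CommRing L] [Algebra R L]
    (hsyn : Synt.IsSyntomic L
      (MvPolynomial (Fin n) L ⧸ Ideal.span (Set.range (relT rel L))))
    (q₀ : Ideal (MvPolynomial (Fin n) L ⧸ Ideal.span (Set.range (relT rel L)))) [q₀.IsPrime] :
    ∃ (h' : MvPolynomial (Fin n) L) (c : ℕ) (F : Fin c → MvPolynomial (Fin n) L),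
      Ideal.Quotient.mk _ h' ∉ q₀ ∧ LocalOK rel L h' c F := by
  have hI : (Ideal.span (Set.range (relT rel L))).FG := Submodule.fg_span (Set.finite_range _)
  obtain ⟨hfl, hfp, hfib⟩ := hsyn
  have hlies : q₀.LiesOver (q₀.under L) := ⟨rfl⟩
  obtain ⟨Q, hQp, hQ⟩ := Groth.Agent.Lib.Helper29.exists_fiber_prime (q₀.under L) q₀
  have hflat : Module.Flat L (Localization.AtPrime q₀) :=
    Module.Flat.trans L (MvPolynomial (Fin n) L ⧸ Ideal.span (Set.range (relT rel L)))
      (Localization.AtPrime q₀)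
  obtain ⟨g, hg, hG⟩ := (hfib ⟨q₀.under L, inferInstance⟩).2 ⟨Q, hQp⟩
  have hCI := Groth.Agent.Lib.Helper82.CIField.isCIOver_of_isGlobalCI_away Q g hg hG
  obtain ⟨eF⟩ := Groth.Agent.Lib.Helper82.FibReg.nonempty_ringEquiv_fibLocRing L
    (MvPolynomial (Fin n) L ⧸ Ideal.span (Set.range (relT rel L))) (q₀.under L) Q q₀ hQ rfl
  obtain ⟨B₀, _, hB₀, _, -, rs₀, -, hreg₀, ⟨e₀⟩⟩ := hCI
  let E : (B₀ ⧸ Ideal.ofList rs₀) ≃+* EGA4.FibLocRing L
      (MvPolynomial (Fin n) L ⧸ Ideal.span (Set.range (relT rel L))) q₀ :=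
    e₀.symm.toRingEquiv.trans eF
  obtain ⟨g, hg, c, F, hF, hgI, hreg⟩ := exists_generators L _ hI q₀
    (isRegularLocalRing_fibLocRing L n _) hflat
    ⟨B₀, inferInstance, hB₀, E.toRingHom.comp (Ideal.Quotient.mk _),
      E.surjective.comp Ideal.Quotient.mk_surjective, rs₀, hreg₀, by
        rw [RingHom.ker_equiv_comp, Ideal.mk_ker]⟩
  obtain ⟨h, hh, hrel, hhI⟩ := Groth.Agent.Lib.Helper82.CotangentProj.exists_relGCI_of_generators'
    L n _ q₀ g hg c F hF hgI hreg
  exact ⟨h, c, F, hh, ⟨hF, fun b => hhI _ (Ideal.subset_span ⟨b, rfl⟩), hrel⟩⟩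

end Local


section Descent

open MvPolynomial

variable {ι : Type*} {R : Type u} [CommRing R] {T : ι → Type u}
  [∀ i, CommRing (T i)] [∀ i, Algebra R (T i)] {L : Type u} [CommRing L] [Algebra R L]
  {γ : ∀ i, T i →ₐ[R] L} {Tr : ∀ i j, (T i →ₐ[R] T j) → Prop}
  {n m : ℕ} (rel : Fin m → MvPolynomial (Fin n) R)

theorem map_span_relT {T₁ T₂ : Type u} [CommRing T₁] [CommRing T₂] [Algebra R T₁] [Algebra R T₂]
    (φ : T₁ →ₐ[R] T₂) :
    (Ideal.span (Set.range (relT rel T₁))).map (MvPolynomial.map (φ : T₁ →+* T₂)) =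
      Ideal.span (Set.range (relT rel T₂)) := by
  rw [Ideal.map_span, ← Set.range_comp]
  have : (⇑(MvPolynomial.map (φ : T₁ →+* T₂)) ∘ relT rel T₁) = relT rel T₂ :=
    funext fun b => relT_map rel φ b
  rw [this]

theorem map_span_range {T₁ T₂ : Type u} [CommRing T₁] [CommRing T₂] (f : T₁ →+* T₂) {σ κ : Type*}
    (F : κ → MvPolynomial σ T₁) :
    (Ideal.span (Set.range F)).map (MvPolynomial.map f) =
      Ideal.span (Set.range fun a => MvPolynomial.map f (F a)) := by
  rw [Ideal.map_span, ← Set.range_comp]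
  rfl

theorem map_map_comp_eq (h : AlgPathSystem R T L γ Tr) {i j : ι} {φ : T i →ₐ[R] T j}
    (hφ : Tr i j φ) {σ : Type*} (x : MvPolynomial σ (T i)) :
    MvPolynomial.map (γ j : T j →+* L) (MvPolynomial.map (φ : T i →+* T j) x) =
      MvPolynomial.map (γ i : T i →+* L) x := by
  rw [MvPolynomial.map_map]
  congr 1
  rw [← h.comp_eq hφ]
  rfl

theorem map_map_comp {i j k : ι} (φ : T i →ₐ[R] T j) (ψ : T j →ₐ[R] T k) {σ : Type*}
    (x : MvPolynomial σ (T i)) :
    MvPolynomial.map (ψ : T j →+* T k) (MvPolynomial.map (φ : T i →+* T j) x) =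
      MvPolynomial.map ((ψ.comp φ : T i →ₐ[R] T k) : T i →+* T k) x := by
  rw [MvPolynomial.map_map]
  rfl

/-- local structure data over the colimit descend to a finite stage -/
theorem exists_stage_localOK (h : AlgPathSystem R T L γ Tr) (i₁ : ι)
    (h' : MvPolynomial (Fin n) L) (c : ℕ) (F : Fin c → MvPolynomial (Fin n) L)
    (H : LocalOK rel L h' c F) :
    ∃ j φ, Tr i₁ j φ ∧ ∃ (hj : MvPolynomial (Fin n) (T j))
      (Fj : Fin c → MvPolynomial (Fin n) (T j)),
      MvPolynomial.map (γ j : T j →+* L) hj = h' ∧ LocalOK rel (T j) hj c Fj := by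
  classical
  have hP := poly h (Fin n)
  obtain ⟨k₁, _, ⟨φ₁, hφ₁, rfl⟩, hk₁⟩ := hP.lift_finset (insert h' (Finset.univ.image F)) i₁
  choose! y hy using hk₁
  have hy1 : MvPolynomial.map (γ k₁ : T k₁ →+* L) (y h') = h' := by
    rw [← MvPolynomial.mapAlgHom_apply]
    exact hy _ (Finset.mem_insert_self _ _)
  have hy2 : ∀ a, MvPolynomial.map (γ k₁ : T k₁ →+* L) (y (F a)) = F a := fun a => by
    rw [← MvPolynomial.mapAlgHom_apply]
    exact hy _ (Finset.mem_insert_of_mem (Finset.mem_image_of_mem _ (Finset.mem_univ a)))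
  -- the ideal memberships
  obtain ⟨k₂, φ₂, hφ₂, hk₂⟩ := exists_stage_forall_mem_map h (κ := Fin c ⊕ Fin m) k₁
    (Sum.elim (fun _ => Ideal.span (Set.range (relT rel (T k₁))))
      (fun _ => Ideal.span (Set.range fun a => y (F a))))
    (Sum.elim (fun a => y (F a)) (fun b => y h' * relT rel (T k₁) b)) (by
      rintro (a | b)
      · change MvPolynomial.map (γ k₁ : T k₁ →+* L) (y (F a)) ∈
          (Ideal.span (Set.range (relT rel (T k₁)))).map (MvPolynomial.map (γ k₁ : T k₁ →+* L))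
        rw [hy2, map_span_relT]
        exact H.mem a
      · change MvPolynomial.map (γ k₁ : T k₁ →+* L) (y h' * relT rel (T k₁) b) ∈
          (Ideal.span (Set.range fun a => y (F a))).map
            (MvPolynomial.map (γ k₁ : T k₁ →+* L))
        rw [map_mul, hy1, relT_map, map_span_range]
        have : (fun a => MvPolynomial.map (γ k₁ : T k₁ →+* L) (y (F a))) = F := funext hy2
        rw [this]
        exact H.mul b)
  have hmem₂ : ∀ a, MvPolynomial.map (φ₂ : T k₁ →+* T k₂) (y (F a)) ∈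
      Ideal.span (Set.range (relT rel (T k₂))) := fun a => by
    have := hk₂ (Sum.inl a)
    change MvPolynomial.map (φ₂ : T k₁ →+* T k₂) (y (F a)) ∈
      (Ideal.span (Set.range (relT rel (T k₁)))).map _ at this
    rwa [map_span_relT] at this
  have hmul₂ : ∀ b, MvPolynomial.map (φ₂ : T k₁ →+* T k₂) (y h') * relT rel (T k₂) b ∈
      Ideal.span (Set.range fun a => MvPolynomial.map (φ₂ : T k₁ →+* T k₂) (y (F a))) :=
    fun b => by
    have := hk₂ (Sum.inr b)
    change MvPolynomial.map (φ₂ : T k₁ →+* T k₂) (y h' * relT rel (T k₁) b) ∈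
      (Ideal.span (Set.range fun a => y (F a))).map _ at this
    rwa [map_mul, relT_map, map_span_range] at this
  -- the relative global complete intersection property
  obtain ⟨j, φ₃, hφ₃, hj⟩ := exists_isRelGCI h k₂ (n + 1) (c + 1)
    (Groth.Agent.Lib.Helper82.RelGCIAway.F' (T k₂) n c
      (fun a => MvPolynomial.map (φ₂ : T k₁ →+* T k₂) (y (F a)))
      (MvPolynomial.map (φ₂ : T k₁ →+* T k₂) (y h'))) (by
      have : (fun i => MvPolynomial.map (γ k₂ : T k₂ →+* L)
          (Groth.Agent.Lib.Helper82.RelGCIAway.F' (T k₂) n c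
            (fun a => MvPolynomial.map (φ₂ : T k₁ →+* T k₂) (y (F a)))
            (MvPolynomial.map (φ₂ : T k₁ →+* T k₂) (y h')) i)) =
          Groth.Agent.Lib.Helper82.RelGCIAway.F' L n c F h' := by
        funext i
        rw [F'_map]
        congr 1
        · funext a
          rw [map_map_comp_eq h hφ₂, hy2]
        · rw [map_map_comp_eq h hφ₂, hy1]
      rw [this]
      exact H.gci)
  refine ⟨j, φ₃.comp (φ₂.comp φ₁), h.trans (h.trans hφ₁ hφ₂) hφ₃,
    MvPolynomial.map (φ₃ : T k₂ →+* T j) (MvPolynomial.map (φ₂ : T k₁ →+* T k₂) (y h')),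
    fun a => MvPolynomial.map (φ₃ : T k₂ →+* T j)
      (MvPolynomial.map (φ₂ : T k₁ →+* T k₂) (y (F a))), ?_, ?_, ?_, ?_⟩
  · rw [map_map_comp_eq h hφ₃, map_map_comp_eq h hφ₂, hy1]
  · intro a
    have := Ideal.mem_map_of_mem (MvPolynomial.map (φ₃ : T k₂ →+* T j)) (hmem₂ a)
    rwa [map_span_relT] at this
  · intro b
    have := Ideal.mem_map_of_mem (MvPolynomial.map (φ₃ : T k₂ →+* T j)) (hmul₂ b)
    rwa [map_mul, relT_map, map_span_range] at this
  · have : (fun i => MvPolynomial.map (φ₃ : T k₂ →+* T j)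
        (Groth.Agent.Lib.Helper82.RelGCIAway.F' (T k₂) n c
          (fun a => MvPolynomial.map (φ₂ : T k₁ →+* T k₂) (y (F a)))
          (MvPolynomial.map (φ₂ : T k₁ →+* T k₂) (y h')) i)) =
        Groth.Agent.Lib.Helper82.RelGCIAway.F' (T j) n c
          (fun a => MvPolynomial.map (φ₃ : T k₂ →+* T j)
            (MvPolynomial.map (φ₂ : T k₁ →+* T k₂) (y (F a))))
          (MvPolynomial.map (φ₃ : T k₂ →+* T j)
            (MvPolynomial.map (φ₂ : T k₁ →+* T k₂) (y h'))) := funext fun i => F'_map _ n c _ _ i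
    rwa [this] at hj


/-- **Syntomic descends from the colimit to a finite stage** (presentation form). -/
theorem exists_syntomic_quot (h : AlgPathSystem R T L γ Tr) (i₀ : ι)
    (hsyn : Synt.IsSyntomic L
      (MvPolynomial (Fin n) L ⧸ Ideal.span (Set.range (relT rel L)))) :
    ∃ j φ, Tr i₀ j φ ∧ Synt.IsSyntomic (T j)
      (MvPolynomial (Fin n) (T j) ⧸ Ideal.span (Set.range (relT rel (T j)))) := by
  classical
  -- finitely many local structure data over the colimit
  set Good : Set (MvPolynomial (Fin n) L ⧸ Ideal.span (Set.range (relT rel L))) :=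
    {g | ∃ (h' : MvPolynomial (Fin n) L) (c : ℕ) (F : Fin c → MvPolynomial (Fin n) L),
      Ideal.Quotient.mk _ h' = g ∧ LocalOK rel L h' c F} with hGood
  have hspan : Ideal.span Good = ⊤ := by
    by_contra hne
    obtain ⟨M, hM, hle⟩ := Ideal.exists_le_maximal _ hne
    haveI : M.IsPrime := hM.isPrime
    obtain ⟨h', c, F, hh', hOK⟩ := exists_localOK rel L hsyn M
    exact hh' (hle (Ideal.subset_span ⟨h', c, F, rfl, hOK⟩))
  obtain ⟨s', hs'G, hs'⟩ := (Ideal.span_eq_top_iff_finite Good).mp hspan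
  choose hh cc FF hmk hOK using fun g : s' => hs'G g.2
  -- descend the data one element at a time
  have hstep : ∀ (A : Finset s') (i₁ : ι), ∃ j φ, Tr i₁ j φ ∧ ∀ g ∈ A,
      ∃ (hj : MvPolynomial (Fin n) (T j)) (Fj : Fin (cc g) → MvPolynomial (Fin n) (T j)),
        MvPolynomial.map (γ j : T j →+* L) hj = hh g ∧ LocalOK rel (T j) hj (cc g) Fj := by
    intro A
    induction A using Finset.induction_on with
    | empty =>
      intro i₁
      obtain ⟨k, φ, -, hφ, -⟩ := h.dir i₁ i₁
      exact ⟨k, φ, hφ, fun g hg => absurd hg (Finset.notMem_empty g)⟩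
    | insert g₀ A _ ih =>
      intro i₁
      obtain ⟨j, φ, hφ, hj⟩ := ih i₁
      obtain ⟨j', ψ, hψ, h₀, F₀, hh₀, hOK₀⟩ :=
        exists_stage_localOK rel h j (hh g₀) (cc g₀) (FF g₀) (hOK g₀)
      refine ⟨j', ψ.comp φ, h.trans hφ hψ, fun g hg => ?_⟩
      rcases Finset.mem_insert.mp hg with rfl | hgA
      · exact ⟨h₀, F₀, hh₀, hOK₀⟩
      · obtain ⟨hg', Fg', hhg', hOKg'⟩ := hj g hgA
        exact ⟨MvPolynomial.map (ψ : T j →+* T j') hg',
          fun a => MvPolynomial.map (ψ : T j →+* T j') (Fg' a),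
          by rw [map_map_comp_eq h hψ, hhg'], hOKg'.map ψ⟩
  obtain ⟨j, φ, hφ, hj⟩ := hstep Finset.univ i₀
  choose Hj FFj hHj hOKj using fun g : s' => hj g (Finset.mem_univ g)
  -- the cover
  have hker : RingHom.ker (Ideal.Quotient.mk (Ideal.span (Set.range (relT rel L)))) =
      Ideal.span (Set.range (relT rel L)) := Ideal.mk_ker
  have hcoverL : Ideal.span (Set.range hh) ⊔ Ideal.span (Set.range (relT rel L)) = ⊤ := by
    have h1 : (Ideal.span (Set.range hh)).map
        (Ideal.Quotient.mk (Ideal.span (Set.range (relT rel L)))) = ⊤ := by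
      rw [Ideal.map_span, ← Set.range_comp, ← hs']
      congr 1
      ext g
      constructor
      · rintro ⟨g', rfl⟩
        rw [Function.comp_apply, hmk]
        exact g'.2
      · intro hg
        exact ⟨⟨g, hg⟩, hmk ⟨g, hg⟩⟩
    have h2 := Ideal.comap_map_of_surjective' (Ideal.Quotient.mk
      (Ideal.span (Set.range (relT rel L)))) Ideal.Quotient.mk_surjective
      (Ideal.span (Set.range hh))
    rw [h1, Ideal.comap_top, hker] at h2
    exact h2.symm
  obtain ⟨j', ψ, hψ, hcover⟩ := exists_stage_map_eq_top h j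
    (Ideal.span (Set.range Hj) ⊔ Ideal.span (Set.range (relT rel (T j)))) (by
      rw [Ideal.map_sup, map_span_relT, map_span_range]
      have : (fun g => MvPolynomial.map (γ j : T j →+* L) (Hj g)) = hh := funext hHj
      rw [this]
      exact hcoverL)
  rw [Ideal.map_sup, map_span_relT, map_span_range] at hcover
  refine ⟨j', ψ.comp φ, h.trans hφ hψ, ?_⟩
  -- glue
  refine Groth.Agent.S9146.result (T j')
    (MvPolynomial (Fin n) (T j') ⧸ Ideal.span (Set.range (relT rel (T j'))))
    (Finset.univ.image fun g : s' => Ideal.Quotient.mk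
      (Ideal.span (Set.range (relT rel (T j')))) (MvPolynomial.map (ψ : T j →+* T j') (Hj g)))
    ?_ ?_
  · rw [Finset.coe_image, Finset.coe_univ, Set.image_univ]
    have h1 := congrArg (Ideal.map (Ideal.Quotient.mk
      (Ideal.span (Set.range (relT rel (T j')))))) hcover
    rw [Ideal.map_sup, Ideal.map_top, Ideal.map_span, ← Set.range_comp] at h1
    have h2 : (Ideal.span (Set.range (relT rel (T j')))).map (Ideal.Quotient.mk
        (Ideal.span (Set.range (relT rel (T j'))))) = ⊥ := by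
      rw [Ideal.map_eq_bot_iff_le_ker, Ideal.mk_ker]
    rw [h2, sup_bot_eq] at h1
    exact h1
  · intro g hg
    obtain ⟨g', -, rfl⟩ := Finset.mem_image.mp hg
    exact ((hOKj g').map ψ).syntomic

end Descent

section Wrapper

open TensorProduct

/-- the quotient of the polynomial ring by the relations of a presentation is the algebra -/
noncomputable def quotEquiv {T' B : Type u} [CommRing T'] [CommRing B] [Algebra T' B] {n m : ℕ}
    (Q : Algebra.Presentation T' B (Fin n) (Fin m)) :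
    (MvPolynomial (Fin n) T' ⧸ Ideal.span (Set.range Q.relation)) ≃ₐ[T'] B := by
  let φ : MvPolynomial (Fin n) T' →ₐ[T'] B := aeval Q.val
  have hφ : Function.Surjective φ := Q.toGenerators.aeval_val_surjective
  have hker : RingHom.ker φ = Ideal.span (Set.range Q.relation) := by
    rw [Q.span_range_relation_eq_ker, Algebra.Generators.ker_eq_ker_aeval_val]
  exact (Ideal.quotientEquivAlgOfEq T' hker.symm).trans (Ideal.quotientKerAlgEquivOfSurjective hφ)

variable {ι : Type*} {R : Type u} [CommRing R] {T : ι → Type u}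
  [∀ i, CommRing (T i)] [∀ i, Algebra R (T i)] {L : Type u} [CommRing L] [Algebra R L]
  {γ : ∀ i, T i →ₐ[R] L} {Tr : ∀ i j, (T i →ₐ[R] T j) → Prop}

/-- **Syntomic descends from the colimit to a finite stage** (tensor form). -/
theorem exists_syntomic (h : AlgPathSystem R T L γ Tr) (i₀ : ι)
    (C : Type u) [CommRing C] [Algebra R C] [Algebra.FinitePresentation R C]
    (hsyn : Synt.IsSyntomic L (L ⊗[R] C)) :
    ∃ j, Synt.IsSyntomic (T j) (T j ⊗[R] C) := by
  let P := Algebra.Presentation.ofFinitePresentation R C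
  have e : ∀ (T' : Type u) [CommRing T'] [Algebra R T'],
      (MvPolynomial (Fin (Algebra.Presentation.ofFinitePresentationVars R C)) T' ⧸
        Ideal.span (Set.range (relT P.relation T'))) ≃ₐ[T'] (T' ⊗[R] C) :=
    fun T' _ _ => quotEquiv (P.baseChange T')
  have h1 := Groth.Agent.Lib.Helper82.SyntLocal.isSyntomic_of_algEquiv L (e L).symm hsyn
  obtain ⟨j, φ, -, hj⟩ := exists_syntomic_quot P.relation h i₀ h1
  exact ⟨j, Groth.Agent.Lib.Helper82.SyntLocal.isSyntomic_of_algEquiv (T j) (e (T j)) hj⟩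

end Wrapper

end Groth.Agent.Lib.Helper82.SyntLimit
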