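import Mathlib
import Groth.Agent.H46.LimSmooth
import Groth.Agent.H46.SyntMor
import Groth.Agent.Lib.Helper10.SyntBC
import Groth.Agent.Lib.Helper82.SyntLimit

set_option autoImplicit false
universe u

open CategoryTheory Limits AlgebraicGeometry TensorProduct

namespace Groth.Agent.Lib.Helper82.SyntLimitMor

open Groth.Agent.Lib.Helper13.LimDescent Groth.Agent.Lib.Helper48 Groth.Agent.H46.LimSmooth
  Groth.Agent.H46.SyntMor Groth.Agent.H46.SyntLocality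

variable {J : Type u} [SmallCategory J] (E : J ⥤ Scheme.{u}) (cE : Cone E) (j₀ : J)
  {X₀ : Scheme.{u}} (f₀ : X₀ ⟶ E.obj j₀)

attribute [local instance] algT algL

set_option backward.isDefEq.respectTransparency false in
/-- **Descent of syntomic morphisms**, all-affine case. -/
theorem exists_syntomic_pullback_fst_of_isAffine [IsCofiltered J] (hcE : IsLimit cE)
    [∀ j, IsAffine (E.obj j)] [IsAffine X₀] [LocallyOfFinitePresentation f₀]
    (h : P (pullback.fst (cE.π.app j₀) f₀)) :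
    ∃ k : Over j₀, P (pullback.fst (E.map k.hom) f₀) := by
  have hpt : IsAffine cE.pt := Scheme.isAffine_of_isLimit cE hcE
  have hpt' : IsAffine (((Functor.const J).obj cE.pt).obj j₀) := hpt
  let _ : Algebra Γ(E.obj j₀, ⊤) Γ(X₀, ⊤) := f₀.appTop.hom.toAlgebra
  have hfp : Algebra.FinitePresentation Γ(E.obj j₀, ⊤) Γ(X₀, ⊤) :=
    RingHom.finitePresentation_algebraMap.mp
      ((HasRingHomProperty.iff_of_isAffine (P := @LocallyOfFinitePresentation)).mp ‹_›)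
  have hL : Synt.IsSyntomic Γ(cE.pt, ⊤) (Γ(cE.pt, ⊤) ⊗[Γ(E.obj j₀, ⊤)] Γ(X₀, ⊤)) :=
    isSyntomic_congr (R := Γ(cE.pt, ⊤)) (S := Γ(cE.pt, ⊤) ⊗[Γ(E.obj j₀, ⊤)] Γ(X₀, ⊤))
      (algebraMap Γ(cE.pt, ⊤) (Γ(cE.pt, ⊤) ⊗[Γ(E.obj j₀, ⊤)] Γ(X₀, ⊤))).toAlgebra
      Algebra.TensorProduct.leftAlgebra (fun r => rfl)
      ((prop_pullback_fst_iff P @Q (cE.π.app j₀) f₀).mp h)
  obtain ⟨i, hi⟩ := Groth.Agent.Lib.Helper82.SyntLimit.exists_syntomic
    (algPathSystem E cE j₀ hcE) (top j₀) Γ(X₀, ⊤) hL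
  refine ⟨i, ?_⟩
  exact (prop_pullback_fst_iff P @Q (E.map i.hom) f₀).mpr
    (isSyntomic_congr (R := Γ(E.obj i.left, ⊤)) (S := Γ(E.obj i.left, ⊤) ⊗[Γ(E.obj j₀, ⊤)] Γ(X₀, ⊤))
      Algebra.TensorProduct.leftAlgebra
      (algebraMap Γ(E.obj i.left, ⊤) (Γ(E.obj i.left, ⊤) ⊗[Γ(E.obj j₀, ⊤)] Γ(X₀, ⊤))).toAlgebra
      (fun r => rfl) hi)

set_option backward.isDefEq.respectTransparency false in
/-- **Descent of syntomic morphisms** (locally of finite presentation). -/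
theorem exists_syntomic_pullback_fst [hE : ∀ {i j : J} (f : i ⟶ j), IsAffineHom (E.map f)]
    [IsCofiltered J] (hcE : IsLimit cE) [CompactSpace (E.obj j₀)]
    [QuasiSeparatedSpace (E.obj j₀)] [CompactSpace X₀] [LocallyOfFinitePresentation f₀]
    (h : P (pullback.fst (cE.π.app j₀) f₀)) :
    ∃ k : Over j₀, P (pullback.fst (E.map k.hom) f₀) :=
  exists_pullback_fst_of_affine_case E cE j₀ f₀ P
    (fun E' cE' j₀' _ f₀' hcE' => exists_syntomic_pullback_fst_of_isAffine E' cE' j₀' f₀' hcE') hcE h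

set_option backward.isDefEq.respectTransparency false in
/-- **Descent of syntomic morphisms** in the two-step pullback form. -/
theorem exists_isSyntomicMor_descend {I : Type u} [SmallCategory I] [IsCofiltered I]
    (D : I ⥤ Scheme.{u}) (c : Limits.Cone D) (hc : Limits.IsLimit c)
    [∀ (i j : I) (f : i ⟶ j), IsAffineHom (D.map f)] (i₀ : I) [CompactSpace (D.obj i₀)]
    [QuasiSeparatedSpace (D.obj i₀)] {X₀ Y₀ : Scheme.{u}} (f₀ : X₀ ⟶ Y₀) (g₀ : Y₀ ⟶ D.obj i₀)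
    [CompactSpace X₀] [QuasiSeparatedSpace X₀] [CompactSpace Y₀] [QuasiSeparatedSpace Y₀]
    [LocallyOfFinitePresentation f₀]
    {X Y : Scheme.{u}} (f : X ⟶ Y) (g : Y ⟶ c.pt) (qY : Y ⟶ Y₀) (qX : X ⟶ X₀)
    (hY : IsPullback qY g g₀ (c.π.app i₀)) (hX : IsPullback qX f f₀ qY)
    (hf : Synt.IsSyntomicMor f) :
    ∃ (i : I) (φ : i ⟶ i₀) (Xi Yi : Scheme.{u}) (fi : Xi ⟶ Yi) (gi : Yi ⟶ D.obj i) (pY : Yi ⟶ Y₀)
      (pX : Xi ⟶ X₀), IsPullback pY gi g₀ (D.map φ) ∧ IsPullback pX fi f₀ pY ∧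
        Synt.IsSyntomicMor fi := by
  have inst : ∀ {i j : I} (f : i ⟶ j), IsAffineHom (D.map f) := fun f => inferInstance
  have hf' := (isSyntomicMor_iff f).mp hf
  obtain ⟨i, φ, Xi, Yi, fi, gi, pY, pX, h1, h2, h3⟩ :=
    twoStep D c i₀ f₀ g₀ f g qY qX hY hX P hf' (by
      intro f₀' hf₀' hP
      have : LocallyOfFinitePresentation f₀' := by
        rw [hf₀']
        exact (liftTop_prop_iff D i₀ f₀ g₀ @LocallyOfFinitePresentation).mpr inferInstance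
      exact exists_syntomic_pullback_fst (sys D i₀ g₀) (sysCone D c i₀ g₀) (top i₀) f₀'
        (isLimitSysCone D c i₀ g₀ hc) hP)
  exact ⟨i, φ, Xi, Yi, fi, gi, pY, pX, h1, h2, (isSyntomicMor_iff fi).mpr h3⟩


end Groth.Agent.Lib.Helper82.SyntLimitMor
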