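import Mathlib

/-!
# Torsionless modules over finite reduced algebras over a domain

For a domain `Λ` and a finite reduced `Λ`-algebra `A`, a finitely generated `A`-module which is
`Λ`-torsion-free is torsionless (`M → M**` is injective): localizing at `Λ ∖ {0}` makes `A`
semisimple.
-/

set_option autoImplicit false
universe u
open nonZeroDivisors

namespace Groth.Agent.Lib.Helper82.TorsionlessPID

variable (Λ : Type u) [CommRing Λ] [IsDomain Λ]
  (A : Type u) [CommRing A] [Algebra Λ A] [Module.Finite Λ A] [IsReduced A]

/-- The localization of a finite reduced `Λ`-algebra at the nonzero elements of `Λ` is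
semisimple. -/
lemma isSemisimpleRing_localization :
    IsSemisimpleRing (Localization (Algebra.algebraMapSubmonoid A Λ⁰)) := by
  have : IsArtinianRing (Localization (Algebra.algebraMapSubmonoid A Λ⁰)) :=
    IsArtinianRing.of_finite (FractionRing Λ) _
  exact IsArtinianRing.isSemisimpleRing_of_isReduced _

variable {Λ A}
variable (M : Type u) [AddCommGroup M] [Module A M] [Module Λ M] [IsScalarTower Λ A M]
  [Module.Finite A M]

theorem eval_injective_of_torsionFree [IsNoetherianRing A]
    (htf : ∀ (c : Λ) (x : M), c ≠ 0 → c • x = 0 → x = 0) :
    Function.Injective (Module.Dual.eval A M) := by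
  let W := Algebra.algebraMapSubmonoid A Λ⁰
  have hfp : Module.FinitePresentation A M := Module.finitePresentation_of_finite A M
  have hss : IsSemisimpleRing (Localization W) := isSemisimpleRing_localization Λ A
  have hproj : Module.Projective (Localization W) (LocalizedModule W M) :=
    Module.projective_of_isSemisimpleRing _ _
  have hinj' : Function.Injective
      (Module.Dual.eval (Localization W) (LocalizedModule W M)) :=
    (Module.bijective_dual_eval _ _).1
  rw [injective_iff_map_eq_zero]
  intro x hx
  have hι : LocalizedModule.mkLinearMap W M x = 0 := by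
    apply hinj'
    rw [map_zero]
    ext ψ
    rw [Module.Dual.eval_apply, LinearMap.zero_apply]
    let g : M →ₗ[A] Localization W := (ψ.restrictScalars A) ∘ₗ LocalizedModule.mkLinearMap W M
    obtain ⟨h, s, hs⟩ := Module.FinitePresentation.exists_lift_of_isLocalizedModule W
      (Algebra.linearMap A (Localization W)) g
    have h0 : h x = 0 := by
      have := congrArg (fun e => e h) hx
      simpa using this
    have h1 := congrArg (fun e => e x) hs
    simp only [LinearMap.comp_apply, h0, map_zero, LinearMap.smul_apply] at h1
    have h2 : (s : A) • g x = 0 := h1.symm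
    have h3 : algebraMap A (Localization W) s * g x = 0 := by
      rw [← h2, Algebra.smul_def]
    have hu : IsUnit (algebraMap A (Localization W) s) := IsLocalization.map_units _ s
    exact (hu.mul_right_eq_zero).mp h3
  obtain ⟨w, hw⟩ := (IsLocalizedModule.eq_zero_iff W (LocalizedModule.mkLinearMap W M)).mp hι
  obtain ⟨c, hc, hcw⟩ := w.2
  have hc0 : c ≠ 0 := nonZeroDivisors.ne_zero hc
  apply htf c x hc0
  rw [← algebraMap_smul A c x, hcw]
  exact hw

end Groth.Agent.Lib.Helper82.TorsionlessPID
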