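import Mathlib
import Groth.Prelude.Def_NonAbH1

/-!
# Gluing equivariant isomorphisms of torsors from a common Čech cocycle (helper82)
-/

set_option autoImplicit false
universe w' w v u

open CategoryTheory Opposite NonAbH1

namespace Groth.Agent.Lib.Helper82

namespace TorsorGlue

variable {C : Type u} [Category.{v} C] {J : GrothendieckTopology C} {G : Sheaf J GrpCat.{w}}
  {I : Type w'} {U : I → C}

lemma map_map (F : Cᵒᵖ ⥤ Type w) {T T' V : C} (φ : T ⟶ T') (b : T' ⟶ V) (x : F.obj (op V)) :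
    F.map φ.op (F.map b.op x) = F.map (φ ≫ b).op x := by
  simp

/-- The local relation: `x` and `y` have the same coordinates w.r.t. `s` and `t`. -/
def TRel (P Q : GSheaf G) (s : ∀ i, P.P.obj.obj (op (U i))) (t : ∀ i, Q.P.obj.obj (op (U i)))
    (W : C) (x : P.P.obj.obj (op W)) (y : Q.P.obj.obj (op W)) : Prop :=
  ∃ (i : I) (a : W ⟶ U i) (h : G.obj.obj (op W)),
    P.smul h (P.P.obj.map a.op (s i)) = x ∧ Q.smul h (Q.P.obj.map a.op (t i)) = y

variable {P Q : GSheaf G} {s : ∀ i, P.P.obj.obj (op (U i))} {t : ∀ i, Q.P.obj.obj (op (U i))}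

lemma TRel.symm {W : C} {x : P.P.obj.obj (op W)} {y : Q.P.obj.obj (op W)}
    (h : TRel P Q s t W x y) : TRel Q P t s W y x := by
  obtain ⟨i, a, g, h1, h2⟩ := h
  exact ⟨i, a, g, h2, h1⟩

lemma TRel.map {W W' : C} {x : P.P.obj.obj (op W)} {y : Q.P.obj.obj (op W)}
    (h : TRel P Q s t W x y) (k : W' ⟶ W) :
    TRel P Q s t W' (P.P.obj.map k.op x) (Q.P.obj.map k.op y) := by
  obtain ⟨i, a, g, rfl, rfl⟩ := h
  refine ⟨i, k ≫ a, G.obj.map k.op g, ?_, ?_⟩
  · rw [P.map_smul, map_map]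
  · rw [Q.map_smul, map_map]

lemma TRel.smul {W : C} {x : P.P.obj.obj (op W)} {y : Q.P.obj.obj (op W)}
    (h : TRel P Q s t W x y) (g : G.obj.obj (op W)) :
    TRel P Q s t W (P.smul g x) (Q.smul g y) := by
  obtain ⟨i, a, g', rfl, rfl⟩ := h
  exact ⟨i, a, g * g', P.mul_smul _ _ _, Q.mul_smul _ _ _⟩

lemma TRel.unique (hP : P.IsPseudoTorsor) {γ : PresheafOfGroups.OneCocycle G.obj U}
    (hs : P.IsCocycleOf U s γ) (ht : Q.IsCocycleOf U t γ)
    {W : C} {x : P.P.obj.obj (op W)} {y y' : Q.P.obj.obj (op W)}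
    (h : TRel P Q s t W x y) (h' : TRel P Q s t W x y') : y = y' := by
  obtain ⟨i, a, g, h1, rfl⟩ := h
  obtain ⟨j, b, g', h1', rfl⟩ := h'
  have e : g * γ.ev i j a b = g' := by
    refine (hP (op W) (P.P.obj.map b.op (s j)) x).unique ?_ h1'
    rw [P.mul_smul, hs i j a b, h1]
  rw [← e, Q.mul_smul, ht i j a b]

lemma TRel.total (hP : P.IsPseudoTorsor) {W : C} (i : I) (a : W ⟶ U i) (x : P.P.obj.obj (op W)) :
    ∃ y, TRel P Q s t W x y := by
  obtain ⟨g, hg⟩ := (hP (op W) (P.P.obj.map a.op (s i)) x).exists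
  exact ⟨_, i, a, g, hg, rfl⟩

/-- The global relation. -/
def GRel (P Q : GSheaf G) (s : ∀ i, P.P.obj.obj (op (U i))) (t : ∀ i, Q.P.obj.obj (op (U i)))
    (V : C) (p : P.P.obj.obj (op V)) (y : Q.P.obj.obj (op V)) : Prop :=
  ∀ ⦃W : C⦄ (g : W ⟶ V), (Sieve.ofObjects U V).arrows g →
    TRel P Q s t W (P.P.obj.map g.op p) (Q.P.obj.map g.op y)

lemma GRel.symm {V : C} {p : P.P.obj.obj (op V)} {y : Q.P.obj.obj (op V)}
    (h : GRel P Q s t V p y) : GRel Q P t s V y p :=
  fun _ g hg => (h g hg).symm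

lemma GRel.map {V V' : C} {p : P.P.obj.obj (op V)} {y : Q.P.obj.obj (op V)}
    (h : GRel P Q s t V p y) (k : V' ⟶ V) :
    GRel P Q s t V' (P.P.obj.map k.op p) (Q.P.obj.map k.op y) := by
  intro W g hg
  rw [map_map, map_map]
  exact h (g ≫ k) hg

lemma GRel.smul {V : C} {p : P.P.obj.obj (op V)} {y : Q.P.obj.obj (op V)}
    (h : GRel P Q s t V p y) (g : G.obj.obj (op V)) :
    GRel P Q s t V (P.smul g p) (Q.smul g y) := by
  intro W k hk
  rw [P.map_smul, Q.map_smul]
  exact (h k hk).smul _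

lemma GRel.existsUnique (hP : P.IsPseudoTorsor) {γ : PresheafOfGroups.OneCocycle G.obj U}
    (hs : P.IsCocycleOf U s γ) (ht : Q.IsCocycleOf U t γ) (hU : J.CoversTop U)
    (V : C) (p : P.P.obj.obj (op V)) : ∃! y, GRel P Q s t V p y := by
  have hQ : Presieve.IsSheaf J Q.P.obj := (isSheaf_iff_isSheaf_of_type J Q.P.obj).1 Q.P.property
  have hsh := hQ _ (hU V)
  have hex : ∀ ⦃W : C⦄ (g : W ⟶ V), (Sieve.ofObjects U V).arrows g →
      ∃ y, TRel P Q s t W (P.P.obj.map g.op p) y := by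
    rintro W g ⟨i, ⟨a⟩⟩
    exact TRel.total hP i a _
  let x : Presieve.FamilyOfElements Q.P.obj (Sieve.ofObjects U V).arrows :=
    fun W g hg => (hex g hg).choose
  have hx : ∀ ⦃W : C⦄ (g : W ⟶ V) (hg : (Sieve.ofObjects U V).arrows g),
      TRel P Q s t W (P.P.obj.map g.op p) (x g hg) := fun W g hg => (hex g hg).choose_spec
  have hcomp : x.Compatible := by
    rw [Presieve.compatible_iff_sieveCompatible]
    intro Y Z f g hf
    have h1 := (hx f hf).map g
    rw [map_map] at h1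
    exact TRel.unique hP hs ht (hx (g ≫ f) ((Sieve.ofObjects U V).downward_closed hf g)) h1
  obtain ⟨y, hy, hyu⟩ := hsh x hcomp
  refine ⟨y, ?_, ?_⟩
  · intro W g hg
    rw [hy g hg]
    exact hx g hg
  · intro y' hy'
    apply hyu
    intro W g hg
    exact TRel.unique hP hs ht (hy' g hg) (hx g hg)

/-- The underlying map on sections. -/
noncomputable def app (hP : P.IsPseudoTorsor) {γ : PresheafOfGroups.OneCocycle G.obj U}
    (hs : P.IsCocycleOf U s γ) (ht : Q.IsCocycleOf U t γ) (hU : J.CoversTop U)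
    (V : Cᵒᵖ) (p : P.P.obj.obj V) : Q.P.obj.obj V :=
  (GRel.existsUnique hP hs ht hU V.unop p).exists.choose

lemma app_spec (hP : P.IsPseudoTorsor) {γ : PresheafOfGroups.OneCocycle G.obj U}
    (hs : P.IsCocycleOf U s γ) (ht : Q.IsCocycleOf U t γ) (hU : J.CoversTop U)
    (V : Cᵒᵖ) (p : P.P.obj.obj V) : GRel P Q s t V.unop p (app hP hs ht hU V p) :=
  (GRel.existsUnique hP hs ht hU V.unop p).exists.choose_spec

lemma app_eq (hP : P.IsPseudoTorsor) {γ : PresheafOfGroups.OneCocycle G.obj U}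
    (hs : P.IsCocycleOf U s γ) (ht : Q.IsCocycleOf U t γ) (hU : J.CoversTop U)
    (V : Cᵒᵖ) (p : P.P.obj.obj V) (y : Q.P.obj.obj V) (hy : GRel P Q s t V.unop p y) :
    app hP hs ht hU V p = y :=
  (GRel.existsUnique hP hs ht hU V.unop p).unique (app_spec hP hs ht hU V p) hy

/-- The equivariant morphism determined by sections with a common cocycle. -/
noncomputable def homOf (hP : P.IsPseudoTorsor) {γ : PresheafOfGroups.OneCocycle G.obj U}
    (hs : P.IsCocycleOf U s γ) (ht : Q.IsCocycleOf U t γ) (hU : J.CoversTop U) : P ⟶ Q where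
  hom := ⟨{ app := fun V => TypeCat.ofHom (app hP hs ht hU V)
            naturality := by
              intro V V' f
              ext p
              exact app_eq hP hs ht hU V' _ _ ((app_spec hP hs ht hU V p).map f.unop) }⟩
  map_smul := by
    intro V g p
    exact app_eq hP hs ht hU V _ _ ((app_spec hP hs ht hU V p).smul g)

lemma homOf_app (hP : P.IsPseudoTorsor) {γ : PresheafOfGroups.OneCocycle G.obj U}
    (hs : P.IsCocycleOf U s γ) (ht : Q.IsCocycleOf U t γ) (hU : J.CoversTop U)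
    (V : Cᵒᵖ) (p : P.P.obj.obj V) :
    (homOf hP hs ht hU).hom.hom.app V p = app hP hs ht hU V p := rfl

lemma homOf_comp (hP : P.IsPseudoTorsor) (hQ : Q.IsPseudoTorsor)
    {γ : PresheafOfGroups.OneCocycle G.obj U}
    (hs : P.IsCocycleOf U s γ) (ht : Q.IsCocycleOf U t γ) (hU : J.CoversTop U) :
    homOf hP hs ht hU ≫ homOf hQ ht hs hU = 𝟙 P := by
  apply GSheaf.hom_ext
  apply Sheaf.hom_ext
  ext V p
  change app hQ ht hs hU V (app hP hs ht hU V p) = p
  exact app_eq hQ ht hs hU V _ _ (app_spec hP hs ht hU V p).symm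

/-- Two pseudo-torsors with sections cutting out the same cocycle on a family covering the
site are equivariantly isomorphic. -/
noncomputable def isoOf (hP : P.IsPseudoTorsor) (hQ : Q.IsPseudoTorsor)
    {γ : PresheafOfGroups.OneCocycle G.obj U}
    (hs : P.IsCocycleOf U s γ) (ht : Q.IsCocycleOf U t γ) (hU : J.CoversTop U) : P ≅ Q where
  hom := homOf hP hs ht hU
  inv := homOf hQ ht hs hU
  hom_inv_id := homOf_comp hP hQ hs ht hU
  inv_hom_id := homOf_comp hQ hP ht hs hU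

/-- Changing the sections by a zero-cochain changes the cocycle to a cohomologous one. -/
lemma isCocycleOf_smul {γ γ' : PresheafOfGroups.OneCocycle G.obj U}
    (ht : Q.IsCocycleOf U t γ') (α : PresheafOfGroups.ZeroCochain G.obj U)
    (hα : PresheafOfGroups.OneCohomologyRelation γ'.toOneCochain γ.toOneCochain α) :
    Q.IsCocycleOf U (fun i => Q.smul (α i) (t i)) γ := by
  intro i j T a b
  rw [Q.map_smul, Q.map_smul, ← Q.mul_smul, ← hα i j a b, Q.mul_smul, ht i j a b]

theorem nonempty_iso_of_hasCechClass (hP : P.IsPseudoTorsor) (hQ : Q.IsPseudoTorsor)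
    (hU : J.CoversTop U) (c : PresheafOfGroups.H1 G.obj U)
    (hPc : P.HasCechClass U c) (hQc : Q.HasCechClass U c) : Nonempty (P ≅ Q) := by
  obtain ⟨s, γ, hs, hγ⟩ := hPc
  obtain ⟨t, γ', ht, hγ'⟩ := hQc
  obtain ⟨α, hα⟩ := (PresheafOfGroups.OneCocycle.class_eq_iff γ' γ).1 (hγ'.trans hγ.symm)
  exact ⟨isoOf hP hQ hs (isCocycleOf_smul ht α hα) hU⟩

end TorsorGlue

end Groth.Agent.Lib.Helper82
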