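import Mathlib
import Groth.Prelude.Def_NonAbH1

/-!
# The torsor attached to a Čech 1-cocycle of a sheaf of groups (helper82)
-/

set_option autoImplicit false
universe w' w v u

open CategoryTheory Opposite NonAbH1

namespace Groth.Agent.Lib.Helper82

namespace TorsorOfCocycle

variable {C : Type u} [Category.{v} C] {J : GrothendieckTopology C} (G : Sheaf J GrpCat.{w})
  {I : Type w'} {U : I → C}

lemma hasSheafCompose_forget : J.HasSheafCompose (forget GrpCat.{w}) := by
  have : Limits.PreservesLimitsOfSize.{v, max u v} (forget GrpCat.{w}) :=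
    GrpCat.adj.rightAdjoint_preservesLimits
  infer_instance

lemma isSheaf_forget : Presieve.IsSheaf J (G.obj ⋙ forget GrpCat.{w}) :=
  (isSheaf_iff_isSheaf_of_type _ _).1
    ((hasSheafCompose_forget (J := J)).isSheaf _ G.property)

lemma Gmap_comp {T T' V : C} (φ : T ⟶ T') (b : T' ⟶ V) (x : G.obj.obj (op V)) :
    G.obj.map φ.op (G.obj.map b.op x) = G.obj.map (φ ≫ b).op x := by
  simp

lemma G_ext {V : C} (S : Sieve V) (hS : S ∈ J V) (h h' : G.obj.obj (op V))
    (e : ∀ ⦃W : C⦄ (g : W ⟶ V), S g → G.obj.map g.op h = G.obj.map g.op h') : h = h' :=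
  ((isSheaf_forget G).isSeparated S hS).ext (fun _ g hg => e g hg)

lemma G_glue {V : C} (S : Sieve V) (hS : S ∈ J V)
    (x : ∀ ⦃W : C⦄ (g : W ⟶ V), S g → G.obj.obj (op W))
    (hx : ∀ ⦃W W' : C⦄ (g : W ⟶ V) (hg : S g) (k : W' ⟶ W),
      G.obj.map k.op (x g hg) = x (k ≫ g) (S.downward_closed hg k)) :
    ∃ h : G.obj.obj (op V), ∀ ⦃W : C⦄ (g : W ⟶ V) (hg : S g), G.obj.map g.op h = x g hg := by
  let y : Presieve.FamilyOfElements (G.obj ⋙ forget GrpCat.{w}) S.arrows := fun W g hg => x g hg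
  have hy : y.Compatible := by
    rw [Presieve.compatible_iff_sieveCompatible]
    intro Y Z f g hf
    exact (hx f hf g).symm
  obtain ⟨h, hh, -⟩ := (isSheaf_forget G) S hS y hy
  exact ⟨h, fun W g hg => hh g hg⟩

variable {G}

/-- Sections over `V` of the torsor attached to the cocycle `γ` (in a large universe). -/
@[ext]
structure PB (γ : PresheafOfGroups.OneCocycle G.obj U) (V : C) where
  val : ∀ ⦃W : C⦄ (_ : W ⟶ V) (i : I) (_ : W ⟶ U i), G.obj.obj (op W)
  nat : ∀ ⦃W W' : C⦄ (k : W' ⟶ W) (g : W ⟶ V) (i : I) (a : W ⟶ U i),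
    G.obj.map k.op (val g i a) = val (k ≫ g) i (k ≫ a)
  coc : ∀ ⦃W : C⦄ (g : W ⟶ V) (i j : I) (a : W ⟶ U i) (b : W ⟶ U j),
    val g i a * γ.ev i j a b = val g j b

variable {γ : PresheafOfGroups.OneCocycle G.obj U}

namespace PB

/-- Restriction. -/
def res {V V' : C} (f : V' ⟶ V) (x : PB γ V) : PB γ V' where
  val _ g i a := x.val (g ≫ f) i a
  nat _ _ k g i a := by rw [x.nat, Category.assoc]
  coc _ g i j a b := x.coc _ _ _ _ _

@[simp] lemma res_val {V V' : C} (f : V' ⟶ V) (x : PB γ V) {W : C} (g : W ⟶ V') (i : I)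
    (a : W ⟶ U i) : (res f x).val g i a = x.val (g ≫ f) i a := rfl

/-- The action. -/
def smul {V : C} (h : G.obj.obj (op V)) (x : PB γ V) : PB γ V where
  val _ g i a := G.obj.map g.op h * x.val g i a
  nat _ _ k g i a := by rw [map_mul, x.nat, Gmap_comp]
  coc _ g i j a b := by rw [mul_assoc, x.coc]

@[simp] lemma smul_val {V : C} (h : G.obj.obj (op V)) (x : PB γ V) {W : C} (g : W ⟶ V) (i : I)
    (a : W ⟶ U i) : (smul h x).val g i a = G.obj.map g.op h * x.val g i a := rfl

/-- The tautological sections. -/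
def sec (γ : PresheafOfGroups.OneCocycle G.obj U) (i : I) : PB γ (U i) where
  val _ g j b := γ.ev i j g b
  nat _ _ k g j b := γ.ev_precomp i j k g b
  coc _ g j l a b := γ.ev_trans i j l g a b

@[simp] lemma sec_val (i : I) {W : C} (g : W ⟶ U i) (j : I) (b : W ⟶ U j) :
    (sec γ i).val g j b = γ.ev i j g b := rfl

lemma one_smul {V : C} (x : PB γ V) : smul 1 x = x := by
  ext W g i a
  simp

lemma mul_smul {V : C} (h h' : G.obj.obj (op V)) (x : PB γ V) :
    smul (h * h') x = smul h (smul h' x) := by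
  ext W g i a
  simp [mul_assoc]

lemma res_smul {V V' : C} (f : V' ⟶ V) (h : G.obj.obj (op V)) (x : PB γ V) :
    res f (smul h x) = smul (G.obj.map f.op h) (res f x) := by
  ext W g i a
  simp

lemma res_id {V : C} (x : PB γ V) : res (𝟙 V) x = x := by
  ext W g i a
  simp

lemma res_comp {V V' V'' : C} (f : V' ⟶ V) (f' : V'' ⟶ V') (x : PB γ V) :
    res (f' ≫ f) x = res f' (res f x) := by
  ext W g i a
  simp

lemma val_eq {V : C} (x : PB γ V) {W : C} (g : W ⟶ V) (i : I) (a : W ⟶ U i) :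
    x.val g i a = (res g x).val (𝟙 W) i a := by
  simp

/-- Simple transitivity of the action. -/
lemma existsUnique_smul (hU : J.CoversTop U) {V : C} (x y : PB γ V) :
    ∃! h : G.obj.obj (op V), smul h x = y := by
  have key : ∀ ⦃W : C⦄ (g : W ⟶ V) (i j : I) (a : W ⟶ U i) (b : W ⟶ U j),
      y.val g i a * (x.val g i a)⁻¹ = y.val g j b * (x.val g j b)⁻¹ := by
    intro W g i j a b
    rw [← x.coc g i j a b, ← y.coc g i j a b, mul_inv_rev, mul_assoc,
      mul_inv_cancel_left]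
  have hex : ∀ ⦃W : C⦄ (g : W ⟶ V), (Sieve.ofObjects U V).arrows g →
      ∃ z : G.obj.obj (op W), ∀ (i : I) (a : W ⟶ U i), z = y.val g i a * (x.val g i a)⁻¹ := by
    rintro W g ⟨i, ⟨a⟩⟩
    exact ⟨_, fun j b => key g i j a b⟩
  choose z hz using hex
  obtain ⟨h, hh⟩ := G_glue G (Sieve.ofObjects U V) (hU V) z (by
    intro W W' g hg k
    obtain ⟨i, ⟨a⟩⟩ := id hg
    rw [hz g hg i a, hz (k ≫ g) _ i (k ≫ a), map_mul, map_inv, x.nat, y.nat])
  refine ⟨h, ?_, ?_⟩
  · ext W g i a
    have hg : (Sieve.ofObjects U V).arrows g := ⟨i, ⟨a⟩⟩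
    rw [smul_val, hh g hg, hz g hg i a, inv_mul_cancel_right]
  · intro h' e
    apply G_ext G (Sieve.ofObjects U V) (hU V)
    intro W g hg
    obtain ⟨i, ⟨a⟩⟩ := id hg
    rw [hh g hg, hz g hg i a, ← e, smul_val, mul_inv_cancel_right]

end PB

/-- The presheaf of sections (large universe). -/
def functor (γ : PresheafOfGroups.OneCocycle G.obj U) : Cᵒᵖ ⥤ Type (max u v w' w) where
  obj V := PB γ V.unop
  map f := TypeCat.ofHom (PB.res f.unop)
  map_id V := by
    apply ConcreteCategory.hom_ext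
    intro x
    exact PB.res_id x
  map_comp f g := by
    apply ConcreteCategory.hom_ext
    intro x
    exact PB.res_comp _ _ x

@[simp] lemma functor_map_apply {V V' : C} (f : V' ⟶ V) (x : PB γ V) :
    (functor γ).map f.op x = PB.res f x := rfl

lemma isSheaf (γ : PresheafOfGroups.OneCocycle G.obj U) : Presieve.IsSheaf J (functor γ) := by
  intro V S hS y hy
  rw [Presieve.compatible_iff_sieveCompatible] at hy
  have hy' : ∀ ⦃Y Z : C⦄ (f : Y ⟶ V) (g : Z ⟶ Y) (hf : S f) ⦃W : C⦄ (m : W ⟶ Z) (i : I)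
      (a : W ⟶ U i),
      PB.val (y (g ≫ f) (S.downward_closed hf g)) m i a = PB.val (y f hf) (m ≫ g) i a := by
    intro Y Z f g hf W m i a
    rw [hy f g hf]
    rfl
  have hycongr : ∀ ⦃Y : C⦄ (f f' : Y ⟶ V) (hf : S f) (hf' : S f') (_ : f = f'),
      y f hf = y f' hf' := by
    intro Y f f' hf hf' e
    subst e
    rfl
  have hex : ∀ ⦃W : C⦄ (g : W ⟶ V) (i : I) (a : W ⟶ U i), ∃ z : G.obj.obj (op W),
      ∀ ⦃W' : C⦄ (k : W' ⟶ W) (hk : S (k ≫ g)),
        G.obj.map k.op z = PB.val (y (k ≫ g) hk) (𝟙 W') i (k ≫ a) := by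
    intro W g i a
    apply G_glue G (S.pullback g) (J.pullback_stable g hS)
      (fun W' k hk => PB.val (y (k ≫ g) hk) (𝟙 W') i (k ≫ a))
    intro W' W'' k hk l
    have hk' : S (k ≫ g) := hk
    have h1 := hy' (k ≫ g) l hk' (𝟙 W'') i (l ≫ k ≫ a)
    have h2 : y ((l ≫ k) ≫ g) ((S.pullback g).downward_closed hk l) =
        y (l ≫ k ≫ g) (S.downward_closed hk' l) := hycongr _ _ _ _ (Category.assoc _ _ _)
    rw [h2, Category.assoc, h1, (y (k ≫ g) hk').nat, Category.id_comp, Category.comp_id]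
  choose z hz using hex
  have hnat : ∀ ⦃W W' : C⦄ (k : W' ⟶ W) (g : W ⟶ V) (i : I) (a : W ⟶ U i),
      G.obj.map k.op (z g i a) = z (k ≫ g) i (k ≫ a) := by
    intro W W₁ m g i a
    apply G_ext G (S.pullback (m ≫ g)) (J.pullback_stable _ hS)
    intro W' k hk
    have hk' : S (k ≫ m ≫ g) := hk
    have hk'' : S ((k ≫ m) ≫ g) := by rwa [Category.assoc]
    rw [Gmap_comp, hz g i a (k ≫ m) hk'', hz (m ≫ g) i (m ≫ a) k hk',
      hycongr _ _ hk'' hk' (Category.assoc _ _ _), Category.assoc]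
  have hcoc : ∀ ⦃W : C⦄ (g : W ⟶ V) (i j : I) (a : W ⟶ U i) (b : W ⟶ U j),
      z g i a * γ.ev i j a b = z g j b := by
    intro W g i j a b
    apply G_ext G (S.pullback g) (J.pullback_stable _ hS)
    intro W' k hk
    have hk' : S (k ≫ g) := hk
    rw [map_mul, hz g i a k hk', hz g j b k hk', γ.ev_precomp, (y (k ≫ g) hk').coc]
  refine ⟨⟨z, hnat, hcoc⟩, ?_, ?_⟩
  · intro Y f hf
    apply PB.ext
    funext W g i a
    have h0 : S (𝟙 W ≫ g ≫ f) := by
      rw [Category.id_comp]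
      exact S.downward_closed hf g
    have h1 := hz (g ≫ f) i a (𝟙 W) h0
    have h2 : y (𝟙 W ≫ g ≫ f) h0 = y (g ≫ f) (S.downward_closed hf g) :=
      hycongr _ _ _ _ (Category.id_comp _)
    rw [h2, hy' f g hf (𝟙 W) i (𝟙 W ≫ a)] at h1
    simpa using h1
  · intro (t' : PB γ V) ht'
    apply PB.ext
    funext W (g : W ⟶ V) i a
    apply G_ext G (S.pullback g) (J.pullback_stable _ hS)
    intro W' k hk
    have hk' : S (k ≫ g) := hk
    change G.obj.map k.op (t'.val g i a) = G.obj.map k.op (z g i a)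
    rw [hz g i a k hk', t'.nat, ← ht' (k ≫ g) hk']
    change t'.val (k ≫ g) i (k ≫ a) = (PB.res (k ≫ g) t').val (𝟙 W') i (k ≫ a)
    rw [PB.res_val, Category.id_comp]

lemma small (hU : J.CoversTop U) (γ : PresheafOfGroups.OneCocycle G.obj U) (V : C) :
    Small.{w} (PB γ V) := by
  by_cases h : Nonempty (PB γ V)
  · obtain ⟨x₀⟩ := h
    exact small_of_surjective (f := fun h : G.obj.obj (op V) => PB.smul h x₀)
      (fun y => (PB.existsUnique_smul hU x₀ y).exists)
  · have : IsEmpty (PB γ V) := not_nonempty_iff.1 h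
    infer_instance

/-- The shrunk sections. -/
def PS (hU : J.CoversTop U) (γ : PresheafOfGroups.OneCocycle G.obj U) (V : C) : Type w :=
  @Shrink (PB γ V) (small hU γ V)

/-- The equivalence with the large sections. -/
noncomputable def ePS (hU : J.CoversTop U) (γ : PresheafOfGroups.OneCocycle G.obj U) (V : C) :
    PB γ V ≃ PS hU γ V :=
  @equivShrink (PB γ V) (small hU γ V)

/-- The presheaf of sections in `Type w`. -/
noncomputable def functorS (hU : J.CoversTop U) (γ : PresheafOfGroups.OneCocycle G.obj U) :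
    Cᵒᵖ ⥤ Type w where
  obj V := PS hU γ V.unop
  map {V V'} f := TypeCat.ofHom (fun p => ePS hU γ V'.unop (PB.res f.unop ((ePS hU γ V.unop).symm p)))
  map_id V := by
    apply ConcreteCategory.hom_ext
    intro x
    change ePS hU γ V.unop (PB.res (𝟙 V.unop) ((ePS hU γ V.unop).symm x)) = x
    rw [PB.res_id, Equiv.apply_symm_apply]
  map_comp {V V' V''} f g := by
    apply ConcreteCategory.hom_ext
    intro x
    change ePS hU γ V''.unop (PB.res (g.unop ≫ f.unop) ((ePS hU γ V.unop).symm x)) =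
      ePS hU γ V''.unop (PB.res g.unop ((ePS hU γ V'.unop).symm
        (ePS hU γ V'.unop (PB.res f.unop ((ePS hU γ V.unop).symm x)))))
    rw [Equiv.symm_apply_apply, PB.res_comp]

lemma functorS_map_apply (hU : J.CoversTop U) (γ : PresheafOfGroups.OneCocycle G.obj U)
    {V V' : C} (f : V' ⟶ V) (p : PS hU γ V) :
    (functorS hU γ).map f.op p = ePS hU γ V' (PB.res f ((ePS hU γ V).symm p)) := rfl

lemma isSheafS (hU : J.CoversTop U) (γ : PresheafOfGroups.OneCocycle G.obj U) :
    Presieve.IsSheaf J (functorS hU γ) :=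
  Presieve.isSheaf_of_nat_equiv (P₁ := functor γ) (P₂ := functorS hU γ)
    (fun V => ePS hU γ V)
    (fun V V' f x => by
      change PB γ V' at x
      change ePS hU γ V (PB.res f x) =
        ePS hU γ V (PB.res f ((ePS hU γ V').symm (ePS hU γ V' x)))
      rw [Equiv.symm_apply_apply]) (isSheaf γ)

/-- The `G`-sheaf attached to a cocycle. -/
noncomputable def gsheaf (hU : J.CoversTop U) (γ : PresheafOfGroups.OneCocycle G.obj U) :
    GSheaf G where
  P := ⟨functorS hU γ, (isSheaf_iff_isSheaf_of_type _ _).2 (isSheafS hU γ)⟩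
  smul {V} h p := ePS hU γ V.unop (PB.smul h ((ePS hU γ V.unop).symm p))
  one_smul {V} p := by
    change PS hU γ V.unop at p
    change ePS hU γ V.unop (PB.smul 1 ((ePS hU γ V.unop).symm p)) = p
    rw [PB.one_smul, Equiv.apply_symm_apply]
  mul_smul {V} g h p := by
    change PS hU γ V.unop at p
    change ePS hU γ V.unop (PB.smul (g * h) ((ePS hU γ V.unop).symm p)) =
      ePS hU γ V.unop (PB.smul g ((ePS hU γ V.unop).symm
        (ePS hU γ V.unop (PB.smul h ((ePS hU γ V.unop).symm p)))))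
    rw [Equiv.symm_apply_apply, PB.mul_smul]
  map_smul {V V'} f g p := by
    change PS hU γ V.unop at p
    change ePS hU γ V'.unop (PB.res f.unop ((ePS hU γ V.unop).symm
        (ePS hU γ V.unop (PB.smul g ((ePS hU γ V.unop).symm p))))) =
      ePS hU γ V'.unop (PB.smul (G.obj.map f g) ((ePS hU γ V'.unop).symm
        (ePS hU γ V'.unop (PB.res f.unop ((ePS hU γ V.unop).symm p)))))
    rw [Equiv.symm_apply_apply, Equiv.symm_apply_apply, PB.res_smul]
    rfl

lemma gsheaf_smul (hU : J.CoversTop U) (γ : PresheafOfGroups.OneCocycle G.obj U) {V : C}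
    (h : G.obj.obj (op V)) (p : PS hU γ V) :
    (gsheaf hU γ).smul (U := op V) h p = ePS hU γ V (PB.smul h ((ePS hU γ V).symm p)) := rfl

lemma gsheaf_map (hU : J.CoversTop U) (γ : PresheafOfGroups.OneCocycle G.obj U)
    {V V' : C} (f : V' ⟶ V) (p : PS hU γ V) :
    (gsheaf hU γ).P.obj.map f.op p = ePS hU γ V' (PB.res f ((ePS hU γ V).symm p)) := rfl

lemma isPseudoTorsor (hU : J.CoversTop U) (γ : PresheafOfGroups.OneCocycle G.obj U) :
    (gsheaf hU γ).IsPseudoTorsor := by
  intro V p q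
  change PS hU γ V.unop at p q
  obtain ⟨h, hh, hu⟩ := PB.existsUnique_smul hU ((ePS hU γ V.unop).symm p)
    ((ePS hU γ V.unop).symm q)
  refine ⟨h, ?_, ?_⟩
  · change ePS hU γ V.unop (PB.smul h ((ePS hU γ V.unop).symm p)) = q
    rw [hh, Equiv.apply_symm_apply]
  · intro h' e
    apply hu
    change ePS hU γ V.unop (PB.smul h' ((ePS hU γ V.unop).symm p)) = q at e
    rw [← e, Equiv.symm_apply_apply]

/-- The tautological sections of the torsor. -/
noncomputable def secS (hU : J.CoversTop U) (γ : PresheafOfGroups.OneCocycle G.obj U) (i : I) :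
    (gsheaf hU γ).P.obj.obj (op (U i)) :=
  ePS hU γ (U i) (PB.sec γ i)

lemma locallyNonempty (hU : J.CoversTop U) (γ : PresheafOfGroups.OneCocycle G.obj U) :
    (gsheaf hU γ).LocallyNonempty := by
  intro V
  refine ⟨Sieve.ofObjects U V, hU V, ?_⟩
  rintro W f ⟨i, ⟨a⟩⟩
  exact ⟨(gsheaf hU γ).P.obj.map a.op (secS hU γ i)⟩

lemma isCocycleOf (hU : J.CoversTop U) (γ : PresheafOfGroups.OneCocycle G.obj U) :
    (gsheaf hU γ).IsCocycleOf U (secS hU γ) γ := by
  intro i j T a b
  change ePS hU γ T (PB.smul (γ.ev i j a b) ((ePS hU γ T).symm (ePS hU γ T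
    (PB.res b ((ePS hU γ (U j)).symm (ePS hU γ (U j) (PB.sec γ j))))))) =
    ePS hU γ T (PB.res a ((ePS hU γ (U i)).symm (ePS hU γ (U i) (PB.sec γ i))))
  rw [Equiv.symm_apply_apply, Equiv.symm_apply_apply, Equiv.symm_apply_apply]
  congr 1
  ext W g k c
  simp only [PB.smul_val, PB.res_val, PB.sec_val]
  rw [γ.ev_precomp, γ.ev_trans]

/-- The torsor attached to a cocycle. -/
noncomputable def torsor (hU : J.CoversTop U) (γ : PresheafOfGroups.OneCocycle G.obj U) :
    NonAbH1.Torsor G :=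
  ⟨gsheaf hU γ, isPseudoTorsor hU γ, locallyNonempty hU γ⟩

theorem exists_torsor (hU : J.CoversTop U) (c : PresheafOfGroups.H1 G.obj U) :
    ∃ P : NonAbH1.Torsor G, P.TrivialisedBy U ∧ P.HasCechClass U c := by
  obtain ⟨γ, rfl⟩ : ∃ γ : PresheafOfGroups.OneCocycle G.obj U, γ.class = c :=
    Quot.exists_rep c
  exact ⟨torsor hU γ, fun i => ⟨secS hU γ i⟩, secS hU γ, γ, isCocycleOf hU γ, rfl⟩

end TorsorOfCocycle

end Groth.Agent.Lib.Helper82
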